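import Mathlib

set_option autoImplicit false

namespace Cfsg.Agent.Helper88

/-- Coprime action on a finite abelian group: `G = C_G(A) × [G, A]`. Stated for a group with a commutativity
hypothesis (so that it applies to subgroups of noncommutative groups). -/
theorem coprime_action_abelian {G : Type*} [Group G] [Finite G] (hc : ∀ a b : G, a * b = b * a)
    (A : Subgroup (MulAut G)) (hcop : (Nat.card A).Coprime (Nat.card G))
    (Fix Comm : Subgroup G)
    (hFix : ∀ g : G, g ∈ Fix ↔ ∀ α ∈ A, α g = g)
    (hComm : Comm = Subgroup.closure {y : G | ∃ α ∈ A, ∃ g : G, y = g⁻¹ * α g}) :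
    Fix ⊓ Comm = ⊥ ∧ Fix ⊔ Comm = ⊤ := by
  classical
  let _ : CommGroup G := { (inferInstance : Group G) with mul_comm := hc }
  have : Fintype A := Fintype.ofFinite A
  -- the norm map
  let N : G →* G :=
    { toFun := fun g => ∏ α : A, (α : MulAut G) g
      map_one' := by simp
      map_mul' := by
        intro g h
        simp only [map_mul]
        exact Finset.prod_mul_distrib }
  have hN : ∀ g, N g = ∏ α : A, (α : MulAut G) g := fun g => rfl
  have hNinv : ∀ (β : A) (g : G), N ((β : MulAut G) g) = N g := by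
    intro β g
    rw [hN, hN]
    exact Fintype.prod_equiv (Equiv.mulRight β) _ _ (fun α => rfl)
  have hfixN : ∀ (β : A) (g : G), (β : MulAut G) (N g) = N g := by
    intro β g
    rw [hN, map_prod]
    exact Fintype.prod_equiv (Equiv.mulLeft β) _ _ (fun α => rfl)
  have hNfix : ∀ g ∈ Fix, N g = g ^ Nat.card A := by
    intro g hg
    rw [hN]
    have : ∀ α : A, (α : MulAut G) g = g := fun α => (hFix g).mp hg α α.2
    simp only [this, Finset.prod_const, Finset.card_univ, Nat.card_eq_fintype_card]
  have hNComm : Comm ≤ N.ker := by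
    rw [hComm, Subgroup.closure_le]
    rintro _ ⟨α, hα, g, rfl⟩
    show N (g⁻¹ * α g) = 1
    rw [map_mul, map_inv, hNinv ⟨α, hα⟩ g, inv_mul_cancel]
  have hNmem : ∀ g, N g ∈ Fix := by
    intro g
    rw [hFix]
    intro β hβ
    exact hfixN ⟨β, hβ⟩ g
  have hmemComm : ∀ (α : A) (g : G), g * ((α : MulAut G) g)⁻¹ ∈ Comm := by
    intro α g
    have : g * ((α : MulAut G) g)⁻¹ = (g⁻¹ * (α : MulAut G) g)⁻¹ := by
      rw [mul_inv_rev, inv_inv, hc]
    rw [this, hComm]
    exact Subgroup.inv_mem _ (Subgroup.subset_closure ⟨α, α.2, g, rfl⟩)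
  constructor
  · rw [eq_bot_iff]
    rintro z ⟨hz1, hz2⟩
    have h1 : z ^ Nat.card A = 1 := by
      rw [← hNfix z hz1]
      exact hNComm hz2
    have h2 : orderOf z ∣ Nat.card A := orderOf_dvd_of_pow_eq_one h1
    have h3 : orderOf z ∣ Nat.card G := orderOf_dvd_natCard z
    have h4 : orderOf z = 1 := Nat.eq_one_of_dvd_coprimes hcop h2 h3
    exact orderOf_eq_one_iff.mp h4
  · rw [eq_top_iff]
    intro g _
    have hpow : g ^ Nat.card A ∈ Fix ⊔ Comm := by
      have : g ^ Nat.card A = N g * ∏ α : A, (g * ((α : MulAut G) g)⁻¹) := by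
        rw [hN, ← Finset.prod_mul_distrib]
        have h1 : ∀ α : A, (α : MulAut G) g * (g * ((α : MulAut G) g)⁻¹) = g := by
          intro α
          rw [hc g, mul_inv_cancel_left]
        simp only [h1, Finset.prod_const, Finset.card_univ, Nat.card_eq_fintype_card]
      rw [this]
      refine Subgroup.mul_mem _ (Subgroup.mem_sup_left (hNmem g)) (Subgroup.mem_sup_right ?_)
      exact Subgroup.prod_mem _ (fun α _ => hmemComm α g)
    have hcop' : IsCoprime (Nat.card A : ℤ) (Nat.card G : ℤ) := Nat.isCoprime_iff_coprime.mpr hcop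
    obtain ⟨a, b, hab⟩ := hcop'
    have : g = (g ^ Nat.card A) ^ a * (g ^ Nat.card G) ^ b := by
      rw [← zpow_natCast, ← zpow_natCast, ← zpow_mul, ← zpow_mul, ← zpow_add, mul_comm _ a, mul_comm _ b, hab,
        zpow_one]
    rw [this, pow_card_eq_one', one_zpow, mul_one]
    exact Subgroup.zpow_mem _ hpow a

end Cfsg.Agent.Helper88
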