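import Cfsg.Agent.Helper63.Frattini
import Cfsg.Agent.Helper70.Regular
set_option autoImplicit false

/-!
An automorphism of order prime to `p` of a finite `p`-group that fixes every element of order dividing `p` (dividing `4`
when `p = 2`) is trivial.
-/

namespace Cfsg.Agent.Helper88

universe u

/-- An automorphism centralizing `V` and acting trivially modulo `V`, where `V` has exponent dividing `n`, has order
dividing `n`. -/
theorem pow_eq_one_of_stabilizes' {P : Type*} [Group P] (β : MulAut P) (V : Subgroup P) (n : ℕ)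
    (hV : ∀ v ∈ V, v ^ n = 1) (h1 : ∀ x : P, x⁻¹ * β x ∈ V) (h2 : ∀ v ∈ V, β v = v) : β ^ n = 1 := by
  have key : ∀ (m : ℕ) (x : P), (β ^ m) x = x * (x⁻¹ * β x) ^ m := by
    intro m
    induction m with
    | zero => intro x; simp
    | succ m ih =>
      intro x
      rw [pow_succ', MulAut.mul_apply, ih, map_mul, h2 _ (V.pow_mem (h1 x) m), pow_succ', ← mul_assoc,
        mul_inv_cancel_left]
  ext x
  rw [key, hV _ (h1 x)]
  simp

/-- An automorphism of order prime to `p` of a finite `p`-group stabilizing the chain `1 ≤ V ≤ P` is trivial. -/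
theorem eq_one_of_stabilizes {P : Type*} [Group P] [Finite P] {p : ℕ} [Fact p.Prime] (hP : IsPGroup p P)
    (β : MulAut P) (k : ℕ) (hk : k.Coprime p) (hβk : β ^ k = 1) (V : Subgroup P)
    (h1 : ∀ x : P, x⁻¹ * β x ∈ V) (h2 : ∀ v ∈ V, β v = v) : β = 1 := by
  have hn : β ^ Nat.card P = 1 :=
    pow_eq_one_of_stabilizes' β V (Nat.card P) (fun v _ => pow_card_eq_one') h1 h2
  obtain ⟨m, hm⟩ := IsPGroup.iff_card.mp hP
  have hg : β ^ (Nat.gcd (Nat.card P) k) = 1 := pow_gcd_eq_one.mpr ⟨hn, hβk⟩
  have hcop : Nat.gcd (Nat.card P) k = 1 := by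
    rw [hm]
    exact Nat.Coprime.pow_left m hk.symm
  rw [hcop, pow_one] at hg
  exact hg

/-- Restriction of an automorphism to an invariant subgroup. -/
def restrictAut {P : Type*} [Group P] (α : MulAut P) (H : Subgroup P) (h : ∀ x, α x ∈ H ↔ x ∈ H) : MulAut H where
  toFun x := ⟨α x, (h x).mpr x.2⟩
  invFun x := ⟨α⁻¹ x, (h _).mp (by rw [MulAut.apply_inv_self]; exact x.2)⟩
  left_inv x := by
    apply Subtype.ext
    show α⁻¹ (α x) = x
    rw [MulAut.inv_apply_self]
  right_inv x := by
    apply Subtype.ext
    show α (α⁻¹ x) = x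
    rw [MulAut.apply_inv_self]
  map_mul' x y := by
    apply Subtype.ext
    show α (x * y) = α x * α y
    rw [map_mul]

theorem restrictAut_apply {P : Type*} [Group P] (α : MulAut P) (H : Subgroup P) (h : ∀ x, α x ∈ H ↔ x ∈ H) (x : H) :
    ((restrictAut α H h x : H) : P) = α x := rfl

theorem restrictAut_pow {P : Type*} [Group P] (α : MulAut P) (H : Subgroup P) (h : ∀ x, α x ∈ H ↔ x ∈ H) (k : ℕ)
    (x : H) : (((restrictAut α H h) ^ k) x : P) = (α ^ k) x := by
  induction k generalizing x with
  | zero => simp
  | succ k ih =>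
    rw [pow_succ, pow_succ, MulAut.mul_apply, MulAut.mul_apply, ih, restrictAut_apply]

/-- If `y x = x y z` with `z` central then `yⁿ x = x yⁿ zⁿ`. -/
theorem pow_mul_of_central {P : Type*} [Group P] {x y z : P} (hyx : y * x = x * y * z) (hz : ∀ g : P, Commute g z)
    (n : ℕ) : y ^ n * x = x * y ^ n * z ^ n := by
  induction n with
  | zero => simp
  | succ n ih =>
    have h1 : z * y ^ n = y ^ n * z := ((hz (y ^ n)).eq).symm
    calc y ^ (n + 1) * x = y * (y ^ n * x) := by rw [pow_succ', mul_assoc]
      _ = y * (x * y ^ n * z ^ n) := by rw [ih]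
      _ = (y * x) * y ^ n * z ^ n := by simp only [mul_assoc]
      _ = x * y * z * y ^ n * z ^ n := by rw [hyx]
      _ = x * y * (z * y ^ n) * z ^ n := by simp only [mul_assoc]
      _ = x * y * (y ^ n * z) * z ^ n := by rw [h1]
      _ = x * (y * y ^ n) * (z * z ^ n) := by simp only [mul_assoc]
      _ = x * y ^ (n + 1) * z ^ (n + 1) := by rw [← pow_succ', ← pow_succ']

/-- If `y x = x y z` with `z` central then `(x y)ⁿ = xⁿ yⁿ z^(0 + 1 + ⋯ + (n-1))`. -/
theorem mul_pow_of_central {P : Type*} [Group P] {x y z : P} (hyx : y * x = x * y * z) (hz : ∀ g : P, Commute g z)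
    (n : ℕ) : (x * y) ^ n = x ^ n * y ^ n * z ^ (∑ i ∈ Finset.range n, i) := by
  induction n with
  | zero => simp
  | succ n ih =>
    have h1 : z ^ (∑ i ∈ Finset.range n, i) * x = x * z ^ (∑ i ∈ Finset.range n, i) :=
      (((hz x).pow_right _).eq).symm
    have h2 : z ^ (∑ i ∈ Finset.range n, i) * y = y * z ^ (∑ i ∈ Finset.range n, i) :=
      (((hz y).pow_right _).eq).symm
    have h3 : z ^ n * y = y * z ^ n := (((hz y).pow_right _).eq).symm
    calc (x * y) ^ (n + 1) = (x * y) ^ n * (x * y) := pow_succ _ _
      _ = x ^ n * y ^ n * z ^ (∑ i ∈ Finset.range n, i) * (x * y) := by rw [ih]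
      _ = x ^ n * y ^ n * (z ^ (∑ i ∈ Finset.range n, i) * x) * y := by simp only [mul_assoc]
      _ = x ^ n * y ^ n * (x * z ^ (∑ i ∈ Finset.range n, i)) * y := by rw [h1]
      _ = x ^ n * (y ^ n * x) * (z ^ (∑ i ∈ Finset.range n, i) * y) := by simp only [mul_assoc]
      _ = x ^ n * (x * y ^ n * z ^ n) * (y * z ^ (∑ i ∈ Finset.range n, i)) := by
          rw [pow_mul_of_central hyx hz n, h2]
      _ = x ^ n * x * y ^ n * (z ^ n * y) * z ^ (∑ i ∈ Finset.range n, i) := by simp only [mul_assoc]
      _ = x ^ n * x * y ^ n * (y * z ^ n) * z ^ (∑ i ∈ Finset.range n, i) := by rw [h3]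
      _ = (x ^ n * x) * (y ^ n * y) * (z ^ n * z ^ (∑ i ∈ Finset.range n, i)) := by simp only [mul_assoc]
      _ = x ^ (n + 1) * y ^ (n + 1) * z ^ (∑ i ∈ Finset.range (n + 1), i) := by
          rw [← pow_succ, ← pow_succ, ← pow_add, Finset.sum_range_succ, add_comm n (∑ i ∈ Finset.range n, i)]

/-- The exponent `q`: `p` for odd `p`, and `4` for `p = 2`. -/
def smallExp (p : ℕ) : ℕ := if p = 2 then 4 else p

/-- In a finite `p`-group whose Frattini subgroup is central, the `q`-th power map is multiplicative. -/
theorem mul_pow_smallExp {P : Type*} [Group P] [Finite P] {p : ℕ} [Fact p.Prime] (hP : IsPGroup p P)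
    (hD : frattini P ≤ Subgroup.center P) (x y : P) :
    (x * y) ^ smallExp p = x ^ smallExp p * y ^ smallExp p := by
  set z := y⁻¹ * x⁻¹ * y * x with hzdef
  have hyx : y * x = x * y * z := by rw [hzdef]; group
  have hzD : z ∈ frattini P := by
    apply Cfsg.Agent.Helper70.commutator_le_frattini hP
    rw [commutator_def]
    have : z = y⁻¹ * x⁻¹ * (y⁻¹)⁻¹ * (x⁻¹)⁻¹ := by rw [hzdef]; group
    rw [this, ← commutatorElement_def]
    exact Subgroup.commutator_mem_commutator (Subgroup.mem_top _) (Subgroup.mem_top _)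
  have hz : ∀ g : P, Commute g z := fun g => (Subgroup.mem_center_iff.mp (hD hzD) g)
  -- `z ^ p = 1`
  have hzp : z ^ p = 1 := by
    have h1 := pow_mul_of_central hyx hz p
    have hyp : y ^ p ∈ Subgroup.center P := hD (Cfsg.Agent.Helper63.pow_prime_mem_frattini hP y)
    have h2 : y ^ p * x = x * y ^ p := (Subgroup.mem_center_iff.mp hyp x).symm
    rw [h2] at h1
    exact (mul_eq_left.mp h1.symm)
  rw [mul_pow_of_central hyx hz]
  have hT : z ^ (∑ i ∈ Finset.range (smallExp p), i) = 1 := by
    unfold smallExp
    split_ifs with h2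
    · have h6 : (∑ i ∈ Finset.range 4, i) = 2 * 3 := by decide
      rw [h6, pow_mul]
      rw [h2] at hzp
      rw [hzp, one_pow]
    · have hodd : Odd p := (Fact.out : p.Prime).odd_of_ne_two h2
      obtain ⟨m, hm⟩ := hodd
      have h3 := Finset.sum_range_id_mul_two p
      have h4 : (∑ i ∈ Finset.range p, i) = p * m := by
        have h5 : p - 1 = 2 * m := by omega
        rw [h5] at h3
        have h6 : (∑ i ∈ Finset.range p, i) * 2 = (p * m) * 2 := by rw [h3]; ring
        exact Nat.eq_of_mul_eq_mul_right (by norm_num) h6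
      rw [h4, pow_mul, hzp, one_pow]
  rw [hT, mul_one]

/-- The Frattini subgroup of a nontrivial finite group is proper. -/
theorem frattini_ne_top {P : Type*} [Group P] [Finite P] [Nontrivial P] : frattini P ≠ ⊤ := by
  obtain ⟨M, hM⟩ : ∃ M : Subgroup P, IsCoatom M := by
    obtain h | ⟨M, hM, -⟩ := IsCoatomic.eq_top_or_exists_le_coatom (⊥ : Subgroup P)
    · exact absurd h bot_ne_top
    · exact ⟨M, hM⟩
  intro h
  have := frattini_le_coatom hM
  rw [h, top_le_iff] at this
  exact hM.1 this

/-- Main induction. -/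
theorem aut_eq_one_of_fix_small_aux (p : ℕ) [Fact p.Prime] (k : ℕ) (hk : k.Coprime p) :
    ∀ n : ℕ, ∀ (P : Type u) [Group P] [Finite P], Nat.card P = n → IsPGroup p P → ∀ α : MulAut P, α ^ k = 1 →
      (∀ x : P, x ^ smallExp p = 1 → α x = x) → α = 1 := by
  intro n
  induction n using Nat.strong_induction_on with
  | _ n ih =>
    intro P _ _ hn hP α hαk hfix
    -- the induction hypothesis for invariant proper subgroups
    have hsub : ∀ (H : Subgroup P), H ≠ ⊤ → (∀ x, α x ∈ H ↔ x ∈ H) → ∀ x ∈ H, α x = x := by
      intro H hH hinv x hx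
      have hlt : Nat.card H < n := by
        rw [← hn]
        have h1 : Nat.card H ≤ Nat.card P := Subgroup.card_le_card_group H
        have h2 : Nat.card H ≠ Nat.card P := fun h => hH (Subgroup.eq_top_of_card_eq H h)
        omega
      have h1 := ih (Nat.card H) hlt H rfl (hP.to_subgroup H) (restrictAut α H hinv) (by
        ext y
        rw [restrictAut_pow, hαk]
        rfl) (by
        intro y hy
        apply Subtype.ext
        rw [restrictAut_apply]
        apply hfix
        have := congrArg Subtype.val hy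
        simpa using this)
      have h2 := congrArg (fun β : MulAut H => ((β ⟨x, hx⟩ : H) : P)) h1
      exact h2
    -- the commutator `[P, α]`
    set K : Subgroup P := Subgroup.closure {y | ∃ x : P, y = x⁻¹ * α x} with hK
    have hKmem : ∀ x : P, x⁻¹ * α x ∈ K := fun x => Subgroup.subset_closure ⟨x, rfl⟩
    have hKinv : ∀ x, α x ∈ K ↔ x ∈ K := by
      intro x
      constructor
      · intro h
        have := K.mul_mem h (K.inv_mem (hKmem x))
        simpa using this
      · intro h
        have := K.mul_mem h (hKmem x)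
        simpa using this
    by_cases hKtop : K = ⊤
    · -- `[P, α] = P`
      rcases subsingleton_or_nontrivial P with hsing | hnt
      · ext x
        exact Subsingleton.elim _ _
      have hDne : frattini P ≠ ⊤ := frattini_ne_top
      have hDinv : ∀ x, α x ∈ frattini P ↔ x ∈ frattini P := by
        intro x
        have h1 := (Subgroup.characteristic_iff_comap_eq.mp (frattini_characteristic (G := P))) α
        constructor
        · intro h
          rw [← h1]
          exact h
        · intro h
          rw [← h1] at h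
          exact h
      have hDfix := hsub (frattini P) hDne hDinv
      have hDn : (frattini P).Normal := inferInstance
      -- the Frattini subgroup is central
      have hDcen : frattini P ≤ Subgroup.center P := by
        intro d hd
        rw [Subgroup.mem_center_iff]
        have hcent : K ≤ Subgroup.centralizer {d} := by
          rw [hK, Subgroup.closure_le]
          rintro _ ⟨x, rfl⟩
          rw [SetLike.mem_coe, Subgroup.mem_centralizer_singleton_iff]
          have h1 := hDfix (x * d * x⁻¹) (hDn.conj_mem d hd x)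
          rw [map_mul, map_mul, map_inv, hDfix d hd] at h1
          -- `α x * d * (α x)⁻¹ = x * d * x⁻¹`
          calc x⁻¹ * α x * d = x⁻¹ * (α x * d * (α x)⁻¹) * α x := by group
            _ = x⁻¹ * (x * d * x⁻¹) * α x := by rw [h1]
            _ = d * (x⁻¹ * α x) := by group
        intro g
        have hg : g ∈ K := by rw [hKtop]; exact Subgroup.mem_top g
        have := Subgroup.mem_centralizer_singleton_iff.mp (hcent hg)
        exact this
      -- the power map
      have hpow : ∀ x y : P, (x * y) ^ smallExp p = x ^ smallExp p * y ^ smallExp p :=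
        mul_pow_smallExp hP hDcen
      let φ : P →* P :=
        { toFun := fun x => x ^ smallExp p
          map_one' := one_pow _
          map_mul' := hpow }
      have hφD : ∀ x : P, x ^ smallExp p ∈ frattini P := by
        intro x
        unfold smallExp
        split_ifs with h2
        · have : x ^ 4 = (x ^ 2) ^ 2 := by rw [← pow_mul]
          rw [this]
          have h3 := Cfsg.Agent.Helper63.pow_prime_mem_frattini hP (x ^ 2)
          rwa [h2] at h3
        · exact Cfsg.Agent.Helper63.pow_prime_mem_frattini hP x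
      apply eq_one_of_stabilizes hP α k hk hαk φ.ker
      · intro x
        rw [MonoidHom.mem_ker, map_mul, map_inv]
        show (x ^ smallExp p)⁻¹ * (α x) ^ smallExp p = 1
        rw [← map_pow, hDfix _ (hφD x), inv_mul_cancel]
      · intro v hv
        exact hfix v hv
    · -- `[P, α] < P`
      exact eq_one_of_stabilizes hP α k hk hαk K hKmem (hsub K hKtop hKinv)

/-- An automorphism of order prime to `p` of a finite `p`-group that fixes every element `x` with `x ^ p = 1` (with
`x ^ 4 = 1` when `p = 2`) is trivial. -/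
theorem aut_eq_one_of_fix_small {P : Type u} [Group P] [Finite P] {p : ℕ} [Fact p.Prime] (hP : IsPGroup p P)
    (α : MulAut P) (k : ℕ) (hk : k.Coprime p) (hαk : α ^ k = 1)
    (hfix : ∀ x : P, x ^ smallExp p = 1 → α x = x) : α = 1 :=
  aut_eq_one_of_fix_small_aux p k hk (Nat.card P) P rfl hP α hαk hfix

/-- An automorphism `β` with `βⁿ = 1` that maps `x` into `⟨x⟩`, where `n` is prime to `φ(|x|)`, fixes `x`. -/
theorem apply_eq_of_mem_zpowers {P : Type*} [Group P] [Finite P] (β : MulAut P) (x : P)
    (hx : β x ∈ Subgroup.zpowers x) (n : ℕ) (hn : β ^ n = 1) (hcop : n.Coprime (Nat.totient (orderOf x))) :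
    β x = x := by
  set H := Subgroup.zpowers x with hH
  have hfwd : ∀ y, y ∈ H → β y ∈ H := by
    intro y hy
    obtain ⟨j, rfl⟩ := Subgroup.mem_zpowers_iff.mp hy
    rw [map_zpow]
    exact H.zpow_mem hx j
  have hinv : ∀ y, β y ∈ H ↔ y ∈ H := by
    intro y
    refine ⟨fun h => ?_, hfwd y⟩
    have hinj : Function.Injective (fun z : H => (⟨β z, hfwd z z.2⟩ : H)) := by
      intro a b hab
      apply Subtype.ext
      exact β.injective (congrArg Subtype.val hab)
    obtain ⟨z, hz⟩ := (Finite.injective_iff_surjective.mp hinj) ⟨β y, h⟩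
    have h1 : β z = β y := congrArg Subtype.val hz
    rw [← β.injective h1]
    exact z.2
  have h1 : (restrictAut β H hinv) ^ n = 1 := by
    ext y
    rw [restrictAut_pow, hn]
    rfl
  have h2 : (restrictAut β H hinv) ^ Nat.card (MulAut H) = 1 := pow_card_eq_one'
  have h3 : Nat.card (MulAut H) = Nat.totient (orderOf x) := by
    rw [IsCyclic.card_mulAut, Nat.card_zpowers]
  rw [h3] at h2
  have h4 := pow_gcd_eq_one.mpr ⟨h1, h2⟩
  rw [hcop, pow_one] at h4
  have h5 := congrArg (fun γ : MulAut H => ((γ ⟨x, Subgroup.mem_zpowers x⟩ : H) : P)) h4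
  exact h5

end Cfsg.Agent.Helper88
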