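import Mathlib
import Cfsg.Agent.Helper1.MinDeg.Defs

set_option autoImplicit false
set_option linter.unusedSectionVars false

/-!
# S2140, piece (B): no subgroup of `SL_n` meets every `Qc x` in a `Qc2 x y`
-/

namespace Cfsg.Agent.Helper88.MinDeg

open Matrix Cfsg.Agent.Helper14.AutPSL Cfsg.Agent.Helper1.MinDeg

variable {F : Type*} [Field F] {n : ℕ}

/-- the commutator of two transvections `tv x φ`, `tv x' φ'` with `φ ⬝ᵥ x' = 0`, `φ' ⬝ᵥ x = 1` -/
theorem comm_tv_eq {x x' φ φ' : Fin n → F} (hφ : φ ⬝ᵥ x = 0) (hφ' : φ' ⬝ᵥ x' = 0)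
    (h1 : φ ⬝ᵥ x' = 0) (h2 : φ' ⬝ᵥ x = 1) :
    tv x φ hφ * tv x' φ' hφ' * (tv x φ hφ)⁻¹ * (tv x' φ' hφ')⁻¹ =
      tv x' (-φ) (by rw [neg_dotProduct, h1, neg_zero]) := by
  have hA : (tv x φ hφ).1 *ᵥ x' = x' := by
    rw [tv_mulVec, h1, zero_smul, add_zero]
  have hB : φ' ᵥ* ((tv x φ hφ)⁻¹).1 = φ' - φ := by
    rw [tv_inv, vecMul_tv, h2, one_smul, sub_eq_add_neg]
  have e1 : tv x φ hφ * tv x' φ' hφ' * (tv x φ hφ)⁻¹ =
      tv x' (φ' - φ) (by rw [sub_dotProduct, hφ', h1, sub_zero]) :=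
    (conj_tv (tv x φ hφ) x' φ' hφ').trans (tv_congr _ hA hB)
  rw [e1, tv_inv, tv_mul_center]
  exact tv_congr _ rfl (by abel)

/-- in dimension at least three, two vectors do not span -/
theorem exists_notMem_span_pair (hn : 3 ≤ n) (x y : Fin n → F) :
    ∃ v : Fin n → F, v ∉ Submodule.span F ({x, y} : Set (Fin n → F)) := by
  classical
  by_contra hall
  push Not at hall
  have htop : Submodule.span F ({x, y} : Set (Fin n → F)) = ⊤ := by
    rw [eq_top_iff]; intro v _; exact hall v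
  have h1 : Module.finrank F (Submodule.span F ((({x, y} : Finset (Fin n → F)) :
      Set (Fin n → F)))) ≤ ({x, y} : Finset (Fin n → F)).card :=
    finrank_span_finset_le_card (R := F) ({x, y} : Finset (Fin n → F))
  have h2 : (({x, y} : Finset (Fin n → F)) : Set (Fin n → F)) = {x, y} := by simp
  rw [h2, htop, finrank_top, Module.finrank_fin_fun] at h1
  have := Finset.card_le_two (a := x) (b := y)
  omega

/-- the linear-algebra core of case B: a system of "lines" `span {x, Y x}` with the exchange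
property `star` cannot exist in dimension at least three -/
theorem line_system_false (hn : 3 ≤ n)
    (Y : ∀ x : Fin n → F, x ≠ 0 → (Fin n → F))
    (hY : ∀ (x : Fin n → F) (hx : x ≠ 0) (c : F), Y x hx ≠ c • x)
    (star : ∀ (x x' : Fin n → F) (hx : x ≠ 0) (hx' : x' ≠ 0),
      x ∉ Submodule.span F ({x', Y x' hx'} : Set (Fin n → F)) →
      ∀ φ : Fin n → F, φ ⬝ᵥ x = 0 → φ ⬝ᵥ Y x hx = 0 → φ ⬝ᵥ x' = 0 → φ ⬝ᵥ Y x' hx' = 0) :
    False := by
  -- Step 2: the lines partition the points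
  have step2 : ∀ (x x' : Fin n → F) (hx : x ≠ 0) (hx' : x' ≠ 0),
      x' ∈ Submodule.span F ({x, Y x hx} : Set (Fin n → F)) → (∀ c : F, x' ≠ c • x) →
      x ∈ Submodule.span F ({x', Y x' hx'} : Set (Fin n → F)) := by
    intro x x' hx hx' hmem hne
    by_contra hnot
    have hYin : Y x' hx' ∈ Submodule.span F ({x, Y x hx} : Set (Fin n → F)) := by
      by_contra hout
      obtain ⟨l, hl1, hl0⟩ := exists_dot_of_notMem hout
      have := star x x' hx hx' hnot l (hl0 x (Submodule.subset_span (by simp)))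
        (hl0 _ (Submodule.subset_span (by simp))) (hl0 x' hmem)
      rw [hl1] at this
      exact one_ne_zero this
    obtain ⟨a, b, hab⟩ := Submodule.mem_span_pair.mp hmem
    obtain ⟨c, d, hcd⟩ := Submodule.mem_span_pair.mp hYin
    have hb : b ≠ 0 := by
      rintro rfl
      exact hne a (by rw [← hab, zero_smul, add_zero])
    by_cases hdet : a * d - b * c = 0
    · apply hY x' hx' (d / b)
      have hc : c = d / b * a := by
        field_simp
        linear_combination -hdet
      rw [← hcd, ← hab, smul_add, smul_smul, smul_smul, ← hc, div_mul_cancel₀ d hb]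
    · apply hnot
      rw [Submodule.mem_span_pair]
      refine ⟨d / (a * d - b * c), -b / (a * d - b * c), ?_⟩
      ext i
      have e1 := congrFun hab i
      have e2 := congrFun hcd i
      simp only [Pi.add_apply, Pi.smul_apply, smul_eq_mul] at e1 e2 ⊢
      have hD : a * d - b * c ≠ 0 := hdet
      rw [← e1, ← e2, div_mul_eq_mul_div, div_mul_eq_mul_div, ← add_div, div_eq_iff hD]
      ring
  -- choose a point and a point off its line
  have hn0 : 0 < n := by omega
  obtain ⟨x, hx⟩ : ∃ x : Fin n → F, x ≠ 0 := by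
    refine ⟨Pi.single ⟨0, hn0⟩ 1, ?_⟩
    intro h0
    have := congrFun h0 ⟨0, hn0⟩
    simp at this
  obtain ⟨x', hx'out⟩ := exists_notMem_span_pair hn x (Y x hx)
  have hx' : x' ≠ 0 := by
    rintro rfl
    exact hx'out (Submodule.zero_mem _)
  have hxL : x ∈ Submodule.span F ({x, Y x hx} : Set (Fin n → F)) :=
    Submodule.subset_span (by simp)
  have hx'L' : x' ∈ Submodule.span F ({x', Y x' hx'} : Set (Fin n → F)) :=
    Submodule.subset_span (by simp)
  have hYL' : Y x' hx' ∈ Submodule.span F ({x', Y x' hx'} : Set (Fin n → F)) :=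
    Submodule.subset_span (by simp)
  -- `x` is not on the line of `x'`
  have hxout : x ∉ Submodule.span F ({x', Y x' hx'} : Set (Fin n → F)) := by
    intro hin
    by_cases hsc : ∃ c : F, x = c • x'
    · obtain ⟨c, hc⟩ := hsc
      have hc0 : c ≠ 0 := by
        rintro rfl
        rw [zero_smul] at hc
        exact hx hc
      apply hx'out
      have : x' = c⁻¹ • x := by rw [hc, smul_smul, inv_mul_cancel₀ hc0, one_smul]
      rw [this]
      exact Submodule.smul_mem _ _ hxL
    · push Not at hsc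
      exact hx'out (step2 x' x hx' hx hin hsc)
  -- the line of `x'` lies in the 3-space spanned by the line of `x` and `x'`
  have hYin : Y x' hx' ∈ Submodule.span F ({x, Y x hx} : Set (Fin n → F)) ⊔
      Submodule.span F ({x'} : Set (Fin n → F)) := by
    by_contra hout
    obtain ⟨l, hl1, hl0⟩ := exists_dot_of_notMem hout
    have := star x x' hx hx' hxout l
      (hl0 x (Submodule.mem_sup_left hxL))
      (hl0 _ (Submodule.mem_sup_left (Submodule.subset_span (by simp))))
      (hl0 x' (Submodule.mem_sup_right (Submodule.subset_span (by simp))))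
    rw [hl1] at this
    exact one_ne_zero this
  obtain ⟨w, hw, u, hu, hwu⟩ := Submodule.mem_sup.mp hYin
  obtain ⟨c, rfl⟩ := Submodule.mem_span_singleton.mp hu
  have hw0 : w ≠ 0 := by
    rintro rfl
    rw [zero_add] at hwu
    exact hY x' hx' c hwu.symm
  have hwL' : w ∈ Submodule.span F ({x', Y x' hx'} : Set (Fin n → F)) := by
    have : w = Y x' hx' - c • x' := by rw [← hwu]; abel
    rw [this]
    exact Submodule.sub_mem _ hYL' (Submodule.smul_mem _ _ hx'L')
  by_cases h1 : ∃ c' : F, w = c' • x'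
  · obtain ⟨c', hc'⟩ := h1
    have hc0 : c' ≠ 0 := by
      rintro rfl
      rw [zero_smul] at hc'
      exact hw0 hc'
    apply hx'out
    have : x' = c'⁻¹ • w := by rw [hc', smul_smul, inv_mul_cancel₀ hc0, one_smul]
    rw [this]
    exact Submodule.smul_mem _ _ hw
  by_cases h2 : ∃ c' : F, w = c' • x
  · obtain ⟨c', hc'⟩ := h2
    have hc0 : c' ≠ 0 := by
      rintro rfl
      rw [zero_smul] at hc'
      exact hw0 hc'
    apply hxout
    have : x = c'⁻¹ • w := by rw [hc', smul_smul, inv_mul_cancel₀ hc0, one_smul]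
    rw [this]
    exact Submodule.smul_mem _ _ hwL'
  push Not at h1 h2
  have hx'Lw := step2 x' w hx' hw0 hwL' h1
  have hxLw := step2 x w hx hw0 hw h2
  obtain ⟨a, b, hab⟩ := Submodule.mem_span_pair.mp hxLw
  obtain ⟨c1, d1, hcd⟩ := Submodule.mem_span_pair.mp hx'Lw
  have hb : b ≠ 0 := by
    rintro rfl
    rw [zero_smul, add_zero] at hab
    have ha0 : a ≠ 0 := by
      rintro rfl
      rw [zero_smul] at hab
      exact hx hab.symm
    exact h2 a⁻¹ (by rw [← hab, smul_smul, inv_mul_cancel₀ ha0, one_smul])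
  apply hx'out
  have : x' = c1 • w + (d1 / b) • (x - a • w) := by
    ext i
    have e1 := congrFun hab i
    have e2 := congrFun hcd i
    simp only [Pi.add_apply, Pi.smul_apply, smul_eq_mul, Pi.sub_apply] at e1 e2 ⊢
    rw [← e2, ← e1]
    field_simp
    ring
  rw [this]
  exact Submodule.add_mem _ (Submodule.smul_mem _ _ hw)
    (Submodule.smul_mem _ _ (Submodule.sub_mem _ hxL (Submodule.smul_mem _ _ hw)))

/-- (B) no subgroup meets every `Qc x` in a `Qc2 x y`. -/
theorem caseB_false (hn : 3 ≤ n) (K : Subgroup (SpecialLinearGroup (Fin n) F))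
    (h : ∀ x : Fin n → F, x ≠ 0 → ∃ y : Fin n → F, (∀ c : F, y ≠ c • x) ∧ K ⊓ Qc x = Qc2 x y) :
    False := by
  choose Y hY1 hY2 using h
  have key : ∀ (x : Fin n → F) (hx : x ≠ 0) (φ : Fin n → F) (hφ : φ ⬝ᵥ x = 0),
      tv x φ hφ ∈ K ↔ φ ⬝ᵥ Y x hx = 0 := by
    intro x hx φ hφ
    rw [← tv_mem_Qc2_iff hx hφ, ← hY2 x hx, Subgroup.mem_inf]
    exact ⟨fun hk => ⟨hk, tv_mem_Qc x φ hφ⟩, fun hk => hk.1⟩
  refine line_system_false hn Y (fun x hx c => hY1 x hx c) ?_
  intro x x' hx hx' hout φ h1 h2 h3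
  obtain ⟨φ', hφ'1, hφ'0⟩ := exists_dot_of_notMem hout
  have hφ'x' : φ' ⬝ᵥ x' = 0 := hφ'0 x' (Submodule.subset_span (by simp))
  have hφ'Y : φ' ⬝ᵥ Y x' hx' = 0 := hφ'0 _ (Submodule.subset_span (by simp))
  have ht : tv x φ h1 ∈ K := (key x hx φ h1).mpr h2
  have ht' : tv x' φ' hφ'x' ∈ K := (key x' hx' φ' hφ'x').mpr hφ'Y
  have hc : tv x φ h1 * tv x' φ' hφ'x' * (tv x φ h1)⁻¹ * (tv x' φ' hφ'x')⁻¹ ∈ K :=
    K.mul_mem (K.mul_mem (K.mul_mem ht ht') (K.inv_mem ht)) (K.inv_mem ht')
  rw [comm_tv_eq h1 hφ'x' h3 hφ'1] at hc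
  have := (key x' hx' (-φ) _).mp hc
  rwa [neg_dotProduct, neg_eq_zero] at this

end Cfsg.Agent.Helper88.MinDeg
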