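import Cfsg.Agent.Helper87.FusionRS
import Cfsg.Agent.Helper87.SylowNormal
set_option autoImplicit false

/-!
The strong invariance condition for a subsystem over a strongly closed subgroup, and the Frattini property it
implies inside a saturated system.
-/

namespace Cfsg.Agent.Helper88.FS

open Cfsg Cfsg.FusionSystem Cfsg.Agent.Helper87

/-- Conjugating a `p`-subgroup of a normalized subgroup `N` into a Sylow subgroup by an element of `N`. -/
theorem exists_conj_into_of_normalized {G : Type*} [Group G] {p : ℕ} [Fact p.Prime] (A N Sy X : Subgroup G)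
    [Finite A] (hNA : N ≤ A) (hnorm : ∀ a ∈ A, ∀ n ∈ N, a * n * a⁻¹ ∈ N)
    (hSy : ∃ R : Sylow p A, (R : Subgroup A) = Sy.subgroupOf A) (hXN : X ≤ N) (hX : IsPGroup p X) :
    ∃ n ∈ N, ∀ x ∈ X, n * x * n⁻¹ ∈ Sy := by
  obtain ⟨R, hR⟩ := hSy
  have hN' : (N.subgroupOf A).Normal := ⟨fun n hn a => by
    rw [Subgroup.mem_subgroupOf] at hn ⊢
    exact hnorm a a.2 n hn⟩
  obtain ⟨R', hR'⟩ := exists_sylow_subgroupOf_normal R (N.subgroupOf A)
  let X' : Subgroup (N.subgroupOf A) := (X.subgroupOf A).subgroupOf (N.subgroupOf A)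
  have hX' : IsPGroup p X' := by
    have h1 : IsPGroup p (X.subgroupOf A) := hX.comap_of_injective A.subtype A.subtype_injective
    exact h1.comap_of_injective (N.subgroupOf A).subtype (Subgroup.subtype_injective _)
  obtain ⟨a, ha⟩ := exists_conj_mem_sylow_of_isPGroup R' X' hX'
  have haN : ((a : A) : G) ∈ N := by
    have := a.2
    rwa [Subgroup.mem_subgroupOf] at this
  refine ⟨((a : A) : G), haN, fun x hx => ?_⟩
  have hxA : x ∈ A := hNA (hXN hx)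
  have hxN : (⟨x, hxA⟩ : A) ∈ N.subgroupOf A := by
    rw [Subgroup.mem_subgroupOf]; exact hXN hx
  have hxX : (⟨⟨x, hxA⟩, hxN⟩ : N.subgroupOf A) ∈ X' := by
    show _ ∈ (X.subgroupOf A).subgroupOf (N.subgroupOf A)
    rw [Subgroup.mem_subgroupOf, Subgroup.mem_subgroupOf]
    exact hx
  have := ha _ hxX
  rw [hR', Subgroup.mem_subgroupOf, hR, Subgroup.mem_subgroupOf] at this
  exact this

variable {Ω : Type*} [Group Ω] {S T : Subgroup Ω}

/-- Moving a map of a system along an equality of subgroups. -/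
theorem exists_hom_of_eq (E : FusionSystem T) {A B : Subgroup Ω} (h : A = B) {χ : A →* Ω} (hχ : χ ∈ E.Hom A) :
    ∃ χ' ∈ E.Hom B, ∀ (y : Ω) (hA : y ∈ A) (hB : y ∈ B), χ' ⟨y, hB⟩ = χ ⟨y, hA⟩ := by
  subst h
  exact ⟨χ, hχ, fun _ _ _ => rfl⟩

/-- The strong invariance condition. -/
def StrongInv (E : FusionSystem T) (F : FusionSystem S) : Prop :=
  ∀ (P Q : Subgroup Ω) (hPQ : P ≤ Q) (_ : Q ≤ T) (φ : P →* Ω) (_ : φ ∈ E.Hom P) (hφQ : ∀ x : P, φ x ∈ Q)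
    (ψ : Q →* Ω) (_ : ψ ∈ F.Hom Q), ∃ χ ∈ E.Hom ((P.subgroupOf Q).map ψ),
      ∀ (x : P) (hx : ψ (Subgroup.inclusion hPQ x) ∈ (P.subgroupOf Q).map ψ),
        χ ⟨ψ (Subgroup.inclusion hPQ x), hx⟩ = ψ ⟨φ x, hφQ x⟩

/-- Strong invariance, with the source of the transported map named. -/
theorem StrongInv.push {E : FusionSystem T} {F : FusionSystem S} (h : StrongInv E F) {P Q P' : Subgroup Ω}
    (hPQ : P ≤ Q) (hQT : Q ≤ T) {φ : P →* Ω} (hφ : φ ∈ E.Hom P) (hφQ : ∀ x : P, φ x ∈ Q) {ψ : Q →* Ω}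
    (hψ : ψ ∈ F.Hom Q) (hP' : ∀ y, y ∈ P' ↔ ∃ x : P, ψ (Subgroup.inclusion hPQ x) = y) :
    ∃ χ ∈ E.Hom P', ∀ (x : P) (hx : ψ (Subgroup.inclusion hPQ x) ∈ P'),
      χ ⟨ψ (Subgroup.inclusion hPQ x), hx⟩ = ψ ⟨φ x, hφQ x⟩ := by
  have hEq : (P.subgroupOf Q).map ψ = P' := by
    ext y
    rw [hP' y, Subgroup.mem_map]
    constructor
    · rintro ⟨z, hz, rfl⟩
      rw [Subgroup.mem_subgroupOf] at hz
      exact ⟨⟨z, hz⟩, rfl⟩
    · rintro ⟨x, rfl⟩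
      exact ⟨Subgroup.inclusion hPQ x, by rw [Subgroup.mem_subgroupOf]; exact x.2, rfl⟩
  obtain ⟨χ, hχ, hχx⟩ := h P Q hPQ hQT φ hφ hφQ ψ hψ
  subst hEq
  exact ⟨χ, hχ, hχx⟩


/-- Strong invariance gives transport along an automorphism of `T` in the big system. -/
theorem StrongInv.pushAut {E : FusionSystem T} {F : FusionSystem S} (h : StrongInv E F) (hTS : T ≤ S)
    {P P' : Subgroup Ω} (hPT : P ≤ T) {θ : P →* Ω} (hθ : θ ∈ E.Hom P) {α : MulAut T} (hα : α ∈ F.autGroup T)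
    (hP' : ∀ y, y ∈ P' ↔ ∃ x : P, ((α ⟨x, hPT x.2⟩ : T) : Ω) = y) :
    ∃ χ ∈ E.Hom P', ∀ (x : P) (hx : ((α ⟨x, hPT x.2⟩ : T) : Ω) ∈ P') (hθx : θ x ∈ T),
      χ ⟨((α ⟨x, hPT x.2⟩ : T) : Ω), hx⟩ = ((α ⟨θ x, hθx⟩ : T) : Ω) := by
  have hψ : T.subtype.comp α.toMonoidHom ∈ F.Hom T := (mem_autGroup_iff F hTS α).mp hα
  obtain ⟨χ, hχ, hχx⟩ := h.push hPT le_rfl hθ (E.le_of_mem hθ).2 hψ hP'
  exact ⟨χ, hχ, fun x hx hθx => hχx x hx⟩

/-- The Frattini property of a map: an automorphism of `T` in the big system composed with a map of the subsystem. -/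
def Fr (E : FusionSystem T) (F : FusionSystem S) {P : Subgroup Ω} (φ : P →* Ω) : Prop :=
  ∃ α ∈ F.autGroup T, ∃ φ₀ ∈ E.Hom P, ∀ (x : P) (hx : φ₀ x ∈ T), φ x = ((α ⟨φ₀ x, hx⟩ : T) : Ω)

theorem Fr.congr {E : FusionSystem T} {F : FusionSystem S} {P : Subgroup Ω} {φ φ' : P →* Ω} (h : Fr E F φ)
    (hφ : ∀ x, φ' x = φ x) : Fr E F φ' := by
  have : φ' = φ := MonoidHom.ext hφ
  rwa [this]

theorem Fr.restrict {E : FusionSystem T} {F : FusionSystem S} {P R : Subgroup Ω} {φ : P →* Ω} (h : Fr E F φ)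
    (hRP : R ≤ P) : Fr E F (φ.comp (Subgroup.inclusion hRP)) := by
  obtain ⟨α, hα, φ₀, hφ₀, hx⟩ := h
  exact ⟨α, hα, φ₀.comp (Subgroup.inclusion hRP), restrict_mem E hφ₀ hRP, fun x hx' => hx _ hx'⟩

theorem Fr.of_mem {E : FusionSystem T} {F : FusionSystem S} {P : Subgroup Ω} {φ : P →* Ω} (h : φ ∈ E.Hom P) :
    Fr E F φ :=
  ⟨1, (F.autGroup T).one_mem, φ, h, fun _ _ => rfl⟩

/-- Composition of a map with the Frattini property with a map of the subsystem. -/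
theorem Fr.comp_mem {E : FusionSystem T} {F : FusionSystem S} (hSI : StrongInv E F) (hTS : T ≤ S)
    {P Q : Subgroup Ω} {φ : P →* Ω} (h : Fr E F φ) (hφQ : ∀ x : P, φ x ∈ Q) {θ : Q →* Ω} (hθ : θ ∈ E.Hom Q) :
    Fr E F (θ.comp (φ.codRestrict Q hφQ)) := by
  obtain ⟨α, hα, φ₀, hφ₀, hx⟩ := h
  have hPT : P ≤ T := (E.le_of_mem hφ₀).1
  have hφ₀T : ∀ x : P, φ₀ x ∈ T := (E.le_of_mem hφ₀).2
  have hQT : Q ≤ T := (E.le_of_mem hθ).1
  have hαinv : α⁻¹ ∈ F.autGroup T := (F.autGroup T).inv_mem hα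
  -- the restriction of `θ` to the image of `φ`
  have hP₁Q : φ.range ≤ Q := by
    rintro y ⟨x, rfl⟩
    exact hφQ x
  have hP₁T : φ.range ≤ T := hP₁Q.trans hQT
  have hθ₁ : θ.comp (Subgroup.inclusion hP₁Q) ∈ E.Hom φ.range := restrict_mem E hθ hP₁Q
  have hφx : ∀ x : P, ((α⁻¹ ⟨φ x, hP₁T ⟨x, rfl⟩⟩ : T) : Ω) = φ₀ x := by
    intro x
    have e : (⟨φ x, hP₁T ⟨x, rfl⟩⟩ : T) = α ⟨φ₀ x, hφ₀T x⟩ := Subtype.ext (hx x (hφ₀T x))
    rw [e, MulAut.inv_apply_self]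
  have hP' : ∀ y, y ∈ φ₀.range ↔ ∃ z : φ.range, ((α⁻¹ ⟨z, hP₁T z.2⟩ : T) : Ω) = y := by
    intro y
    constructor
    · rintro ⟨x, rfl⟩
      exact ⟨⟨φ x, ⟨x, rfl⟩⟩, hφx x⟩
    · rintro ⟨⟨_, ⟨x, rfl⟩⟩, rfl⟩
      exact ⟨x, (hφx x).symm⟩
  obtain ⟨χ, hχ, hχx⟩ := hSI.pushAut hTS hP₁T hθ₁ hαinv hP'
  refine ⟨α, hα, χ.comp (φ₀.codRestrict φ₀.range (fun x => ⟨x, rfl⟩)),
    E.comp_mem hφ₀ hχ (fun x => ⟨x, rfl⟩), fun x hx' => ?_⟩
  have hθT : θ ⟨φ x, hφQ x⟩ ∈ T := (E.le_of_mem hθ).2 _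
  have h1 := hχx ⟨φ x, ⟨x, rfl⟩⟩ (by rw [hφx x]; exact ⟨x, rfl⟩) hθT
  have e : (⟨φ₀ x, ⟨x, rfl⟩⟩ : φ₀.range) =
      ⟨((α⁻¹ ⟨φ x, hP₁T ⟨x, rfl⟩⟩ : T) : Ω), by rw [hφx x]; exact ⟨x, rfl⟩⟩ := Subtype.ext (hφx x).symm
  have h2 : (χ.comp (φ₀.codRestrict φ₀.range (fun x => ⟨x, rfl⟩))) x = ((α⁻¹ ⟨θ ⟨φ x, hφQ x⟩, hθT⟩ : T) : Ω) := by
    show χ ⟨φ₀ x, ⟨x, rfl⟩⟩ = _
    rw [e]
    exact h1
  have h3 : (⟨(χ.comp (φ₀.codRestrict φ₀.range (fun x => ⟨x, rfl⟩))) x, hx'⟩ : T) = α⁻¹ ⟨θ ⟨φ x, hφQ x⟩, hθT⟩ :=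
    Subtype.ext h2
  rw [h3, MulAut.apply_inv_self]
  rfl

/-- Composition of two maps with the Frattini property. -/
theorem Fr.comp {E : FusionSystem T} {F : FusionSystem S} (hSI : StrongInv E F) (hTS : T ≤ S)
    {P Q : Subgroup Ω} {φ : P →* Ω} (h : Fr E F φ) (hφQ : ∀ x : P, φ x ∈ Q) {ψ : Q →* Ω} (hψ : Fr E F ψ) :
    Fr E F (ψ.comp (φ.codRestrict Q hφQ)) := by
  obtain ⟨α₂, hα₂, ψ₀, hψ₀, hψx⟩ := hψ
  obtain ⟨α, hα, φ₀, hφ₀, hx⟩ := h.comp_mem hSI hTS hφQ hψ₀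
  refine ⟨α₂ * α, (F.autGroup T).mul_mem hα₂ hα, φ₀, hφ₀, fun x hx' => ?_⟩
  have h1 := hx x hx'
  have hψ₀T : ψ₀ ⟨φ x, hφQ x⟩ ∈ T := (E.le_of_mem hψ₀).2 _
  have h2 := hψx ⟨φ x, hφQ x⟩ hψ₀T
  show ψ ⟨φ x, hφQ x⟩ = _
  rw [h2, MulAut.mul_apply]
  congr 2
  exact Subtype.ext h1


/-- The inverse of a map with the Frattini property has the Frattini property. -/
theorem Fr.inv {E : FusionSystem T} {F : FusionSystem S} (hSI : StrongInv E F) (hTS : T ≤ S)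
    {P : Subgroup Ω} {φ : P →* Ω} (h : Fr E F φ) {ρ : φ.range →* Ω} (hρ : ∀ x : P, ρ ⟨φ x, ⟨x, rfl⟩⟩ = (x : Ω)) :
    Fr E F ρ := by
  obtain ⟨α, hα, φ₀, hφ₀, hx⟩ := h
  have hPT : P ≤ T := (E.le_of_mem hφ₀).1
  have hφ₀T : ∀ x : P, φ₀ x ∈ T := (E.le_of_mem hφ₀).2
  have hαinv : α⁻¹ ∈ F.autGroup T := (F.autGroup T).inv_mem hα
  have hP₀T : φ₀.range ≤ T := by
    rintro y ⟨x, rfl⟩
    exact hφ₀T x
  obtain ⟨ρ₀, hρ₀, hρ₀x⟩ := E.inv_mem hφ₀
  have hP' : ∀ y, y ∈ φ.range ↔ ∃ z : φ₀.range, ((α ⟨z, hP₀T z.2⟩ : T) : Ω) = y := by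
    intro y
    constructor
    · rintro ⟨x, rfl⟩
      exact ⟨⟨φ₀ x, ⟨x, rfl⟩⟩, (hx x (hφ₀T x)).symm⟩
    · rintro ⟨⟨_, ⟨x, rfl⟩⟩, rfl⟩
      exact ⟨x, hx x (hφ₀T x)⟩
  obtain ⟨χ, hχ, hχx⟩ := hSI.pushAut hTS hP₀T hρ₀ hα hP'
  refine ⟨α⁻¹, hαinv, χ, hχ, ?_⟩
  rintro ⟨_, ⟨x, rfl⟩⟩ hx'
  have hxT : ρ₀ ⟨φ₀ x, ⟨x, rfl⟩⟩ ∈ T := by rw [hρ₀x x]; exact hPT x.2
  have h1 := hχx ⟨φ₀ x, ⟨x, rfl⟩⟩ (by rw [← hx x (hφ₀T x)]; exact ⟨x, rfl⟩) hxT
  have e : (⟨φ x, ⟨x, rfl⟩⟩ : φ.range) =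
      ⟨((α ⟨φ₀ x, hφ₀T x⟩ : T) : Ω), by rw [← hx x (hφ₀T x)]; exact ⟨x, rfl⟩⟩ := Subtype.ext (hx x (hφ₀T x))
  have h2 : χ ⟨φ x, ⟨x, rfl⟩⟩ = ((α ⟨ρ₀ ⟨φ₀ x, ⟨x, rfl⟩⟩, hxT⟩ : T) : Ω) := by
    rw [e]
    exact h1
  have h3 : (⟨χ ⟨φ x, ⟨x, rfl⟩⟩, hx'⟩ : T) = α ⟨ρ₀ ⟨φ₀ x, ⟨x, rfl⟩⟩, hxT⟩ := Subtype.ext h2
  rw [h3, MulAut.inv_apply_self, hρ x]
  exact (hρ₀x x).symm

/-- The automorphism group of a subsystem is contained in that of the big system. -/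
theorem autGroup_le_of_isSubsystemOf {E : FusionSystem T} {F : FusionSystem S} (hE : E.IsSubsystemOf F)
    {P : Subgroup Ω} (hPT : P ≤ T) (hTS : T ≤ S) : E.autGroup P ≤ F.autGroup P := by
  intro β hβ
  rw [mem_autGroup_iff E hPT] at hβ
  rw [mem_autGroup_iff F (hPT.trans hTS)]
  exact hE P hβ

/-- Strong invariance: conjugating an automorphism of the subsystem by an isomorphism of the big system gives an
automorphism of the subsystem. -/
theorem StrongInv.congr_mem_autGroup {E : FusionSystem T} {F : FusionSystem S} (hSI : StrongInv E F)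
    (hT : F.StronglyClosed T) {R R' : Subgroup Ω} (hRT : R ≤ T) {e : R ≃* R'} (he : IsIso F e) {β : MulAut R}
    (hβ : β ∈ E.autGroup R) : MulAut.congr e β ∈ E.autGroup R' := by
  have hR'T : R' ≤ T := by
    intro y hy
    have := hT.2 R hRT _ he (e.symm ⟨y, hy⟩)
    simpa using this
  have hβ' : R.subtype.comp (β : R ≃* R).toMonoidHom ∈ E.Hom R := (mem_autGroup_iff E hRT β).mp hβ
  have hP' : ∀ y, y ∈ R' ↔ ∃ x : R, (R'.subtype.comp e.toMonoidHom) (Subgroup.inclusion (le_refl R) x) = y := by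
    intro y
    constructor
    · intro hy
      refine ⟨e.symm ⟨y, hy⟩, ?_⟩
      show ((e (e.symm ⟨y, hy⟩) : R') : Ω) = y
      rw [MulEquiv.apply_symm_apply]
    · rintro ⟨x, rfl⟩
      exact (e _).2
  obtain ⟨χ, hχ, hχx⟩ := hSI.push (le_refl R) hRT hβ' (fun x => (β x).2) he hP'
  rw [mem_autGroup_iff E hR'T]
  unfold IsIso
  refine mem_of_eq E hχ (fun y => ?_)
  have h1 := hχx (e.symm y) (e _).2
  have e1 : (⟨(R'.subtype.comp e.toMonoidHom) (Subgroup.inclusion (le_refl R) (e.symm y)), (e _).2⟩ : R') = y := by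
    apply Subtype.ext
    show ((e (e.symm y) : R') : Ω) = y
    rw [MulEquiv.apply_symm_apply]
  rw [e1] at h1
  rw [h1]
  rfl


theorem congr_eq_conj {P : Subgroup Ω} (a n : MulAut P) : MulAut.congr (a : P ≃* P) n = a * n * a⁻¹ := by
  ext y
  rfl

/-- The key step: maps of the big system onto a fully normalized subgroup of `T` have the Frattini property, given
this for all maps with larger source. -/
theorem fr_of_range_fullyNormalized [Finite S] {p : ℕ} [Fact p.Prime] (hS : IsPGroup p S) {E : FusionSystem T}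
    {F : FusionSystem S} (hF : F.IsSaturated p) (hE : E.IsSubsystemOf F) (hT : F.StronglyClosed T)
    (hSI : StrongInv E F) {R P'' : Subgroup Ω} (hRT : R < T) {ξ : R →* Ω} (hξ : ξ ∈ F.Hom R)
    (hrange : ξ.range = P'') (hP'' : F.IsFullyNormalized P'')
    (ih : ∀ M : Subgroup Ω, M ≤ T → Nat.card R < Nat.card M → ∀ ψ ∈ F.Hom M, Fr E F ψ) : Fr E F ξ := by
  have hTS : T ≤ S := hT.1
  have hTp : IsPGroup p T := hS.to_le hTS
  have : Finite T := finite_of_le hTS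
  have hRT' : R ≤ T := hRT.le
  have he : IsIso F (isoOfRange F hξ hrange) := isIso_isoOfRange F hξ hrange
  have hP''S : P'' ≤ S := hP''.1
  have hP''T : P'' ≤ T := by
    intro y hy
    rw [← hrange] at hy
    obtain ⟨x, rfl⟩ := hy
    exact hT.2 R hRT' ξ hξ x
  obtain ⟨hfc, hfa⟩ := fullyAutomized_fullyCentralized_of_fullyNormalized hS F hF hP''
  have hrec := receptive_of_fullyCentralized hS F hF hfc
  have : Finite (MulAut P'') := finite_mulAut_of_le hP''S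
  -- the Sylow argument in `Aut_E(P'')`, normal in `Aut_F(P'')`
  have hNA : E.autGroup P'' ≤ F.autGroup P'' := autGroup_le_of_isSubsystemOf hE hP''T hTS
  have hnorm : ∀ a ∈ F.autGroup P'', ∀ n ∈ E.autGroup P'', a * n * a⁻¹ ∈ E.autGroup P'' := by
    intro a ha n hn
    have h1 := hSI.congr_mem_autGroup hT hP''T ((mem_autGroup_iff F hP''S a).mp ha) hn
    rwa [congr_eq_conj] at h1
  have hX : IsPGroup p ((autInducedBy T R).map (MulAut.congr (isoOfRange F hξ hrange)).toMonoidHom) :=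
    (isPGroup_autInducedBy hTp R).map _
  have hXN : (autInducedBy T R).map (MulAut.congr (isoOfRange F hξ hrange)).toMonoidHom ≤ E.autGroup P'' := by
    rintro _ ⟨β, hβ, rfl⟩
    apply hSI.congr_mem_autGroup hT hRT' he
    obtain ⟨g, hg, hgx⟩ := (mem_autInducedBy_iff T R β).mp hβ
    rw [mem_autGroup_iff E hRT']
    exact mem_of_eq E (E.conj_mem hRT' hg) (fun x => hgx x)
  obtain ⟨n, hn, hnX⟩ := exists_conj_into_of_normalized (F.autGroup P'') (E.autGroup P'') (autInducedBy S P'') _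
    hNA hnorm hfa.2 hXN hX
  -- the modified isomorphism
  have hnF : IsIso F (n : P'' ≃* P'') := (mem_autGroup_iff F hP''S n).mp (hNA hn)
  have he' : IsIso F ((isoOfRange F hξ hrange).trans (n : P'' ≃* P'')) := he.trans hnF
  have hle : normalizerIn T R ≤
      extender S R (P''.subtype.comp ((isoOfRange F hξ hrange).trans (n : P'' ≃* P'')).toMonoidHom) := by
    rintro g ⟨hgT, hgN⟩
    rw [mem_extender_iff]
    refine ⟨hTS hgT, hgN, ?_⟩
    have hβ : conjAut R g hgN ∈ autInducedBy T R := (mem_autInducedBy_iff T R _).mpr ⟨g, hgT, fun x => rfl⟩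
    have h1 := hnX _ ⟨_, hβ, rfl⟩
    obtain ⟨h, hhS, hhx⟩ := (mem_autInducedBy_iff S P'' _).mp h1
    refine ⟨h, hhS, fun x hx => ?_⟩
    have h2 := hhx (n (isoOfRange F hξ hrange x))
    rw [← show ((n (isoOfRange F hξ hrange x) : P'') : Ω) =
      (P''.subtype.comp ((isoOfRange F hξ hrange).trans (n : P'' ≃* P'')).toMonoidHom) x from rfl] 
    rw [← h2]
    show ((n (isoOfRange F hξ hrange ⟨g * x * g⁻¹, hx⟩) : P'') : Ω) = _
    have h3 : (n * (MulAut.congr (isoOfRange F hξ hrange)).toMonoidHom (conjAut R g hgN) * n⁻¹)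
        (n (isoOfRange F hξ hrange x)) = n (isoOfRange F hξ hrange ⟨g * x * g⁻¹, hx⟩) := by
      rw [MulAut.mul_apply, MulAut.mul_apply, MulAut.inv_apply_self]
      show n ((isoOfRange F hξ hrange) ((conjAut R g hgN) ((isoOfRange F hξ hrange).symm
        ((isoOfRange F hξ hrange) x)))) = _
      rw [MulEquiv.symm_apply_apply]
      rfl
    rw [h3]
  have hrange' : (P''.subtype.comp ((isoOfRange F hξ hrange).trans (n : P'' ≃* P'')).toMonoidHom).range = P'' := by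
    ext y
    constructor
    · rintro ⟨x, rfl⟩
      exact (n (isoOfRange F hξ hrange x)).2
    · intro hy
      refine ⟨((isoOfRange F hξ hrange).trans (n : P'' ≃* P'')).symm ⟨y, hy⟩, ?_⟩
      show ((((isoOfRange F hξ hrange).trans (n : P'' ≃* P''))
        (((isoOfRange F hξ hrange).trans (n : P'' ≃* P'')).symm ⟨y, hy⟩) : P'') : Ω) = y
      rw [MulEquiv.apply_symm_apply]
  obtain ⟨ψ', hψ', hψ'x⟩ := hrec.2 R _ he' hrange'
  have hRM : R < normalizerIn T R := lt_normalizerIn hTp hRT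
  have hMT : normalizerIn T R ≤ T := inf_le_left
  have : Finite (normalizerIn T R) := finite_of_le (hMT.trans hTS)
  have hψM := restrict_mem F hψ' hle
  have hFr1 := ih (normalizerIn T R) hMT (card_lt_card_of_lt hRM) _ hψM
  have hFr2 := hFr1.restrict hRM.le
  have hFr3 : Fr E F (P''.subtype.comp ((isoOfRange F hξ hrange).trans (n : P'' ≃* P'')).toMonoidHom) :=
    hFr2.congr (fun x => (hψ'x x x.2 (hle (hRM.le x.2))).symm)
  have hninv : P''.subtype.comp ((n⁻¹ : MulAut P'') : P'' ≃* P'').toMonoidHom ∈ E.Hom P'' :=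
    (mem_autGroup_iff E hP''T _).mp ((E.autGroup P'').inv_mem hn)
  have hFr4 := hFr3.comp_mem hSI hTS (fun x => (n (isoOfRange F hξ hrange x)).2) hninv
  refine hFr4.congr (fun x => ?_)
  show ξ x = ((n⁻¹ (n (isoOfRange F hξ hrange x)) : P'') : Ω)
  rw [MulAut.inv_apply_self]
  rfl


theorem card_range_eq_of_mem (F : FusionSystem S) [Finite S] {P : Subgroup Ω} {φ : P →* Ω} (hφ : φ ∈ F.Hom P) :
    Nat.card φ.range = Nat.card P := by
  have : Finite P := finite_of_le (F.le_of_mem hφ).1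
  have hle : φ.range ≤ S := by
    rintro y ⟨x, rfl⟩
    exact (F.le_of_mem hφ).2 x
  have : Finite φ.range := finite_of_le hle
  apply le_antisymm
  · refine Nat.card_le_card_of_surjective (fun x : P => (⟨φ x, ⟨x, rfl⟩⟩ : φ.range)) ?_
    rintro ⟨_, ⟨x, rfl⟩⟩
    exact ⟨x, rfl⟩
  · refine Nat.card_le_card_of_injective (fun x : P => (⟨φ x, ⟨x, rfl⟩⟩ : φ.range)) ?_
    intro a b hab
    exact F.injective_of_mem hφ (congrArg Subtype.val hab)

/-- Strong invariance implies the Frattini condition, inside a saturated system. -/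
theorem frattini_of_strongInv [Finite S] {p : ℕ} [Fact p.Prime] (hS : IsPGroup p S) {E : FusionSystem T}
    {F : FusionSystem S} (hF : F.IsSaturated p) (hE : E.IsSubsystemOf F) (hT : F.StronglyClosed T)
    (hSI : StrongInv E F) : ∀ P : Subgroup Ω, P ≤ T → ∀ φ ∈ F.Hom P, Fr E F φ := by
  have hTS : T ≤ S := hT.1
  have : Finite T := finite_of_le hTS
  intro P
  induction' hk : Nat.card T - Nat.card P using Nat.strong_induction_on with k ih generalizing P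
  intro hPT φ hφ
  by_cases hPeq : P = T
  · subst hPeq
    have hval : ∀ x : P, φ x ∈ P := hT.2 P le_rfl φ hφ
    have hrange : φ.range = P := by
      apply Subgroup.eq_of_le_of_card_ge
      · rintro y ⟨x, rfl⟩
        exact hval x
      · rw [card_range_eq_of_mem F hφ]
    exact ⟨isoOfRange F hφ hrange, (mem_autGroup_iff F hTS _).mpr (isIso_isoOfRange F hφ hrange), P.subtype,
      subtype_mem E le_rfl, fun x hx => rfl⟩
  · have hPlt : P < T := lt_of_le_of_ne hPT hPeq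
    have hP'T : φ.range ≤ T := by
      rintro y ⟨x, rfl⟩
      exact hT.2 P hPT φ hφ x
    obtain ⟨P'', ⟨ψ, hψ, hψrange⟩, hfn⟩ := exists_isConj_fullyNormalized F (hP'T.trans hTS)
    have hcardP' : Nat.card φ.range = Nat.card P := card_range_eq_of_mem F hφ
    have hcardlt : Nat.card P < Nat.card T := card_lt_card_of_lt hPlt
    have hP'lt : φ.range < T := by
      refine lt_of_le_of_ne hP'T (fun h => ?_)
      rw [h] at hcardP'
      omega
    have ih' : ∀ R : Subgroup Ω, Nat.card R = Nat.card P → ∀ M : Subgroup Ω, M ≤ T → Nat.card R < Nat.card M →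
        ∀ ψ ∈ F.Hom M, Fr E F ψ := by
      intro R hR M hMT hlt ψ hψ
      have h1 : Nat.card M ≤ Nat.card T := Subgroup.card_le_of_le hMT
      exact ih (Nat.card T - Nat.card M) (by omega) M rfl hMT ψ hψ
    have hφP' : ∀ x : P, φ x ∈ φ.range := fun x => ⟨x, rfl⟩
    have hξ : ψ.comp (φ.codRestrict φ.range hφP') ∈ F.Hom P := F.comp_mem hφ hψ hφP'
    have hξrange : (ψ.comp (φ.codRestrict φ.range hφP')).range = P'' := by
      rw [← hψrange]
      ext y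
      constructor
      · rintro ⟨x, rfl⟩
        exact ⟨_, rfl⟩
      · rintro ⟨⟨_, ⟨x, rfl⟩⟩, rfl⟩
        exact ⟨x, rfl⟩
    have hFrξ := fr_of_range_fullyNormalized hS hF hE hT hSI hPlt hξ hξrange hfn (ih' P rfl)
    have hFrψ := fr_of_range_fullyNormalized hS hF hE hT hSI hP'lt hψ hψrange hfn (ih' φ.range hcardP')
    obtain ⟨ρ, hρ, hρx⟩ := F.inv_mem hψ
    have hFrρ := hFrψ.inv hSI hTS hρx
    have hfin := hFrξ.comp hSI hTS (fun x => (⟨_, rfl⟩ : _ ∈ ψ.range)) hFrρ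
    exact hfin.congr (fun x => (hρx ⟨φ x, hφP' x⟩).symm)

end Cfsg.Agent.Helper88.FS
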