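import Mathlib
import Cfsg.Agent.Helper13.FExtDefs
import Cfsg.Agent.Helper13.Symp
import Cfsg.Agent.Helper13.SympTrans

set_option autoImplicit false

/-!
# Piece (E4) of helper13's S5975: a non-scalar involution of `Sp_4(F)` normalizing a self-adjoint
quadratic field subalgebra `K`.
-/

namespace Cfsg.Agent.Helper88.FExtE4

open Matrix Cfsg Cfsg.Geo
open Cfsg.Agent.Helper13.FExt Cfsg.Agent.Helper13

variable {F : Type*} [Field F] {m : ℕ}

local notation "Vec" => (Fin m ⊕ Fin m → F)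
local notation "Mat" => Matrix (Fin m ⊕ Fin m) (Fin m ⊕ Fin m) F
local notation "⟪" x ", " y "⟫" => Cfsg.sympForm m F x y

/-- the matrix of `x ↦ ⟪x, v⟫ • u` -/
theorem vecMulVec_J_mulVec (u v x : Vec) :
    Matrix.vecMulVec u (Matrix.J (Fin m) F *ᵥ v) *ᵥ x = ⟪x, v⟫ • u := by
  rw [Matrix.vecMulVec_mulVec, sympForm_def, dotProduct_comm x]
  simp

/-- the involution `-1` on the hyperbolic plane `⟨u₁, u₂⟩`, `1` on its orthogonal -/
def hinv (u₁ u₂ : Vec) (c : F) : Mat :=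
  1 - (2 / c) • (Matrix.vecMulVec u₁ (Matrix.J (Fin m) F *ᵥ u₂)
    - Matrix.vecMulVec u₂ (Matrix.J (Fin m) F *ᵥ u₁))

theorem hinv_mulVec (u₁ u₂ : Vec) (c : F) (x : Vec) :
    hinv u₁ u₂ c *ᵥ x = x - (2 / c) • (⟪x, u₂⟫ • u₁ - ⟪x, u₁⟫ • u₂) := by
  rw [hinv, Matrix.sub_mulVec, Matrix.one_mulVec, Matrix.smul_mulVec, Matrix.sub_mulVec,
    vecMulVec_J_mulVec, vecMulVec_J_mulVec]

theorem hinv_preserves (u₁ u₂ : Vec) (c : F) (hc : c ≠ 0) (h12 : ⟪u₁, u₂⟫ = c) (x z : Vec) :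
    ⟪hinv u₁ u₂ c *ᵥ x, hinv u₁ u₂ c *ᵥ z⟫ = ⟪x, z⟫ := by
  have h21 : ⟪u₂, u₁⟫ = -c := by rw [sympForm_swap, h12]
  rw [hinv_mulVec, hinv_mulVec]
  simp only [sympForm_sub_left, sympForm_sub_right, sympForm_smul_left, sympForm_smul_right,
    sympForm_self, h12, h21]
  rw [sympForm_swap u₁ z, sympForm_swap u₂ z]
  field_simp
  ring

theorem hinv_mul_self (u₁ u₂ : Vec) (c : F) (hc : c ≠ 0) (h12 : ⟪u₁, u₂⟫ = c) :
    hinv u₁ u₂ c * hinv u₁ u₂ c = 1 := by
  have h21 : ⟪u₂, u₁⟫ = -c := by rw [sympForm_swap, h12]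
  apply matrix_eq_of_mulVec
  intro x
  rw [← Matrix.mulVec_mulVec, Matrix.one_mulVec, hinv_mulVec (x := hinv u₁ u₂ c *ᵥ x),
    hinv_mulVec]
  simp only [sympForm_sub_left, sympForm_smul_left, sympForm_self, h12, h21]
  have e1 : (2 / c) * (⟪x, u₂⟫ * c - ⟪x, u₁⟫ * 0) = 2 * ⟪x, u₂⟫ := by
    field_simp
    ring
  have e2 : (2 / c) * (⟪x, u₂⟫ * 0 - ⟪x, u₁⟫ * -c) = 2 * ⟪x, u₁⟫ := by
    field_simp
    ring
  rw [e1, e2]
  ext i
  simp only [Pi.sub_apply, Pi.smul_apply, smul_eq_mul]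
  ring

/-- a quadratic field subalgebra in characteristic `≠ 2` is `F[X]` with `X² = δ` a non-square -/
theorem exists_xi {ι : Type} [Fintype ι] [DecidableEq ι] (h2 : (2 : F) ≠ 0)
    (K : Subalgebra F (Matrix ι ι F)) (hK : IsFieldSubalgebra 2 K) :
    ∃ (X : Matrix ι ι F) (δ : F), X ∈ K ∧ X * X = δ • (1 : Matrix ι ι F) ∧
      (∀ e : F, e * e ≠ δ) ∧ ∀ k ∈ K, ∃ α β : F, k = α • (1 : Matrix ι ι F) + β • X := by
  classical
  have hfin : Module.finrank F ↥K = 2 := hK.finrank_eq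
  have : Module.Finite F ↥K := Module.finite_of_finrank_pos (by rw [hfin]; norm_num)
  -- a non-scalar element
  obtain ⟨a, ha⟩ : ∃ a : ↥K, ∀ c : F, c • (1 : ↥K) ≠ a := by
    by_contra hcon
    push Not at hcon
    have := finrank_le_one (R := F) (1 : ↥K) hcon
    omega
  have hli : LinearIndependent F ![(1 : ↥K), a] := by
    rw [LinearIndependent.pair_iff]
    intro s t hst
    have ht : t = 0 := by
      by_contra ht
      apply ha (-s / t)
      have : t • a = -s • (1 : ↥K) := by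
        rw [neg_smul]; exact eq_neg_of_add_eq_zero_right hst
      rw [div_eq_inv_mul, mul_smul, ← this, smul_smul, inv_mul_cancel₀ ht, one_smul]
    subst ht
    refine ⟨?_, rfl⟩
    by_contra hs
    rw [zero_smul, add_zero] at hst
    have h1 : (1 : ↥K) = 0 := by
      have := congrArg (fun z => s⁻¹ • z) hst
      simpa [smul_smul, inv_mul_cancel₀ hs] using this
    apply ha 0
    rw [zero_smul, ← mul_one a, h1, mul_zero]
  have hspan := hli.span_eq_top_of_card_eq_finrank' (by rw [hfin]; simp)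
  have hrep : ∀ k : ↥K, ∃ c₀ c₁ : F, k = c₀ • (1 : ↥K) + c₁ • a := by
    intro k
    have hk : k ∈ Submodule.span F (Set.range ![(1 : ↥K), a]) := by rw [hspan]; trivial
    rw [Submodule.mem_span_range_iff_exists_fun] at hk
    obtain ⟨c, hc⟩ := hk
    refine ⟨c 0, c 1, ?_⟩
    rw [← hc, Fin.sum_univ_two]
    simp
  -- the quadratic equation of `a`
  obtain ⟨s, t, hst⟩ := hrep (a * a)
  set τ : F := t / 2 with hτ
  have hτ2 : τ + τ = t := by rw [hτ]; field_simp; ring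
  set x : ↥K := a - τ • (1 : ↥K) with hx
  have hxx : x * x = (s + τ * τ) • (1 : ↥K) := by
    rw [hx, sub_mul, mul_sub, mul_sub, hst, ← hτ2]
    simp only [smul_mul_assoc, mul_smul_comm, one_mul, mul_one, smul_smul]
    module
  have hxns : ∀ c : F, c • (1 : ↥K) ≠ x := by
    intro c hc
    apply ha (c + τ)
    rw [add_smul, hc, hx]; abel
  refine ⟨(x : Matrix ι ι F), s + τ * τ, x.2, ?_, ?_, ?_⟩
  · have := congrArg Subtype.val hxx
    simpa using this
  · intro e he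
    have hprod : (x - e • (1 : ↥K)) * (x + e • (1 : ↥K)) = 0 := by
      rw [sub_mul, mul_add, mul_add, hxx, ← he]
      simp only [smul_mul_assoc, mul_smul_comm, one_mul, mul_one, smul_smul]
      module
    by_cases h1 : x - e • (1 : ↥K) = 0
    · exact hxns e (sub_eq_zero.mp h1).symm
    · have h1' : ((x - e • (1 : ↥K) : ↥K) : Matrix ι ι F) ≠ 0 := by
        intro h; exact h1 (Subtype.ext h)
      obtain ⟨y, hyK, hy⟩ := hK.inv _ (x - e • (1 : ↥K)).2 h1'
      have hy' : (x - e • (1 : ↥K)) * (⟨y, hyK⟩ : ↥K) = 1 := Subtype.ext hy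
      have hcomm : (x + e • (1 : ↥K)) * (x - e • (1 : ↥K)) = 0 := by
        have hsw : (x + e • (1 : ↥K)) * (x - e • (1 : ↥K))
            = (x - e • (1 : ↥K)) * (x + e • (1 : ↥K)) := by
          simp only [add_mul, sub_mul, mul_add, mul_sub, smul_mul_assoc, mul_smul_comm, one_mul,
            mul_one]
          module
        rw [hsw, hprod]
      have h3 : x + e • (1 : ↥K) = 0 := by
        calc x + e • (1 : ↥K) = (x + e • (1 : ↥K)) * ((x - e • (1 : ↥K)) * ⟨y, hyK⟩) := by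
              rw [hy', mul_one]
          _ = 0 := by rw [← mul_assoc, hcomm, zero_mul]
      apply hxns (-e)
      rw [neg_smul]; exact (eq_neg_of_add_eq_zero_left h3).symm
  · intro k hk
    obtain ⟨c₀, c₁, hc⟩ := hrep ⟨k, hk⟩
    refine ⟨c₀ + c₁ * τ, c₁, ?_⟩
    have hc' : (⟨k, hk⟩ : ↥K) = (c₀ + c₁ * τ) • (1 : ↥K) + c₁ • x := by
      rw [hc, hx]; module
    have := congrArg Subtype.val hc'
    simpa using this

/-- a hyperbolic pair `w, w'` with `X w ⊥ w'` -/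
theorem exists_pair (X : Mat) (δ : F) (hXX : X * X = δ • (1 : Mat)) (hδ : ∀ e : F, e * e ≠ δ)
    (hm : 0 < m)
    (hadj : ∀ u v : Vec, ⟪X *ᵥ u, v⟫ = ⟪u, X *ᵥ v⟫) :
    ∃ w w' : Vec, ⟪w, w'⟫ ≠ 0 ∧ ⟪X *ᵥ w, w'⟫ = 0 := by
  classical
  have hδ0 : δ ≠ 0 := fun h => hδ 0 (by rw [h, mul_zero])
  have hXXv : ∀ v : Vec, X *ᵥ (X *ᵥ v) = δ • v := by
    intro v
    rw [Matrix.mulVec_mulVec, hXX, Matrix.smul_mulVec, Matrix.one_mulVec]
  obtain ⟨w, w'', hA⟩ : ∃ w w'' : Vec, ⟪w, w''⟫ ≠ 0 := by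
    have h0 : (Pi.single (Sum.inl ⟨0, hm⟩) 1 : Vec) ≠ 0 := by
      intro h
      have := congrFun h (Sum.inl ⟨0, hm⟩)
      simp at this
    obtain ⟨x, hx⟩ := sympForm_nondeg_left h0
    exact ⟨x, _, hx⟩
  have hXX' : ⟪X *ᵥ w, X *ᵥ w''⟫ = δ * ⟪w, w''⟫ := by
    rw [← hadj, hXXv, sympForm_smul_left]
  have hwX : ⟪w, X *ᵥ w''⟫ = ⟪X *ᵥ w, w''⟫ := (hadj w w'').symm
  refine ⟨w, w'' + (-⟪X *ᵥ w, w''⟫ / (δ * ⟪w, w''⟫)) • (X *ᵥ w''), ?_, ?_⟩
  · rw [sympForm_add_right, sympForm_smul_right, hwX]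
    intro h
    apply hδ (⟪X *ᵥ w, w''⟫ / ⟪w, w''⟫)
    field_simp
    field_simp at h
    linear_combination -h
  · rw [sympForm_add_right, sympForm_smul_right, hXX']
    field_simp
    ring

/-- (E4) a non-scalar involution in the normalizer (`d = 2`, `k = 2`, `q` odd) -/
theorem exists_invol_mem_normalizer [Fintype F] (h2 : (2 : F) ≠ 0)
    (K : Subalgebra F (Matrix (Fin 2 ⊕ Fin 2) (Fin 2 ⊕ Fin 2) F)) (hK : IsFieldSubalgebra 2 K)
    (hKf : IsSelfAdjointFor (sympForm 2 F) K)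
    (hKalt : ∀ a ∈ K, ∀ v : Fin 2 ⊕ Fin 2 → F, sympForm 2 F (a *ᵥ v) v = 0) :
    ∃ y ∈ spGL 2 F, y ∈ subalgebraNormalizer K ∧ y ^ 2 = 1 ∧
      ∀ z : F, (y : Matrix (Fin 2 ⊕ Fin 2) (Fin 2 ⊕ Fin 2) F) ≠
        z • (1 : Matrix (Fin 2 ⊕ Fin 2) (Fin 2 ⊕ Fin 2) F) := by
  classical
  obtain ⟨X, δ, hXK, hXX, hδ, hrep⟩ := exists_xi h2 K hK
  have hδ0 : δ ≠ 0 := fun h => hδ 0 (by rw [h, mul_zero])
  have hadj : ∀ u v : Fin 2 ⊕ Fin 2 → F,
      sympForm 2 F (X *ᵥ u) v = sympForm 2 F u (X *ᵥ v) := hKf X hXK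
  have halt : ∀ v : Fin 2 ⊕ Fin 2 → F, sympForm 2 F (X *ᵥ v) v = 0 := hKalt X hXK
  have hXXv : ∀ v : Fin 2 ⊕ Fin 2 → F, X *ᵥ (X *ᵥ v) = δ • v := by
    intro v
    rw [Matrix.mulVec_mulVec, hXX, Matrix.smul_mulVec, Matrix.one_mulVec]
  obtain ⟨w, w', hc0, h1⟩ := exists_pair (m := 2) X δ hXX hδ (by norm_num) hadj
  -- the Gram relations
  have hcc : δ * sympForm 2 F w w' ≠ 0 := mul_ne_zero hδ0 hc0
  have g12 : sympForm 2 F (X *ᵥ w) (X *ᵥ w') = δ * sympForm 2 F w w' := by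
    rw [← hadj, hXXv, sympForm_smul_left]
  have g21 : sympForm 2 F (X *ᵥ w') (X *ᵥ w) = -(δ * sympForm 2 F w w') := by
    rw [sympForm_swap, g12]
  have gw1 : sympForm 2 F w (X *ᵥ w) = 0 := by rw [sympForm_swap, halt, neg_zero]
  have gw2 : sympForm 2 F w (X *ᵥ w') = 0 := by rw [← hadj, h1]
  have gw'1 : sympForm 2 F w' (X *ᵥ w) = 0 := by rw [sympForm_swap, h1, neg_zero]
  have gw'2 : sympForm 2 F w' (X *ᵥ w') = 0 := by rw [sympForm_swap, halt, neg_zero]
  have g2w : sympForm 2 F (X *ᵥ w') w = 0 := by rw [sympForm_swap, gw2, neg_zero]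
  have g2w' : sympForm 2 F (X *ᵥ w') w' = 0 := halt w'
  have g1w : sympForm 2 F (X *ᵥ w) w = 0 := halt w
  have gw'w : sympForm 2 F w' w = -sympForm 2 F w w' := sympForm_swap _ _
  -- the involution
  set Y : Matrix (Fin 2 ⊕ Fin 2) (Fin 2 ⊕ Fin 2) F :=
    hinv (X *ᵥ w) (X *ᵥ w') (δ * sympForm 2 F w w') with hY
  have hYY : Y * Y = 1 := hinv_mul_self _ _ _ hcc g12
  have hYw : Y *ᵥ w = w := by
    rw [hY, hinv_mulVec, gw1, gw2]; simp
  have hYw' : Y *ᵥ w' = w' := by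
    rw [hY, hinv_mulVec, gw'1, gw'2]; simp
  have hYu1 : Y *ᵥ (X *ᵥ w) = -(X *ᵥ w) := by
    rw [hY, hinv_mulVec, g12, sympForm_self, zero_smul, sub_zero, smul_smul,
      div_mul_cancel₀ _ hcc]
    ext i; simp only [Pi.sub_apply, Pi.smul_apply, Pi.neg_apply, smul_eq_mul]; ring
  have hYu2 : Y *ᵥ (X *ᵥ w') = -(X *ᵥ w') := by
    rw [hY, hinv_mulVec, g21, sympForm_self, zero_smul, zero_sub, smul_neg, smul_smul,
      mul_neg, div_mul_cancel₀ _ hcc]
    ext i; simp only [Pi.sub_apply, Pi.smul_apply, Pi.neg_apply, smul_eq_mul]; ring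
  -- the four vectors span
  have hli : LinearIndependent F ![w, w', X *ᵥ w, X *ᵥ w'] := by
    rw [Fintype.linearIndependent_iff]
    intro g hg
    rw [Fin.sum_univ_four] at hg
    simp only [Matrix.cons_val_zero, Matrix.cons_val_one, Matrix.cons_val_two,
      Matrix.cons_val_three, Matrix.tail_cons, Matrix.head_cons] at hg
    have e0 := congrArg (fun v => sympForm 2 F v w') hg
    have e1 := congrArg (fun v => sympForm 2 F v w) hg
    have e2 := congrArg (fun v => sympForm 2 F v (X *ᵥ w')) hg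
    have e3 := congrArg (fun v => sympForm 2 F v (X *ᵥ w)) hg
    simp only [sympForm_add_left, sympForm_smul_left, sympForm_self, h1, g2w', g1w, g2w, gw'w,
      gw1, gw2, gw'1, gw'2, g12, g21, sympForm_zero_left, mul_zero, add_zero, zero_add] at e0 e1 e2 e3
    have k0 : g 0 = 0 := by
      rcases mul_eq_zero.mp e0 with h | h
      · exact h
      · exact absurd h hc0
    have k1 : g 1 = 0 := by
      rcases mul_eq_zero.mp e1 with h | h
      · exact h
      · exact absurd (neg_eq_zero.mp h) hc0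
    have k2 : g 2 = 0 := by
      rcases mul_eq_zero.mp e2 with h | h
      · exact h
      · exact absurd h hcc
    have k3 : g 3 = 0 := by
      rcases mul_eq_zero.mp e3 with h | h
      · exact h
      · exact absurd (neg_eq_zero.mp h) hcc
    intro i
    fin_cases i
    · exact k0
    · exact k1
    · exact k2
    · exact k3
  have hspan := hli.span_eq_top_of_card_eq_finrank' (by simp)
  -- `Y` anticommutes with `X`
  have hanti : Y * X + X * Y = 0 := by
    have hlin : (Y * X + X * Y).mulVecLin = 0 := by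
      apply LinearMap.ext_on_range hspan
      intro i
      simp only [Matrix.mulVecLin_apply, LinearMap.zero_apply, Matrix.add_mulVec,
        ← Matrix.mulVec_mulVec]
      fin_cases i
      · simp only [Fin.zero_eta, Matrix.cons_val_zero]
        rw [hYu1, hYw]; simp
      · simp only [Fin.mk_one, Matrix.cons_val_one, Matrix.cons_val_zero]
        rw [hYu2, hYw']; simp
      · simp only [Fin.reduceFinMk, Matrix.cons_val_two, Matrix.cons_val_one,
          Matrix.cons_val_zero, Matrix.tail_cons, Matrix.head_cons]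
        rw [hXXv, hYu1, Matrix.mulVec_smul, hYw, Matrix.mulVec_neg, hXXv]; simp
      · simp only [Fin.reduceFinMk, Matrix.cons_val_three, Matrix.cons_val_two, Matrix.cons_val_one,
          Matrix.cons_val_zero, Matrix.tail_cons, Matrix.head_cons]
        rw [hXXv, hYu2, Matrix.mulVec_smul, hYw', Matrix.mulVec_neg, hXXv]; simp
    apply matrix_eq_of_mulVec
    intro x
    have := LinearMap.congr_fun hlin x
    rw [Matrix.mulVecLin_apply, LinearMap.zero_apply] at this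
    rw [this, Matrix.zero_mulVec]
  have hYXY : Y * X * Y = -X := by
    have h : Y * X = -(X * Y) := eq_neg_of_add_eq_zero_left hanti
    rw [h, Matrix.neg_mul, Matrix.mul_assoc, hYY, Matrix.mul_one]
  have hconj : ∀ k ∈ K, Y * k * Y ∈ K := by
    intro k hk
    obtain ⟨α, β, rfl⟩ := hrep k hk
    have : Y * (α • (1 : Matrix (Fin 2 ⊕ Fin 2) (Fin 2 ⊕ Fin 2) F) + β • X) * Y
        = α • (1 : Matrix (Fin 2 ⊕ Fin 2) (Fin 2 ⊕ Fin 2) F) + β • (-X) := by
      rw [Matrix.mul_add, Matrix.add_mul, Matrix.mul_smul, Matrix.smul_mul, Matrix.mul_one, hYY,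
        Matrix.mul_smul, Matrix.smul_mul, hYXY]
    rw [this]
    exact K.add_mem (K.smul_mem K.one_mem α) (K.smul_mem (K.neg_mem hXK) β)
  -- the element of `GL`
  refine ⟨⟨Y, Y, hYY, hYY⟩, ?_, ?_, ?_, ?_⟩
  · intro u v
    exact hinv_preserves _ _ _ hcc g12 u v
  · intro k
    change k ∈ K ↔ Y * k * Y ∈ K
    refine ⟨hconj k, fun h => ?_⟩
    have := hconj _ h
    rwa [Matrix.mul_assoc Y k Y, ← Matrix.mul_assoc Y Y, hYY, Matrix.one_mul, Matrix.mul_assoc,
      hYY, Matrix.mul_one] at this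
  · apply Units.ext
    rw [pow_two]
    exact hYY
  · intro z hz
    change Y = z • (1 : Matrix (Fin 2 ⊕ Fin 2) (Fin 2 ⊕ Fin 2) F) at hz
    have hw0 : w ≠ 0 := by
      rintro rfl
      exact hc0 (sympForm_zero_left _)
    have hu0 : X *ᵥ w ≠ 0 := by
      intro h
      rw [h, sympForm_zero_left] at g12
      exact hcc g12.symm
    have e1 : z • w = w := by
      rw [← hYw, hz, Matrix.smul_mulVec, Matrix.one_mulVec, smul_smul]
      have := hYw
      rw [hz, Matrix.smul_mulVec, Matrix.one_mulVec] at this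
      rw [← smul_smul, this, this]
    have hz1 : z = 1 := by
      have h : (z - 1) • w = 0 := by rw [sub_smul, one_smul, e1, sub_self]
      rcases smul_eq_zero.mp h with h | h
      · exact sub_eq_zero.mp h
      · exact absurd h hw0
    have e2 := hYu1
    rw [hz, hz1, one_smul, Matrix.one_mulVec] at e2
    have h : (2 : F) • (X *ᵥ w) = 0 := by
      rw [two_smul]
      nth_rewrite 1 [e2]
      exact neg_add_cancel _
    rcases smul_eq_zero.mp h with h | h
    · exact h2 h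
    · exact hu0 h

end Cfsg.Agent.Helper88.FExtE4
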