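import Mathlib
import Cfsg.Agent.Helper13.MonoA

set_option autoImplicit false
set_option linter.unusedSectionVars false

namespace Cfsg.Agent.Helper88.MonoB

open Matrix Cfsg.Agent.Helper13.Mono

variable {κ : Type*} [Fintype κ] [DecidableEq κ] {F : Type*} [Field F]

/-- `Y` contains an elementary transvection -/
def Elem (Y : Subgroup (GL κ F)) : Prop :=
  ∃ i j : κ, i ≠ j ∧ ∃ c : F, c ≠ 0 ∧ MatIn Y (transvection i j c)

/-- `Y` contains the one-entry diagonal matrices -/
def HasDiag (Y : Subgroup (GL κ F)) : Prop :=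
  ∀ (j : κ) (μ : F), μ ≠ 0 → MatIn Y (diagonal (Function.update (1 : κ → F) j μ))

/-- a column/row pair `(u, φ)` of an element of `Y` and its inverse, abstractly -/
def Good (Y : Subgroup (GL κ F)) (u φ : κ → F) : Prop :=
  φ ⬝ᵥ u = 1 ∧ ∀ ε : F, ε ≠ 0 → MatIn Y (1 + (ε - 1) • vecMulVec u φ)

theorem matIn_congr {Y : Subgroup (GL κ F)} {A B : Matrix κ κ F} (hA : MatIn Y A) (h : A = B) :
    MatIn Y B := h ▸ hA

theorem rk_mul (u φ : κ → F) (s t : F) :
    (1 + s • vecMulVec u φ) * (1 + t • vecMulVec u φ)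
      = 1 + (s + t + s * t * (φ ⬝ᵥ u)) • vecMulVec u φ := by
  rw [Matrix.add_mul, Matrix.mul_add, Matrix.mul_add, Matrix.one_mul, Matrix.one_mul,
    Matrix.mul_one, Matrix.smul_mul, Matrix.mul_smul, vecMulVec_mul_self]
  ext i j
  simp only [Matrix.add_apply, Matrix.smul_apply, smul_eq_mul]
  ring

theorem rk_mul_inv (u φ : κ → F) (h : φ ⬝ᵥ u = 1) {ε ε' : F} (hε : ε * ε' = 1) :
    (1 + (ε - 1) • vecMulVec u φ) * (1 + (ε' - 1) • vecMulVec u φ) = 1 := by
  rw [rk_mul, h]
  have : ε - 1 + (ε' - 1) + (ε - 1) * (ε' - 1) * 1 = 0 := by linear_combination hε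
  rw [this, zero_smul, add_zero]

/-- general product of two rank-one perturbations -/
theorem rk_mul_gen (a α b β : κ → F) :
    (1 + vecMulVec a α) * (1 + vecMulVec b β)
      = 1 + vecMulVec a α + vecMulVec b β + (α ⬝ᵥ b) • vecMulVec a β := by
  rw [Matrix.add_mul, Matrix.mul_add, Matrix.mul_add, Matrix.one_mul, Matrix.one_mul,
    Matrix.mul_one, vecMulVec_mul_vecMulVec]
  ext i j
  simp only [Matrix.add_apply, Matrix.smul_apply, smul_eq_mul, vecMulVec_apply, Pi.smul_apply]
  ring

theorem mul_diag_mul (A B : Matrix κ κ F) (i : κ) (ε : F) :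
    A * diagonal (Function.update (1 : κ → F) i ε) * B
      = A * B + (ε - 1) • vecMulVec (fun k => A k i) (fun k => B i k) := by
  ext a b
  rw [Matrix.mul_apply, Matrix.add_apply, Matrix.mul_apply, Matrix.smul_apply, vecMulVec_apply]
  have : ∀ m, (A * diagonal (Function.update (1 : κ → F) i ε)) a m * B m b =
      A a m * B m b + (ε - 1) * (if m = i then A a m * B m b else 0) := by
    intro m
    rw [Matrix.mul_diagonal]
    by_cases h : m = i
    · subst h; simp; ring
    · simp [h]
  rw [Finset.sum_congr rfl (fun m _ => this m), Finset.sum_add_distrib, ← Finset.mul_sum,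
    Finset.sum_ite_eq' Finset.univ i]
  simp

theorem good_col {Y : Subgroup (GL κ F)} (hYd : HasDiag Y) {A B : Matrix κ κ F}
    (hA : MatIn Y A) (hAB : A * B = 1) (i : κ) :
    Good Y (fun k => A k i) (fun k => B i k) := by
  have hBA : B * A = 1 := mul_eq_one_comm.mp hAB
  have hB : MatIn Y B := hA.of_mul_eq_one hAB
  refine ⟨?_, fun ε hε => ?_⟩
  · have := congrFun (congrFun hBA i) i
    rw [Matrix.mul_apply, Matrix.one_apply_eq] at this
    exact this
  · have h := (hA.mul (hYd i ε hε)).mul hB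
    rw [mul_diag_mul, hAB] at h
    exact h

theorem good_T {Y : Subgroup (GL κ F)} (hYd : HasDiag Y) {u φ : κ → F} (h : Good Y u φ)
    {ε ε' : F} (hε : ε * ε' = 1) (a : κ) :
    Good Y (Pi.single a 1 + ((ε - 1) * φ a) • u) (Pi.single a 1 + ((ε' - 1) * u a) • φ) := by
  have hε0 : ε ≠ 0 := left_ne_zero_of_mul_eq_one hε
  have := good_col hYd (h.2 ε hε0) (rk_mul_inv u φ h.1 hε) a
  convert this using 1
  · funext k
    simp only [Pi.add_apply, Pi.smul_apply, smul_eq_mul, Matrix.add_apply, Matrix.smul_apply,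
      vecMulVec_apply, Matrix.one_apply, Pi.single_apply]
    ring
  · funext k
    simp only [Pi.add_apply, Pi.smul_apply, smul_eq_mul, Matrix.add_apply, Matrix.smul_apply,
      vecMulVec_apply, Matrix.one_apply, Pi.single_apply]
    by_cases hk : k = a
    · subst hk; simp; ring
    · simp [hk, Ne.symm hk]; ring

end Cfsg.Agent.Helper88.MonoB
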