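import Mathlib
import Cfsg.Agent.Helper88.MonoB0

set_option autoImplicit false
set_option linter.unusedSectionVars false

namespace Cfsg.Agent.Helper88.MonoB

open Matrix Cfsg.Agent.Helper13.Mono

variable {κ : Type*} [Fintype κ] [DecidableEq κ] {F : Type*} [Field F]

theorem diag_conj_rk (d d' : κ → F) (hd : ∀ k, d k * d' k = 1) (c : F) (u φ : κ → F) :
    diagonal d * (1 + c • vecMulVec u φ) * diagonal d'
      = 1 + c • vecMulVec (fun k => d k * u k) (fun k => φ k * d' k) := by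
  ext a b
  rw [Matrix.mul_diagonal, Matrix.diagonal_mul]
  simp only [Matrix.add_apply, Matrix.smul_apply, smul_eq_mul, vecMulVec_apply, Matrix.one_apply]
  by_cases hab : a = b
  · subst hab
    simp only [if_true]
    linear_combination hd a
  · simp only [if_neg hab]
    ring

theorem update_mul_inv (j : κ) {μ : F} (hμ : μ ≠ 0) (k : κ) :
    Function.update (1 : κ → F) j μ k * Function.update (1 : κ → F) j μ⁻¹ k = 1 := by
  by_cases h : k = j
  · subst h; simp [hμ]
  · simp [h]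

/-- conjugating a rank-one perturbation in `Y` by `d_j(μ)` -/
theorem matIn_diag_conj {Y : Subgroup (GL κ F)} (hYd : HasDiag Y) (j : κ) {μ : F} (hμ : μ ≠ 0)
    {c : F} {u φ : κ → F} (h : MatIn Y (1 + c • vecMulVec u φ)) :
    MatIn Y (1 + c • vecMulVec (fun k => Function.update (1 : κ → F) j μ k * u k)
      (fun k => φ k * Function.update (1 : κ → F) j μ⁻¹ k)) := by
  have := ((hYd j μ hμ).mul h).mul (hYd j μ⁻¹ (inv_ne_zero hμ))
  rw [diag_conj_rk _ _ (update_mul_inv j hμ)] at this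
  exact this

theorem exists_ne_of_dot {u φ : κ → F} (h : φ ⬝ᵥ u = 1) : ∃ m, φ m ≠ 0 ∧ u m ≠ 0 := by
  by_contra hcon
  push Not at hcon
  have : φ ⬝ᵥ u = 0 := by
    rw [dotProduct]
    refine Finset.sum_eq_zero fun m _ => ?_
    by_cases hm : φ m = 0
    · rw [hm, zero_mul]
    · rw [hcon m hm, mul_zero]
  rw [this] at h
  exact zero_ne_one h

theorem L1 {Y : Subgroup (GL κ F)} (hYd : HasDiag Y) (hF : ∃ μ : F, μ ≠ 0 ∧ μ ≠ 1)
    {u φ : κ → F} (h : Good Y u φ) {j : κ} (hu : u j ≠ 0) (hφ : φ j = 0) : Elem Y := by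
  obtain ⟨μ, hμ0, hμ1⟩ := hF
  have hμi0 : μ⁻¹ ≠ 0 := inv_ne_zero hμ0
  have hμμ : μ * μ⁻¹ = 1 := mul_inv_cancel₀ hμ0
  have hμi1 : μ⁻¹ ≠ 1 := fun h1 => hμ1 (by rw [← hμμ, h1, mul_one])
  -- step 1
  have hR := h.2 μ hμ0
  have hR' := h.2 μ⁻¹ hμi0
  have hDR := matIn_diag_conj hYd j hμ0 hR
  have hφ1 : (fun k => φ k * Function.update (1 : κ → F) j μ⁻¹ k) = φ := by
    funext k
    by_cases hk : k = j
    · subst hk; rw [hφ, zero_mul]
    · simp [hk]
  rw [hφ1] at hDR
  set c : F := (1 - μ⁻¹) * (μ - 1) * u j with hc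
  have hc0 : c ≠ 0 :=
    mul_ne_zero (mul_ne_zero (sub_ne_zero.mpr (Ne.symm hμi1)) (sub_ne_zero.mpr hμ1)) hu
  have hZ : MatIn Y (1 + c • vecMulVec (Pi.single j (1 : F)) φ) := by
    refine matIn_congr (hDR.mul hR') ?_
    rw [← smul_vecMulVec, ← smul_vecMulVec, ← smul_vecMulVec, rk_mul_gen]
    have hdot : φ ⬝ᵥ ((μ⁻¹ - 1) • u) = μ⁻¹ - 1 := by
      rw [dotProduct_smul, h.1, smul_eq_mul, mul_one]
    rw [hdot]
    ext a b
    simp only [Matrix.add_apply, Matrix.smul_apply, smul_eq_mul, vecMulVec_apply, Pi.smul_apply,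
      Pi.single_apply]
    by_cases ha : a = j
    · subst ha
      simp only [Function.update_self, if_true]
      rw [hc]
      linear_combination (μ * u a * φ b) * hμμ
    · simp only [Function.update_of_ne ha, Pi.one_apply, if_neg ha]
      linear_combination (u a * φ b) * hμμ
  -- step 2
  have hφe : φ ⬝ᵥ (Pi.single j (1 : F)) = 0 := by
    rw [dotProduct_single, hφ, zero_mul]
  have hZi : MatIn Y (1 + (-c) • vecMulVec (Pi.single j (1 : F)) φ) := by
    refine hZ.of_mul_eq_one ?_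
    rw [rk_mul, hφe]
    simp
  obtain ⟨m, hφm, -⟩ := exists_ne_of_dot h.1
  have hmj : m ≠ j := fun hmj => hφm (hmj ▸ hφ)
  have hDZ := matIn_diag_conj hYd m hμ0 hZ
  refine ⟨j, m, hmj.symm, c * (μ⁻¹ - 1) * φ m,
    mul_ne_zero (mul_ne_zero hc0 (sub_ne_zero.mpr hμi1)) hφm, matIn_congr (hZi.mul hDZ) ?_⟩
  rw [← smul_vecMulVec, ← smul_vecMulVec, rk_mul_gen]
  have hdot : φ ⬝ᵥ (c • fun k => Function.update (1 : κ → F) m μ k * (Pi.single j (1 : F) : κ → F) k) = 0 := by
    rw [dotProduct_smul]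
    have : (fun k => Function.update (1 : κ → F) m μ k * (Pi.single j (1 : F) : κ → F) k)
        = Pi.single j (1 : F) := by
      funext k
      by_cases hk : k = j
      · subst hk; simp [Function.update_of_ne hmj.symm]
      · simp [Pi.single_apply, hk]
    rw [this, hφe, smul_zero]
  rw [hdot, zero_smul, add_zero, transvection]
  ext a b
  simp only [Matrix.add_apply, Matrix.smul_apply, smul_eq_mul, vecMulVec_apply, Pi.smul_apply,
    Pi.single_apply, Matrix.single_apply]
  by_cases ha : a = j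
  · subst ha
    by_cases hb : b = m
    · subst hb
      simp [Function.update_of_ne hmj.symm]
      ring
    · have : ¬ (m = b) := fun h => hb h.symm
      simp [Function.update_of_ne hb, Function.update_of_ne hmj.symm, this]
  · have : ¬ (j = a) := fun h => ha h.symm
    simp [ha, this]

theorem L1' {Y : Subgroup (GL κ F)} (hYd : HasDiag Y) (hF : ∃ μ : F, μ ≠ 0 ∧ μ ≠ 1)
    {u φ : κ → F} (h : Good Y u φ) {j : κ} (hu : u j = 0) (hφ : φ j ≠ 0) : Elem Y := by
  obtain ⟨μ, hμ0, hμ1⟩ := hF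
  have hμi0 : μ⁻¹ ≠ 0 := inv_ne_zero hμ0
  have hμμ : μ * μ⁻¹ = 1 := mul_inv_cancel₀ hμ0
  have hμi1 : μ⁻¹ ≠ 1 := fun h1 => hμ1 (by rw [← hμμ, h1, mul_one])
  -- step 1
  have hR := h.2 μ hμ0
  have hR' := h.2 μ⁻¹ hμi0
  have hDR := matIn_diag_conj hYd j hμ0 hR
  have hu1 : (fun k => Function.update (1 : κ → F) j μ k * u k) = u := by
    funext k
    by_cases hk : k = j
    · subst hk; rw [hu, mul_zero]
    · simp [hk]
  rw [hu1] at hDR
  set c : F := (1 - μ⁻¹) * (μ⁻¹ - 1) * φ j with hc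
  have hc0 : c ≠ 0 :=
    mul_ne_zero (mul_ne_zero (sub_ne_zero.mpr (Ne.symm hμi1)) (sub_ne_zero.mpr hμi1)) hφ
  have hZ : MatIn Y (1 + c • vecMulVec u (Pi.single j (1 : F))) := by
    refine matIn_congr (hR'.mul hDR) ?_
    rw [← smul_vecMulVec, ← smul_vecMulVec, ← smul_vecMulVec, rk_mul_gen]
    have hdot : φ ⬝ᵥ ((μ - 1) • u) = μ - 1 := by
      rw [dotProduct_smul, h.1, smul_eq_mul, mul_one]
    rw [hdot]
    ext a b
    simp only [Matrix.add_apply, Matrix.smul_apply, smul_eq_mul, vecMulVec_apply, Pi.smul_apply,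
      Pi.single_apply]
    by_cases hb : b = j
    · subst hb
      simp only [Function.update_self, if_true]
      rw [hc]
      linear_combination (μ⁻¹ * u a * φ b) * hμμ
    · simp only [Function.update_of_ne hb, Pi.one_apply, if_neg hb]
      linear_combination (u a * φ b) * hμμ
  -- step 2
  have hφe : (Pi.single j (1 : F) : κ → F) ⬝ᵥ u = 0 := by
    rw [single_dotProduct, hu, mul_zero]
  have hZi : MatIn Y (1 + (-c) • vecMulVec u (Pi.single j (1 : F))) := by
    refine hZ.of_mul_eq_one ?_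
    rw [rk_mul, hφe]
    simp
  obtain ⟨m, -, hum⟩ := exists_ne_of_dot h.1
  have hmj : m ≠ j := fun hmj => hum (hmj ▸ hu)
  have hDZ := matIn_diag_conj hYd m hμ0 hZ
  refine ⟨m, j, hmj, c * (μ - 1) * u m,
    mul_ne_zero (mul_ne_zero hc0 (sub_ne_zero.mpr hμ1)) hum, matIn_congr (hZi.mul hDZ) ?_⟩
  have hej : (fun k => (Pi.single j (1 : F) : κ → F) k * Function.update (1 : κ → F) m μ⁻¹ k)
      = Pi.single j (1 : F) := by
    funext k
    by_cases hk : k = j
    · subst hk; simp [Function.update_of_ne hmj.symm]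
    · simp [hk]
  rw [hej, ← smul_vecMulVec, ← smul_vecMulVec, rk_mul_gen]
  have hdot : (Pi.single j (1 : F) : κ → F) ⬝ᵥ
      (c • fun k => Function.update (1 : κ → F) m μ k * u k) = 0 := by
    rw [single_dotProduct]
    simp [hu]
  rw [hdot, zero_smul, add_zero, transvection]
  ext a b
  simp only [Matrix.add_apply, smul_eq_mul, vecMulVec_apply, Pi.smul_apply,
    Pi.single_apply, Matrix.single_apply]
  by_cases hb : b = j
  · subst hb
    by_cases ha : a = m
    · subst ha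
      simp
      ring
    · have : ¬ (m = a) := fun h => ha h.symm
      simp [Function.update_of_ne ha, this]
  · have : ¬ (j = b) := fun h => hb h.symm
    simp [hb, this]

end Cfsg.Agent.Helper88.MonoB
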