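import Mathlib
import Cfsg.Agent.Helper88.MonoB1

set_option autoImplicit false
set_option linter.unusedSectionVars false

namespace Cfsg.Agent.Helper88.MonoB

open Matrix Cfsg.Agent.Helper13.Mono

variable {κ : Type*} [Fintype κ] [DecidableEq κ] {F : Type*} [Field F]

theorem L2 {Y : Subgroup (GL κ F)} (hYd : HasDiag Y) (hF : ∃ μ : F, μ ≠ 0 ∧ μ ≠ 1)
    {u φ : κ → F} (h : Good Y u φ) {j : κ}
    (h0 : u j * φ j ≠ 0) (h1 : u j * φ j ≠ 1) (h2 : 2 * (u j * φ j) ≠ 1) : Elem Y := by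
  set π : F := u j * φ j with hπ
  have hπ1 : π - 1 ≠ 0 := sub_ne_zero.mpr h1
  have hε : (1 - π⁻¹) * (π * (π - 1)⁻¹) = 1 := by
    field_simp
  have hg := good_T hYd h hε j
  refine L1' hYd hF hg (j := j) ?_ ?_
  · simp only [Pi.add_apply, Pi.single_eq_same, Pi.smul_apply, smul_eq_mul]
    have : φ j * u j = π := by rw [hπ]; ring
    have e : (1 - π⁻¹ - 1) * φ j * u j = -(π⁻¹ * π) := by rw [← this]; ring
    rw [e, inv_mul_cancel₀ h0]; ring
  · simp only [Pi.add_apply, Pi.single_eq_same, Pi.smul_apply, smul_eq_mul]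
    have e : 1 + (π * (π - 1)⁻¹ - 1) * u j * φ j = (2 * π - 1) * (π - 1)⁻¹ := by
      have : u j * φ j = π := hπ.symm
      rw [mul_assoc, this]
      field_simp
      ring
    rw [e]
    exact mul_ne_zero (sub_ne_zero.mpr h2) (inv_ne_zero hπ1)

theorem L3 {Y : Subgroup (GL κ F)} (hYd : HasDiag Y) (hF : ∃ μ : F, μ ≠ 0 ∧ μ ≠ 1)
    {u φ : κ → F} (h : Good Y u φ) {a b : κ} (hab : a ≠ b) {ε ε' : F} (hε : ε * ε' = 1)
    (P : F) (hP : P = (ε - 1) * (ε' - 1) * (u a * φ a) * (u b * φ b))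
    (h0 : P ≠ 0) (h1 : P ≠ 1) (h2 : 2 * P ≠ 1) : Elem Y := by
  have hg := good_T hYd h hε a
  have e : (Pi.single a 1 + ((ε - 1) * φ a) • u : κ → F) b *
      (Pi.single a 1 + ((ε' - 1) * u a) • φ : κ → F) b = P := by
    simp only [Pi.add_apply, Pi.single_apply, if_neg hab.symm, Pi.smul_apply, smul_eq_mul]
    rw [hP]; ring
  refine L2 hYd hF hg (j := b) ?_ ?_ ?_
  · rw [e]; exact h0
  · rw [e]; exact h1
  · rw [e]; exact h2

end Cfsg.Agent.Helper88.MonoB
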