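import Mathlib
import Cfsg.Agent.Helper88.MonoB2

set_option autoImplicit false
set_option linter.unusedSectionVars false

namespace Cfsg.Agent.Helper88.MonoB

open Matrix Cfsg.Agent.Helper13.Mono Polynomial

variable {κ : Type*} [Fintype κ] [DecidableEq κ] {F : Type*} [Field F]

theorem exists_col_two {A B : Matrix κ κ F} (hAB : A * B = 1) (hnm : ¬ IsMonoMat A) :
    ∃ i a b, a ≠ b ∧ A a i ≠ 0 ∧ A b i ≠ 0 := by
  by_contra hcon
  push Not at hcon
  have hBA : B * A = 1 := mul_eq_one_comm.mp hAB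
  have hcol : ∀ i, ∃ a, A a i ≠ 0 := by
    intro i
    by_contra h
    push Not at h
    have := congrFun (congrFun hBA i) i
    rw [Matrix.mul_apply, Matrix.one_apply_eq] at this
    rw [Finset.sum_eq_zero (fun k _ => by rw [h k, mul_zero])] at this
    exact zero_ne_one this
  choose f hf using hcol
  have hsurj : Function.Surjective f := by
    intro a
    by_contra h
    push Not at h
    have hrow : ∀ i, A a i = 0 := by
      intro i
      exact hcon i (f i) a (h i) (hf i)
    have := congrFun (congrFun hAB a) a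
    rw [Matrix.mul_apply, Matrix.one_apply_eq] at this
    rw [Finset.sum_eq_zero (fun k _ => by rw [hrow k, zero_mul])] at this
    exact zero_ne_one this
  have hbij : Function.Bijective f := ⟨Finite.injective_iff_surjective.mpr hsurj, hsurj⟩
  refine hnm ⟨Equiv.ofBijective f hbij, fun a i hai => ?_⟩
  by_contra hne
  exact hai (hcon i (f i) a (fun h => hne (by rw [Equiv.ofBijective_apply]; exact h.symm)) (hf i))

/-- the quadratic whose roots are the `ε` with `κ(ε) c = 1` -/
noncomputable def quad (c : F) : F[X] := C c * X ^ 2 + C (1 - 2 * c) * X + C c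

theorem quad_eval (c x : F) : (quad c).eval x = c * x ^ 2 + (1 - 2 * c) * x + c := by
  simp [quad]

theorem quad_ne_zero (c : F) : quad c ≠ 0 := by
  intro h
  have := quad_eval c 1
  rw [h, eval_zero] at this
  have : (0 : F) = 1 := by rw [this]; ring
  exact zero_ne_one this

theorem natDegree_quad_le (c : F) : (quad c).natDegree ≤ 2 := by
  unfold quad
  compute_degree

theorem exists_eps [Fintype F] (hq : 7 ≤ Fintype.card F) (c₁ c₂ : F) :
    ∃ ε ε' : F, ε * ε' = 1 ∧ ε ≠ 1 ∧ (ε - 1) * (ε' - 1) * c₁ ≠ 1 ∧ (ε - 1) * (ε' - 1) * c₂ ≠ 1 := by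
  set p : F[X] := X * (X - C 1) * quad c₁ * quad c₂ with hp
  have hp0 : p ≠ 0 :=
    mul_ne_zero (mul_ne_zero (mul_ne_zero X_ne_zero (X_sub_C_ne_zero 1)) (quad_ne_zero c₁))
      (quad_ne_zero c₂)
  have hdeg : p.natDegree ≤ 6 := by
    rw [hp]
    refine (natDegree_mul_le).trans ?_
    have h1 : (X * (X - C 1) * quad c₁ : F[X]).natDegree ≤ 4 := by
      refine (natDegree_mul_le).trans ?_
      have h2 : (X * (X - C 1) : F[X]).natDegree ≤ 2 := by compute_degree
      have := natDegree_quad_le c₁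
      omega
    have := natDegree_quad_le c₂
    omega
  have hex : ∃ x : F, p.eval x ≠ 0 := by
    by_contra hcon
    push Not at hcon
    exact hp0 (eq_zero_of_natDegree_lt_card_of_eval_eq_zero p (f := id) Function.injective_id hcon
      (by omega))
  obtain ⟨x, hx⟩ := hex
  rw [hp] at hx
  simp only [eval_mul, eval_X, eval_sub, eval_C, quad_eval] at hx
  have hx0 : x ≠ 0 := fun h => hx (by rw [h]; ring)
  have hx1 : x ≠ 1 := fun h => hx (by rw [h]; ring)
  have hq1 : c₁ * x ^ 2 + (1 - 2 * c₁) * x + c₁ ≠ 0 := fun h => hx (by rw [h]; ring)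
  have hq2 : c₂ * x ^ 2 + (1 - 2 * c₂) * x + c₂ ≠ 0 := fun h => hx (by rw [h]; ring)
  have hxx : x * x⁻¹ = 1 := mul_inv_cancel₀ hx0
  refine ⟨x, x⁻¹, hxx, hx1, fun h => hq1 ?_, fun h => hq2 ?_⟩
  · linear_combination (-x) * h + (c₁ * (x - 1)) * hxx
  · linear_combination (-x) * h + (c₂ * (x - 1)) * hxx

end Cfsg.Agent.Helper88.MonoB
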