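import Mathlib
import Cfsg.Agent.Helper88.MonoB3

set_option autoImplicit false
set_option linter.unusedSectionVars false

namespace Cfsg.Agent.Helper88.MonoB

open Matrix Cfsg.Agent.Helper13.Mono

variable {κ : Type*} [Fintype κ] [DecidableEq κ] {F : Type*} [Field F]

theorem swap_conj_rk (b m : κ) (c : F) (u φ : κ → F) :
    Equiv.Perm.permMatrix F (Equiv.swap b m) * (1 + c • vecMulVec u φ)
        * Equiv.Perm.permMatrix F (Equiv.swap b m)
      = 1 + c • vecMulVec (fun k => u (Equiv.swap b m k)) (fun k => φ (Equiv.swap b m k)) := by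
  rw [PEquiv.toMatrix_toPEquiv_mul, PEquiv.mul_toMatrix_toPEquiv]
  ext i j
  simp only [Matrix.submatrix_apply, id, Equiv.symm_swap, Matrix.add_apply, Matrix.smul_apply,
    vecMulVec_apply, Matrix.one_apply]
  by_cases hij : i = j
  · subst hij; simp
  · have : Equiv.swap b m i ≠ Equiv.swap b m j := fun h => hij ((Equiv.swap b m).injective h)
    simp [hij, this]

theorem caseII {Y : Subgroup (GL κ F)} (hYd : HasDiag Y)
    (hYs : ∀ b m : κ, b ≠ m → MatIn Y (Equiv.Perm.permMatrix F (Equiv.swap b m)))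
    (h5 : (5 : F) = 0) (hF : ∃ μ : F, μ ≠ 0 ∧ μ ≠ 1) {u φ : κ → F} (h : Good Y u φ)
    {a b m : κ} (hab : a ≠ b) (hma : m ≠ a) (hmb : m ≠ b) (hπa : u a * φ a = 3)
    (hsupp : ∀ c, c ≠ a → c ≠ b → u c = 0 ∧ φ c = 0) : Elem Y := by
  have hσa : Equiv.swap b m a = a := Equiv.swap_apply_of_ne_of_ne hab hma.symm
  have hσb : Equiv.swap b m b = m := Equiv.swap_apply_left b m
  have hum : u m = 0 := (hsupp m hma hmb).1
  have hφm : φ m = 0 := (hsupp m hma hmb).2
  have h30 : (3 : F) ≠ 0 := fun h3 => (one_ne_zero : (1 : F) ≠ 0) (by linear_combination 2 * h3 - h5)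
  have h20 : (2 : F) ≠ 0 := fun h2 => (one_ne_zero : (1 : F) ≠ 0) (by linear_combination h5 - 2 * h2)
  have h32 : (3 : F) * 2 = 1 := by linear_combination h5
  have hg : MatIn Y (1 + (3 - 1 : F) • vecMulVec u φ) := h.2 3 h30
  have hgi : MatIn Y (1 + (2 - 1 : F) • vecMulVec u φ) := h.2 2 h20
  have hggi : (1 + (3 - 1 : F) • vecMulVec u φ) * (1 + (2 - 1 : F) • vecMulVec u φ) = 1 :=
    rk_mul_inv u φ h.1 h32
  have hP := hYs b m hmb.symm
  have hg' := matIn_congr ((hP.mul hg).mul hP) (swap_conj_rk b m _ u φ)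
  have hgi' := matIn_congr ((hP.mul hgi).mul hP) (swap_conj_rk b m _ u φ)
  set u' : κ → F := fun k => u (Equiv.swap b m k) with hu'
  set φ' : κ → F := fun k => φ (Equiv.swap b m k) with hφ'
  have hdot' : φ' ⬝ᵥ u' = 1 := by
    rw [← h.1, dotProduct, dotProduct]
    exact Equiv.sum_comp (Equiv.swap b m) (fun k => φ k * u k)
  have hg'gi' : (1 + (3 - 1 : F) • vecMulVec u' φ') * (1 + (2 - 1 : F) • vecMulVec u' φ') = 1 :=
    rk_mul_inv u' φ' hdot' h32
  have hy3 : ((1 + (3 - 1 : F) • vecMulVec u φ) * (1 + (3 - 1 : F) • vecMulVec u' φ')) *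
      ((1 + (2 - 1 : F) • vecMulVec u' φ') * (1 + (2 - 1 : F) • vecMulVec u φ)) = 1 := by
    rw [Matrix.mul_assoc, ← Matrix.mul_assoc (1 + (3 - 1 : F) • vecMulVec u' φ'), hg'gi',
      Matrix.one_mul, hggi]
  have hgood := good_col hYd (hg.mul hg') hy3 a
  have hd1 : φ ⬝ᵥ u' = 3 := by
    rw [dotProduct, Finset.sum_eq_single a]
    · rw [hu']; simp only; rw [hσa, mul_comm]; exact hπa
    · intro k _ hka
      by_cases hkb : k = b
      · subst hkb; rw [hu']; simp only; rw [hσb, hum, mul_zero]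
      · rw [(hsupp k hka hkb).2, zero_mul]
    · intro ha; exact absurd (Finset.mem_univ a) ha
  have hd2 : φ' ⬝ᵥ u = 3 := by
    rw [dotProduct, Finset.sum_eq_single a]
    · rw [hφ']; simp only; rw [hσa, mul_comm]; exact hπa
    · intro k _ hka
      by_cases hkb : k = b
      · subst hkb; rw [hφ']; simp only; rw [hσb, hφm, zero_mul]
      · rw [(hsupp k hka hkb).1, mul_zero]
    · intro ha; exact absurd (Finset.mem_univ a) ha
  have hu'a : u' a = u a := by rw [hu']; simp only; rw [hσa]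
  have hφ'a : φ' a = φ a := by rw [hφ']; simp only; rw [hσa]
  have e1 : ((1 + (3 - 1 : F) • vecMulVec u φ) * (1 + (3 - 1 : F) • vecMulVec u' φ')) a a = 4 := by
    rw [← smul_vecMulVec, ← smul_vecMulVec, rk_mul_gen, dotProduct_smul, hd1]
    simp only [Matrix.add_apply, Matrix.smul_apply, smul_eq_mul, vecMulVec_apply, Pi.smul_apply,
      Matrix.one_apply_eq, hu'a, hφ'a]
    linear_combination (16 : F) * hπa + 9 * h5
  have e2 : ((1 + (2 - 1 : F) • vecMulVec u' φ') * (1 + (2 - 1 : F) • vecMulVec u φ)) a a = 1 := by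
    rw [← smul_vecMulVec, ← smul_vecMulVec, rk_mul_gen, dotProduct_smul, hd2]
    simp only [Matrix.add_apply, Matrix.smul_apply, smul_eq_mul, vecMulVec_apply, Pi.smul_apply,
      Matrix.one_apply_eq, hu'a, hφ'a]
    linear_combination (5 : F) * hπa + 3 * h5
  refine L2 hYd hF hgood (j := a) ?_ ?_ ?_
  · rw [e1, e2]
    intro h4; exact (one_ne_zero : (1 : F) ≠ 0) (by linear_combination h5 - h4)
  · rw [e1, e2]
    intro h4; exact (one_ne_zero : (1 : F) ≠ 0) (by linear_combination 2 * h4 - h5)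
  · rw [e1, e2]
    intro h4; exact (one_ne_zero : (1 : F) ≠ 0) (by linear_combination 3 * h4 - 4 * h5)

theorem exists_third (hκ : 3 ≤ Fintype.card κ) (a b : κ) : ∃ m : κ, m ≠ a ∧ m ≠ b := by
  by_contra hcon
  push Not at hcon
  have : (Finset.univ : Finset κ) ⊆ {a, b} := by
    intro m _
    by_cases hm : m = a
    · simp [hm]
    · simp [hcon m hm]
  have h2 := Finset.card_le_card this
  rw [Finset.card_univ] at h2
  have := Finset.card_le_two (a := a) (b := b)
  omega

theorem exists_ne01 [Fintype F] (hq : 3 ≤ Fintype.card F) : ∃ μ : F, μ ≠ 0 ∧ μ ≠ 1 := by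
  classical
  exact exists_third hq 0 1

theorem main5 {Y : Subgroup (GL κ F)} (hYd : HasDiag Y)
    (hYs : ∀ b m : κ, b ≠ m → MatIn Y (Equiv.Perm.permMatrix F (Equiv.swap b m)))
    (h5 : (5 : F) = 0) (hκ : 3 ≤ Fintype.card κ) (hF : ∃ μ : F, μ ≠ 0 ∧ μ ≠ 1)
    {u φ : κ → F} (h : Good Y u φ) {a b : κ} (hab : a ≠ b)
    (hπa : u a * φ a = 1 ∨ u a * φ a = 3) (hπb : u b * φ b = 1 ∨ u b * φ b = 3) : Elem Y := by
  have h20 : (2 : F) ≠ 0 := fun h2 => (one_ne_zero : (1 : F) ≠ 0) (by linear_combination h5 - 2 * h2)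
  have h21 : (2 : F) ≠ 1 := fun h2 => (one_ne_zero : (1 : F) ≠ 0) (by linear_combination h2)
  have h221 : (2 : F) * 2 ≠ 1 := fun h2 =>
    (one_ne_zero : (1 : F) ≠ 0) (by linear_combination 2 * h2 - h5)
  have h23 : (2 : F) * 3 = 1 := by linear_combination h5
  have h44 : (4 : F) * 4 = 1 := by linear_combination 3 * h5
  rcases hπa with ha | ha <;> rcases hπb with hb | hb
  · exact L3 hYd hF h hab h23 2 (by rw [ha, hb]; ring) h20 h21 h221
  · exact L3 hYd hF h hab h44 2 (by rw [ha, hb]; linear_combination (-5 : F) * h5) h20 h21 h221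
  · exact L3 hYd hF h hab h44 2 (by rw [ha, hb]; linear_combination (-5 : F) * h5) h20 h21 h221
  · by_cases hex : ∃ c, c ≠ a ∧ c ≠ b ∧ (u c ≠ 0 ∨ φ c ≠ 0)
    · obtain ⟨c, hca, hcb, hc⟩ := hex
      by_cases huc : u c = 0
      · exact L1' hYd hF h huc (hc.resolve_left (fun h' => h' huc))
      by_cases hφc : φ c = 0
      · exact L1 hYd hF h huc hφc
      by_cases hc1 : u c * φ c = 1
      · exact L3 hYd hF h hca.symm h44 2 (by rw [ha, hc1]; linear_combination (-5 : F) * h5)
          h20 h21 h221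
      by_cases hc3 : u c * φ c = 3
      · have hg := good_T hYd h h44 a
        refine L3 hYd hF hg hcb.symm h23 2 ?_ h20 h21 h221
        simp only [Pi.add_apply, Pi.single_apply, if_neg hab.symm, if_neg hca, Pi.smul_apply,
          smul_eq_mul]
        have e1 : (0 + (4 - 1) * φ a * u b) * (0 + (4 - 1) * u a * φ b) = 1 := by
          have : (0 + (4 - 1) * φ a * u b) * (0 + (4 - 1) * u a * φ b)
              = 9 * (u a * φ a) * (u b * φ b) := by ring
          rw [this, ha, hb]; linear_combination 16 * h5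
        have e2 : (0 + (4 - 1) * φ a * u c) * (0 + (4 - 1) * u a * φ c) = 1 := by
          have : (0 + (4 - 1) * φ a * u c) * (0 + (4 - 1) * u a * φ c)
              = 9 * (u a * φ a) * (u c * φ c) := by ring
          rw [this, ha, hc3]; linear_combination 16 * h5
        rw [e1, e2]; ring
      · refine L2 hYd hF h (j := c) (mul_ne_zero huc hφc) hc1 (fun h2 => hc3 ?_)
        linear_combination 3 * h2 - (u c * φ c) * h5
    · push Not at hex
      obtain ⟨m, hma, hmb⟩ := exists_third hκ a b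
      exact caseII hYd hYs h5 hF h hab hma hmb ha (fun c hca hcb => hex c hca hcb)

end Cfsg.Agent.Helper88.MonoB
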