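import Mathlib
import Cfsg.Agent.Helper88.MonoB4

set_option autoImplicit false
set_option linter.unusedSectionVars false

namespace Cfsg.Agent.Helper88.MonoB

open Matrix Cfsg.Agent.Helper13.Mono

variable {κ : Type*} [Fintype κ] [DecidableEq κ] {F : Type*} [Field F]

theorem card_ne_six [Fintype F] : Fintype.card F ≠ 6 := by
  intro h6
  have hpp : IsPrimePow (Fintype.card F) := Fintype.isPrimePow_card_of_field
  rw [h6, isPrimePow_iff_unique_prime_dvd] at hpp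
  obtain ⟨p, -, hp⟩ := hpp
  have h2 := hp 2 ⟨Nat.prime_two, by norm_num⟩
  have h3 := hp 3 ⟨Nat.prime_three, by norm_num⟩
  omega

theorem mainGood [Fintype F] (hq : 5 ≤ Fintype.card F) (hκ : 3 ≤ Fintype.card κ)
    {Y : Subgroup (GL κ F)} (hYd : HasDiag Y)
    (hYs : ∀ b m : κ, b ≠ m → MatIn Y (Equiv.Perm.permMatrix F (Equiv.swap b m)))
    {u φ : κ → F} (h : Good Y u φ) {a b : κ} (hab : a ≠ b) (hua : u a ≠ 0) (hub : u b ≠ 0) :
    Elem Y := by
  have hF : ∃ μ : F, μ ≠ 0 ∧ μ ≠ 1 := exists_ne01 (by omega)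
  by_cases hφa : φ a = 0
  · exact L1 hYd hF h hua hφa
  by_cases hφb : φ b = 0
  · exact L1 hYd hF h hub hφb
  have hπa0 : u a * φ a ≠ 0 := mul_ne_zero hua hφa
  have hπb0 : u b * φ b ≠ 0 := mul_ne_zero hub hφb
  by_cases hA : u a * φ a ≠ 1 ∧ 2 * (u a * φ a) ≠ 1
  · exact L2 hYd hF h hπa0 hA.1 hA.2
  by_cases hB : u b * φ b ≠ 1 ∧ 2 * (u b * φ b) ≠ 1
  · exact L2 hYd hF h hπb0 hB.1 hB.2
  by_cases hc5 : Fintype.card F = 5
  · have h5 : (5 : F) = 0 := by
      have := Nat.cast_card_eq_zero F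
      rw [hc5] at this
      exact_mod_cast this
    have conv : ∀ x : F, ¬ (x ≠ 1 ∧ 2 * x ≠ 1) → x = 1 ∨ x = 3 := by
      intro x hx
      by_cases h1 : x = 1
      · exact Or.inl h1
      · right
        have h2 : 2 * x = 1 := by
          by_contra h2
          exact hx ⟨h1, h2⟩
        linear_combination 3 * h2 - x * h5
    exact main5 hYd hYs h5 hκ hF h hab (conv _ hA) (conv _ hB)
  · have hq7 : 7 ≤ Fintype.card F := by
      have := card_ne_six (F := F)
      omega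
    obtain ⟨ε, ε', hεε, hε1, hP1, hP2⟩ :=
      exists_eps hq7 ((u a * φ a) * (u b * φ b)) (2 * ((u a * φ a) * (u b * φ b)))
    have hε'1 : ε' ≠ 1 := fun h1 => hε1 (by rw [← hεε, h1, mul_one])
    refine L3 hYd hF h hab hεε ((ε - 1) * (ε' - 1) * (u a * φ a) * (u b * φ b)) rfl ?_ ?_ ?_
    · exact mul_ne_zero (mul_ne_zero (mul_ne_zero (sub_ne_zero.mpr hε1) (sub_ne_zero.mpr hε'1))
        hπa0) hπb0
    · intro hP; exact hP1 (by linear_combination hP)
    · intro hP; exact hP2 (by linear_combination hP)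

theorem thmB {κ : Type*} [Fintype κ] [DecidableEq κ] {F : Type*} [Field F] [Fintype F]
    (hq : 5 ≤ Fintype.card F) (hκ : 3 ≤ Fintype.card κ) (Y : Subgroup (GL κ F))
    (hYd : ∀ (j : κ) (μ : F), μ ≠ 0 → MatIn Y (diagonal (Function.update (1 : κ → F) j μ)))
    (hYs : ∀ b m : κ, b ≠ m → MatIn Y (Equiv.Perm.permMatrix F (Equiv.swap b m)))
    (y : GL κ F) (hy : y ∈ Y) (hnm : ¬ IsMonoMat (y : Matrix κ κ F)) :
    ∃ i j : κ, i ≠ j ∧ ∃ c : F, c ≠ 0 ∧ MatIn Y (transvection i j c) := by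
  have hAB : (y : Matrix κ κ F) * ((y⁻¹ : GL κ F) : Matrix κ κ F) = 1 := by
    rw [← Units.val_mul, mul_inv_cancel, Units.val_one]
  obtain ⟨i, a, b, hab, hua, hub⟩ := exists_col_two hAB hnm
  have hgood := good_col (Y := Y) hYd (matIn_of_mem hy) hAB i
  exact mainGood hq hκ hYd hYs hgood hab hua hub

end Cfsg.Agent.Helper88.MonoB
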