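import Mathlib

set_option autoImplicit false

/-!
# Pieces (A1)-(A3) of helper16's S0997 (Brauer-Tuan): pure arithmetic.
-/

namespace Cfsg.Agent.Helper88.BT97

/-- (A1) a degree `≡ ±1 (mod p)` below `p - 1` is `1` -/
theorem deg_eq_one_of_small (p d : ℕ) (ε : ℤ) (hp : p.Prime) (hε : ε = 1 ∨ ε = -1)
    (hmod : (d : ℤ) ≡ ε [ZMOD p]) (hd : 1 ≤ d) (hlt : d < p - 1) : d = 1 := by
  have hp2 := hp.two_le
  have hdvd : (p : ℤ) ∣ ε - d := (Int.modEq_iff_dvd).mp hmod
  rcases hε with rfl | rfl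
  · have h0 : (1 : ℤ) - d = 0 := by
      apply Int.eq_zero_of_abs_lt_dvd hdvd
      rw [abs_lt]
      constructor <;> omega
    omega
  · exfalso
    have h0 : (-1 : ℤ) - d = 0 := by
      apply Int.eq_zero_of_abs_lt_dvd hdvd
      rw [abs_lt]
      constructor <;> omega
    omega

/-- (A2) the degree of an exceptional character below `p - 1` -/
theorem deg_Y_cases (p e f : ℕ) (δ : ℤ) (hp : p.Prime) (hδ : δ = 1 ∨ δ = -1) (he1 : 1 ≤ e)
    (hed : e ∣ p - 1) (hmod : (f : ℤ) ≡ δ * (e : ℤ) [ZMOD p]) (hf2 : 2 ≤ f) (hf : f < p - 1) :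
    2 * e ≤ p - 1 ∧ ((δ = 1 ∧ f = e) ∨ (δ = -1 ∧ f + e = p)) := by
  have hp2 := hp.two_le
  have hele : e ≤ p - 1 := Nat.le_of_dvd (by omega) hed
  have hdvd : (p : ℤ) ∣ δ * e - f := (Int.modEq_iff_dvd).mp hmod
  -- a proper divisor is at most half
  have hhalf : e < p - 1 → 2 * e ≤ p - 1 := by
    intro hlt
    obtain ⟨k, hk⟩ := hed
    have hk2 : 2 ≤ k := by
      by_contra hcon
      have : k = 0 ∨ k = 1 := by omega
      rcases this with rfl | rfl
      · omega
      · omega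
    calc 2 * e = e * 2 := by ring
      _ ≤ e * k := Nat.mul_le_mul_left _ hk2
      _ = p - 1 := hk.symm
  rcases hδ with rfl | rfl
  · have h0 : (1 : ℤ) * e - f = 0 := by
      apply Int.eq_zero_of_abs_lt_dvd hdvd
      rw [abs_lt]
      constructor <;> omega
    have hfe : f = e := by omega
    refine ⟨hhalf (by omega), Or.inl ⟨rfl, hfe⟩⟩
  · have hdvd' : (p : ℤ) ∣ (e : ℤ) + f := by
      have : (e : ℤ) + f = -((-1 : ℤ) * e - f) := by ring
      rw [this]
      exact (dvd_neg).mpr hdvd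
    obtain ⟨k, hk⟩ := hdvd'
    have hk1 : k = 1 := by
      have h1 : 0 < k := by
        by_contra hcon
        have : k ≤ 0 := by omega
        have : (p : ℤ) * k ≤ 0 := mul_nonpos_of_nonneg_of_nonpos (by positivity) this
        omega
      have h2 : k < 2 := by
        by_contra hcon
        have : 2 ≤ k := by omega
        have : (p : ℤ) * 2 ≤ p * k := mul_le_mul_of_nonneg_left this (by positivity)
        omega
      omega
    rw [hk1, mul_one] at hk
    have hsum : f + e = p := by omega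
    refine ⟨hhalf (by omega), Or.inr ⟨rfl, hsum⟩⟩

/-- (A3) `g₀ = f` -/
theorem g0_eq (p f g₀ : ℕ) (hfg : f ∣ g₀) (hg1 : 1 ≤ g₀) (hg : g₀ < p - 1)
    (h2 : p ≤ 2 * f + 1) : g₀ = f := by
  obtain ⟨k, rfl⟩ := hfg
  have hk : k = 1 := by
    by_contra hcon
    have : k = 0 ∨ 2 ≤ k := by omega
    rcases this with rfl | hk2
    · omega
    · have : f * 2 ≤ f * k := Nat.mul_le_mul_left _ hk2
      omega
  rw [hk, mul_one]

end Cfsg.Agent.Helper88.BT97
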