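import Mathlib

set_option autoImplicit false

/-!
# Piece (A4) of helper16's S0997 (Brauer-Tuan): pure arithmetic.
-/

namespace Cfsg.Agent.Helper88.BT97

/-- (A4) case `δ = +1`: `q = 2` and `p + 1` is a power of two -/
theorem arith_I (p e q b : ℕ) (hp : p.Prime) (hq : q.Prime) (hpe : p = 2 * e + 1) (he : 2 ≤ e)
    (hmod : (e : ℤ) ≡ 1 [ZMOD q]) (hdvd : p + 1 ∣ e * q ^ b) :
    q = 2 ∧ ∃ c : ℕ, 3 ≤ c ∧ p + 1 = 2 ^ c := by
  have hp1 : p + 1 = 2 * (e + 1) := by omega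
  have h1 : e + 1 ∣ e * q ^ b := Dvd.dvd.trans ⟨2, by omega⟩ hdvd
  have hcop : Nat.Coprime (e + 1) e := by simp
  have h2 : e + 1 ∣ q ^ b := hcop.dvd_of_dvd_mul_left h1
  obtain ⟨j, _, hj⟩ := (Nat.dvd_prime_pow hq).mp h2
  have hj1 : 1 ≤ j := by
    by_contra hcon
    have : j = 0 := by omega
    rw [this, pow_zero] at hj
    omega
  -- `q ∣ e + 1` and `q ∣ e - 1`
  have hq1 : (q : ℤ) ∣ (e : ℤ) + 1 := by
    have : q ∣ e + 1 := by rw [hj]; exact dvd_pow_self q (by omega)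
    exact_mod_cast this
  have hq2 : (q : ℤ) ∣ 1 - (e : ℤ) := (Int.modEq_iff_dvd).mp hmod
  have hq3 : (q : ℤ) ∣ 2 := by
    have := dvd_add hq1 hq2
    have h : (e : ℤ) + 1 + (1 - e) = 2 := by ring
    rwa [h] at this
  have hq4 : q ∣ 2 := by exact_mod_cast hq3
  have hq5 : q = 2 := (Nat.prime_dvd_prime_iff_eq hq Nat.prime_two).mp hq4
  refine ⟨hq5, j + 1, ?_, ?_⟩
  · have hj2 : 2 ≤ j := by
      by_contra hcon
      have : j = 1 := by omega
      rw [this, hq5, pow_one] at hj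
      omega
    omega
  · rw [hp1, hj, hq5, pow_succ]; ring

end Cfsg.Agent.Helper88.BT97
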