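import Mathlib

set_option autoImplicit false

/-!
# Piece (A5) of helper16's S0997 (Brauer-Tuan): pure arithmetic.
-/

namespace Cfsg.Agent.Helper88.BT97

/-- (A5) case `δ = -1`: `q = 2` and `e` is a power of two -/
theorem arith_minus_q (p e f q b s : ℕ) (hp : p.Prime) (hq : q.Prime) (hef : e + f = p)
    (hed : e ∣ p - 1) (he2 : 2 ≤ e) (hes : e * s = q ^ b * f)
    (hmod : -(f : ℤ) ≡ 1 [ZMOD q]) : q = 2 ∧ ∃ a : ℕ, 1 ≤ a ∧ e = 2 ^ a := by
  have hp2 := hp.two_le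
  -- `e` and `f` are coprime
  have hcop : Nat.Coprime e f := by
    have hg1 : Nat.gcd e f ∣ p := by
      rw [← hef]
      exact dvd_add (Nat.gcd_dvd_left e f) (Nat.gcd_dvd_right e f)
    have hg2 : Nat.gcd e f ∣ p - 1 := (Nat.gcd_dvd_left e f).trans hed
    have hg3 : Nat.gcd e f ∣ 1 := by
      have h4 : Nat.gcd e f ∣ p - (p - 1) := Nat.dvd_sub hg1 hg2
      rwa [show p - (p - 1) = 1 by omega] at h4
    exact Nat.dvd_one.mp hg3
  have h1 : e ∣ q ^ b * f := ⟨s, hes.symm⟩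
  have h2 : e ∣ q ^ b := hcop.dvd_of_dvd_mul_right h1
  obtain ⟨a, _, ha⟩ := (Nat.dvd_prime_pow hq).mp h2
  have ha1 : 1 ≤ a := by
    by_contra hcon
    have : a = 0 := by omega
    rw [this, pow_zero] at ha
    omega
  -- `q ∣ e ∣ p - 1`
  have hqe : q ∣ e := by rw [ha]; exact dvd_pow_self q (by omega)
  have hqp : q ∣ p - 1 := hqe.trans hed
  -- `f = p - e ≡ 1 (mod q)`
  have hqf : (q : ℤ) ∣ (f : ℤ) - 1 := by
    have e1 : (q : ℤ) ∣ ((p - 1 : ℕ) : ℤ) := by exact_mod_cast hqp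
    have e2 : (q : ℤ) ∣ (e : ℤ) := by exact_mod_cast hqe
    have e3 : ((p - 1 : ℕ) : ℤ) = (p : ℤ) - 1 := by
      rw [Nat.cast_sub (by omega)]; simp
    have e4 : (f : ℤ) - 1 = ((p - 1 : ℕ) : ℤ) - e := by
      rw [e3]
      have : (p : ℤ) = e + f := by exact_mod_cast hef.symm
      rw [this]; ring
    rw [e4]
    exact dvd_sub e1 e2
  have hqf2 : (q : ℤ) ∣ 1 - -(f : ℤ) := (Int.modEq_iff_dvd).mp hmod
  have hq3 : (q : ℤ) ∣ 2 := by
    have := dvd_sub hqf2 hqf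
    have h : (1 - -(f : ℤ)) - ((f : ℤ) - 1) = 2 := by ring
    rwa [h] at this
  have hq4 : q ∣ 2 := by exact_mod_cast hq3
  have hq5 : q = 2 := (Nat.prime_dvd_prime_iff_eq hq Nat.prime_two).mp hq4
  exact ⟨hq5, a, ha1, by rw [ha, hq5]⟩

end Cfsg.Agent.Helper88.BT97
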