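import Cfsg.Agent.Helper87.FusionRS
set_option autoImplicit false

/-!
The fusion system on a subgroup `T` generated by a group of automorphisms of `T` containing the inner automorphisms:
its maps are the restrictions of those automorphisms. It is saturated when every element of the group has a power
prime to `p` that is inner.
-/

namespace Cfsg.Agent.Helper88.FS

open Cfsg Cfsg.FusionSystem Cfsg.Agent.Helper87

variable {Ω : Type*} [Group Ω] {S T : Subgroup Ω}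

/-- The maps are the restrictions of the automorphisms in `A`. -/
def autSystem (T : Subgroup Ω) (A : Subgroup (MulAut T)) (hA : Inn T ≤ A) : FusionSystem T where
  Hom P := {φ | ∃ hP : P ≤ T, ∃ α ∈ A, ∀ x : P, φ x = ((α ⟨x, hP x.2⟩ : T) : Ω)}
  le_of_mem := by
    rintro P φ ⟨hP, α, -, h⟩
    exact ⟨hP, fun x => by rw [h x]; exact (α _).2⟩
  injective_of_mem := by
    rintro P φ ⟨hP, α, -, h⟩ a b hab
    rw [h a, h b] at hab
    have := α.injective (Subtype.ext hab)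
    exact Subtype.ext (congrArg (fun z : T => (z : Ω)) this)
  conj_mem := by
    intro P g hP hg
    exact ⟨hP, MulAut.conj ⟨g, hg⟩, hA ⟨⟨g, hg⟩, rfl⟩, fun x => rfl⟩
  comp_mem := by
    rintro P Q φ ψ ⟨hP, α, hα, h1⟩ ⟨hQ, β, hβ, h2⟩ h
    refine ⟨hP, β * α, A.mul_mem hβ hα, fun x => ?_⟩
    show ψ ⟨φ x, h x⟩ = _
    rw [h2, MulAut.mul_apply]
    congr 2
    exact Subtype.ext (h1 x)
  inv_mem := by
    rintro P φ ⟨hP, α, hα, h⟩
    have hle : φ.range ≤ T := by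
      rintro y ⟨x, rfl⟩
      rw [h x]
      exact (α _).2
    refine ⟨(T.subtype.comp (α⁻¹ : MulAut T).toMonoidHom).comp (Subgroup.inclusion hle),
      ⟨hle, α⁻¹, A.inv_mem hα, fun x => rfl⟩, fun x => ?_⟩
    show ((α⁻¹ ⟨φ x, _⟩ : T) : Ω) = x
    have e : (⟨φ x, hle ⟨x, rfl⟩⟩ : T) = α ⟨x, hP x.2⟩ := Subtype.ext (h x)
    rw [e, MulAut.inv_apply_self]

theorem mem_autSystem_hom_iff (A : Subgroup (MulAut T)) (hA : Inn T ≤ A) {P : Subgroup Ω} (φ : P →* Ω) :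
    φ ∈ (autSystem T A hA).Hom P ↔ ∃ hP : P ≤ T, ∃ α ∈ A, ∀ x : P, φ x = ((α ⟨x, hP x.2⟩ : T) : Ω) := Iff.rfl

/-- The generated system is a subsystem of `F` when the automorphisms are automorphisms in `F`. -/
theorem autSystem_isSubsystemOf (F : FusionSystem S) (hTS : T ≤ S) (A : Subgroup (MulAut T)) (hA : Inn T ≤ A)
    (hAF : A ≤ F.autGroup T) : (autSystem T A hA).IsSubsystemOf F := by
  rintro P φ ⟨hP, α, hα, hx⟩
  have h1 : T.subtype.comp (α : T ≃* T).toMonoidHom ∈ F.Hom T := (mem_autGroup_iff F hTS α).mp (hAF hα)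
  exact mem_of_eq F (restrict_mem F h1 hP) hx

theorem mem_autGroup_autSystem_iff (A : Subgroup (MulAut T)) (hA : Inn T ≤ A) {P : Subgroup Ω} (hP : P ≤ T)
    (β : MulAut P) : β ∈ (autSystem T A hA).autGroup P ↔
      ∃ α ∈ A, ∀ x : P, ((β x : P) : Ω) = ((α ⟨x, hP x.2⟩ : T) : Ω) := by
  rw [mem_autGroup_iff _ hP]
  constructor
  · rintro ⟨hP', α, hα, h⟩
    exact ⟨α, hα, h⟩
  · rintro ⟨α, hα, h⟩
    exact ⟨hP, α, hα, h⟩

theorem autGroup_autSystem_top (A : Subgroup (MulAut T)) (hA : Inn T ≤ A) : (autSystem T A hA).autGroup T = A := by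
  ext β
  rw [mem_autGroup_autSystem_iff A hA le_rfl]
  constructor
  · rintro ⟨α, hα, h⟩
    have : β = α := by
      ext x
      exact h x
    rwa [this]
  · intro hβ
    exact ⟨β, hβ, fun x => rfl⟩

theorem pow_apply_of_restrict {P : Subgroup Ω} (hP : P ≤ T) {β : MulAut P} {α : MulAut T}
    (h : ∀ x : P, ((β x : P) : Ω) = ((α ⟨x, hP x.2⟩ : T) : Ω)) (n : ℕ) :
    ∀ x : P, (((β ^ n) x : P) : Ω) = (((α ^ n) ⟨x, hP x.2⟩ : T) : Ω) := by
  induction n with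
  | zero => intro x; simp
  | succ n ih =>
    intro x
    rw [pow_succ', pow_succ', MulAut.mul_apply, MulAut.mul_apply, h]
    congr 2
    exact Subtype.ext (ih x)

/-- Every subgroup of `T` is fully automized in the generated system. -/
theorem autSystem_isFullyAutomized [Finite T] {p : ℕ} [Fact p.Prime] (hT : IsPGroup p T) (A : Subgroup (MulAut T))
    (hA : Inn T ≤ A) (hA' : ∀ α ∈ A, ∃ m : ℕ, Nat.Coprime m p ∧ α ^ m ∈ Inn T) {P : Subgroup Ω} (hP : P ≤ T) :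
    (autSystem T A hA).IsFullyAutomized p P := by
  refine ⟨hP, ?_⟩
  have hle : autInducedBy T P ≤ (autSystem T A hA).autGroup P := by
    intro β hβ
    obtain ⟨g, hg, hgx⟩ := (mem_autInducedBy_iff T P β).mp hβ
    rw [mem_autGroup_autSystem_iff A hA hP]
    exact ⟨MulAut.conj ⟨g, hg⟩, hA ⟨⟨g, hg⟩, rfl⟩, hgx⟩
  have hp : IsPGroup p ((autInducedBy T P).subgroupOf ((autSystem T A hA).autGroup P)) :=
    (isPGroup_autInducedBy hT P).comap_of_injective _ (Subgroup.subtype_injective _)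
  refine ⟨⟨(autInducedBy T P).subgroupOf ((autSystem T A hA).autGroup P), hp, ?_⟩, rfl⟩
  intro Q hQ hQle
  refine le_antisymm ?_ hQle
  rintro ⟨β, hβ⟩ hβQ
  rw [Subgroup.mem_subgroupOf]
  show β ∈ autInducedBy T P
  obtain ⟨k, hk⟩ := hQ ⟨⟨β, hβ⟩, hβQ⟩
  have hk' : β ^ p ^ k = 1 := by
    have := congrArg (fun z : Q => ((z : (autSystem T A hA).autGroup P) : MulAut P)) hk
    simpa using this
  obtain ⟨α, hα, hαx⟩ := (mem_autGroup_autSystem_iff A hA hP β).mp hβ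
  obtain ⟨m, hm, hαm⟩ := hA' α hα
  obtain ⟨t, ht⟩ := hαm
  -- `β ^ m` is induced by `t`
  have h1 : β ^ m ∈ autInducedBy T P := by
    rw [mem_autInducedBy_iff]
    refine ⟨(t : Ω), t.2, fun x => ?_⟩
    rw [pow_apply_of_restrict hP hαx m x, ← ht]
    rfl
  -- `β` is a power of `β ^ m`
  have hcop : Nat.Coprime m (p ^ k) := Nat.Coprime.pow_right k hm
  have h2 : β ∈ Subgroup.zpowers (β ^ m) := by
    have hord : orderOf β ∣ p ^ k := orderOf_dvd_of_pow_eq_one hk'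
    have hcop' : Nat.Coprime m (orderOf β) := (Nat.Coprime.coprime_dvd_left hord hcop.symm).symm
    obtain ⟨u, hu⟩ := exists_pow_eq_self_of_coprime hcop'
    exact ⟨u, by simpa using hu⟩
  exact (Subgroup.zpowers_le.mpr h1) h2


/-- Every subgroup of `T` is receptive in the generated system: every map extends to all of `T`. -/
theorem autSystem_isReceptive (A : Subgroup (MulAut T)) (hA : Inn T ≤ A) {P : Subgroup Ω} (hP : P ≤ T) :
    (autSystem T A hA).IsReceptive P := by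
  refine ⟨hP, fun P₀ φ hφ _ => ?_⟩
  obtain ⟨hP₀, α, hα, hx⟩ := hφ
  have hle : extender T P₀ φ ≤ T := fun g hg => ((mem_extender_iff T P₀ φ g).mp hg).1
  refine ⟨(T.subtype.comp α.toMonoidHom).comp (Subgroup.inclusion hle), ⟨hle, α, hα, fun x => rfl⟩,
    fun x hxP hxN => ?_⟩
  rw [hx]
  rfl

theorem autSystem_isSaturated [Finite T] {p : ℕ} [Fact p.Prime] (hT : IsPGroup p T) (A : Subgroup (MulAut T))
    (hA : Inn T ≤ A) (hA' : ∀ α ∈ A, ∃ m : ℕ, Nat.Coprime m p ∧ α ^ m ∈ Inn T) :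
    (autSystem T A hA).IsSaturated p :=
  fun P hP => ⟨P, isConj_refl _ hP, autSystem_isFullyAutomized hT A hA hA' hP, autSystem_isReceptive A hA hP⟩

/-- If the generated system is inner then the group of automorphisms is inner. -/
theorem le_inn_of_autSystem_eq_inner (A : Subgroup (MulAut T)) (hA : Inn T ≤ A)
    (h : (autSystem T A hA).Hom T = (innerFusionSystem T).Hom T) : A ≤ Inn T := by
  intro α hα
  have h1 : T.subtype.comp α.toMonoidHom ∈ (autSystem T A hA).Hom T := ⟨le_rfl, α, hα, fun x => rfl⟩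
  rw [h] at h1
  obtain ⟨-, g, hg, hgx⟩ := h1
  refine ⟨⟨g, hg⟩, ?_⟩
  ext x
  exact (hgx x).symm

theorem inn_normal (G : Type*) [Group G] : (Inn G).Normal := by
  refine ⟨fun n hn g => ?_⟩
  obtain ⟨x, rfl⟩ := hn
  refine ⟨g x, ?_⟩
  ext y
  simp [MulAut.conj_apply]

theorem pow_mem_inn_of_mem_sup {G : Type*} [Group G] {β : MulAut G} {q : ℕ} (hβq : β ^ q = 1) :
    ∀ α ∈ Inn G ⊔ Subgroup.zpowers β, α ^ q ∈ Inn G := by
  have hn : (Inn G).Normal := inn_normal G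
  have hle : Inn G ⊔ Subgroup.zpowers β ≤
      (Subgroup.zpowers (QuotientGroup.mk' (Inn G) β)).comap (QuotientGroup.mk' (Inn G)) := by
    apply sup_le
    · intro c hc
      rw [Subgroup.mem_comap]
      have : QuotientGroup.mk' (Inn G) c = 1 := (QuotientGroup.eq_one_iff c).mpr hc
      rw [this]
      exact Subgroup.one_mem _
    · rw [Subgroup.zpowers_le, Subgroup.mem_comap]
      exact Subgroup.mem_zpowers _
  intro α hα
  obtain ⟨i, hi⟩ := Subgroup.mem_zpowers_iff.mp (hle hα)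
  have h1 : QuotientGroup.mk' (Inn G) (α ^ q) = 1 := by
    rw [map_pow, ← hi, ← zpow_natCast, ← zpow_mul, mul_comm, zpow_mul, zpow_natCast, ← map_pow, hβq, map_one,
      one_zpow]
  exact (QuotientGroup.eq_one_iff _).mp h1

theorem eq_one_of_mem_inn_of_pow {G : Type*} [Group G] {p : ℕ} [Fact p.Prime] (hG : IsPGroup p G) {β : MulAut G}
    (hβ : β ∈ Inn G) {q : ℕ} (hq : q.Coprime p) (hβq : β ^ q = 1) : β = 1 := by
  obtain ⟨g, rfl⟩ := hβ
  obtain ⟨k, hk⟩ := hG g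
  have h1 : (MulAut.conj g) ^ p ^ k = 1 := by rw [← map_pow, hk, map_one]
  have h2 := pow_gcd_eq_one.mpr ⟨h1, hβq⟩
  have h3 : Nat.gcd (p ^ k) q = 1 := Nat.Coprime.pow_left k hq.symm
  rwa [h3, pow_one] at h2

theorem exists_prime_orderOf_of_not_isPGroup {G : Type*} [Group G] [Finite G] {p : ℕ} [Fact p.Prime]
    (h : ¬ IsPGroup p G) : ∃ (q : ℕ) (g : G), q.Prime ∧ q ≠ p ∧ orderOf g = q := by
  have hcard : ∃ q : ℕ, q.Prime ∧ q ≠ p ∧ q ∣ Nat.card G := by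
    by_contra hcon
    apply h
    rw [IsPGroup.iff_card]
    have hne : Nat.card G ≠ 0 := Nat.card_pos.ne'
    refine ⟨(Nat.card G).primeFactorsList.length, ?_⟩
    refine (Nat.eq_prime_pow_of_unique_prime_dvd hne ?_)
    intro q hq hqd
    by_contra hqp
    exact hcon ⟨q, hq, hqp, hqd⟩
  obtain ⟨q, hq, hqp, hqd⟩ := hcard
  have : Fact q.Prime := ⟨hq⟩
  obtain ⟨g, hg⟩ := exists_prime_orderOf_dvd_card' q hqd
  exact ⟨q, g, hq, hqp, hg⟩

/-- Restriction of an automorphism of `S` to an invariant subgroup `T ≤ S`. -/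
def restrictAutSub (β : MulAut S) (T : Subgroup Ω) (hTS : T ≤ S)
    (h : ∀ x : S, ((β x : S) : Ω) ∈ T ↔ (x : Ω) ∈ T) : MulAut T where
  toFun x := ⟨β ⟨x, hTS x.2⟩, (h _).mpr x.2⟩
  invFun x := ⟨β⁻¹ ⟨x, hTS x.2⟩, (h _).mp (by rw [MulAut.apply_inv_self]; exact x.2)⟩
  left_inv x := by
    apply Subtype.ext
    show ((β⁻¹ ⟨((β ⟨x, hTS x.2⟩ : S) : Ω), _⟩ : S) : Ω) = x
    have e : (⟨((β ⟨x, hTS x.2⟩ : S) : Ω), hTS ((h _).mpr x.2)⟩ : S) = β ⟨x, hTS x.2⟩ := Subtype.ext rfl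
    rw [e, MulAut.inv_apply_self]
  right_inv x := by
    apply Subtype.ext
    show ((β ⟨((β⁻¹ ⟨x, hTS x.2⟩ : S) : Ω), _⟩ : S) : Ω) = x
    have e : (⟨((β⁻¹ ⟨x, hTS x.2⟩ : S) : Ω),
        hTS ((h _).mp (by rw [MulAut.apply_inv_self]; exact x.2))⟩ : S) = β⁻¹ ⟨x, hTS x.2⟩ := Subtype.ext rfl
    rw [e, MulAut.apply_inv_self]
  map_mul' x y := by
    apply Subtype.ext
    show ((β ⟨(x * y : T), _⟩ : S) : Ω) = ((β ⟨x, hTS x.2⟩ : S) : Ω) * ((β ⟨y, hTS y.2⟩ : S) : Ω)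
    have e : (⟨((x * y : T) : Ω), hTS (x * y).2⟩ : S) = ⟨x, hTS x.2⟩ * ⟨y, hTS y.2⟩ := Subtype.ext rfl
    rw [e, map_mul]
    rfl

theorem restrictAutSub_apply (β : MulAut S) (T : Subgroup Ω) (hTS : T ≤ S)
    (h : ∀ x : S, ((β x : S) : Ω) ∈ T ↔ (x : Ω) ∈ T) (x : T) :
    ((restrictAutSub β T hTS h x : T) : Ω) = ((β ⟨x, hTS x.2⟩ : S) : Ω) := rfl

theorem restrictAutSub_pow (β : MulAut S) (T : Subgroup Ω) (hTS : T ≤ S)
    (h : ∀ x : S, ((β x : S) : Ω) ∈ T ↔ (x : Ω) ∈ T) (k : ℕ) (x : T) :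
    ((((restrictAutSub β T hTS h) ^ k) x : T) : Ω) = (((β ^ k) ⟨x, hTS x.2⟩ : S) : Ω) :=
  pow_apply_of_restrict hTS (fun x => restrictAutSub_apply β T hTS h x) k x

end Cfsg.Agent.Helper88.FS
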