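import Cfsg.Agent.Helper88.FusionNormalCrit
import Cfsg.Agent.Helper88.OmegaAut
import Cfsg.Agent.Helper88.AutSystem
import Cfsg.Agent.Helper84.PStable
import Cfsg.Agent.Helper87.FusionSolv2
import Cfsg.Agent.S5086
import Cfsg.Agent.S5145
set_option autoImplicit false

/-!
Constrained systems: the largest normal subgroup of a constrained system is centric and radical; normal subsystems of
constrained systems are constrained.
-/

namespace Cfsg.Agent.Helper88.FS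

open Cfsg Cfsg.FusionSystem Cfsg.Agent.Helper87 Cfsg.Agent.Helper88 Cfsg.Agent.Helper84

/-- The automorphisms stabilizing the chain `1 ≤ M ≤ Q`. -/
def chainStab {Q : Type*} [Group Q] (M : Subgroup Q) : Subgroup (MulAut Q) where
  carrier := {α | (∀ m ∈ M, α m = m) ∧ ∀ x, x⁻¹ * α x ∈ M}
  one_mem' := ⟨fun m _ => rfl, fun x => by simp⟩
  mul_mem' := by
    rintro α β ⟨hα1, hα2⟩ ⟨hβ1, hβ2⟩
    refine ⟨fun m hm => by rw [MulAut.mul_apply, hβ1 m hm, hα1 m hm], fun x => ?_⟩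
    have : x⁻¹ * (α * β) x = (x⁻¹ * β x) * ((β x)⁻¹ * α (β x)) := by
      rw [MulAut.mul_apply]; group
    rw [this]
    exact M.mul_mem (hβ2 x) (hα2 (β x))
  inv_mem' := by
    rintro α ⟨hα1, hα2⟩
    refine ⟨fun m hm => ?_, fun x => ?_⟩
    · calc α⁻¹ m = α⁻¹ (α m) := by rw [hα1 m hm]
        _ = m := MulAut.inv_apply_self _ _ _
    · have h := hα2 (α⁻¹ x)
      rw [MulAut.apply_inv_self] at h
      have h2 := M.inv_mem h
      rw [mul_inv_rev, inv_inv] at h2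
      exact h2

theorem isPGroup_chainStab {Q : Type*} [Group Q] [Finite Q] {p : ℕ} [Fact p.Prime] (hQ : IsPGroup p Q)
    (M : Subgroup Q) : IsPGroup p (chainStab M) := by
  rintro ⟨β, hβ⟩
  obtain ⟨k, hk⟩ := IsPGroup.iff_card.mp hQ
  refine ⟨k, Subtype.ext ?_⟩
  show β ^ p ^ k = 1
  rw [← hk]
  exact pow_eq_one_of_stabilizes' β M (Nat.card Q) (fun v _ => pow_card_eq_one') hβ.2 hβ.1

theorem chainStab_normalized {Q : Type*} [Group Q] (M : Subgroup Q) (A : Subgroup (MulAut Q))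
    (hM : ∀ a ∈ A, ∀ m ∈ M, a m ∈ M) : ∀ a ∈ A, ∀ k ∈ chainStab M, a * k * a⁻¹ ∈ chainStab M := by
  rintro a ha k ⟨hk1, hk2⟩
  refine ⟨fun m hm => ?_, fun x => ?_⟩
  · rw [MulAut.mul_apply, MulAut.mul_apply, hk1 _ (hM a⁻¹ (A.inv_mem ha) m hm), MulAut.apply_inv_self]
  · have h1 := hM a ha _ (hk2 (a⁻¹ x))
    rw [map_mul, map_inv, MulAut.apply_inv_self] at h1
    rw [MulAut.mul_apply, MulAut.mul_apply]
    exact h1

variable {Ω : Type*} [Group Ω] {S : Subgroup Ω}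

/-- A subgroup `U` normalized by `S` lies in `P` once `N_U(P) ≤ P` (`S` a finite `p`-group). -/
theorem le_of_normalizer_le [Finite S] {p : ℕ} [Fact p.Prime] (hS : IsPGroup p S) {U P : Subgroup Ω} (hUS : U ≤ S)
    (hPS : P ≤ S) (hUn : ∀ g ∈ S, ∀ x ∈ U, g * x * g⁻¹ ∈ U)
    (hNU : ∀ d ∈ U, d ∈ Subgroup.normalizer (P : Set Ω) → d ∈ P) : U ≤ P := by
  by_contra hnot
  have hKS : U ⊔ P ≤ S := sup_le hUS hPS
  have hlt : P < U ⊔ P := lt_of_le_of_ne le_sup_right (fun h => hnot (h ▸ le_sup_left))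
  have hfin : Finite ↥(U ⊔ P) := finite_of_le hKS
  have hp' : IsPGroup p ↥(U ⊔ P) := hS.to_le hKS
  obtain ⟨g, hgN, hgP⟩ := SetLike.exists_of_lt (lt_normalizerIn hp' hlt)
  obtain ⟨u, hu, r, hr, rfl⟩ := exists_mul_of_mem_sup hPS hUn hgN.1
  apply hgP
  have huN : u ∈ Subgroup.normalizer (P : Set Ω) := by
    have h1 : u = u * r * r⁻¹ := by group
    rw [h1]
    exact Subgroup.mul_mem _ hgN.2 (Subgroup.inv_mem _ (Subgroup.le_normalizer hr))
  exact P.mul_mem (hNU u hu huN) hr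

/-- If conjugation by `d ∈ S` on the radical subgroup `R` with `C_S(R) ≤ R` lies in a normal `p`-subgroup of
`Aut_F(R)`, then `d ∈ R`. -/
theorem mem_of_conjAut_mem_normal_pGroup {p : ℕ} (F : FusionSystem S) {R : Subgroup Ω} (hRS : R ≤ S)
    (hRc : centralizerIn S R ≤ R) (hRr : F.IsRadical p R) (K : Subgroup (MulAut R)) (hKA : K ≤ F.autGroup R)
    (hKn : ∀ a ∈ F.autGroup R, ∀ k ∈ K, a * k * a⁻¹ ∈ K) (hKp : IsPGroup p K) {d : Ω} (hdS : d ∈ S)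
    (hdN : d ∈ Subgroup.normalizer (R : Set Ω)) (hdK : conjAut R d hdN ∈ K) : d ∈ R := by
  have h1 : conjAut R d hdN ∈ (pCore p (F.autGroup R)).map (F.autGroup R).subtype :=
    (mem_pCore_map_iff _ _).mpr ⟨K, hKA, hKn, hKp, hdK⟩
  rw [hRr.2] at h1
  obtain ⟨r, hr⟩ := h1
  refine mem_of_conj_eq_inner hRc hdS hRS r (fun x => ?_)
  have := congrArg (fun β : MulAut R => ((β x : R) : Ω)) hr
  exact this

/-- The largest normal subgroup of a constrained system is normal and centric. -/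
theorem core_normal_centric_of_isConstrained [Finite S] {p : ℕ} (F : FusionSystem S) (hF : F.IsConstrained p) :
    F.IsNormal F.core ∧ F.IsCentric F.core := by
  obtain ⟨-, Q₁, hQ₁n, hQ₁c⟩ := hF
  have hn : F.IsNormal F.core := Cfsg.Agent.S5145.result F
  have hle : Q₁ ≤ F.core := le_sSup hQ₁n
  have hwc := weaklyClosed_of_isNormal F hn
  refine ⟨hn, hn.1, ?_⟩
  rintro Q' ⟨φ, hφ, hr⟩
  rw [← hr, hwc.2 φ hφ]
  intro c hc
  exact hle (hQ₁c.2 Q₁ (isConj_refl F hQ₁c.1) ⟨hc.1, Subgroup.centralizer_le hle hc.2⟩)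

/-- The subgroup of `Aut(R)` of the automorphisms in `F` whose restriction to `Q ≤ R` lies in `K ≤ Aut(Q)`. -/
def resPreimage (F : FusionSystem S) {Q R : Subgroup Ω} (hQR : Q ≤ R) (K : Subgroup (MulAut Q)) : Subgroup (MulAut R) where
  carrier := {β | β ∈ F.autGroup R ∧ ∃ κ ∈ K, ∀ y : Q, ((β ⟨y, hQR y.2⟩ : R) : Ω) = ((κ y : Q) : Ω)}
  one_mem' := ⟨(F.autGroup R).one_mem, 1, K.one_mem, fun y => rfl⟩
  mul_mem' := by
    rintro β₁ β₂ ⟨h₁, κ₁, hκ₁, hx₁⟩ ⟨h₂, κ₂, hκ₂, hx₂⟩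
    refine ⟨(F.autGroup R).mul_mem h₁ h₂, κ₁ * κ₂, K.mul_mem hκ₁ hκ₂, fun y => ?_⟩
    rw [MulAut.mul_apply, MulAut.mul_apply, ← hx₁ (κ₂ y)]
    congr 2
    exact Subtype.ext (hx₂ y)
  inv_mem' := by
    rintro β ⟨h, κ, hκ, hx⟩
    refine ⟨(F.autGroup R).inv_mem h, κ⁻¹, K.inv_mem hκ, fun y => ?_⟩
    have e : (⟨(y : Ω), hQR y.2⟩ : R) = β ⟨((κ⁻¹ y : Q) : Ω), hQR (κ⁻¹ y).2⟩ := by
      apply Subtype.ext
      rw [hx (κ⁻¹ y), MulAut.apply_inv_self]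
    rw [e, MulAut.inv_apply_self]

theorem resPreimage_le (F : FusionSystem S) {Q R : Subgroup Ω} (hQR : Q ≤ R) (K : Subgroup (MulAut Q)) :
    resPreimage F hQR K ≤ F.autGroup R := fun _ h => h.1

theorem isPGroup_resPreimage [Finite S] {p : ℕ} [Fact p.Prime] (hS : IsPGroup p S) (F : FusionSystem S)
    {Q R : Subgroup Ω} (hQR : Q ≤ R) (hRS : R ≤ S) (hQn : ∀ g ∈ S, ∀ x ∈ Q, g * x * g⁻¹ ∈ Q)
    (hQc : centralizerIn S Q ≤ Q) (K : Subgroup (MulAut Q)) (hK : IsPGroup p K) :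
    IsPGroup p (resPreimage F hQR K) := by
  rintro ⟨β, hβA, κ, hκ, hx⟩
  obtain ⟨k, hk⟩ := hK ⟨κ, hκ⟩
  have hk' : κ ^ p ^ k = 1 := by
    have := congrArg Subtype.val hk
    simpa using this
  have : Finite R := finite_of_le hRS
  have hRp : IsPGroup p R := hS.to_le hRS
  -- `β ^ p ^ k` is trivial on `Q`
  have hfix : ∀ y : Q, (β ^ p ^ k) ⟨y, hQR y.2⟩ = ⟨y, hQR y.2⟩ := by
    intro y
    apply Subtype.ext
    have h1 := pow_apply_of_restrict hQR (β := κ) (α := β) (fun y => (hx y).symm) (p ^ k) y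
    rw [← h1, hk']
    rfl
  have hmem : β ^ p ^ k ∈ chainStab ((Q ⊓ Subgroup.centralizer (Q : Set Ω)).subgroupOf R) := by
    refine ⟨fun m hm => ?_, fun r => ?_⟩
    · rw [Subgroup.mem_subgroupOf] at hm
      exact hfix ⟨m, hm.1⟩
    · rw [Subgroup.mem_subgroupOf]
      have hcen : ((r⁻¹ * (β ^ p ^ k) r : R) : Ω) ∈ Subgroup.centralizer (Q : Set Ω) := by
        rw [Subgroup.mem_centralizer_iff]
        intro q hq
        have hq' : (r : Ω) * q * (r : Ω)⁻¹ ∈ Q := hQn r (hRS r.2) q hq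
        have e1 := hfix ⟨_, hq'⟩
        have e2 : (⟨(r : Ω) * q * (r : Ω)⁻¹, hQR hq'⟩ : R) = r * ⟨q, hQR hq⟩ * r⁻¹ := Subtype.ext rfl
        rw [e2, map_mul, map_mul, map_inv, hfix ⟨q, hq⟩] at e1
        have e3 : (⟨q, hQR hq⟩ : R) * (r⁻¹ * (β ^ p ^ k) r) = (r⁻¹ * (β ^ p ^ k) r) * ⟨q, hQR hq⟩ := by
          calc (⟨q, hQR hq⟩ : R) * (r⁻¹ * (β ^ p ^ k) r)
              = r⁻¹ * (r * ⟨q, hQR hq⟩ * r⁻¹) * (β ^ p ^ k) r := by group
            _ = r⁻¹ * ((β ^ p ^ k) r * ⟨q, hQR hq⟩ * ((β ^ p ^ k) r)⁻¹) * (β ^ p ^ k) r := by rw [e1]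
            _ = (r⁻¹ * (β ^ p ^ k) r) * ⟨q, hQR hq⟩ := by group
        exact congrArg (fun z : R => (z : Ω)) e3
      exact ⟨hQc ⟨hRS (r⁻¹ * (β ^ p ^ k) r).2, hcen⟩, hcen⟩
  obtain ⟨m, hm⟩ := (isPGroup_chainStab hRp _) ⟨β ^ p ^ k, hmem⟩
  have hm' : (β ^ p ^ k) ^ p ^ m = 1 := by
    have := congrArg Subtype.val hm
    simpa using this
  refine ⟨k + m, Subtype.ext ?_⟩
  show β ^ p ^ (k + m) = 1
  rw [pow_add, pow_mul]
  exact hm'

theorem resPreimage_normalized (F : FusionSystem S) {Q R : Subgroup Ω} (hQR : Q ≤ R) (hRS : R ≤ S)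
    (hQsc : F.StronglyClosed Q) (K : Subgroup (MulAut Q))
    (hKn : ∀ a ∈ F.autGroup Q, ∀ k ∈ K, a * k * a⁻¹ ∈ K) :
    ∀ a ∈ F.autGroup R, ∀ β ∈ resPreimage F hQR K, a * β * a⁻¹ ∈ resPreimage F hQR K := by
  rintro a ha β ⟨hβA, κ, hκ, hx⟩
  have hainv : a⁻¹ ∈ F.autGroup R := (F.autGroup R).inv_mem ha
  have hinv : ∀ x : R, ((a x : R) : Ω) ∈ Q ↔ (x : Ω) ∈ Q := by
    intro x
    constructor
    · intro h
      have := aut_mem_of_stronglyClosed F hQsc hRS hainv (a x) h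
      rwa [MulAut.inv_apply_self] at this
    · exact aut_mem_of_stronglyClosed F hQsc hRS ha x
  have haiso := (mem_autGroup_iff F hRS a).mp ha
  have hαQ : restrictAutSub a Q hQR hinv ∈ F.autGroup Q := by
    rw [mem_autGroup_iff F (hQR.trans hRS)]
    exact mem_of_eq F (restrict_mem F haiso hQR) (fun y => rfl)
  refine ⟨(F.autGroup R).mul_mem ((F.autGroup R).mul_mem ha hβA) hainv,
    restrictAutSub a Q hQR hinv * κ * (restrictAutSub a Q hQR hinv)⁻¹, hKn _ hαQ κ hκ, fun y => ?_⟩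
  rw [MulAut.mul_apply, MulAut.mul_apply, MulAut.mul_apply, MulAut.mul_apply]
  have e1 : (⟨(y : Ω), hQR y.2⟩ : R) =
      a ⟨(((restrictAutSub a Q hQR hinv)⁻¹ y : Q) : Ω), hQR ((restrictAutSub a Q hQR hinv)⁻¹ y).2⟩ := by
    apply Subtype.ext
    show (y : Ω) = (((restrictAutSub a Q hQR hinv) ((restrictAutSub a Q hQR hinv)⁻¹ y) : Q) : Ω)
    rw [MulAut.apply_inv_self]
  rw [e1, MulAut.inv_apply_self]
  have e2 : β ⟨(((restrictAutSub a Q hQR hinv)⁻¹ y : Q) : Ω), hQR ((restrictAutSub a Q hQR hinv)⁻¹ y).2⟩ =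
      ⟨((κ ((restrictAutSub a Q hQR hinv)⁻¹ y) : Q) : Ω), hQR (κ _).2⟩ := Subtype.ext (hx _)
  rw [e2]
  rfl


/-- The elements of `S` whose conjugation on `Q` lies in `K`. -/
def conjPreimage (S Q : Subgroup Ω) (K : Subgroup (MulAut Q)) : Subgroup Ω where
  carrier := {s | s ∈ S ∧ ∃ κ ∈ K, ∀ y : Q, ((κ y : Q) : Ω) = s * y * s⁻¹}
  one_mem' := ⟨S.one_mem, 1, K.one_mem, fun y => by simp⟩
  mul_mem' := by
    rintro a b ⟨ha, κa, hκa, hxa⟩ ⟨hb, κb, hκb, hxb⟩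
    refine ⟨S.mul_mem ha hb, κa * κb, K.mul_mem hκa hκb, fun y => ?_⟩
    rw [MulAut.mul_apply, hxa, hxb]
    group
  inv_mem' := by
    rintro a ⟨ha, κ, hκ, hx⟩
    refine ⟨S.inv_mem ha, κ⁻¹, K.inv_mem hκ, fun y => ?_⟩
    have := hx (κ⁻¹ y)
    rw [MulAut.apply_inv_self] at this
    rw [this]
    group

theorem conjPreimage_le (S Q : Subgroup Ω) (K : Subgroup (MulAut Q)) : conjPreimage S Q K ≤ S := fun _ h => h.1

/-- The preimage in `S` of a subgroup of `Aut_F(Q)` normalized by `Aut_F(Q)` is strongly closed when `Q` is normal. -/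
theorem stronglyClosed_conjPreimage (F : FusionSystem S) {Q : Subgroup Ω} (hQn : F.IsNormal Q) (K : Subgroup (MulAut Q))
    (hKn : ∀ a ∈ F.autGroup Q, ∀ k ∈ K, a * k * a⁻¹ ∈ K) : F.StronglyClosed (conjPreimage S Q K) := by
  refine ⟨conjPreimage_le S Q K, fun R hRU φ hφ x => ?_⟩
  obtain ⟨ψ, hψ, hψx, hψQ⟩ := hQn.2 R φ hφ
  have hψQ' := (Helper85.map_subgroupOf_eq_iff ψ).mp hψQ
  obtain ⟨-, κ, hκ, hκx⟩ := hRU x.2
  have hres : ψ.comp (Subgroup.inclusion (le_sup_right : Q ≤ R ⊔ Q)) ∈ F.Hom Q := restrict_mem F hψ le_sup_right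
  have hrange : (ψ.comp (Subgroup.inclusion (le_sup_right : Q ≤ R ⊔ Q))).range = Q := by
    ext y
    constructor
    · rintro ⟨q, rfl⟩
      exact hψQ'.1 _ q.2
    · intro hy
      obtain ⟨z, hz, hzy⟩ := hψQ'.2 y hy
      exact ⟨⟨z, hz⟩, hzy⟩
  set α : MulAut Q := isoOfRange F hres hrange with hα
  have hαA : α ∈ F.autGroup Q := (mem_autGroup_iff F hQn.1 α).mpr (isIso_isoOfRange F hres hrange)
  have hαx : ∀ y : Q, ((α y : Q) : Ω) = ψ (Subgroup.inclusion le_sup_right y) := fun y => rfl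
  refine ⟨(F.le_of_mem hφ).2 x, α * κ * α⁻¹, hKn α hαA κ hκ, fun y => ?_⟩
  rw [MulAut.mul_apply, MulAut.mul_apply, hαx]
  have e1 : Subgroup.inclusion (le_sup_right : Q ≤ R ⊔ Q) (κ (α⁻¹ y)) =
      Subgroup.inclusion le_sup_left x * Subgroup.inclusion le_sup_right (α⁻¹ y) *
        (Subgroup.inclusion le_sup_left x)⁻¹ := Subtype.ext (hκx (α⁻¹ y))
  rw [e1, map_mul, map_mul, map_inv, hψx, ← hαx, MulAut.apply_inv_self]

/-- In a saturated system with `Q` normal, centric and containing every normal subgroup, an element of `S` whose conjugation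
on `Q` lies in a normal `p`-subgroup of `Aut_F(Q)` lies in `Q`. -/
theorem mem_of_conjAut_mem_of_core [Finite S] {p : ℕ} [Fact p.Prime] (hS : IsPGroup p S) (F : FusionSystem S)
    (hsat : F.IsSaturated p) {Q : Subgroup Ω} (hQn : F.IsNormal Q) (hQc : F.IsCentric Q)
    (hmax : ∀ U : Subgroup Ω, F.IsNormal U → U ≤ Q) (K : Subgroup (MulAut Q))
    (hKn : ∀ a ∈ F.autGroup Q, ∀ k ∈ K, a * k * a⁻¹ ∈ K) (hKp : IsPGroup p K) {s : Ω} (hsS : s ∈ S)
    (hsK : ∃ κ ∈ K, ∀ y : Q, ((κ y : Q) : Ω) = s * y * s⁻¹) : s ∈ Q := by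
  have hsc := stronglyClosed_conjPreimage F hQn K hKn
  have hQsc := stronglyClosed_of_isNormal F hQn
  have hQnorm : ∀ g ∈ S, ∀ x ∈ Q, g * x * g⁻¹ ∈ Q := fun g hg x hx => conj_mem_of_stronglyClosed F hQsc hg hx
  have hQcen : centralizerIn S Q ≤ Q := hQc.2 Q (isConj_refl F hQn.1)
  have hUn : F.IsNormal (conjPreimage S Q K) := by
    rw [Cfsg.Agent.S5086.result p hS F hsat]
    refine ⟨hsc, fun R hRc hRr => ?_⟩
    have hRS : R ≤ S := hRc.1
    have hQR : Q ≤ R := le_of_isNormal_of_centric_radical hS F hQn hRc hRr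
    refine le_of_normalizer_le hS (conjPreimage_le S Q K) hRS
      (fun g hg x hx => conj_mem_of_stronglyClosed F hsc hg hx) (fun d hd hdN => ?_)
    obtain ⟨hdS, κ, hκ, hκx⟩ := hd
    refine mem_of_conjAut_mem_normal_pGroup F hRS (hRc.2 R (isConj_refl F hRS)) hRr (resPreimage F hQR K)
      (resPreimage_le F hQR K) (resPreimage_normalized F hQR hRS hQsc K hKn)
      (isPGroup_resPreimage hS F hQR hRS hQnorm hQcen K hKp) hdS hdN ?_
    refine ⟨(mem_autGroup_iff F hRS _).mpr (isIso_conjAut F hRS hdS hdN), κ, hκ, fun y => ?_⟩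
    rw [hκx y]
    rfl
  exact hmax _ hUn ⟨hsS, hsK⟩

/-- A saturated subsystem over a strongly closed subgroup of a constrained system is constrained. -/
theorem isConstrained_of_subsystem [Finite S] {p : ℕ} [Fact p.Prime] (hS : IsPGroup p S) (F : FusionSystem S)
    (hF : F.IsConstrained p) {T : Subgroup Ω} (E : FusionSystem T) (hEsat : E.IsSaturated p)
    (hEF : E.IsSubsystemOf F) (hT : F.StronglyClosed T) : E.IsConstrained p := by
  obtain ⟨hQn, hQc⟩ := core_normal_centric_of_isConstrained F hF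
  have hmax : ∀ U : Subgroup Ω, F.IsNormal U → U ≤ F.core := fun U h => le_sSup h
  set Q := F.core with hQdef
  have hTS : T ≤ S := hT.1
  have hQS : Q ≤ S := hQn.1
  have : Finite T := finite_of_le hTS
  have : Finite Q := finite_of_le hQS
  have hTp : IsPGroup p T := hS.to_le hTS
  have hQp : IsPGroup p Q := hS.to_le hQS
  have hQsc := stronglyClosed_of_isNormal F hQn
  have hVscF : F.StronglyClosed (T ⊓ Q) := stronglyClosed_inf F hT hQsc
  have hTnorm : ∀ g ∈ S, ∀ x ∈ T, g * x * g⁻¹ ∈ T := fun g hg x hx => conj_mem_of_stronglyClosed F hT hg hx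
  have hQnorm : ∀ g ∈ S, ∀ x ∈ Q, g * x * g⁻¹ ∈ Q := fun g hg x hx => conj_mem_of_stronglyClosed F hQsc hg hx
  -- (i) the centralizer of `T ⊓ Q` in `T` lies in `T ⊓ Q`
  have hcen : centralizerIn T (T ⊓ Q) ≤ T ⊓ Q := by
    rintro x ⟨hxT, hxC⟩
    refine ⟨hxT, ?_⟩
    have hxS : x ∈ S := hTS hxT
    have hxN : x ∈ Subgroup.normalizer (Q : Set Ω) := le_normalizer_of_isNormal F hQn hxS
    refine mem_of_conjAut_mem_of_core hS F hF.1 hQn hQc hmax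
      (chainStab ((T ⊓ Q).subgroupOf Q) ⊓ F.autGroup Q) ?_ ((isPGroup_chainStab hQp _).to_le inf_le_left) hxS
      ⟨conjAut Q x hxN, ⟨⟨fun m hm => ?_, fun y => ?_⟩, (mem_autGroup_iff F hQS _).mpr (isIso_conjAut F hQS hxS hxN)⟩,
        fun y => rfl⟩
    · intro a ha k hk
      refine ⟨chainStab_normalized _ (F.autGroup Q) (fun a ha m hm => ?_) a ha k hk.1,
        (F.autGroup Q).mul_mem ((F.autGroup Q).mul_mem ha hk.2) ((F.autGroup Q).inv_mem ha)⟩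
      rw [Subgroup.mem_subgroupOf] at hm ⊢
      exact ⟨aut_mem_of_stronglyClosed F hT hQS ha m hm.1, (a m).2⟩
    · apply Subtype.ext
      rw [conjAut_apply]
      rw [Subgroup.mem_subgroupOf] at hm
      have := (Subgroup.mem_centralizer_iff.mp hxC) m hm
      rw [← this]
      group
    · rw [Subgroup.mem_subgroupOf]
      refine ⟨?_, (y⁻¹ * conjAut Q x hxN y).2⟩
      have e : ((y⁻¹ * conjAut Q x hxN y : Q) : Ω) = ((y : Ω)⁻¹ * x * ((y : Ω)⁻¹)⁻¹) * x⁻¹ := by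
        show (y : Ω)⁻¹ * (x * y * x⁻¹) = _
        group
      rw [e]
      exact T.mul_mem (hTnorm _ (S.inv_mem (hQS y.2)) x hxT) (T.inv_mem hxT)
  -- (ii) `T ⊓ Q` is normal in `E`
  have hVscE : E.StronglyClosed (T ⊓ Q) :=
    ⟨inf_le_left, fun R hRV φ hφ x => hVscF.2 R hRV φ (hEF R hφ) x⟩
  have hVn : E.IsNormal (T ⊓ Q) := by
    rw [Cfsg.Agent.S5086.result p hTp E hEsat]
    refine ⟨hVscE, fun R hRc hRr => ?_⟩
    have hRT : R ≤ T := hRc.1
    refine le_of_normalizer_le hTp inf_le_left hRT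
      (fun g hg x hx => conj_mem_of_stronglyClosed E hVscE hg hx) (fun d hd hdN => ?_)
    have hVp : IsPGroup p ↥(T ⊓ Q) := hTp.to_le inf_le_left
    refine mem_of_conjAut_mem_normal_pGroup E hRT (hRc.2 R (isConj_refl E hRT)) hRr (autInducedBy (T ⊓ Q) R)
      ?_ ?_ (isPGroup_autInducedBy hVp R) hd.1 hdN ((mem_autInducedBy_iff _ R _).mpr ⟨d, hd, fun x => rfl⟩)
    · intro β hβ
      obtain ⟨g, hg, hgx⟩ := (mem_autInducedBy_iff _ R β).mp hβ
      rw [mem_autGroup_iff E hRT, eq_conjAut_of_conj_eq β g hgx]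
      exact isIso_conjAut E hRT hg.1 _
    · intro a ha k hk
      obtain ⟨g, hg, hgx⟩ := (mem_autInducedBy_iff _ R k).mp hk
      have haiso : IsIso F (a : R ≃* R) := hEF R ((mem_autGroup_iff E hRT a).mp ha)
      obtain ⟨ψ, hψ, hψx, hψQ⟩ := hQn.2 R _ haiso
      have hψQ' := (Helper85.map_subgroupOf_eq_iff ψ).mp hψQ
      have hgRQ : g ∈ R ⊔ Q := (le_sup_right : Q ≤ R ⊔ Q) hg.2
      have hψgT : ψ ⟨g, hgRQ⟩ ∈ T :=
        hT.2 ((R ⊔ Q) ⊓ T) inf_le_right _ (restrict_mem F hψ inf_le_left) ⟨g, hgRQ, hg.1⟩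
      have hψgQ : ψ ⟨g, hgRQ⟩ ∈ Q := hψQ'.1 ⟨g, hgRQ⟩ hg.2
      rw [mem_autInducedBy_iff]
      refine ⟨ψ ⟨g, hgRQ⟩, ⟨hψgT, hψgQ⟩, fun y => ?_⟩
      rw [MulAut.mul_apply, MulAut.mul_apply]
      have hψx' : ∀ z : R, ψ (Subgroup.inclusion le_sup_left z) = ((a z : R) : Ω) := hψx
      have h1 : Subgroup.inclusion (le_sup_left : R ≤ R ⊔ Q) (k (a⁻¹ y)) =
          ⟨g, hgRQ⟩ * Subgroup.inclusion le_sup_left (a⁻¹ y) * ⟨g, hgRQ⟩⁻¹ := Subtype.ext (hgx (a⁻¹ y))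
      rw [← hψx', h1, map_mul, map_mul, map_inv, hψx', MulAut.apply_inv_self]
  -- (iii) `T ⊓ Q` is centric in `E`
  refine ⟨hEsat, T ⊓ Q, hVn, inf_le_left, ?_⟩
  rintro V' ⟨φ, hφ, hr⟩
  rw [← hr, (weaklyClosed_of_isNormal E hVn).2 φ hφ]
  exact hcen

end Cfsg.Agent.Helper88.FS
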