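import Cfsg.Agent.Helper87.FusionRS

set_option autoImplicit false

namespace Cfsg.Agent.Helper88.FS

open Cfsg Cfsg.FusionSystem Cfsg.Agent.Helper87

variable {Ω : Type*} [Group Ω] {S : Subgroup Ω}

/-- The image of a subgroup `Q ≤ N` under an isomorphism `e : N ≃* N'`, as a subgroup of the ambient group. -/
def imageSub {N N' : Subgroup Ω} (e : N ≃* N') (Q : Subgroup Ω) : Subgroup Ω :=
  (Q.subgroupOf N).map (N'.subtype.comp e.toMonoidHom)

theorem imageSub_le {N N' : Subgroup Ω} (e : N ≃* N') (Q : Subgroup Ω) : imageSub e Q ≤ N' := by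
  rintro _ ⟨x, -, rfl⟩
  exact (e x).2

theorem mem_imageSub {N N' : Subgroup Ω} (e : N ≃* N') (Q : Subgroup Ω) (x : N) (hx : (x : Ω) ∈ Q) :
    ((e x : N') : Ω) ∈ imageSub e Q :=
  ⟨x, hx, rfl⟩

/-- The restriction of an isomorphism `e : N ≃* N'` to a subgroup `Q ≤ N`, onto its image. -/
noncomputable def restrictIso {N N' : Subgroup Ω} (e : N ≃* N') {Q : Subgroup Ω} (hQN : Q ≤ N) :
    Q ≃* imageSub e Q :=
  MulEquiv.ofBijective
    (((N'.subtype.comp e.toMonoidHom).comp (Subgroup.inclusion hQN)).codRestrict (imageSub e Q)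
      (fun x => ⟨Subgroup.inclusion hQN x, x.2, rfl⟩))
    (by
      constructor
      · intro a b hab
        have h1 : ((e (Subgroup.inclusion hQN a) : N') : Ω) = ((e (Subgroup.inclusion hQN b) : N') : Ω) := by
          have h0 := congrArg Subtype.val hab
          exact h0
        have h2 := e.injective (Subtype.ext h1)
        exact Subgroup.inclusion_injective hQN h2
      · rintro ⟨_, x, hx, rfl⟩
        exact ⟨⟨x, hx⟩, Subtype.ext rfl⟩)

theorem restrictIso_apply {N N' : Subgroup Ω} (e : N ≃* N') {Q : Subgroup Ω} (hQN : Q ≤ N) (x : Q) :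
    ((restrictIso e hQN x : imageSub e Q) : Ω) = ((e (Subgroup.inclusion hQN x) : N') : Ω) := rfl

theorem isIso_restrictIso (F : FusionSystem S) {N N' : Subgroup Ω} {e : N ≃* N'} (he : IsIso F e)
    {Q : Subgroup Ω} (hQN : Q ≤ N) : IsIso F (restrictIso e hQN) := by
  unfold IsIso at *
  exact mem_of_eq F (restrict_mem F he hQN) (fun x => rfl)

theorem isConj_imageSub (F : FusionSystem S) {N N' : Subgroup Ω} {e : N ≃* N'} (he : IsIso F e)
    {Q : Subgroup Ω} (hQN : Q ≤ N) : F.IsConj Q (imageSub e Q) :=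
  (isConj_iff F Q _).mpr ⟨restrictIso e hQN, isIso_restrictIso F he hQN⟩

/-- Overgroups (inside `S`) of centric subgroups are centric. -/
theorem isCentric_of_le (F : FusionSystem S) {Q N : Subgroup Ω} (hQ : F.IsCentric Q) (hQN : Q ≤ N) (hNS : N ≤ S) :
    F.IsCentric N := by
  refine ⟨hNS, fun N' hN' => ?_⟩
  obtain ⟨e, he⟩ := (isConj_iff F N N').mp hN'
  have h1 := hQ.2 _ (isConj_imageSub F he hQN)
  have h2 : centralizerIn S N' ≤ centralizerIn S (imageSub e Q) :=
    inf_le_inf_left S (Subgroup.centralizer_le (imageSub_le e Q))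
  exact (h2.trans h1).trans (imageSub_le e Q)

/-- A conjugate of a centric subgroup is centric. -/
theorem isCentric_of_isConj (F : FusionSystem S) {Q Q' : Subgroup Ω} (hQ : F.IsCentric Q) (h : F.IsConj Q Q') :
    F.IsCentric Q' := by
  obtain ⟨e, he⟩ := (isConj_iff F Q Q').mp h
  exact ⟨he.le_right, fun Q'' h' => hQ.2 Q'' (isConj_trans F h h')⟩

/-- Centric subgroups are fully centralized. -/
theorem isFullyCentralized_of_isCentric [Finite S] (F : FusionSystem S) {P : Subgroup Ω} (hP : F.IsCentric P) :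
    F.IsFullyCentralized P := by
  refine ⟨hP.1, fun Q hQ => ?_⟩
  obtain ⟨e, he⟩ := (isConj_iff F P Q).mp hQ
  have hQc : centralizerIn S Q ≤ Q := hP.2 Q hQ
  have : Finite (centralizerIn S P) := finite_of_le inf_le_left
  refine Nat.card_le_card_of_injective
    (fun x : centralizerIn S Q => (⟨((e.symm ⟨x, hQc x.2⟩ : P) : Ω), ?_⟩ : centralizerIn S P)) ?_
  · refine ⟨hP.1 (e.symm ⟨x, hQc x.2⟩).2, ?_⟩
    show _ ∈ Subgroup.centralizer (P : Set Ω)
    rw [Subgroup.mem_centralizer_iff]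
    intro y hy
    have hx : (x : Ω) ∈ Subgroup.centralizer (Q : Set Ω) := x.2.2
    have h1 : ((e ⟨y, hy⟩ : Q) : Ω) * x = x * ((e ⟨y, hy⟩ : Q) : Ω) :=
      Subgroup.mem_centralizer_iff.mp hx _ (e ⟨y, hy⟩).2
    have h2 : e ⟨y, hy⟩ * ⟨x, hQc x.2⟩ = ⟨x, hQc x.2⟩ * e ⟨y, hy⟩ := Subtype.ext h1
    have h3 := congrArg e.symm h2
    rw [map_mul, map_mul, MulEquiv.symm_apply_apply] at h3
    exact congrArg Subtype.val h3
  · intro a b hab
    have h1 : ((e.symm ⟨a, hQc a.2⟩ : P) : Ω) = ((e.symm ⟨b, hQc b.2⟩ : P) : Ω) := by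
      have h0 := congrArg Subtype.val hab
      exact h0
    have h2 := e.symm.injective (Subtype.ext h1)
    have h3 : (a : Ω) = (b : Ω) := by
      have h0 := congrArg Subtype.val h2
      exact h0
    exact Subtype.ext h3

/-- In a saturated fusion system, centric subgroups are receptive. -/
theorem isReceptive_of_isCentric [Finite S] {p : ℕ} [Fact p.Prime] (hS : IsPGroup p S) (F : FusionSystem S)
    (hF : F.IsSaturated p) {P : Subgroup Ω} (hP : F.IsCentric P) : F.IsReceptive P :=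
  receptive_of_fullyCentralized hS F hF (isFullyCentralized_of_isCentric F hP)

/-- Two maps of a saturated fusion system defined on `N`, agreeing on a centric subgroup `T` normalized by `N`, differ by
conjugation by an element of `Z(T)` (BLO2, Proposition A.8). -/
theorem exists_central_conj_of_agree_normal [Finite S] {p : ℕ} [Fact p.Prime] (hS : IsPGroup p S)
    (F : FusionSystem S) (hF : F.IsSaturated p) {T N : Subgroup Ω} (hTN : T ≤ N) (hN : N ≤ normalizerIn S T)
    (hT : F.IsCentric T) {φ φ' : N →* Ω} (hφ : φ ∈ F.Hom N) (hφ' : φ' ∈ F.Hom N)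
    (h : ∀ x : N, (x : Ω) ∈ T → φ x = φ' x) :
    ∃ z : N, (z : Ω) ∈ T ∧ (z : Ω) ∈ Subgroup.centralizer (T : Set Ω) ∧ ∀ y : N, φ' y = φ (z * y * z⁻¹) := by
  have hNS : N ≤ S := hN.trans inf_le_left
  have hNfin : Finite N := finite_of_le hNS
  have he := isIso_isoOfRange F hφ rfl
  set e : N ≃* φ.range := isoOfRange F hφ rfl with hedef
  -- the image of `T` under `φ` is centric
  have hT₁ : F.IsCentric (imageSub e T) := isCentric_of_isConj F hT (isConj_imageSub F he hTN)
  -- Step 1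
  have step1 : ∀ y : N, ∃ t : N, (t : Ω) ∈ T ∧ φ' y = φ (y * t) := by
    intro y
    have hc : (φ y)⁻¹ * φ' y ∈ centralizerIn S (imageSub e T) := by
      refine ⟨S.mul_mem (S.inv_mem ((F.le_of_mem hφ).2 y)) ((F.le_of_mem hφ').2 y), ?_⟩
      show _ ∈ Subgroup.centralizer ((imageSub e T : Subgroup Ω) : Set Ω)
      rw [Subgroup.mem_centralizer_iff]
      rintro _ ⟨t, ht, rfl⟩
      have ht' : (t : Ω) ∈ T := ht
      have hyt : ((y * t * y⁻¹ : N) : Ω) ∈ T := by
        have := (hN y.2).2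
        exact (Subgroup.mem_normalizer_iff.mp this _).mp ht'
      have h1 := h (y * t * y⁻¹) hyt
      rw [map_mul, map_mul, map_inv, map_mul, map_mul, map_inv, ← h t ht'] at h1
      show φ t * ((φ y)⁻¹ * φ' y) = (φ y)⁻¹ * φ' y * φ t
      calc φ t * ((φ y)⁻¹ * φ' y) = (φ y)⁻¹ * (φ y * φ t * (φ y)⁻¹) * φ' y := by group
        _ = (φ y)⁻¹ * (φ' y * φ t * (φ' y)⁻¹) * φ' y := by rw [h1]
        _ = (φ y)⁻¹ * φ' y * φ t := by group
    obtain ⟨t, ht, ht2⟩ := hT₁.2 _ (isConj_refl F hT₁.1) hc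
    refine ⟨t, ht, ?_⟩
    have ht3 : φ t = (φ y)⁻¹ * φ' y := ht2
    rw [map_mul, ht3, mul_inv_cancel_left]
  -- the ranges coincide
  have hrange : φ'.range = φ.range := by
    have hle : φ'.range ≤ φ.range := by
      rintro _ ⟨y, rfl⟩
      obtain ⟨t, -, ht⟩ := step1 y
      exact ⟨y * t, ht.symm⟩
    have : Finite φ.range := Finite.of_surjective e e.surjective
    refine Subgroup.eq_of_le_of_card_ge hle ?_
    rw [← Nat.card_congr e.toEquiv, Nat.card_congr (MonoidHom.ofInjective (F.injective_of_mem hφ')).toEquiv]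
  have he' := isIso_isoOfRange F hφ' hrange
  set e' : N ≃* φ.range := isoOfRange F hφ' hrange with he'def
  -- the automorphism `α = e⁻¹ ∘ e'` of `N`
  set α : MulAut N := e'.trans e.symm with hαdef
  have hα : IsIso F (α : N ≃* N) := he'.trans he.symm
  have hαφ : ∀ y : N, φ (α y) = φ' y := by
    intro y
    have : ((e (α y) : φ.range) : Ω) = ((e' y : φ.range) : Ω) := by
      show ((e (e.symm (e' y)) : φ.range) : Ω) = _
      rw [MulEquiv.apply_symm_apply]
    exact this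
  have hαT : ∀ y : N, (y : Ω) ∈ T → α y = y := by
    intro y hy
    apply F.injective_of_mem hφ
    rw [hαφ, h y hy]
  have hαstep : ∀ y : N, ∃ t : N, (t : Ω) ∈ T ∧ α y = y * t := by
    intro y
    obtain ⟨t, ht, ht2⟩ := step1 y
    refine ⟨t, ht, ?_⟩
    apply F.injective_of_mem hφ
    rw [hαφ, ht2]
  -- `α` has `p`-power order
  have hαpow : α ^ Nat.card N = 1 := by
    ext y
    obtain ⟨t, ht, hyt⟩ := hαstep y
    have key : ∀ j : ℕ, (α ^ j) y = y * t ^ j := by
      intro j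
      induction j with
      | zero => simp
      | succ j ih =>
        rw [pow_succ', MulAut.mul_apply, ih, map_mul, map_pow, hαT t ht, hyt, mul_assoc, ← pow_succ']
    rw [key, pow_card_eq_one', mul_one, MulAut.one_apply]
  obtain ⟨k, hk⟩ := IsPGroup.iff_card.mp (hS.to_le hNS)
  -- transport to a fully automized conjugate
  obtain ⟨N', hNN', ⟨hN'S, T₀, hT₀⟩, -⟩ := hF N hNS
  obtain ⟨e₀, he₀⟩ := (isConj_iff F N N').mp hNN'
  have : Finite (MulAut N') := finite_mulAut_of_le hN'S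
  have hβA : MulAut.congr e₀ α ∈ F.autGroup N' :=
    (mem_autGroup_iff F hN'S _).mpr (he₀.symm.trans (hα.trans he₀))
  have hβpow : (⟨MulAut.congr e₀ α, hβA⟩ : F.autGroup N') ^ (p ^ k) = 1 := by
    apply Subtype.ext
    show (MulAut.congr e₀ α) ^ (p ^ k) = 1
    rw [← map_pow, ← hk, hαpow, map_one]
  have hB : IsPGroup p (Subgroup.zpowers (⟨MulAut.congr e₀ α, hβA⟩ : F.autGroup N')) := by
    rintro ⟨b, hb⟩
    obtain ⟨i, rfl⟩ := Subgroup.mem_zpowers_iff.mp hb
    refine ⟨k, Subtype.ext ?_⟩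
    show ((⟨MulAut.congr e₀ α, hβA⟩ : F.autGroup N') ^ i) ^ (p ^ k) = 1
    rw [← zpow_natCast, ← zpow_mul, mul_comm, zpow_mul, zpow_natCast, hβpow, one_zpow]
  obtain ⟨a, ha⟩ := exists_conj_mem_sylow_of_isPGroup T₀ _ hB
  have h1 := ha _ (Subgroup.mem_zpowers _)
  rw [hT₀, Subgroup.mem_subgroupOf] at h1
  have haiso : IsIso F ((a : MulAut N') : N' ≃* N') := (mem_autGroup_iff F hN'S a).mp a.2
  set e₁ : N ≃* N' := e₀.trans (a : MulAut N') with he₁def
  have he₁ : IsIso F e₁ := he₀.trans haiso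
  have h3 : ((a * ⟨MulAut.congr e₀ α, hβA⟩ * a⁻¹ : F.autGroup N') : MulAut N') = MulAut.congr e₁ α := by
    ext x
    simp [MulAut.congr, MulAut.mul_apply, MulAut.inv_apply, he₁def]
  rw [h3] at h1
  obtain ⟨g, hgS, hgx⟩ := (mem_autInducedBy_iff S N' _).mp h1
  -- `g` centralizes the image of `T`
  have hT' : F.IsCentric (imageSub e₁ T) := isCentric_of_isConj F hT (isConj_imageSub F he₁ hTN)
  have hγ : ∀ y : N, ((e₁ (α y) : N') : Ω) = g * ((e₁ y : N') : Ω) * g⁻¹ := by
    intro y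
    rw [← hgx (e₁ y)]
    show _ = ((e₁ (α (e₁.symm (e₁ y))) : N') : Ω)
    rw [MulEquiv.symm_apply_apply]
  have hgc : g ∈ centralizerIn S (imageSub e₁ T) := by
    refine ⟨hgS, ?_⟩
    show _ ∈ Subgroup.centralizer ((imageSub e₁ T : Subgroup Ω) : Set Ω)
    rw [Subgroup.mem_centralizer_iff]
    rintro _ ⟨t, ht, rfl⟩
    have h4 := hγ t
    rw [hαT t ht] at h4
    show ((e₁ t : N') : Ω) * g = g * ((e₁ t : N') : Ω)
    calc ((e₁ t : N') : Ω) * g = g * ((e₁ t : N') : Ω) * g⁻¹ * g := by rw [← h4]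
      _ = g * ((e₁ t : N') : Ω) := by group
  obtain ⟨z, hz, hz2⟩ := hT'.2 _ (isConj_refl F hT'.1) hgc
  have hz3 : ((e₁ z : N') : Ω) = g := hz2
  have hαz : ∀ y : N, α y = z * y * z⁻¹ := by
    intro y
    apply e₁.injective
    apply Subtype.ext
    rw [hγ y, ← hz3, map_mul, map_mul, map_inv]
    rfl
  refine ⟨z, hz, ?_, fun y => ?_⟩
  · rw [Subgroup.mem_centralizer_iff]
    intro t ht
    have h5 := hαz ⟨t, hTN ht⟩
    rw [hαT _ ht] at h5
    have h6 : (t : Ω) = (z : Ω) * t * (z : Ω)⁻¹ := congrArg Subtype.val h5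
    calc t * (z : Ω) = (z : Ω) * t * (z : Ω)⁻¹ * (z : Ω) := by rw [← h6]
      _ = (z : Ω) * t := by group
  · rw [← hαφ, hαz]

/-- Precomposition of a map of the system on `P` with conjugation by an element of `P`. -/
theorem comp_conj_mem (F : FusionSystem S) {P : Subgroup Ω} {φ : P →* Ω} (hφ : φ ∈ F.Hom P) (z : P) :
    φ.comp (MulAut.conj z).toMonoidHom ∈ F.Hom P := by
  have hP : P ≤ S := (F.le_of_mem hφ).1
  have h1 := F.conj_mem hP (hP z.2)
  have h2 := F.comp_mem h1 hφ (fun x => P.mul_mem (P.mul_mem z.2 x.2) (P.inv_mem z.2))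
  exact mem_of_eq F h2 (fun x => rfl)

/-- Two maps of a saturated fusion system defined on `P`, agreeing on a centric subgroup `Q ≤ P`, differ by
conjugation by an element of `Z(Q)`. -/
theorem exists_central_conj_of_agree [Finite S] {p : ℕ} [Fact p.Prime] (hS : IsPGroup p S)
    (F : FusionSystem S) (hF : F.IsSaturated p) {P : Subgroup Ω} {φ' : P →* Ω} (hφ' : φ' ∈ F.Hom P) :
    ∀ (n : ℕ) (Q : Subgroup Ω), Nat.card P - Nat.card Q = n → Q ≤ P → F.IsCentric Q → ∀ φ : P →* Ω, φ ∈ F.Hom P →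
      (∀ x : P, (x : Ω) ∈ Q → φ x = φ' x) →
      ∃ z : P, (z : Ω) ∈ Q ∧ (z : Ω) ∈ Subgroup.centralizer (Q : Set Ω) ∧ ∀ y : P, φ' y = φ (z * y * z⁻¹) := by
  have hPS : P ≤ S := (F.le_of_mem hφ').1
  have hPfin : Finite P := finite_of_le hPS
  have hPp : IsPGroup p P := hS.to_le hPS
  intro n
  induction n using Nat.strong_induction_on with
  | _ n ih =>
    intro Q hn hQP hQ φ hφ h
    by_cases hQeq : Q = P
    · refine ⟨1, Q.one_mem, Subgroup.one_mem _, fun y => ?_⟩
      rw [one_mul, inv_one, mul_one]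
      exact (h y (hQeq ▸ y.2)).symm
    · have hQlt : Q < P := lt_of_le_of_ne hQP hQeq
      have hQN : Q < normalizerIn P Q := lt_normalizerIn hPp hQlt
      set N := normalizerIn P Q with hNdef
      have hNP : N ≤ P := inf_le_left
      have hNS : N ≤ normalizerIn S Q := inf_le_inf_right _ hPS
      have hr := restrict_mem F hφ hNP
      have hr' := restrict_mem F hφ' hNP
      obtain ⟨z₁, hz₁Q, hz₁C, hz₁⟩ := exists_central_conj_of_agree_normal hS F hF hQN.le hNS hQ hr hr'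
        (fun x hx => h _ hx)
      set w : P := Subgroup.inclusion hNP z₁ with hwdef
      have hφ₁ := comp_conj_mem F hφ w
      have hNcen : F.IsCentric N := isCentric_of_le F hQ hQN.le (hNP.trans hPS)
      have hNfin : Finite N := finite_of_le (hNP.trans hPS)
      have hcard1 : Nat.card Q < Nat.card N := card_lt_card_of_lt hQN
      have hcard2 : Nat.card N ≤ Nat.card P := Subgroup.card_le_of_le hNP
      obtain ⟨z₂, hz₂N, hz₂C, hz₂⟩ := ih (Nat.card P - Nat.card N) (by omega) N rfl hNP hNcen _ hφ₁ (by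
        intro x hx
        have := hz₁ ⟨x, hx⟩
        show φ (w * x * w⁻¹) = φ' x
        exact this.symm)
      have hz₂CQ : (z₂ : Ω) ∈ Subgroup.centralizer (Q : Set Ω) :=
        Subgroup.centralizer_le (show (Q : Set Ω) ⊆ N from hQN.le) hz₂C
      have hz₂Q : (z₂ : Ω) ∈ Q :=
        hQ.2 Q (isConj_refl F hQ.1) ⟨hPS z₂.2, hz₂CQ⟩
      refine ⟨w * z₂, Q.mul_mem hz₁Q hz₂Q, Subgroup.mul_mem _ hz₁C hz₂CQ, fun y => ?_⟩
      rw [hz₂ y]
      show φ (w * (z₂ * y * z₂⁻¹) * w⁻¹) = φ (w * z₂ * y * (w * z₂)⁻¹)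
      congr 1
      group

end Cfsg.Agent.Helper88.FS
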