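import Cfsg.Agent.S5106
import Cfsg.Agent.S5145
set_option autoImplicit false

/-!
Invariant subsystems: transport of maps along automorphisms of the big system, and the image of a subgroup normal in
the subsystem.
-/

namespace Cfsg.Agent.Helper88.FS

open Cfsg Cfsg.FusionSystem Cfsg.Agent.Helper87

variable {Ω : Type*} [Group Ω] {S T : Subgroup Ω}

/-- The image of `P ∩ T` under the automorphism `α` of `T`, as a subgroup of the ambient group. -/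
def imgT (α : MulAut T) (P : Subgroup Ω) : Subgroup Ω := (P.subgroupOf T).map (T.subtype.comp α.toMonoidHom)

theorem mem_imgT_iff (α : MulAut T) (P : Subgroup Ω) (y : Ω) :
    y ∈ imgT α P ↔ ∃ x : T, (x : Ω) ∈ P ∧ ((α x : T) : Ω) = y := by
  unfold imgT
  simp [Subgroup.mem_map, Subgroup.mem_subgroupOf]

theorem imgT_le (α : MulAut T) (P : Subgroup Ω) : imgT α P ≤ T := by
  intro y hy
  obtain ⟨x, -, rfl⟩ := (mem_imgT_iff α P y).mp hy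
  exact (α x).2

theorem apply_mem_imgT (α : MulAut T) {P : Subgroup Ω} (x : T) (hx : (x : Ω) ∈ P) : ((α x : T) : Ω) ∈ imgT α P :=
  (mem_imgT_iff α P _).mpr ⟨x, hx, rfl⟩

/-- Transport of a map of the invariant subsystem along an automorphism of `T` in the big system. -/
theorem exists_transport {E : FusionSystem T} {F : FusionSystem S} (hEF : E.IsInvariantIn F) {P : Subgroup Ω}
    (hPT : P ≤ T) {φ : P →* Ω} (hφ : φ ∈ E.Hom P) {α : MulAut T} (hα : α ∈ F.autGroup T) :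
    ∃ χ ∈ E.Hom (imgT α P), ∀ (x : T) (hx : (x : Ω) ∈ P) (h : ((α x : T) : Ω) ∈ imgT α P) (h' : φ ⟨x, hx⟩ ∈ T),
      χ ⟨((α x : T) : Ω), h⟩ = ((α ⟨φ ⟨x, hx⟩, h'⟩ : T) : Ω) := by
  obtain ⟨χ, hχ, hχx⟩ := hEF.2.2.1 P hPT φ hφ α hα
  exact ⟨χ, hχ, fun x hx h h' => hχx ⟨x, hx⟩ h' h⟩

/-- The image under `α ∈ Aut_F(T)` of a subgroup normal in the invariant saturated subsystem `E` is normal in `E`. -/
theorem isNormal_imgT [Finite T] {p : ℕ} [Fact p.Prime] (hT : IsPGroup p T) {E : FusionSystem T}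
    {F : FusionSystem S} (hE : E.IsSaturated p) (hEF : E.IsInvariantIn F) {R : Subgroup Ω} (hR : E.IsNormal R)
    {α : MulAut T} (hα : α ∈ F.autGroup T) : E.IsNormal (imgT α R) := by
  have hRT : R ≤ T := hR.1
  have hext := (Cfsg.Agent.S5106.result p hT E hE R hRT).mp hR
  apply (Cfsg.Agent.S5106.result p hT E hE (imgT α R) (imgT_le α R)).mpr
  intro P hPR' φ hφ
  have hPT : P ≤ T := hPR'.trans (imgT_le α R)
  have hφT : ∀ x : P, φ x ∈ T := (E.le_of_mem hφ).2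
  have hαinv : α⁻¹ ∈ F.autGroup T := (F.autGroup T).inv_mem hα
  -- transport `φ` back along `α`
  obtain ⟨φ', hφ', hφ'x⟩ := exists_transport hEF hPT hφ hαinv
  have hP₀R : imgT α⁻¹ P ≤ R := by
    intro y hy
    obtain ⟨x, hxP, rfl⟩ := (mem_imgT_iff _ _ _).mp hy
    obtain ⟨r, hrR, hrx⟩ := (mem_imgT_iff _ _ _).mp (hPR' hxP)
    have : α r = x := Subtype.ext hrx
    rw [← this, MulAut.inv_apply_self]
    exact hrR
  -- extend to an automorphism of `R` in `E`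
  obtain ⟨γ, hγ, hγx⟩ := hext (imgT α⁻¹ P) hP₀R φ' hφ'
  have hγiso : R.subtype.comp (γ : R ≃* R).toMonoidHom ∈ E.Hom R := (mem_autGroup_iff E hRT γ).mp hγ
  -- transport forward along `α`
  obtain ⟨χ, hχ, hχx⟩ := exists_transport hEF hRT hγiso hα
  have hχx' : ∀ (r : R) (h : ((α ⟨r, hRT r.2⟩ : T) : Ω) ∈ imgT α R),
      χ ⟨((α ⟨r, hRT r.2⟩ : T) : Ω), h⟩ = ((α ⟨(γ r : R), hRT (γ r).2⟩ : T) : Ω) := by
    intro r h
    exact hχx ⟨r, hRT r.2⟩ r.2 h (hRT (γ r).2)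
  have hrange : χ.range = imgT α R := by
    ext y
    constructor
    · rintro ⟨⟨z, hz⟩, rfl⟩
      obtain ⟨r, hrR, hrz⟩ := (mem_imgT_iff _ _ _).mp hz
      have e : (⟨z, hz⟩ : imgT α R) = ⟨((α ⟨(⟨r, hrR⟩ : R), hRT hrR⟩ : T) : Ω), apply_mem_imgT α _ hrR⟩ :=
        Subtype.ext hrz.symm
      rw [e, hχx' ⟨r, hrR⟩]
      exact apply_mem_imgT α _ (γ _).2
    · intro hy
      obtain ⟨r, hrR, rfl⟩ := (mem_imgT_iff _ _ _).mp hy
      refine ⟨⟨((α ⟨(γ⁻¹ ⟨r, hrR⟩ : R), hRT (γ⁻¹ ⟨r, hrR⟩).2⟩ : T) : Ω), apply_mem_imgT α _ (γ⁻¹ ⟨r, hrR⟩).2⟩, ?_⟩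
      rw [hχx' (γ⁻¹ ⟨r, hrR⟩)]
      simp
  refine ⟨isoOfRange E hχ hrange, (mem_autGroup_iff E (imgT_le α R) _).mpr (isIso_isoOfRange E hχ hrange),
    fun x => ?_⟩
  rw [isoOfRange_apply]
  -- `x = α r` with `r = α⁻¹ x ∈ R`
  set xT : T := ⟨x, hPT x.2⟩ with hxT
  have hr₀ : ((α⁻¹ xT : T) : Ω) ∈ imgT α⁻¹ P := apply_mem_imgT α⁻¹ xT x.2
  have hrR : ((α⁻¹ xT : T) : Ω) ∈ R := hP₀R hr₀
  have e : Subgroup.inclusion hPR' x =
      ⟨((α ⟨(⟨(α⁻¹ xT : T), hrR⟩ : R), hRT hrR⟩ : T) : Ω), apply_mem_imgT α _ hrR⟩ := by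
    apply Subtype.ext
    show (x : Ω) = ((α (α⁻¹ xT) : T) : Ω)
    rw [MulAut.apply_inv_self]
  rw [e, hχx' ⟨(α⁻¹ xT : T), hrR⟩]
  have h1 := hγx ⟨((α⁻¹ xT : T) : Ω), hr₀⟩
  have h2 := hφ'x xT x.2 hr₀ (hφT x)
  have h3 : ((γ ⟨((α⁻¹ xT : T) : Ω), hrR⟩ : R) : Ω) = ((α⁻¹ ⟨φ x, hφT x⟩ : T) : Ω) := by
    rw [← h2]
    exact h1
  have h4 : (⟨((γ ⟨((α⁻¹ xT : T) : Ω), hrR⟩ : R) : Ω), hRT (γ _).2⟩ : T) = α⁻¹ ⟨φ x, hφT x⟩ := Subtype.ext h3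
  rw [h4, MulAut.apply_inv_self]

end Cfsg.Agent.Helper88.FS
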