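import Cfsg.Agent.Helper88.InvariantCore
import Cfsg.Agent.Helper87.FusionAlperin
set_option autoImplicit false

/-!
The Frattini property relative to a subsystem with the transport property along automorphisms of `T` in the big
system; the system of all maps with the Frattini property; a form of the Alperin--Goldschmidt theorem with an
inductive hypothesis for the essential subgroups.
-/

namespace Cfsg.Agent.Helper88.FS

open Cfsg Cfsg.FusionSystem Cfsg.Agent.Helper87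

variable {Ω : Type*} [Group Ω] {S T : Subgroup Ω}

/-- Transport property of the subsystem `E` along the automorphisms of `T` in the big system. -/
def PushAut (E : FusionSystem T) (F : FusionSystem S) : Prop :=
  ∀ {P P' : Subgroup Ω} (hPT : P ≤ T) {θ : P →* Ω}, θ ∈ E.Hom P → ∀ {α : MulAut T}, α ∈ F.autGroup T →
    (∀ y, y ∈ P' ↔ ∃ x : P, ((α ⟨x, hPT x.2⟩ : T) : Ω) = y) →
    ∃ χ ∈ E.Hom P', ∀ (x : P) (hx : ((α ⟨x, hPT x.2⟩ : T) : Ω) ∈ P') (hθx : θ x ∈ T),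
      χ ⟨((α ⟨x, hPT x.2⟩ : T) : Ω), hx⟩ = ((α ⟨θ x, hθx⟩ : T) : Ω)

theorem StrongInv.toPushAut {E : FusionSystem T} {F : FusionSystem S} (h : StrongInv E F) (hTS : T ≤ S) :
    PushAut E F := fun hPT _ hθ _ hα hP' => h.pushAut hTS hPT hθ hα hP'

theorem Fr.comp_mem' {E : FusionSystem T} {F : FusionSystem S} (hPA : PushAut E F)
    {P Q : Subgroup Ω} {φ : P →* Ω} (h : Fr E F φ) (hφQ : ∀ x : P, φ x ∈ Q) {θ : Q →* Ω} (hθ : θ ∈ E.Hom Q) :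
    Fr E F (θ.comp (φ.codRestrict Q hφQ)) := by
  obtain ⟨α, hα, φ₀, hφ₀, hx⟩ := h
  have hPT : P ≤ T := (E.le_of_mem hφ₀).1
  have hφ₀T : ∀ x : P, φ₀ x ∈ T := (E.le_of_mem hφ₀).2
  have hQT : Q ≤ T := (E.le_of_mem hθ).1
  have hαinv : α⁻¹ ∈ F.autGroup T := (F.autGroup T).inv_mem hα
  -- the restriction of `θ` to the image of `φ`
  have hP₁Q : φ.range ≤ Q := by
    rintro y ⟨x, rfl⟩
    exact hφQ x
  have hP₁T : φ.range ≤ T := hP₁Q.trans hQT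
  have hθ₁ : θ.comp (Subgroup.inclusion hP₁Q) ∈ E.Hom φ.range := restrict_mem E hθ hP₁Q
  have hφx : ∀ x : P, ((α⁻¹ ⟨φ x, hP₁T ⟨x, rfl⟩⟩ : T) : Ω) = φ₀ x := by
    intro x
    have e : (⟨φ x, hP₁T ⟨x, rfl⟩⟩ : T) = α ⟨φ₀ x, hφ₀T x⟩ := Subtype.ext (hx x (hφ₀T x))
    rw [e, MulAut.inv_apply_self]
  have hP' : ∀ y, y ∈ φ₀.range ↔ ∃ z : φ.range, ((α⁻¹ ⟨z, hP₁T z.2⟩ : T) : Ω) = y := by
    intro y
    constructor
    · rintro ⟨x, rfl⟩
      exact ⟨⟨φ x, ⟨x, rfl⟩⟩, hφx x⟩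
    · rintro ⟨⟨_, ⟨x, rfl⟩⟩, rfl⟩
      exact ⟨x, (hφx x).symm⟩
  obtain ⟨χ, hχ, hχx⟩ := hPA hP₁T hθ₁ hαinv hP'
  refine ⟨α, hα, χ.comp (φ₀.codRestrict φ₀.range (fun x => ⟨x, rfl⟩)),
    E.comp_mem hφ₀ hχ (fun x => ⟨x, rfl⟩), fun x hx' => ?_⟩
  have hθT : θ ⟨φ x, hφQ x⟩ ∈ T := (E.le_of_mem hθ).2 _
  have h1 := hχx ⟨φ x, ⟨x, rfl⟩⟩ (by rw [hφx x]; exact ⟨x, rfl⟩) hθT
  have e : (⟨φ₀ x, ⟨x, rfl⟩⟩ : φ₀.range) =
      ⟨((α⁻¹ ⟨φ x, hP₁T ⟨x, rfl⟩⟩ : T) : Ω), by rw [hφx x]; exact ⟨x, rfl⟩⟩ := Subtype.ext (hφx x).symm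
  have h2 : (χ.comp (φ₀.codRestrict φ₀.range (fun x => ⟨x, rfl⟩))) x = ((α⁻¹ ⟨θ ⟨φ x, hφQ x⟩, hθT⟩ : T) : Ω) := by
    show χ ⟨φ₀ x, ⟨x, rfl⟩⟩ = _
    rw [e]
    exact h1
  have h3 : (⟨(χ.comp (φ₀.codRestrict φ₀.range (fun x => ⟨x, rfl⟩))) x, hx'⟩ : T) = α⁻¹ ⟨θ ⟨φ x, hφQ x⟩, hθT⟩ :=
    Subtype.ext h2
  rw [h3, MulAut.apply_inv_self]
  rfl

/-- Composition of two maps with the Frattini property. -/
theorem Fr.comp' {E : FusionSystem T} {F : FusionSystem S} (hPA : PushAut E F)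
    {P Q : Subgroup Ω} {φ : P →* Ω} (h : Fr E F φ) (hφQ : ∀ x : P, φ x ∈ Q) {ψ : Q →* Ω} (hψ : Fr E F ψ) :
    Fr E F (ψ.comp (φ.codRestrict Q hφQ)) := by
  obtain ⟨α₂, hα₂, ψ₀, hψ₀, hψx⟩ := hψ
  obtain ⟨α, hα, φ₀, hφ₀, hx⟩ := h.comp_mem' hPA hφQ hψ₀
  refine ⟨α₂ * α, (F.autGroup T).mul_mem hα₂ hα, φ₀, hφ₀, fun x hx' => ?_⟩
  have h1 := hx x hx'
  have hψ₀T : ψ₀ ⟨φ x, hφQ x⟩ ∈ T := (E.le_of_mem hψ₀).2 _
  have h2 := hψx ⟨φ x, hφQ x⟩ hψ₀T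
  show ψ ⟨φ x, hφQ x⟩ = _
  rw [h2, MulAut.mul_apply]
  congr 2
  exact Subtype.ext h1


/-- The inverse of a map with the Frattini property has the Frattini property. -/
theorem Fr.inv' {E : FusionSystem T} {F : FusionSystem S} (hPA : PushAut E F)
    {P : Subgroup Ω} {φ : P →* Ω} (h : Fr E F φ) {ρ : φ.range →* Ω} (hρ : ∀ x : P, ρ ⟨φ x, ⟨x, rfl⟩⟩ = (x : Ω)) :
    Fr E F ρ := by
  obtain ⟨α, hα, φ₀, hφ₀, hx⟩ := h
  have hPT : P ≤ T := (E.le_of_mem hφ₀).1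
  have hφ₀T : ∀ x : P, φ₀ x ∈ T := (E.le_of_mem hφ₀).2
  have hαinv : α⁻¹ ∈ F.autGroup T := (F.autGroup T).inv_mem hα
  have hP₀T : φ₀.range ≤ T := by
    rintro y ⟨x, rfl⟩
    exact hφ₀T x
  obtain ⟨ρ₀, hρ₀, hρ₀x⟩ := E.inv_mem hφ₀
  have hP' : ∀ y, y ∈ φ.range ↔ ∃ z : φ₀.range, ((α ⟨z, hP₀T z.2⟩ : T) : Ω) = y := by
    intro y
    constructor
    · rintro ⟨x, rfl⟩
      exact ⟨⟨φ₀ x, ⟨x, rfl⟩⟩, (hx x (hφ₀T x)).symm⟩
    · rintro ⟨⟨_, ⟨x, rfl⟩⟩, rfl⟩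
      exact ⟨x, hx x (hφ₀T x)⟩
  obtain ⟨χ, hχ, hχx⟩ := hPA hP₀T hρ₀ hα hP'
  refine ⟨α⁻¹, hαinv, χ, hχ, ?_⟩
  rintro ⟨_, ⟨x, rfl⟩⟩ hx'
  have hxT : ρ₀ ⟨φ₀ x, ⟨x, rfl⟩⟩ ∈ T := by rw [hρ₀x x]; exact hPT x.2
  have h1 := hχx ⟨φ₀ x, ⟨x, rfl⟩⟩ (by rw [← hx x (hφ₀T x)]; exact ⟨x, rfl⟩) hxT
  have e : (⟨φ x, ⟨x, rfl⟩⟩ : φ.range) =
      ⟨((α ⟨φ₀ x, hφ₀T x⟩ : T) : Ω), by rw [← hx x (hφ₀T x)]; exact ⟨x, rfl⟩⟩ := Subtype.ext (hx x (hφ₀T x))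
  have h2 : χ ⟨φ x, ⟨x, rfl⟩⟩ = ((α ⟨ρ₀ ⟨φ₀ x, ⟨x, rfl⟩⟩, hxT⟩ : T) : Ω) := by
    rw [e]
    exact h1
  have h3 : (⟨χ ⟨φ x, ⟨x, rfl⟩⟩, hx'⟩ : T) = α ⟨ρ₀ ⟨φ₀ x, ⟨x, rfl⟩⟩, hxT⟩ := Subtype.ext h2
  rw [h3, MulAut.inv_apply_self, hρ x]
  exact (hρ₀x x).symm


/-- The invariant core has the transport property. -/
theorem pushAut_invCore (E F : FusionSystem S) : PushAut (invCore E F) F := by
  intro P P' hPS θ hθ α hα hP'
  have hθS : ∀ x, θ x ∈ S := (E.le_of_mem hθ.1).2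
  have hP'' : ∀ y : Ω, y ∈ P' ↔ ∃ x : S, (x : Ω) ∈ P ∧ ((α x : S) : Ω) = y := by
    intro y
    rw [hP' y]
    constructor
    · rintro ⟨x, rfl⟩
      exact ⟨⟨x, hPS x.2⟩, x.2, rfl⟩
    · rintro ⟨x, hx, rfl⟩
      exact ⟨⟨x, hx⟩, rfl⟩
  obtain ⟨χ, hχ⟩ := exists_isTr α θ hθS hP''
  refine ⟨χ, ⟨hθ.2 α hα P' χ hχ, fun β hβ P'' χ' hχ' =>
    hθ.2 (β * α) ((F.autGroup S).mul_mem hβ hα) P'' χ' (hχ.trans hχ')⟩, fun x hx hθx => ?_⟩
  exact hχ.2 ⟨x, hPS x.2⟩ x.2 hx hθx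

theorem invCore_hom_subset (E F : FusionSystem S) (P : Subgroup Ω) : (invCore E F).Hom P ⊆ E.Hom P :=
  fun _ h => h.1

/-- The system of all maps with the Frattini property. -/
def frSystem (E F : FusionSystem S) (hPA : PushAut E F) : FusionSystem S where
  Hom P := {φ | Fr E F φ}
  le_of_mem := by
    rintro P φ ⟨α, hα, φ₀, hφ₀, hx⟩
    refine ⟨(E.le_of_mem hφ₀).1, fun x => ?_⟩
    rw [hx x ((E.le_of_mem hφ₀).2 x)]
    exact (α _).2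
  injective_of_mem := by
    rintro P φ ⟨α, hα, φ₀, hφ₀, hx⟩ a b hab
    rw [hx a ((E.le_of_mem hφ₀).2 a), hx b ((E.le_of_mem hφ₀).2 b)] at hab
    have h1 := α.injective (Subtype.ext hab)
    exact E.injective_of_mem hφ₀ (congrArg (fun z : S => (z : Ω)) h1)
  conj_mem := fun hP hg => Fr.of_mem (E.conj_mem hP hg)
  comp_mem := fun h1 h2 h => h1.comp' hPA h h2
  inv_mem := by
    intro P φ hφ
    have hinj : Function.Injective φ := by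
      obtain ⟨α, hα, φ₀, hφ₀, hx⟩ := hφ
      intro a b hab
      rw [hx a ((E.le_of_mem hφ₀).2 a), hx b ((E.le_of_mem hφ₀).2 b)] at hab
      have h1 := α.injective (Subtype.ext hab)
      exact E.injective_of_mem hφ₀ (congrArg (fun z : S => (z : Ω)) h1)
    have hρ : ∀ x : P, (P.subtype.comp (MonoidHom.ofInjective hinj).symm.toMonoidHom) ⟨φ x, ⟨x, rfl⟩⟩ = (x : Ω) := by
      intro x
      show (((MonoidHom.ofInjective hinj).symm ⟨φ x, ⟨x, rfl⟩⟩ : P) : Ω) = x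
      have : (⟨φ x, ⟨x, rfl⟩⟩ : φ.range) = MonoidHom.ofInjective hinj x := Subtype.ext rfl
      rw [this, MulEquiv.symm_apply_apply]
    exact ⟨_, hφ.inv' hPA hρ, hρ⟩

theorem mem_frSystem_hom_iff (E F : FusionSystem S) (hPA : PushAut E F) {P : Subgroup Ω} (φ : P →* Ω) :
    φ ∈ (frSystem E F hPA).Hom P ↔ Fr E F φ := Iff.rfl

/-- The Alperin--Goldschmidt theorem with an inductive hypothesis available for the essential subgroups (after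
`Cfsg.Agent.Helper87.alperin`). -/
theorem alperin_ind [Finite S] {p : ℕ} [Fact p.Prime] (hS : IsPGroup p S) (F E : FusionSystem S)
    (hF : F.IsSaturated p) (hE₁ : F.autGroup S ≤ E.autGroup S)
    (hE₂ : ∀ R : Subgroup Ω, F.IsEssential p R →
      (∀ (N : Subgroup Ω) (ψ : N →* Ω), R < N → ψ ∈ F.Hom N → ψ ∈ E.Hom N) → F.autGroup R ≤ E.autGroup R) :
    ∀ P : Subgroup Ω, F.Hom P ⊆ E.Hom P := by
  intro P
  induction' hn : Nat.card S - Nat.card P using Nat.strong_induction_on with n ih generalizing P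
  intro φ hφ
  have hPS : P ≤ S := (F.le_of_mem hφ).1
  have hP : Finite P := finite_of_le hPS
  have ih' : ∀ (N : Subgroup Ω) (ψ : N →* Ω), Nat.card P < Nat.card N → ψ ∈ F.Hom N → ψ ∈ E.Hom N := by
    intro N ψ hlt hψ
    have hNS : N ≤ S := (F.le_of_mem hψ).1
    have : Finite N := finite_of_le hNS
    have hle : Nat.card N ≤ Nat.card S := Subgroup.card_le_of_le hNS
    exact ih (Nat.card S - Nat.card N) (by omega) N rfl hψ
  have he := isIso_ofInjective F hφ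
  set e := MonoidHom.ofInjective (F.injective_of_mem hφ) with he_def
  have hQS : φ.range ≤ S := he.le_right
  have hcardQ : Nat.card φ.range = Nat.card P := (Nat.card_congr e.toEquiv).symm
  by_cases hPeq : P = S
  · subst hPeq
    have : Finite φ.range := finite_of_le hQS
    have hQ : φ.range = P := Subgroup.eq_of_le_of_card_ge hQS (le_of_eq hcardQ.symm)
    have hα : IsIso F (e.trans (MulEquiv.subgroupCongr hQ)) := by
      unfold IsIso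
      exact mem_of_eq F hφ (fun x => rfl)
    have hαE := hE₁ ((mem_autGroup_iff F hPS (e.trans (MulEquiv.subgroupCongr hQ))).mpr hα)
    have := (mem_autGroup_iff E hPS _).mp hαE
    exact mem_of_eq E this (fun x => rfl)
  · have hPlt : P < S := lt_of_le_of_ne hPS hPeq
    obtain ⟨R, hQR, hRa, hRr⟩ := hF φ.range hQS
    obtain ⟨e₂, he₂⟩ := (isConj_iff F φ.range R).mp hQR
    have hRS : R ≤ S := he₂.le_right
    have hcardR : Nat.card R = Nat.card P := by rw [← hcardQ]; exact (Nat.card_congr e₂.toEquiv).symm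
    have hcardlt : Nat.card P < Nat.card S := card_lt_card_of_lt hPlt
    have hRlt : R < S := lt_of_le_of_ne hRS (fun h => by rw [h] at hcardR; omega)
    have hQlt : φ.range < S := lt_of_le_of_ne hQS (fun h => by rw [h] at hcardQ; omega)
    obtain ⟨φ₁, hφ₁, e₁', he₁', hφ₁x⟩ := exists_extension_normalizerIn hS F hRa hRr (e.trans e₂) (he.trans he₂)
    obtain ⟨φ₂, hφ₂, e₂', he₂', hφ₂x⟩ := exists_extension_normalizerIn hS F hRa hRr e₂ he₂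
    have hN₁ : Finite (normalizerIn S P) := finite_of_le inf_le_left
    have hN₂ : Finite (normalizerIn S φ.range) := finite_of_le inf_le_left
    have hφ₁E := ih' _ φ₁ (card_lt_card_of_lt (lt_normalizerIn hS hPlt)) hφ₁
    have hφ₂E := ih' _ φ₂ (by rw [← hcardQ]; exact card_lt_card_of_lt (lt_normalizerIn hS hQlt)) hφ₂
    have he₁E : IsIso E e₁' := isIso_of_restrict E hφ₁E (le_normalizerIn hPS) e₁' hφ₁x
    have he₂E : IsIso E e₂' := isIso_of_restrict E hφ₂E (le_normalizerIn hQS) e₂' hφ₂x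
    have hαF : IsIso F (e₁'.symm.trans (e.trans e₂')) := he₁'.symm.trans (he.trans he₂')
    have ihR : ∀ (N : Subgroup Ω) (ψ : N →* Ω), R < N → ψ ∈ F.Hom N → ψ ∈ E.Hom N := by
      intro N ψ hlt hψ
      have hNS : N ≤ S := (F.le_of_mem hψ).1
      have : Finite N := finite_of_le hNS
      exact ih' N ψ (by rw [← hcardR]; exact card_lt_card_of_lt hlt) hψ
    have hle := autGroup_le_of_larger hS F E hRa hRr hRlt (fun hess => hE₂ R hess ihR) ihR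
    have hαE : IsIso E (e₁'.symm.trans (e.trans e₂')) :=
      (mem_autGroup_iff E hRS _).mp (hle ((mem_autGroup_iff F hRS (e₁'.symm.trans (e.trans e₂'))).mpr hαF))
    have hfin : IsIso E (e₁'.trans ((e₁'.symm.trans (e.trans e₂')).trans e₂'.symm)) :=
      he₁E.trans (hαE.trans he₂E.symm)
    exact mem_of_eq E hfin (fun x => by simp; rfl)

end Cfsg.Agent.Helper88.FS
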