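import Mathlib
import Cfsg.Prelude.Def_Transfer
import Cfsg.Agent.Helper44.CliffDefs
import Cfsg.Agent.Helper23.CliffL1

/-!
# S3084 piece (L2) for helper44: the sign function of an isometry of `q0`
-/

set_option autoImplicit false
open scoped MatrixGroups

namespace Cfsg.Agent.Helper88.Cliff

open Matrix Cfsg.Agent.Helper44.Cliff

variable {n : ℕ}

theorem zmod2_add_self (a : ZMod 2) : a + a = 0 := by
  revert a; decide

/-- (L2) the sign function of an isometry. -/
theorem exists_sign (σ : U0 n → U0 n) (hadd : ∀ u v, σ (u + v) = σ u + σ v)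
    (hq : ∀ u, q0 (σ u) = q0 u) :
    ∃ f : U0 n → ZMod 2, ∀ u v, f (u + v) = f u + f v + bet (σ u) (σ v) + bet u v := by
  -- the polar form is preserved
  have hbil : ∀ u v, bil (σ u) (σ v) = bil u v := by
    intro u v
    have h1 := q0_add (σ u) (σ v)
    have h2 := q0_add u v
    rw [← hadd, hq, hq, hq] at h1
    -- `q0 (u+v) = q0 u + q0 v + bil (σ u) (σ v)` and `= q0 u + q0 v + bil u v`
    have h3 : q0 u + q0 v + bil (σ u) (σ v) = q0 u + q0 v + bil u v := by rw [← h1, ← h2]
    exact add_left_cancel h3
  obtain ⟨f, hf⟩ := Cfsg.Agent.Helper23.Cliff.exists_quadratic_of_alternating (fun u v => bet (σ u) (σ v) + bet u v)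
    (by
      intro u u' v
      show bet (σ (u + u')) (σ v) + bet (u + u') v = _
      rw [hadd, bet_add_left, bet_add_left]; ring)
    (by
      intro u v v'
      show bet (σ u) (σ (v + v')) + bet u (v + v') = _
      rw [hadd, bet_add_right, bet_add_right]; ring)
    (by
      intro u v
      show bet (σ u) (σ v) + bet u v = bet (σ v) (σ u) + bet v u
      have h1 := bet_add_bet (σ u) (σ v)
      have h2 := bet_add_bet u v
      rw [hbil] at h1
      -- `a + b = c + d` from `a + c = e`, `b + d = e` in characteristic two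
      have h3 : bet (σ u) (σ v) + bet (σ v) (σ u) = bet u v + bet v u := by rw [h1, h2]
      have e1 := zmod2_add_self (bet (σ v) (σ u))
      have e2 := zmod2_add_self (bet u v)
      linear_combination h3 - e1 + e2)
    (by
      intro u
      show bet (σ u) (σ u) + bet u u = 0
      rw [bet_self, bet_self, hq]
      exact zmod2_add_self _)
  refine ⟨f, fun u v => ?_⟩
  rw [hf u v]
  ring

end Cfsg.Agent.Helper88.Cliff
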