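-- Interface for S5318 (2-fusion system of PSL₃(q), q odd, is simple): data describing the Sylow 2-subgroups of
-- GL₂(F) (helper37's generators) and the hypotheses under which their image in SL₃(F) gives a simple fusion system
-- (helper88).
import Cfsg.Agent.Helper37.SU3InvA
import Cfsg.Agent.Helper37.GL2Sylow2
import Cfsg.Agent.Helper85.SimpleCrit

set_option autoImplicit false

namespace Cfsg.Agent.Helper88.PSL3F

open Matrix Cfsg.Agent.Helper37.PSL3Inv Cfsg.Agent.Helper37.SU3Inv Cfsg.Agent.Helper37.GL2S2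
  Cfsg.Agent.Helper85

variable {F : Type*} [Field F]

/-- the involution `diag(-1,-1,1)` of `SL₃(F)` -/
noncomputable def zSL (F : Type*) [Field F] : Matrix.SpecialLinearGroup (Fin 3) F :=
  blkSL (-1 : GL (Fin 2) F)

/-- `P` is the wreathed group of monomial matrices with entries in `⟨ζ⟩`, `ζ` of order `2^a`, `a ≥ 2`. -/
structure WrData (P : Subgroup (GL (Fin 2) F)) (ζ : Fˣ) (a : ℕ) : Prop where
  ha : 2 ≤ a
  hζ : orderOf ζ = 2 ^ a
  mem : ∀ g : GL (Fin 2) F, g ∈ P ↔ ∃ i j : ℕ, g = dg (ζ ^ i) (ζ ^ j) ∨ g = dg (ζ ^ i) (ζ ^ j) * sw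

/-- `P = ⟨x, y⟩` is semidihedral of order `2^(b+2)`, `b ≥ 2`, with central involution `-1`. -/
structure SdData (P : Subgroup (GL (Fin 2) F)) (x y : GL (Fin 2) F) (b : ℕ) : Prop where
  hb : 2 ≤ b
  hx : orderOf x = 2 ^ (b + 1)
  hy : y * y = 1
  hyx : y * x * y⁻¹ = x ^ (2 ^ b - 1)
  hneg : x ^ (2 ^ b) = -1
  mem : ∀ g : GL (Fin 2) F, g ∈ P ↔ ∃ i : ℕ, g = x ^ i ∨ g = x ^ i * y

/-- The three properties of a Sylow `2`-subgroup `P` of `GL₂(F)` from which the simplicity of the fusion system of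
`SL₃(F)` on the image of `P` follows. -/
structure Good (P : Subgroup (GL (Fin 2) F)) : Prop where
  /-- the only central involution is `-1` -/
  cen : ∀ z ∈ P, (∀ x ∈ P, z * x = x * z) → z * z = 1 → z = 1 ∨ z = -1
  /-- `N(P) = P C(P)` in `GL₂(F)` -/
  selfNorm : SelfNorm P
  /-- a subgroup containing all involutions of `P` and closed under `SL₃(F)`-fusion is `P` -/
  fus : ∀ T₀ : Subgroup (GL (Fin 2) F), T₀ ≤ P → (∀ t ∈ P, t * t = 1 → t ∈ T₀) →
    (∀ t ∈ T₀, ∀ g : Matrix.SpecialLinearGroup (Fin 3) F, ∀ s ∈ P,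
      g * blkSL t * g⁻¹ = blkSL s → s ∈ T₀) → T₀ = P

end Cfsg.Agent.Helper88.PSL3F
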