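import Cfsg.Agent.Helper88.FTransfer
import Cfsg.Agent.S5148
set_option autoImplicit false
set_option linter.style.haveILetI false

/-! # Consequences of the stability of the transfer: it kills the focal subgroup and is a power map on the centre -/

namespace Cfsg.Agent.Helper88.Biset

open Cfsg Cfsg.FusionSystem Cfsg.Agent.Helper87 Cfsg.Agent.Helper88.Marks Cfsg.Agent.Helper88.TransferCount

variable {Ω : Type*} [Group Ω] {S : Subgroup Ω}

theorem focalSubgroup_le (F : FusionSystem S) : F.focalSubgroup ≤ S := by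
  unfold focalSubgroup
  rw [Subgroup.closure_le]
  rintro y ⟨P, φ, x, hφ, rfl⟩
  exact S.mul_mem (S.inv_mem ((F.le_of_mem hφ).1 x.2)) ((F.le_of_mem hφ).2 x)

/-- The transfer of a stable multiset kills the focal subgroup. -/
theorem bisetTransfer_focal [Finite S] {A : Type*} [CommGroup A] [Finite A] (F : FusionSystem S)
    (m : Subgroup (↥S × ↥S) →₀ ℕ) (hsupp : ∀ D ∈ m.support, TD F D) (hstab : StableFrom F m 0)
    (lam : ↥S →* A) (y : Ω) (hy : y ∈ F.focalSubgroup) :
    bisetTransfer m lam ⟨y, focalSubgroup_le F hy⟩ = 1 := by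
  have key : ∀ y ∈ F.focalSubgroup, ∃ h : y ∈ S, bisetTransfer m lam ⟨y, h⟩ = 1 := by
    intro y hy
    unfold focalSubgroup at hy
    induction hy using Subgroup.closure_induction with
    | mem y hy =>
      obtain ⟨P, φ, x, hφ, rfl⟩ := hy
      refine ⟨S.mul_mem (S.inv_mem ((F.le_of_mem hφ).1 x.2)) ((F.le_of_mem hφ).2 x), ?_⟩
      have e : (⟨(x : Ω)⁻¹ * φ x, S.mul_mem (S.inv_mem ((F.le_of_mem hφ).1 x.2)) ((F.le_of_mem hφ).2 x)⟩ : ↥S) =
          (⟨x, (F.le_of_mem hφ).1 x.2⟩ : ↥S)⁻¹ * ⟨φ x, (F.le_of_mem hφ).2 x⟩ := Subtype.ext rfl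
      rw [e, map_mul, map_inv, bisetTransfer_stable F m hsupp hstab lam hφ x, inv_mul_cancel]
    | one => exact ⟨S.one_mem, map_one _⟩
    | mul a b _ _ ha hb =>
      obtain ⟨h1, h2⟩ := ha
      obtain ⟨h3, h4⟩ := hb
      refine ⟨S.mul_mem h1 h3, ?_⟩
      have e : (⟨a * b, S.mul_mem h1 h3⟩ : ↥S) = ⟨a, h1⟩ * ⟨b, h3⟩ := Subtype.ext rfl
      rw [e, map_mul, h2, h4, mul_one]
    | inv a _ ha =>
      obtain ⟨h1, h2⟩ := ha
      refine ⟨S.inv_mem h1, ?_⟩
      have e : (⟨a⁻¹, S.inv_mem h1⟩ : ↥S) = (⟨a, h1⟩ : ↥S)⁻¹ := Subtype.ext rfl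
      rw [e, map_inv, h2, inv_one]
  obtain ⟨_, h2⟩ := key y hy
  exact h2

/-- On the centre of the system the transfer of a multiset of twisted diagonals is the power map by the index. -/
theorem bisetTransfer_center [Finite S] {A : Type*} [CommGroup A] (F : FusionSystem S)
    (m : Subgroup (↥S × ↥S) →₀ ℕ) (hsupp : ∀ D ∈ m.support, TD F D)
    (lam : ↥S →* A) (z : ↥S) (hz : (z : Ω) ∈ F.center) :
    bisetTransfer m lam z = lam z ^ idx m := by
  have hcen : F.IsCentral F.center := Cfsg.Agent.S5144.result F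
  -- `z` is central in `S`
  have hzc : ∀ s : ↥S, s * z = z * s := by
    intro s
    have h1 := Cfsg.Agent.S5148.apply_eq_of_mem_central F hcen (F.conj_mem (le_rfl : S ≤ S) s.2) z hz
    have h2 : (s : Ω) * z * (s : Ω)⁻¹ = z := h1
    apply Subtype.ext
    show (s : Ω) * z = z * s
    calc (s : Ω) * z = (s : Ω) * z * (s : Ω)⁻¹ * s := by group
      _ = z * s := by rw [h2]
  have hzpow : ∀ (k : ℕ) (s : ↥S), s⁻¹ * z ^ k * s = z ^ k := by
    intro k s
    have : s * z ^ k = z ^ k * s := by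
      induction k with
      | zero => simp
      | succ k ih => rw [pow_succ, ← mul_assoc, ih, mul_assoc, hzc s, mul_assoc]
    rw [mul_assoc, ← this, inv_mul_cancel_left]
  rw [bisetTransfer_apply]
  unfold idx Finsupp.sum
  rw [← Finset.prod_pow_eq_pow_sum]
  apply Finset.prod_congr rfl
  intro D hD
  have hTD := hsupp D hD
  have hfun := hTD.isFunctional
  rw [MonoidHom.transfer_eq_pow (homOf lam D) z (fun k s _ => hzpow k s), homOf_eq lam hfun]
  have hidx : (fstG D).index = Nat.card S / Nat.card D := by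
    have h1 := Subgroup.card_mul_index (fstG D)
    rw [card_fstG hfun] at h1
    rw [← h1, Nat.mul_div_cancel_left _ Nat.card_pos]
  have hmem : z ^ (fstG D).index ∈ fstG D := MonoidHom.transfer_eq_pow_aux z (fun k s _ => hzpow k s)
  have hfix : sndHom D hfun ⟨z ^ (fstG D).index, hmem⟩ = z ^ (fstG D).index := by
    obtain ⟨w, hw, hw1⟩ := Subgroup.mem_map.mp hmem
    have hw1' : w.1 = z ^ (fstG D).index := hw1
    have h2 : w.2 = w.1 := by
      obtain ⟨P, Q, e, he, rfl⟩ := hTD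
      obtain ⟨a, ha1, ha2⟩ := hw
      have hacen : (a : Ω) ∈ F.center := by
        rw [← ha1, hw1']
        show ((z ^ (fstG (graph e : Subgroup (↥S × ↥S))).index : ↥S) : Ω) ∈ F.center
        rw [Subgroup.coe_pow]
        exact F.center.pow_mem hz _
      have h3 := Cfsg.Agent.S5148.apply_eq_of_mem_central F hcen he a hacen
      apply Subtype.ext
      rw [ha2, ha1]
      exact h3
    have h3 := sndHom_apply hfun hw (fst_mem_fstG hw)
    rw [h2] at h3
    have e : (⟨z ^ (fstG D).index, hmem⟩ : fstG D) = ⟨w.1, fst_mem_fstG hw⟩ := Subtype.ext hw1'.symm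
    rw [e, h3, hw1']
  show (lam (sndHom D hfun ⟨z ^ (fstG D).index, _⟩)) ^ m D = lam z ^ (m D * (Nat.card S / Nat.card D))
  rw [hfix, map_pow, hidx, ← pow_mul, mul_comm]

end Cfsg.Agent.Helper88.Biset
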