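import Cfsg.Prelude.Def_FusionSystem

set_option autoImplicit false

namespace Cfsg.Agent.Helper88

open Cfsg Cfsg.FusionSystem

variable {Ω : Type*} [Group Ω] {S : Subgroup Ω}

/-- The inclusion of a subgroup of `S` is a map of every fusion system over `S`. -/
theorem subtype_mem (F : FusionSystem S) {P : Subgroup Ω} (hP : P ≤ S) : P.subtype ∈ F.Hom P := by
  have h := F.conj_mem (P := P) (g := 1) hP S.one_mem
  have : conjHom P 1 = P.subtype := by
    ext x
    simp [conjHom]
  rwa [this] at h

/-- Restriction of a map of the system to a smaller subgroup. -/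
theorem restrict_mem (F : FusionSystem S) {P R : Subgroup Ω} {φ : P →* Ω} (hφ : φ ∈ F.Hom P) (hRP : R ≤ P) :
    φ.comp (Subgroup.inclusion hRP) ∈ F.Hom R := by
  have hP := (F.le_of_mem hφ).1
  have h1 := subtype_mem F (hRP.trans hP)
  have h2 := F.comp_mem h1 hφ (fun x => hRP x.2)
  have : (R.subtype.codRestrict P fun x => hRP x.2) = Subgroup.inclusion hRP := by
    ext x; rfl
  rwa [this] at h2

/-- Transport of a map along an equality of sources. -/
theorem cast_mem (F : FusionSystem S) {P P' : Subgroup Ω} (h : P' = P) {φ : P →* Ω} (hφ : φ ∈ F.Hom P) :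
    φ.comp (Subgroup.inclusion (le_of_eq h)) ∈ F.Hom P' :=
  restrict_mem F hφ (le_of_eq h)

/-- A map determined by its values: two maps with the same values are simultaneously in the system. -/
theorem mem_of_eq (F : FusionSystem S) {P : Subgroup Ω} {φ ψ : P →* Ω} (hφ : φ ∈ F.Hom P) (h : ∀ x, ψ x = φ x) :
    ψ ∈ F.Hom P := by
  have : ψ = φ := MonoidHom.ext h
  rwa [this]

/-- The automorphisms of `P ≤ S` that are maps of the system form a subgroup of `Aut(P)`. -/
def autSub (F : FusionSystem S) (P : Subgroup Ω) (hP : P ≤ S) : Subgroup (MulAut P) where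
  carrier := {α | P.subtype.comp α.toMonoidHom ∈ F.Hom P}
  one_mem' := by
    show P.subtype.comp (1 : MulAut P).toMonoidHom ∈ F.Hom P
    exact mem_of_eq F (subtype_mem F hP) (fun x => rfl)
  mul_mem' := by
    intro α β hα hβ
    have h := F.comp_mem hβ hα (fun x => (β x).2)
    exact mem_of_eq F h (fun x => rfl)
  inv_mem' := by
    intro α hα
    obtain ⟨ψ, hψ, hψ'⟩ := F.inv_mem hα
    have hle : P ≤ (P.subtype.comp α.toMonoidHom).range := by
      intro y hy
      exact ⟨α⁻¹ ⟨y, hy⟩, by simp⟩
    have h := restrict_mem F hψ hle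
    refine mem_of_eq F h (fun y => ?_)
    have h1 := hψ' (α⁻¹ y)
    have h2 : (⟨(P.subtype.comp α.toMonoidHom) (α⁻¹ y), ⟨α⁻¹ y, rfl⟩⟩ :
        (P.subtype.comp α.toMonoidHom).range) = Subgroup.inclusion hle y := by
      apply Subtype.ext
      show ((α (α⁻¹ y) : P) : Ω) = (y : Ω)
      rw [MulAut.apply_inv_self]
    rw [h2] at h1
    exact h1.symm

theorem mem_autSub (F : FusionSystem S) {P : Subgroup Ω} (hP : P ≤ S) (α : MulAut P) :
    α ∈ autSub F P hP ↔ P.subtype.comp α.toMonoidHom ∈ F.Hom P := Iff.rfl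

theorem autGroup_eq (F : FusionSystem S) {P : Subgroup Ω} (hP : P ≤ S) : F.autGroup P = autSub F P hP :=
  Subgroup.closure_eq (autSub F P hP)

theorem mem_autGroup (F : FusionSystem S) {P : Subgroup Ω} (hP : P ≤ S) (α : MulAut P) :
    α ∈ F.autGroup P ↔ P.subtype.comp α.toMonoidHom ∈ F.Hom P := by
  rw [autGroup_eq F hP]; rfl

/-- A map of the system from `S` to itself, as an automorphism of `S` (for finite `S`). -/
noncomputable def homToAut [Finite S] (F : FusionSystem S) (ψ : S →* Ω) (hψ : ψ ∈ F.Hom S) : MulAut S :=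
  MulEquiv.ofBijective (ψ.codRestrict S (F.le_of_mem hψ).2)
    (by
      have hinj : Function.Injective (ψ.codRestrict S (F.le_of_mem hψ).2) := by
        intro a b hab
        exact F.injective_of_mem hψ (congrArg Subtype.val hab)
      exact ⟨hinj, Finite.injective_iff_surjective.mp hinj⟩)

theorem homToAut_apply [Finite S] (F : FusionSystem S) (ψ : S →* Ω) (hψ : ψ ∈ F.Hom S) (x : S) :
    ((homToAut F ψ hψ x : S) : Ω) = ψ x := rfl

theorem homToAut_mem [Finite S] (F : FusionSystem S) (ψ : S →* Ω) (hψ : ψ ∈ F.Hom S) :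
    homToAut F ψ hψ ∈ F.autGroup S := by
  rw [mem_autGroup F le_rfl]
  exact mem_of_eq F hψ (fun x => rfl)

end Cfsg.Agent.Helper88
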