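import Cfsg.Agent.Helper87.FusionExtend
set_option autoImplicit false

/-!
The inner fusion system of a `p`-group is saturated.
-/

namespace Cfsg.Agent.Helper88.FS

open Cfsg Cfsg.FusionSystem Cfsg.Agent.Helper87

variable {Ω : Type*} [Group Ω]

theorem mem_inner_hom_iff (Q : Subgroup Ω) {P : Subgroup Ω} (φ : P →* Ω) :
    φ ∈ (innerFusionSystem Q).Hom P ↔ P ≤ Q ∧ ∃ g ∈ Q, ∀ x : P, φ x = g * (x : Ω) * g⁻¹ := Iff.rfl

/-- `Aut` of the inner fusion system of `Q` on `P ≤ Q` is `Aut_Q(P)`. -/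
theorem inner_autGroup_eq (Q : Subgroup Ω) {P : Subgroup Ω} (hP : P ≤ Q) :
    (innerFusionSystem Q).autGroup P = autInducedBy Q P := by
  ext α
  rw [mem_autGroup_iff _ hP, mem_autInducedBy_iff]
  constructor
  · rintro ⟨-, g, hg, hgx⟩
    exact ⟨g, hg, hgx⟩
  · rintro ⟨g, hg, hgx⟩
    exact ⟨hP, g, hg, hgx⟩

theorem extender_le (S P : Subgroup Ω) (φ : P →* Ω) : extender S P φ ≤ S := by
  intro g hg
  exact ((mem_extender_iff S P φ g).mp hg).1

/-- Every subgroup is fully automized in the inner fusion system of a `p`-group. -/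
theorem inner_isFullyAutomized {Q : Subgroup Ω} {p : ℕ} (hQ : IsPGroup p Q) {P : Subgroup Ω} (hP : P ≤ Q) :
    (innerFusionSystem Q).IsFullyAutomized p P := by
  refine ⟨hP, ?_⟩
  have hp : IsPGroup p ((innerFusionSystem Q).autGroup P) := by
    rw [inner_autGroup_eq Q hP]
    exact isPGroup_autInducedBy hQ P
  have htop : (autInducedBy Q P).subgroupOf ((innerFusionSystem Q).autGroup P) = ⊤ := by
    rw [Subgroup.subgroupOf_eq_top, inner_autGroup_eq Q hP]
  refine ⟨⟨⊤, hp.to_subgroup ⊤, fun _ h => top_le_iff.mp h⟩, ?_⟩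
  rw [htop]

/-- Every subgroup is receptive in the inner fusion system. -/
theorem inner_isReceptive (Q : Subgroup Ω) {P : Subgroup Ω} (hP : P ≤ Q) : (innerFusionSystem Q).IsReceptive P := by
  refine ⟨hP, fun R φ hφ _ => ?_⟩
  obtain ⟨hR, g, hg, hgx⟩ := hφ
  refine ⟨conjHom (extender Q R φ) g, (innerFusionSystem Q).conj_mem (extender_le Q R φ) hg, fun x hxR hxN => ?_⟩
  rw [hgx]
  rfl

/-- The inner fusion system of a `p`-group is saturated. -/
theorem inner_isSaturated {Q : Subgroup Ω} {p : ℕ} (hQ : IsPGroup p Q) : (innerFusionSystem Q).IsSaturated p := by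
  intro P hP
  exact ⟨P, ⟨P.subtype, subtype_mem _ hP, Subgroup.range_subtype P⟩, inner_isFullyAutomized hQ hP,
    inner_isReceptive Q hP⟩

end Cfsg.Agent.Helper88.FS
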