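import Cfsg.Agent.Helper88.TransferFix
import Cfsg.Agent.Lib.HW6
set_option autoImplicit false
set_option linter.style.haveILetI false
set_option linter.unusedSectionVars false

/-! # The p-group step of Yoshida's theorem: a nonvanishing transfer from a proper subgroup gives a wreath quotient -/

namespace Cfsg.Agent.Helper88.YoshidaP

open MulAction Subgroup Cfsg.Agent.Helper88.TransferCount

variable {T : Type*} [Group T]

theorem inv_conj_mem (M : Subgroup T) [hn : M.Normal] {u : T} (hu : u ∈ M) (t : T) : t⁻¹ * u * t ∈ M := by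
  have := hn.conj_mem u hu t⁻¹
  rwa [inv_inv] at this

theorem orderOf_inv_conj (u t : T) : orderOf (t⁻¹ * u * t) = orderOf u := by
  have := MulEquiv.orderOf_eq (MulAut.conj t⁻¹) u
  rw [MulAut.conj_apply, inv_inv] at this
  exact this

/-- The restriction of a homomorphism on `P` to `P` seen inside a larger subgroup `M`. -/
noncomputable def resHom {P M : Subgroup T} (hPM : P ≤ M) {A : Type*} [CommGroup A] (ν : P →* A) :
    ↥(P.subgroupOf M) →* A :=
  ν.comp (Subgroup.subgroupOfEquivOfLe hPM).toMonoidHom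

theorem resHom_apply {P M : Subgroup T} (hPM : P ≤ M) {A : Type*} [CommGroup A] (ν : P →* A)
    (a : ↥M) (h : a ∈ P.subgroupOf M) : resHom hPM ν ⟨a, h⟩ = ν ⟨(a : T), Subgroup.mem_subgroupOf.mp h⟩ := rfl

theorem PrU_resHom_iff {P M : Subgroup T} (hPM : P ≤ M) {A : Type*} [CommGroup A] (ν : P →* A) (β : A)
    (a : ↥M) : PrU (P.subgroupOf M) (resHom hPM ν) β a ↔ PrU P ν β (a : T) := by
  constructor
  · rintro ⟨h, h2⟩
    exact ⟨Subgroup.mem_subgroupOf.mp h, h2⟩
  · rintro ⟨h, h2⟩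
    exact ⟨Subgroup.mem_subgroupOf.mpr h, h2⟩

open Classical in
/-- Transitivity of the transfer through a normal subgroup `M ≥ P` containing `u`, when the conjugates of the proper powers
of `u` are killed. -/
theorem transfer_eq_prod_cosets [Finite T] (P M : Subgroup T) [hn : M.Normal] (hPM : P ≤ M) {A : Type*} [CommGroup A]
    [Finite A] (ν : P →* A) (u : T) (hu : u ∈ M)
    (hmin : ∀ (x : T) (n : ℕ), 1 < n → n ∣ orderOf u → ∀ h : x⁻¹ * u ^ n * x ∈ P, ν ⟨_, h⟩ = 1)
    [Fintype (T ⧸ M)] :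
    MonoidHom.transfer ν u = ∏ c : T ⧸ M,
      MonoidHom.transfer (resHom hPM ν) (⟨c.out⁻¹ * u * c.out, inv_conj_mem M hu c.out⟩ : ↥M) := by
  haveI : Fintype A := Fintype.ofFinite A
  -- the conjugates `u_c`
  set uc : T ⧸ M → ↥M := fun c => ⟨c.out⁻¹ * u * c.out, inv_conj_mem M hu c.out⟩ with huc
  have hord : ∀ c, orderOf (uc c) = orderOf u := by
    intro c
    rw [← Subgroup.orderOf_coe]
    exact orderOf_inv_conj u c.out
  have hcoe : ∀ (c : T ⧸ M) (y : ↥M) (n : ℕ),
      ((y⁻¹ * (uc c) ^ n * y : ↥M) : T) = (c.out * (y : T))⁻¹ * u ^ n * (c.out * (y : T)) := by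
    intro c y n
    have h1 : (((uc c) ^ n : ↥M) : T) = c.out⁻¹ * u ^ n * c.out := by
      rw [Subgroup.coe_pow]
      show (c.out⁻¹ * u * c.out) ^ n = _
      have := conj_pow (a := c.out⁻¹) (b := u) (i := n)
      rw [inv_inv] at this
      exact this
    rw [Subgroup.coe_mul, Subgroup.coe_mul, Subgroup.coe_inv, h1]
    group
  have hminc : ∀ c, ∀ (y : ↥M) (n : ℕ), 1 < n → n ∣ orderOf (uc c) →
      ∀ h : y⁻¹ * (uc c) ^ n * y ∈ P.subgroupOf M, resHom hPM ν ⟨_, h⟩ = 1 := by
    intro c y n hn1 hn2 h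
    rw [resHom_apply]
    have hmem : (c.out * (y : T))⁻¹ * u ^ n * (c.out * (y : T)) ∈ P := by
      rw [← hcoe c y n]; exact Subgroup.mem_subgroupOf.mp h
    have := hmin (c.out * (y : T)) n hn1 (hord c ▸ hn2) hmem
    rw [← this]
    congr 1
    exact Subtype.ext (hcoe c y n)
  rw [transfer_eq_prod_fixed P ν u hmin]
  rw [Finset.prod_congr rfl (fun c _ => transfer_eq_prod_fixed (P.subgroupOf M) (resHom hPM ν) (uc c) (hminc c))]
  rw [Finset.prod_comm]
  apply Finset.prod_congr rfl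
  intro β _
  rw [Finset.prod_pow_eq_pow_sum]
  congr 1
  -- the counting identity
  have hcard : Nat.card (P.subgroupOf M) = Nat.card P :=
    Nat.card_congr (Subgroup.subgroupOfEquivOfLe hPM).toEquiv
  have h1 := card_mul_orbCount_one P ν u β
  rw [card_subtype_eq_sum_cosets M (fun x => PrU P ν β (x⁻¹ * u * x))] at h1
  have h2 : ∀ c : T ⧸ M, Nat.card {y : ↥M // PrU P ν β ((c.out * (y : T))⁻¹ * u * (c.out * (y : T)))} =
      Nat.card P * orbCount (P.subgroupOf M) (resHom hPM ν) (uc c) 1 β := by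
    intro c
    rw [← hcard, card_mul_orbCount_one (P.subgroupOf M) (resHom hPM ν) (uc c) β]
    apply Nat.card_congr
    apply Equiv.subtypeEquivRight
    intro y
    rw [PrU_resHom_iff]
    have := hcoe c y 1
    rw [pow_one, pow_one] at this
    rw [this]
  rw [Finset.sum_congr rfl (fun c _ => h2 c), ← Finset.mul_sum] at h1
  exact Nat.eq_of_mul_eq_mul_left Nat.card_pos h1


open Classical in
/-- **The `p`-group step of Yoshida's theorem.** If the transfer of a homomorphism `ν : P → A`, `|A| = p`, from a proper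
subgroup `P` of the `p`-group `T` does not kill `u`, while the conjugates of the proper powers of `u` lying in `P` are
killed by `ν`, then `T` maps onto a Sylow `p`-subgroup of the symmetric group of degree `p²`. -/
theorem wreath_of_transfer_ne_one [Finite T] {p : ℕ} [hp : Fact p.Prime] (hT : IsPGroup p T)
    (P : Subgroup T) (hP : P ≠ ⊤) {A : Type*} [CommGroup A] (hA : Nat.card A = p) (ν : P →* A) (u : T)
    (hmin : ∀ (x : T) (n : ℕ), 1 < n → n ∣ orderOf u → ∀ h : x⁻¹ * u ^ n * x ∈ P, ν ⟨_, h⟩ = 1)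
    (hne : MonoidHom.transfer ν u ≠ 1) :
    ∃ (Q : Sylow p (Equiv.Perm (Fin (p ^ 2))))
      (f : T →* ↥(Q : Subgroup (Equiv.Perm (Fin (p ^ 2))))), Function.Surjective f := by
  haveI : Finite A := Nat.finite_of_card_ne_zero (by rw [hA]; exact hp.1.ne_zero)
  haveI : Fintype A := Fintype.ofFinite A
  have hAp : ∀ a : A, a ^ p = 1 := by
    intro a; rw [← hA]; exact pow_card_eq_one'
  obtain ⟨M, hn, hidx, hPM⟩ := Cfsg.Agent.Lib.HW.exists_normal_index_p hT P hP
  haveI := hn
  haveI : Fintype (T ⧸ M) := Fintype.ofFinite _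
  have hMco : IsCoatom M := Cfsg.Agent.Lib.HW.isCoatom_of_index_prime (by rw [hidx]; exact hp.1)
  -- `u ∈ M`
  have hu : u ∈ M := by
    by_contra hu
    apply hne
    rw [transfer_eq_prod_fixed P ν u hmin]
    apply Finset.prod_eq_one
    intro β _
    have h1 := card_mul_orbCount_one P ν u β
    have h2 : Nat.card {x : T // PrU P ν β (x⁻¹ * u * x)} = 0 := by
      rw [Nat.card_eq_zero]
      left
      constructor
      rintro ⟨x, hx, -⟩
      apply hu
      have := hn.conj_mem _ (hPM hx) x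
      convert this using 1
      group
    rw [h2] at h1
    rcases Nat.mul_eq_zero.mp h1 with h3 | h3
    · exact absurd h3 Nat.card_pos.ne'
    · rw [h3, pow_zero]
  -- an element outside `M`
  obtain ⟨z, hz⟩ : ∃ z : T, z ∉ M := by
    by_contra h
    exact hMco.1 (eq_top_iff.mpr (fun x _ => by_contra (fun hx => h ⟨x, hx⟩)))
  set ν₁ : ↥M →* A := MonoidHom.transfer (resHom hPM ν) with hν₁
  have htr := transfer_eq_prod_cosets P M hPM ν u hu hmin
  rw [htr] at hne
  -- the extension of `ν₁` by `1`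
  set νt : T → A := fun t => if h : t ∈ M then ν₁ ⟨t, h⟩ else 1 with hνt
  have hνt_mem : ∀ (t : T) (h : t ∈ M), νt t = ν₁ ⟨t, h⟩ := fun t h => dif_pos h
  have hνmul : ∀ a ∈ M, ∀ b ∈ M, νt (a * b) = νt a * νt b := by
    intro a ha b hb
    rw [hνt_mem a ha, hνt_mem b hb, hνt_mem (a * b) (M.mul_mem ha hb), ← map_mul]
    rfl
  have hνconj : ∀ (a : T) (ha : a ∈ M) (m : T) (hm : m ∈ M), νt (m⁻¹ * a * m) = νt a := by
    intro a ha m hm
    rw [hνmul _ (M.mul_mem (M.inv_mem hm) ha) _ hm, hνmul _ (M.inv_mem hm) _ ha, mul_comm (νt m⁻¹), mul_assoc,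
      ← hνmul _ (M.inv_mem hm) _ hm, inv_mul_cancel, hνt_mem 1 M.one_mem]
    have : (⟨1, M.one_mem⟩ : ↥M) = 1 := rfl
    rw [this, map_one, mul_one]
  -- the factors through `νt`
  have hfac : ∀ (c : T ⧸ M) (t : T), (t : T ⧸ M) = c →
      ν₁ (⟨c.out⁻¹ * u * c.out, inv_conj_mem M hu c.out⟩ : ↥M) = νt (t⁻¹ * u * t) := by
    intro c t htc
    rw [← hνt_mem _ (inv_conj_mem M hu c.out)]
    have hm : t⁻¹ * c.out ∈ M := by
      rw [← QuotientGroup.eq, htc, QuotientGroup.out_eq']
    have e : c.out⁻¹ * u * c.out = (t⁻¹ * c.out)⁻¹ * (t⁻¹ * u * t) * (t⁻¹ * c.out) := by group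
    rw [e, hνconj _ (inv_conj_mem M hu t) _ hm]
  -- the order of `z` modulo `M`
  have hcardq : Nat.card (T ⧸ M) = p := by rw [← Subgroup.index_eq_card, hidx]
  have hzq : ((z : T) : T ⧸ M) ≠ 1 := by
    intro h
    exact hz ((QuotientGroup.eq_one_iff z).mp h)
  have hord : orderOf ((z : T) : T ⧸ M) = p := by
    apply orderOf_eq_prime _ hzq
    rw [← hcardq]
    exact pow_card_eq_one'
  have hinj : ∀ i ∈ Finset.range p, ∀ j ∈ Finset.range p,
      (((z ^ i : T) : T ⧸ M)) = ((z ^ j : T) : T ⧸ M) → i = j := by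
    intro i hi j hj hij
    have h1 := pow_injOn_Iio_orderOf (x := ((z : T) : T ⧸ M))
    apply h1
    · rw [hord]; exact Finset.mem_range.mp hi
    · rw [hord]; exact Finset.mem_range.mp hj
    · exact hij
  have himg : (Finset.range p).image (fun j : ℕ => ((z ^ j : T) : T ⧸ M)) = Finset.univ := by
    apply Finset.eq_univ_of_card
    rw [Finset.card_image_of_injOn (fun i hi j hj h => hinj i (Finset.mem_coe.mp hi) j (Finset.mem_coe.mp hj) h),
      Finset.card_range, ← Nat.card_eq_fintype_card, hcardq]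
  have hprod : (∏ c : T ⧸ M, ν₁ (⟨c.out⁻¹ * u * c.out, inv_conj_mem M hu c.out⟩ : ↥M)) =
      ∏ j ∈ Finset.range p, νt ((z ^ j)⁻¹ * u * z ^ j) := by
    rw [← himg, Finset.prod_image hinj]
    apply Finset.prod_congr rfl
    intro j _
    exact hfac _ (z ^ j) rfl
  rw [hprod] at hne
  have hzM : ∀ q ∈ M, z⁻¹ * q * z ∈ M := fun q hq => inv_conj_mem M hq z
  rw [Cfsg.Agent.Lib.HW.iter_identity hAp M νt hνmul z hzM u hu] at hne
  set w : T := (fun y : T => y⁻¹ * z⁻¹ * y * z)^[p - 1] u with hw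
  have hwM : w ∈ M := by
    by_contra h
    apply hne
    exact dif_neg h
  rw [hνt_mem w hwM] at hne
  have hnotfr := Cfsg.Agent.Lib.HW.not_mem_frattini_of_hom hA ν₁ ⟨w, hwM⟩ hne
  apply Cfsg.Agent.Lib.HW.wreath_of_iter hT M hMco u z
  rintro ⟨m, hm, hmw⟩
  apply hnotfr
  have : m = ⟨w, hwM⟩ := Subtype.ext hmw
  rw [← this]
  exact hm

end Cfsg.Agent.Helper88.YoshidaP
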