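import Cfsg.Agent.Helper88.TateOne
import Cfsg.Agent.Helper88.YoshidaP
set_option autoImplicit false
set_option linter.style.haveILetI false

/-! # Yoshida's theorem for saturated fusion systems -/

namespace Cfsg.Agent.Helper88.Biset

universe u

open Cfsg Cfsg.FusionSystem Cfsg.Agent.Helper87 Cfsg.Agent.Helper88.Marks Cfsg.Agent.Helper88.TransferCount

variable {Ω : Type u} [Group Ω] {S : Subgroup Ω}

/-- Along a twisted diagonal the second coordinate stays in the focal subgroup and keeps its order. -/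
theorem TD.sndHom_props {F : FusionSystem S} {D : Subgroup (↥S × ↥S)} (hD : TD F D) (v : ↥S) (hv : v ∈ fstG D) :
    (v ∈ F.focalSubgroup.subgroupOf S → sndHom D hD.isFunctional ⟨v, hv⟩ ∈ F.focalSubgroup.subgroupOf S) ∧
    orderOf (sndHom D hD.isFunctional ⟨v, hv⟩) = orderOf v := by
  have hfun := hD.isFunctional
  obtain ⟨w, hw, hw1⟩ := Subgroup.mem_map.mp hv
  have hw1' : w.1 = v := hw1
  have h3 := sndHom_apply hfun hw (fst_mem_fstG hw)
  have e : (⟨v, hv⟩ : fstG D) = ⟨w.1, fst_mem_fstG hw⟩ := Subtype.ext hw1'.symm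
  rw [e, h3]
  obtain ⟨P, Q, e', he', hDeq⟩ := hD
  rw [hDeq] at hw
  obtain ⟨a', ha1, ha2⟩ := hw
  constructor
  · intro hvΦ
    rw [Subgroup.mem_subgroupOf] at hvΦ ⊢
    have h5 : ((w.2 : ↥S) : Ω) = (a' : Ω) * ((a' : Ω)⁻¹ * (Q.subtype.comp e'.toMonoidHom) a') := by
      rw [mul_inv_cancel_left]; exact ha2
    rw [h5]
    apply Subgroup.mul_mem
    · rw [← ha1, hw1']; exact hvΦ
    · apply Subgroup.subset_closure
      exact ⟨P, _, a', he', rfl⟩
  · rw [← hw1', ← Subgroup.orderOf_coe w.2, ← Subgroup.orderOf_coe w.1, ha1, ha2, Subgroup.orderOf_coe,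
      Subgroup.orderOf_coe, MulEquiv.orderOf_eq]

open scoped commutatorElement in
/-- A subgroup containing the commutator subgroup is closed under conjugation. -/
theorem inv_conj_mem_of_commutator_le {G : Type*} [Group G] {N : Subgroup G} (hN : commutator G ≤ N) {a : G}
    (ha : a ∈ N) (x : G) : x⁻¹ * a * x ∈ N := by
  have h1 : ⁅a⁻¹, x⁻¹⁆ ∈ commutator G :=
    Subgroup.commutator_mem_commutator (Subgroup.mem_top _) (Subgroup.mem_top _)
  have h2 := N.mul_mem (hN h1) ha
  have e : ⁅a⁻¹, x⁻¹⁆ * a = a⁻¹ * (x⁻¹ * a * x) * a := by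
    rw [commutatorElement_def]; group
  rw [e] at h2
  have h3 := N.mul_mem (N.mul_mem ha h2) (N.inv_mem ha)
  have e2 : a * (a⁻¹ * (x⁻¹ * a * x) * a) * a⁻¹ = x⁻¹ * a * x := by group
  rwa [e2] at h3

/-- **Yoshida's theorem for saturated fusion systems**, in terms of a subgroup `K` between `[S, S]` and the focal subgroup
which contains the commutators `x⁻¹ α(x)` with the automorphisms `α` of `S` in the system: if `K` is not the whole focal
subgroup, then `S` maps onto a Sylow `p`-subgroup of the symmetric group of degree `p²`. -/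
theorem yoshida_fusion [Finite S] {p : ℕ} [hp : Fact p.Prime] (hS : IsPGroup p S) (F : FusionSystem S)
    (hF : F.IsSaturated p) (K : Subgroup ↥S) (hK1 : commutator ↥S ≤ K) (hK2 : K ≤ F.focalSubgroup.subgroupOf S)
    (hKaut : ∀ α ∈ F.autGroup S, ∀ x : ↥S, x⁻¹ * α x ∈ K)
    (hne : ¬ F.focalSubgroup.subgroupOf S ≤ K) :
    ∃ (W : Sylow p (Equiv.Perm (Fin (p ^ 2)))) (f : ↥S →* ↥(W : Subgroup (Equiv.Perm (Fin (p ^ 2))))),
      Function.Surjective f := by
  classical
  obtain ⟨A, instA, lam, hA, hKlam, y, hy, hlamy⟩ := exists_hom_of_focal_not_le hS F hF K hK1 hK2 hne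
  set Φ : Subgroup ↥S := F.focalSubgroup.subgroupOf S with hΦ
  have hΦ1 : commutator ↥S ≤ Φ := hK1.trans hK2
  haveI : Finite A := Nat.finite_of_card_ne_zero (by rw [hA]; exact hp.1.ne_zero)
  have hAp : ∀ a : A, a ^ p = 1 := by
    intro a; rw [← hA]; exact pow_card_eq_one'
  -- an element of minimal order of the focal subgroup not killed by `lam`
  have hex : ∃ n, ∃ u ∈ Φ, lam u ≠ 1 ∧ orderOf u = n := ⟨_, y, hy, hlamy, rfl⟩
  obtain ⟨u, huΦ, hlamu, huord⟩ := Nat.find_spec hex
  have hmin : ∀ v ∈ Φ, lam v ≠ 1 → orderOf u ≤ orderOf v := by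
    intro v hv hlv
    rw [huord]
    exact Nat.find_min' hex ⟨v, hv, hlv, rfl⟩
  obtain ⟨m, hsupp, hstab, hidx⟩ := exists_char_biset hS F hF
  have hμu : bisetTransfer m lam u = 1 :=
    bisetTransfer_focal F m hsupp hstab lam (u : Ω) (Subgroup.mem_subgroupOf.mp huΦ)
  by_contra hcon
  obtain ⟨e, he⟩ := IsPGroup.iff_card.mp hS
  have hterm : ∀ D ∈ m.support,
      (MonoidHom.transfer (homOf lam D) u) ^ (m D) = lam u ^ (m D * (Nat.card S / Nat.card D)) := by
    intro D hD
    have hTD := hsupp D hD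
    have hfun := hTD.isFunctional
    by_cases htop : Nat.card D = Nat.card S
    · -- the top level: an automorphism of `S`
      obtain ⟨α, hα, hDα⟩ := (TD_top_iff F D).mp ⟨hTD, htop⟩
      have hres : homOf lam D = lam.comp (fstG D).subtype := by
        rw [homOf_eq lam hfun]
        ext a
        show lam (sndHom D hfun a) = lam (a : ↥S)
        obtain ⟨a, ha⟩ := a
        obtain ⟨w, hw, hw1⟩ := Subgroup.mem_map.mp ha
        have hw1' : w.1 = a := hw1
        have h3 := sndHom_apply hfun hw (fst_mem_fstG hw)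
        have e : (⟨a, ha⟩ : fstG D) = ⟨w.1, fst_mem_fstG hw⟩ := Subtype.ext hw1'.symm
        rw [e, h3]
        show lam w.2 = lam w.1
        rw [hDα] at hw
        obtain ⟨a', ha1, ha2⟩ := hw
        have h5 : w.1 = a' := Subtype.ext ha1
        have h6 : w.2 = α a' := Subtype.ext ha2
        have h7 := hKlam (hKaut α hα a')
        rw [MonoidHom.mem_ker, map_mul, map_inv, inv_mul_eq_one] at h7
        rw [h5, h6]
        exact h7.symm
      have hidx1 : (fstG D).index = 1 := by
        rw [Subgroup.index_eq_one]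
        apply Subgroup.eq_top_of_card_eq
        rw [card_fstG hfun, htop]
      rw [hres, transfer_restrict, hidx1, pow_one, htop, Nat.div_self Nat.card_pos, mul_one]
    · -- a proper subgroup: the transfer kills `u`
      have hne' : fstG D ≠ ⊤ := by
        intro h
        apply htop
        rw [← card_fstG hfun, h, Subgroup.card_top]
      have htr : MonoidHom.transfer (homOf lam D) u = 1 := by
        by_contra htr
        apply hcon
        apply YoshidaP.wreath_of_transfer_ne_one hS (fstG D) hne' hA (homOf lam D) u ?_ htr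
        intro x n hn1 hn2 h
        rw [homOf_eq lam hfun]
        show lam (sndHom D hfun ⟨_, h⟩) = 1
        by_contra hl
        have hvΦ : x⁻¹ * u ^ n * x ∈ Φ := inv_conj_mem_of_commutator_le hΦ1 (Φ.pow_mem huΦ n) x
        obtain ⟨h8, h9⟩ := hTD.sndHom_props _ h
        have h10 := hmin _ (h8 hvΦ) hl
        rw [h9, YoshidaP.orderOf_inv_conj, orderOf_pow_of_dvd (by omega) hn2] at h10
        have hpos : 0 < orderOf u := orderOf_pos u
        have := Nat.div_lt_self hpos hn1
        omega
      rw [htr, one_pow]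
      -- `p` divides the index
      have hdvd : Nat.card D ∣ Nat.card S := by
        rw [hTD.card_eq_card_src]
        exact Subgroup.card_dvd_of_le (src_le D)
      obtain ⟨q, hq⟩ := hdvd
      have hpos : 0 < Nat.card D := Nat.card_pos
      have hdiv : Nat.card S / Nat.card D = q := by
        rw [hq, Nat.mul_div_cancel_left _ hpos]
      rw [hdiv]
      have hq1 : q ≠ 1 := by
        rintro rfl
        rw [mul_one] at hq
        exact htop hq.symm
      have hqdvd : q ∣ p ^ e := by
        rw [← he, hq]; exact Dvd.intro_left _ rfl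
      obtain ⟨i, -, hi⟩ := (Nat.dvd_prime_pow hp.1).mp hqdvd
      rcases Nat.eq_zero_or_pos i with h0 | h0
      · rw [h0, pow_zero] at hi
        exact absurd hi hq1
      · obtain ⟨t, ht⟩ : p ∣ q := by rw [hi]; exact dvd_pow_self p h0.ne'
        rw [ht, ← mul_assoc, mul_comm (m D) p, mul_assoc, pow_mul, hAp, one_pow]
  rw [bisetTransfer_apply, Finset.prod_congr rfl hterm, Finset.prod_pow_eq_pow_sum] at hμu
  have hsum : (∑ D ∈ m.support, m D * (Nat.card S / Nat.card D)) = idx m := rfl
  rw [hsum] at hμu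
  have hord : orderOf (lam u) = p := orderOf_eq_prime (hAp _) hlamu
  have := orderOf_dvd_of_pow_eq_one hμu
  rw [hord] at this
  exact hidx this

end Cfsg.Agent.Helper88.Biset
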