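import Cfsg.Agent.S5224
import Cfsg.Agent.S5225
import Cfsg.Agent.S5132
import Cfsg.Agent.S5134
import Cfsg.Agent.S5096
import Cfsg.Agent.Helper85.QuotFree2
import Cfsg.Agent.Helper85.FocalQuot
import Cfsg.Agent.Helper88.FusionInner
import Cfsg.Agent.Helper88.FusionStrongInv
import Cfsg.Agent.Helper87.FusionFrobenius
import Cfsg.Agent.Helper2.FusGT1

set_option autoImplicit false
set_option linter.style.haveILetI false

/-! # A saturated fusion system with inner `N_F(S)` and strongly closed Frattini subgroup is inner -/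

namespace Cfsg.Agent.Helper88.FrattiniInner

open Cfsg Cfsg.FusionSystem Cfsg.Agent.Helper87 Cfsg.Agent.Helper85 Cfsg.Agent.Helper88.Biset
  Cfsg.Agent.Helper88.ParkTate

open scoped commutatorElement

/-- A saturated fusion system over a commutative group all of whose maps on the whole group are inclusions has only inclusions. -/
theorem hom_eq_subtype_of_comm {Ω' : Type*} [Group Ω'] {S' : Subgroup Ω'} {p : ℕ} (E : FusionSystem S')
    (hE : E.IsSaturated p) (hcomm : ∀ a ∈ S', ∀ b ∈ S', a * b = b * a)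
    (hAut : ∀ ψ ∈ E.Hom S', ∀ x : S', ψ x = x) :
    ∀ (P : Subgroup Ω') (φ : P →* Ω'), φ ∈ E.Hom P → ∀ x : P, φ x = x := by
  have hrec : ∀ (R Q : Subgroup Ω') (χ : R →* Ω'), χ ∈ E.Hom R → χ.range = Q → E.IsReceptive Q →
      ∀ x : R, χ x = x := by
    intro R Q χ hχ hrange hQ x
    have hRS : R ≤ S' := (E.le_of_mem hχ).1
    obtain ⟨ψ, hψ, hψx⟩ := hQ.2 R χ hχ hrange
    have hext : extender S' R χ = S' := by
      apply le_antisymm (Cfsg.Agent.Helper88.FS.extender_le S' R χ)
      intro g hg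
      rw [mem_extender_iff]
      have hconj : ∀ n ∈ R, g * n * g⁻¹ = n := by
        intro n hn
        rw [hcomm g hg n (hRS hn), mul_inv_cancel_right]
      refine ⟨hg, ?_, 1, S'.one_mem, ?_⟩
      · rw [Subgroup.mem_normalizer_iff]
        intro n
        constructor
        · intro hn
          rw [hconj n hn]
          exact hn
        · intro hn
          have h1 := hconj _ hn
          have h2 : g * n * g⁻¹ = n := by
            have h3 : g * (g * n * g⁻¹) * g⁻¹ = g * n * g⁻¹ := h1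
            exact mul_left_cancel (mul_right_cancel h3)
          rw [← h2]
          exact hn
      · intro x hx
        have e : (⟨g * (x : Ω') * g⁻¹, hx⟩ : R) = x := Subtype.ext (hconj x x.2)
        rw [e, one_mul, inv_one, mul_one]
    obtain ⟨ψ', hψ', hψ'x⟩ := Cfsg.Agent.Helper88.FS.exists_hom_of_eq E hext hψ
    have hxN : (x : Ω') ∈ extender S' R χ := by rw [hext]; exact hRS x.2
    have h1 := hψx x x.2 hxN
    have h2 := hψ'x x hxN (hRS x.2)
    have h3 := hAut ψ' hψ' ⟨x, hRS x.2⟩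
    have e : (⟨(x : Ω'), x.2⟩ : R) = x := rfl
    rw [e] at h1
    rw [← h1, ← h2, h3]
  intro P φ hφ x
  have hφS : ∀ x : P, φ x ∈ S' := (E.le_of_mem hφ).2
  have hRS : φ.range ≤ S' := by
    rintro _ ⟨y, rfl⟩
    exact hφS y
  obtain ⟨Q, ⟨χ, hχ, hχr⟩, -, hQ⟩ := hE φ.range hRS
  have hχid := hrec φ.range Q χ hχ hχr hQ
  have hmem : ∀ y : P, φ y ∈ φ.range := fun y => ⟨y, rfl⟩
  have hcomp := E.comp_mem hφ hχ hmem
  have hcr : (χ.comp (φ.codRestrict φ.range hmem)).range = Q := by
    rw [← hχr]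
    ext y
    constructor
    · rintro ⟨z, rfl⟩
      exact ⟨_, rfl⟩
    · rintro ⟨⟨_, z, rfl⟩, rfl⟩
      exact ⟨z, rfl⟩
  have h1 := hrec P Q _ hcomp hcr hQ x
  have h2 : (χ.comp (φ.codRestrict φ.range hmem)) x = χ ⟨φ x, hmem x⟩ := rfl
  rw [h2, hχid] at h1
  exact h1

/-- In a `p`-group the subgroup generated by the elements of order prime to `p` is trivial. -/
theorem pResidual_eq_bot_of_isPGroup {G : Type*} [Group G] {p : ℕ} (h : IsPGroup p G) : pResidual p G = ⊥ := by
  unfold pResidual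
  rw [Subgroup.closure_eq_bot_iff]
  intro g hg
  have hg' : Nat.Coprime (orderOf g) p := hg
  obtain ⟨k, hk⟩ := h g
  have h1 : orderOf g ∣ p ^ k := orderOf_dvd_of_pow_eq_one hk
  have h2 : Nat.Coprime (orderOf g) (p ^ k) := Nat.Coprime.pow_right k hg'
  have h3 : orderOf g = 1 := Nat.Coprime.eq_one_of_dvd h2 h1
  exact orderOf_eq_one_iff.mp h3

variable {Ω : Type*} [Group Ω] {S : Subgroup Ω}

/-- The hyperfocal subgroup of the inner system is trivial. -/
theorem hyperfocal_inner {p : ℕ} (hS : IsPGroup p S) : (innerFusionSystem S).hyperfocalSubgroup p = ⊥ := by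
  unfold hyperfocalSubgroup
  rw [Subgroup.closure_eq_bot_iff]
  rintro y ⟨P, α, x, hPS, hα, rfl⟩
  have hP : IsPGroup p ((innerFusionSystem S).autGroup P) := by
    rintro ⟨β, hβ⟩
    have hiso := (mem_autGroup_iff (innerFusionSystem S) hPS β).mp hβ
    obtain ⟨-, g, hg, hgx⟩ := hiso
    obtain ⟨k, hk⟩ := hS ⟨g, hg⟩
    have hk' : g ^ (p ^ k) = 1 := by
      have := congrArg Subtype.val hk
      simpa using this
    refine ⟨k, Subtype.ext ?_⟩
    show β ^ p ^ k = 1
    ext z
    have h1 := Cfsg.Agent.Helper2.FusGT.pow_apply_of_conj β g (fun z => hgx z) (p ^ k) z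
    rw [hk'] at h1
    rw [h1]
    simp
  rw [pResidual_eq_bot_of_isPGroup hP, Subgroup.mem_bot] at hα
  rw [hα]
  show (x : Ω)⁻¹ * (x : Ω) = 1
  exact inv_mul_cancel _

/-- **The converse direction.** -/
theorem inner_of_frattini [Finite S] (p : ℕ) [Fact p.Prime] (hS : IsPGroup p S) (F : FusionSystem S)
    (hF : F.IsSaturated p)
    (hN : ∀ N : FusionSystem (normalizerIn S S), F.IsNormalizerSystem S N →
      ∀ P : Subgroup Ω, N.Hom P = (innerFusionSystem (normalizerIn S S)).Hom P)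
    (hΦ : F.StronglyClosed ((frattini ↥S).map S.subtype)) :
    ∀ P : Subgroup Ω, F.Hom P = (innerFusionSystem S).Hom P := by
  classical
  -- the maps of `F` on `S` are inner
  have hAutS : ∀ φ ∈ F.Hom S, ∃ g ∈ S, ∀ x : S, φ x = g * (x : Ω) * g⁻¹ := by
    intro φ hφ
    have hφS : ∀ x : S, φ x ∈ S := (F.le_of_mem hφ).2
    have hinj : Function.Injective (φ.codRestrict S hφS) := by
      intro a b hab
      apply F.injective_of_mem hφ
      exact congrArg Subtype.val hab
    have hbij : Function.Bijective (φ.codRestrict S hφS) := ⟨hinj, Finite.injective_iff_surjective.mp hinj⟩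
    let α : MulAut ↥S := MulEquiv.ofBijective (φ.codRestrict S hφS) hbij
    have hα : α ∈ F.autGroup S := by
      rw [mem_autGroup_iff F le_rfl]
      exact mem_of_eq F hφ (fun x => rfl)
    have h1 := Cfsg.Agent.S5225.aut_mem_normalizerHom F α hα
    have h2 := hN (Cfsg.Agent.S5096.normalizerSystem F S le_rfl) (fun _ => rfl) S
    have h3 : S.subtype.comp (α : ↥S ≃* ↥S).toMonoidHom ∈ (Cfsg.Agent.S5096.normalizerSystem F S le_rfl).Hom S := h1
    rw [h2] at h3
    obtain ⟨-, g, hg, hgx⟩ := h3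
    exact ⟨g, hg.1, fun x => hgx x⟩
  -- the factor system modulo the Frattini subgroup
  have hΦeq : ((frattini ↥S).map S.subtype).subgroupOf S = frattini ↥S :=
    Subgroup.comap_map_eq_self_of_injective S.subtype_injective _
  haveI hΦn : (((frattini ↥S).map S.subtype).subgroupOf S).Normal := by
    rw [hΦeq]
    infer_instance
  obtain ⟨E, hE⟩ := Cfsg.Agent.S5132.result p hS F _ hΦ
  have hEsat := isSaturated_factor p hS F hF _ hΦ _ E hE
  have hm : F.IsMorphism E _ := (Cfsg.Agent.S5134.result p hS F hF _ hΦ _ E hE).1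
  have hSnil : Group.IsNilpotent ↥S := hS.isNilpotent
  have hcomm : ∀ a b : ↥S ⧸ ((frattini ↥S).map S.subtype).subgroupOf S, a * b = b * a := by
    intro a b
    obtain ⟨s, rfl⟩ := QuotientGroup.mk_surjective a
    obtain ⟨t, rfl⟩ := QuotientGroup.mk_surjective b
    rw [← QuotientGroup.mk_mul, ← QuotientGroup.mk_mul, QuotientGroup.eq, hΦeq]
    apply Cfsg.Agent.Helper90.commutator_le_frattini'
    have e : (s * t)⁻¹ * (t * s) = ⁅t⁻¹, s⁻¹⁆ := by
      rw [commutatorElement_def]
      group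
    rw [e]
    exact Subgroup.commutator_mem_commutator (Subgroup.mem_top _) (Subgroup.mem_top _)
  have hAut : ∀ ψ ∈ E.Hom ⊤, ∀ x : (⊤ : Subgroup (↥S ⧸ ((frattini ↥S).map S.subtype).subgroupOf S)), ψ x = x := by
    intro ψ hψ x
    obtain ⟨-, φ, hφ, hP, hφS, hP', hind⟩ := (hE.2.2.2 ⊤ ψ).mp hψ
    have hpre : preimageAlong (QuotientGroup.mk' (((frattini ↥S).map S.subtype).subgroupOf S)) ⊤ = S := by
      apply le_antisymm hP
      intro y hy
      rw [mem_preimageAlong]
      exact ⟨hy, Subgroup.mem_top _⟩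
    obtain ⟨φ', hφ', hφ'x⟩ := Cfsg.Agent.Helper88.FS.exists_hom_of_eq F hpre hφ
    obtain ⟨g, hg, hgx⟩ := hAutS φ' hφ'
    obtain ⟨s, hs⟩ := QuotientGroup.mk_surjective (x : ↥S ⧸ ((frattini ↥S).map S.subtype).subgroupOf S)
    have hsP : (s : Ω) ∈ preimageAlong (QuotientGroup.mk' (((frattini ↥S).map S.subtype).subgroupOf S)) ⊤ := by
      rw [hpre]
      exact s.2
    have h1 := hind ⟨s, hsP⟩
    have h2 : φ ⟨s, hsP⟩ = g * (s : Ω) * g⁻¹ := by
      rw [← hφ'x s hsP s.2]
      exact hgx s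
    have ex : x = ⟨QuotientGroup.mk' (((frattini ↥S).map S.subtype).subgroupOf S) ⟨(s : Ω), hP hsP⟩, hP' ⟨s, hsP⟩⟩ :=
      Subtype.ext hs.symm
    rw [ex, h1]
    have e2 : (⟨φ ⟨s, hsP⟩, hφS ⟨s, hsP⟩⟩ : ↥S) = ⟨g, hg⟩ * s * ⟨g, hg⟩⁻¹ := Subtype.ext h2
    rw [e2, map_mul, map_mul, map_inv, hcomm, inv_mul_cancel_left]
  have hEid := hom_eq_subtype_of_comm E hEsat (fun a _ b _ => hcomm a b) hAut
  have hfocE : E.focalSubgroup = ⊥ := by
    unfold focalSubgroup
    rw [Subgroup.closure_eq_bot_iff]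
    rintro y ⟨P, φ, x, hφ, rfl⟩
    rw [hEid P φ hφ x]
    exact inv_mul_cancel _
  -- the focal subgroup lies in the Frattini subgroup
  have hfocF : F.focalSubgroup ≤ (frattini ↥S).map S.subtype := by
    intro y hy
    obtain ⟨hyS, h1⟩ := focal_map_mem F E _ hm y hy
    rw [hfocE, Subgroup.mem_bot] at h1
    exact (hE.2.1 ⟨y, hyS⟩).mp h1
  -- Tate
  have hHs : (innerFusionSystem S).IsSaturated p := Cfsg.Agent.Helper88.FS.inner_isSaturated hS
  have hHF : (innerFusionSystem S).IsSubsystemOf F := fun P => inner_hom_subset F P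
  have hfocH : (innerFusionSystem S).focalSubgroup ≤ (frattini ↥S).map S.subtype :=
    (focalSubgroup_mono (innerFusionSystem S) F hHF).trans hfocF
  have hT := Cfsg.Agent.S5224.result p hS F hF (innerFusionSystem S) hHs hHF
  have h1 : F.focalSubgroup = (innerFusionSystem S).focalSubgroup := by
    apply hT.1.mp
    rw [sup_eq_left.mpr hfocF, sup_eq_left.mpr hfocH]
  have h2 : F.hyperfocalSubgroup p = ⊥ := by
    rw [hT.2.mp h1, hyperfocal_inner hS]
  -- all automizers are `p`-groups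
  have hp : ∀ P : Subgroup Ω, P ≤ S → IsPGroup p (F.autGroup P) := by
    intro P hPS
    have : Finite (MulAut P) := finite_mulAut_of_le hPS
    have hres : pResidual p (F.autGroup P) = ⊥ := by
      rw [eq_bot_iff]
      intro α hα
      rw [Subgroup.mem_bot]
      apply Subtype.ext
      ext x
      have h3 : (x : Ω)⁻¹ * (((α : MulAut P) x : P) : Ω) ∈ F.hyperfocalSubgroup p :=
        Subgroup.subset_closure ⟨P, α, x, hPS, hα, rfl⟩
      rw [h2, Subgroup.mem_bot, inv_mul_eq_one] at h3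
      exact h3.symm
    intro α
    obtain ⟨k, hk⟩ := Cfsg.Agent.Lib.isPGroup_quotient_pResidual (G := F.autGroup P) p (QuotientGroup.mk α)
    refine ⟨k, ?_⟩
    rw [← QuotientGroup.mk_pow, QuotientGroup.eq_one_iff, hres, Subgroup.mem_bot] at hk
    exact hk
  have hfrob := frobenius_inner p hS F hF hp
  intro P
  apply Set.Subset.antisymm
  · intro φ hφ
    obtain ⟨g, hg, hgx⟩ := hfrob P φ hφ
    exact ⟨(F.le_of_mem hφ).1, g, hg, hgx⟩
  · exact inner_hom_subset F P

end Cfsg.Agent.Helper88.FrattiniInner
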