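-- Interface for S5320 (2-fusion system of PSp₄(q), q odd, is simple) (helper88): the subgroup `(SL₂ × SL₂).2` of `Sp₄(F)`
-- in helper42's coordinates, and the conditions "modulo a central subgroup `Z ≤ S`" which give `LocGen` and `NoStrClosed`
-- in the quotient by `Z`.
import Cfsg.Agent.Helper42.SpSylE
import Cfsg.Agent.S0246
import Cfsg.Agent.Helper84.SimpleCrit2

set_option autoImplicit false

namespace Cfsg.Agent.Helper88.PSp4F

open Matrix Equiv Cfsg.Agent.Helper42 Cfsg.Agent.Helper85 Cfsg.Agent.Helper84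

/-- `SL₂(F)` -/
abbrev SL2 (F : Type*) [Field F] := Matrix.SpecialLinearGroup (Fin 2) F

/-- `Sp₄(F)` -/
abbrev Sp4 (F : Type*) [Field F] := ↥(Matrix.symplecticGroup (Fin 2) F)

variable {F : Type*} [Field F]

/-- `ι(a,b)`: the embedding `SL₂ × SL₂ → Sp₄` -/
def io (a b : SL2 F) : Sp4 F := bHom F 2 ![a, b]

/-- the swap of the two hyperbolic planes -/
def tw : Sp4 F := pHom F 2 (Equiv.swap 0 1)

/-- `-1 ∈ Sp₄(F)` -/
abbrev nI (F : Type*) [Field F] : Sp4 F := Cfsg.Agent.S0246.negOne 2 F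

/-- `t₀ = ι(-1,1)` -/
def t0 (F : Type*) [Field F] : Sp4 F := io (negOneSL F) 1

/-- the group `Q ≀ 2` -/
def SQ (Q : Subgroup (SL2 F)) : Subgroup (Sp4 F) := spWr Q (⊤ : Subgroup (Perm (Fin 2)))

theorem vec_mul (a b a' b' : SL2 F) : (![a, b] * ![a', b'] : Fin 2 → SL2 F) = ![a * a', b * b'] := by
  funext i
  fin_cases i <;> rfl

theorem io_mul (a b a' b' : SL2 F) : io a b * io a' b' = io (a * a') (b * b') := by
  unfold io
  rw [← map_mul, vec_mul]

theorem io_one : io (1 : SL2 F) 1 = 1 := by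
  unfold io
  have : (![1, 1] : Fin 2 → SL2 F) = 1 := by
    funext i
    fin_cases i <;> rfl
  rw [this, map_one]

theorem io_inv (a b : SL2 F) : (io a b)⁻¹ = io a⁻¹ b⁻¹ := by
  rw [inv_eq_iff_mul_eq_one, io_mul, mul_inv_cancel, mul_inv_cancel, io_one]

theorem io_tw_inj {a b a' b' : SL2 F} {σ σ' : Perm (Fin 2)}
    (h : io a b * pHom F 2 σ = io a' b' * pHom F 2 σ') : a = a' ∧ b = b' ∧ σ = σ' := by
  obtain ⟨h1, h2⟩ := bHom_pHom_inj h
  refine ⟨?_, ?_, h2⟩
  · simpa using congrFun h1 0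
  · simpa using congrFun h1 1

theorem io_injective {a b a' b' : SL2 F} (h : io a b = io a' b') : a = a' ∧ b = b' := by
  have h' : io a b * pHom F 2 1 = io a' b' * pHom F 2 1 := by rw [h]
  obtain ⟨h1, h2, -⟩ := io_tw_inj h'
  exact ⟨h1, h2⟩

theorem io_ne_io_tw (a b a' b' : SL2 F) : io a b ≠ io a' b' * tw := by
  intro h
  have h' : io a b * pHom F 2 1 = io a' b' * pHom F 2 (Equiv.swap 0 1) := by
    rw [map_one, mul_one]
    exact h
  obtain ⟨-, -, h3⟩ := io_tw_inj h'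
  have := congrArg (fun σ : Perm (Fin 2) => σ 0) h3
  simp at this

theorem tw_mul_tw : (tw : Sp4 F) * tw = 1 := by
  unfold tw
  rw [← map_mul, Equiv.swap_mul_self, map_one]

theorem tw_inv : (tw : Sp4 F)⁻¹ = tw := inv_eq_of_mul_eq_one_right tw_mul_tw

theorem tw_io (a b : SL2 F) : tw * io a b = io b a * tw := by
  unfold tw io
  rw [pHom_bHom]
  congr 2
  funext i
  fin_cases i <;> simp

theorem tw_io_tw (a b : SL2 F) : tw * io a b * tw⁻¹ = io b a := by
  rw [tw_io, mul_assoc, mul_inv_cancel, mul_one]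

theorem mem_SQ {Q : Subgroup (SL2 F)} {g : Sp4 F} :
    g ∈ SQ Q ↔ ∃ a ∈ Q, ∃ b ∈ Q, g = io a b ∨ g = io a b * tw := by
  unfold SQ
  rw [mem_spWr]
  constructor
  · rintro ⟨f, hf, σ, -, rfl⟩
    refine ⟨f 0, hf 0, f 1, hf 1, ?_⟩
    have hf' : f = ![f 0, f 1] := by
      funext i
      fin_cases i <;> rfl
    have hσ : σ = 1 ∨ σ = Equiv.swap 0 1 := by
      revert σ
      decide
    rcases hσ with h | h
    · left
      rw [h, map_one, mul_one]
      unfold io
      rw [← hf']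
    · right
      unfold io tw
      rw [← hf', h]
  · rintro ⟨a, ha, b, hb, h | h⟩
    · refine ⟨![a, b], ?_, 1, Subgroup.mem_top _, ?_⟩
      · intro i
        fin_cases i
        · exact ha
        · exact hb
      · rw [map_one, mul_one]
        exact h
    · refine ⟨![a, b], ?_, Equiv.swap 0 1, Subgroup.mem_top _, h⟩
      intro i
      fin_cases i
      · exact ha
      · exact hb

theorem io_mem_SQ {Q : Subgroup (SL2 F)} {a b : SL2 F} (ha : a ∈ Q) (hb : b ∈ Q) : io a b ∈ SQ Q :=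
  mem_SQ.2 ⟨a, ha, b, hb, Or.inl rfl⟩

theorem tw_mem_SQ (Q : Subgroup (SL2 F)) : (tw : Sp4 F) ∈ SQ Q :=
  mem_SQ.2 ⟨1, Q.one_mem, 1, Q.one_mem, Or.inr (by rw [io_one, one_mul])⟩

theorem io_neg_neg : io (negOneSL F) (negOneSL F) = nI F := by
  apply Subtype.ext
  show bMat ![negOneSL F, negOneSL F] = -1
  unfold bMat
  ext i j
  rcases i with i | i <;> rcases j with j | j <;> fin_cases i <;> fin_cases j <;>
    simp [negOneSL]

theorem negOneSL_mul_self : negOneSL F * negOneSL F = 1 := by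
  apply Subtype.ext
  show (Matrix.scalar (Fin 2) (-1 : F)) * (Matrix.scalar (Fin 2) (-1 : F)) = 1
  rw [← map_mul]
  simp

/-- `t₀' = ι(1,-1) = -t₀` -/
theorem nI_mul_t0 : nI F * t0 F = io 1 (negOneSL F) := by
  unfold t0
  rw [← io_neg_neg, io_mul, negOneSL_mul_self, mul_one]

theorem t0_mul_t0 : t0 F * t0 F = 1 := by
  unfold t0
  rw [io_mul, negOneSL_mul_self, mul_one, io_one]

theorem tw_t0_tw : tw * t0 F * tw⁻¹ = nI F * t0 F := by
  unfold t0
  rw [tw_io_tw, ← io_neg_neg, io_mul, negOneSL_mul_self, mul_one]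

/-! ### conditions modulo a central subgroup -/

section modZ

variable {G : Type*} [Group G]

/-- `S/Z` has no proper nontrivial strongly closed subgroup (stated in `G`, for subgroups `Z ≤ T ≤ S`) -/
def NoStrClosedMod (Z S : Subgroup G) : Prop :=
  ∀ T : Subgroup G, Z ≤ T → T ≤ S → (∀ t ∈ T, ∀ g : G, g * t * g⁻¹ ∈ S → g * t * g⁻¹ ∈ T) → T = Z ∨ T = S

/-- the elements of `N_G(S)` of local origin modulo `Z`: those of `S` and those generated by the `p`-elements of `N_G(R)` for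
some `Z ≤ R ⊴ S` with `C_G(R mod Z) ≤ R` -/
def LocSetMod (p : ℕ) (Z S : Subgroup G) : Set G :=
  {g : G | g ∈ Subgroup.normalizer (S : Set G) ∧
    (g ∈ S ∨ ∃ R : Subgroup G, Z ≤ R ∧ R ≤ S ∧ S ≤ Subgroup.normalizer (R : Set G) ∧
      (∀ x : G, (∀ r ∈ R, x * r * x⁻¹ * r⁻¹ ∈ Z) → x ∈ R) ∧
      g ∈ Subgroup.closure {x : G | x ∈ Subgroup.normalizer (R : Set G) ∧ ∃ k : ℕ, orderOf x = p ^ k})}

/-- `N_G(S)` is generated by its elements of local origin modulo `Z` -/
def LocGenMod (p : ℕ) (Z S : Subgroup G) : Prop :=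
  Subgroup.normalizer (S : Set G) ≤ Subgroup.closure (LocSetMod p Z S)

end modZ

end Cfsg.Agent.Helper88.PSp4F
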