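import Cfsg.Agent.Helper38.FP.Defs

/-!
# S2276 piece (GL) for helper38: the greedy lemma on `p`-power orbit sizes
-/

set_option autoImplicit false

namespace Cfsg.Agent.Helper88.FP

open Equiv Cfsg.Agent.Helper38.FP

variable {α : Type} [Fintype α] [DecidableEq α] {p : ℕ}

omit [Fintype α] [DecidableEq α] in
theorem zpow_apply_mem_iff (w : Perm α) (S : Finset α) (hS : ∀ a, w a ∈ S ↔ a ∈ S) (i : ℤ)
    (a : α) : (w ^ i) a ∈ S ↔ a ∈ S := by
  induction i using Int.induction_on generalizing a with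
  | zero => simp
  | succ i ih => rw [zpow_add_one, Perm.mul_apply, ih, hS]
  | pred i ih =>
    rw [zpow_sub_one, Perm.mul_apply, ih]
    have h := hS (w⁻¹ a)
    have e : w (w⁻¹ a) = a := by simp
    rw [e] at h
    exact h.symm

theorem orb_subset_of_invariant (w : Perm α) (S : Finset α) (hS : ∀ a, w a ∈ S ↔ a ∈ S) {y : α}
    (hy : y ∈ S) : orb w y ⊆ S := by
  intro z hz
  rw [mem_orb] at hz
  obtain ⟨i, rfl⟩ := hz
  exact (zpow_apply_mem_iff w S hS i y).2 hy

theorem sdiff_orb_invariant (w : Perm α) (S : Finset α) (hS : ∀ a, w a ∈ S ↔ a ∈ S) (y : α) :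
    ∀ a, w a ∈ S \ orb w y ↔ a ∈ S \ orb w y := by
  intro a
  rw [Finset.mem_sdiff, Finset.mem_sdiff, hS, apply_mem_orb_iff]

theorem dvd_card_of_invariant (w : Perm α) (s : ℕ) :
    ∀ (n : ℕ) (S : Finset α), S.card = n → (∀ a, w a ∈ S ↔ a ∈ S) →
      (∀ y ∈ S, s ∣ orderOf (w.cycleOf y)) → s ∣ S.card := by
  intro n
  induction n using Nat.strong_induction_on with
  | _ n ih =>
    intro S hn hS hs
    rcases S.eq_empty_or_nonempty with rfl | ⟨y, hy⟩
    · simp
    · have hsub := orb_subset_of_invariant w S hS hy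
      have hcard : (S \ orb w y).card + (orb w y).card = S.card :=
        Finset.card_sdiff_add_card_eq_card hsub
      have hpos : 0 < (orb w y).card := Finset.card_pos.2 ⟨y, self_mem_orb w y⟩
      have h1 : s ∣ (S \ orb w y).card :=
        ih (S \ orb w y).card (by omega) _ rfl (sdiff_orb_invariant w S hS y)
          (fun z hz => hs z (Finset.mem_sdiff.1 hz).1)
      have h2 : s ∣ (orb w y).card := by
        rw [card_orb]
        exact hs y hy
      rw [← hcard]
      exact dvd_add h1 h2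

/-- (GL) greedy lemma -/
theorem exists_invariant_subset [Fact p.Prime] (w : Perm α) (hw : IsPEl p w)
    (S : Finset α) (hS : ∀ a, w a ∈ S ↔ a ∈ S) (x₀ : α) (hx₀ : x₀ ∈ S)
    (hmax : ∀ y ∈ S, orderOf (w.cycleOf y) ≤ orderOf (w.cycleOf x₀))
    (T : ℕ) (hT0 : 0 < T) (hT : ∀ y ∈ S, orderOf (w.cycleOf y) ∣ T) (hTS : T ≤ S.card) :
    ∃ D : Finset α, D ⊆ S ∧ (∀ a, w a ∈ D ↔ a ∈ D) ∧ x₀ ∈ D ∧ D.card = T := by
  have hp : p.Prime := Fact.out
  -- every orbit size is a power of `p`
  have hpow : ∀ y : α, ∃ j : ℕ, orderOf (w.cycleOf y) = p ^ j := by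
    intro y
    obtain ⟨k, hk⟩ := hw
    have h1 : orderOf (w.cycleOf y) ∣ p ^ k := by
      rw [← hk]
      exact Perm.orderOf_cycleOf_dvd_orderOf w y
    obtain ⟨j, _, hj⟩ := (Nat.dvd_prime_pow hp).1 h1
    exact ⟨j, hj⟩
  have hdvd_of_le : ∀ y z : α, orderOf (w.cycleOf y) ≤ orderOf (w.cycleOf z) →
      orderOf (w.cycleOf y) ∣ orderOf (w.cycleOf z) := by
    intro y z hle
    obtain ⟨a, ha⟩ := hpow y
    obtain ⟨b, hb⟩ := hpow z
    rw [ha, hb] at hle ⊢
    exact pow_dvd_pow p ((Nat.pow_le_pow_iff_right hp.one_lt).1 hle)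
  -- strong induction on the size of `S`
  suffices H : ∀ (n : ℕ) (S : Finset α), S.card = n → (∀ a, w a ∈ S ↔ a ∈ S) → x₀ ∈ S →
      (∀ y ∈ S, orderOf (w.cycleOf y) ≤ orderOf (w.cycleOf x₀)) →
      (∀ y ∈ S, orderOf (w.cycleOf y) ∣ T) → T ≤ S.card →
      ∃ D : Finset α, D ⊆ S ∧ (∀ a, w a ∈ D ↔ a ∈ D) ∧ x₀ ∈ D ∧ D.card = T from
    H S.card S rfl hS hx₀ hmax hT hTS
  intro n
  induction n using Nat.strong_induction_on with
  | _ n ih =>
    intro S hn hS hx₀ hmax hT hTS
    rcases hTS.eq_or_lt with heq | hlt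
    · exact ⟨S, Finset.Subset.refl S, hS, hx₀, heq.symm⟩
    · -- the orbit of `x₀` is a proper subset
      have hsub0 := orb_subset_of_invariant w S hS hx₀
      have hc0 : (orb w x₀).card ≤ T := by
        rw [card_orb]
        exact Nat.le_of_dvd hT0 (hT x₀ hx₀)
      have hne : (S \ orb w x₀).Nonempty := by
        rw [← Finset.card_pos, Finset.card_sdiff_of_subset hsub0]
        omega
      obtain ⟨y, hyS', hymin⟩ :=
        Finset.exists_min_image (S \ orb w x₀) (fun y => orderOf (w.cycleOf y)) hne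
      have hyS : y ∈ S := (Finset.mem_sdiff.1 hyS').1
      have hy0 : y ∉ orb w x₀ := (Finset.mem_sdiff.1 hyS').2
      -- all orbit sizes in `S` are multiples of `s`
      have hs : ∀ z ∈ S, orderOf (w.cycleOf y) ∣ orderOf (w.cycleOf z) := by
        intro z hz
        apply hdvd_of_le
        by_cases hz0 : z ∈ orb w x₀
        · rw [orderOf_cycleOf_eq_of_sameCycle (mem_orb.1 hz0)]
          exact hmax y hyS
        · exact hymin z (Finset.mem_sdiff.2 ⟨hz, hz0⟩)
      have hsS : orderOf (w.cycleOf y) ∣ S.card :=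
        dvd_card_of_invariant w _ S.card S rfl hS hs
      have hsT : orderOf (w.cycleOf y) ∣ T := hT y hyS
      have hspos : 0 < orderOf (w.cycleOf y) := orderOf_pos _
      have hle : T + orderOf (w.cycleOf y) ≤ S.card := by
        obtain ⟨a, ha⟩ := hsS
        obtain ⟨b, hb⟩ := hsT
        rw [ha, hb] at hlt ⊢
        have hba : b < a := lt_of_mul_lt_mul_left hlt (Nat.zero_le _)
        calc orderOf (w.cycleOf y) * b + orderOf (w.cycleOf y)
            = orderOf (w.cycleOf y) * (b + 1) := by ring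
          _ ≤ orderOf (w.cycleOf y) * a := Nat.mul_le_mul_left _ hba
      have hsuby := orb_subset_of_invariant w S hS hyS
      have hcard : (S \ orb w y).card = S.card - orderOf (w.cycleOf y) := by
        rw [Finset.card_sdiff_of_subset hsuby, card_orb]
      have hx0' : x₀ ∈ S \ orb w y := by
        rw [Finset.mem_sdiff]
        refine ⟨hx₀, fun h => hy0 ?_⟩
        rw [mem_orb] at h ⊢
        exact h.symm
      obtain ⟨D, hDS, hDinv, hxD, hDc⟩ :=
        ih (S \ orb w y).card (by rw [hcard, ← hn]; omega) (S \ orb w y) rfl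
          (sdiff_orb_invariant w S hS y) hx0'
          (fun z hz => hmax z (Finset.mem_sdiff.1 hz).1)
          (fun z hz => hT z (Finset.mem_sdiff.1 hz).1)
          (by rw [hcard]; omega)
      exact ⟨D, hDS.trans Finset.sdiff_subset, hDinv, hxD, hDc⟩

end Cfsg.Agent.Helper88.FP
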