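-- Simplicity criterion for `F_S(G)` (helper88): `N_G(S)` generated by elements which, for some `R ≤ S` with
-- `C_G(R) ≤ R`, lie in the normal closure of `N_S(R)` in `N_G(R)`.  Variant of helper84's `isSimple_of_locGen`
-- (no normality of `R` in `S` and no Sylow condition needed), plus a form with hypotheses stated in an ambient group.
import Cfsg.Agent.S5160
import Cfsg.Agent.Helper85.SimpleCrit

set_option autoImplicit false

namespace Cfsg.Agent.Helper88

open Cfsg Cfsg.FusionSystem Cfsg.Agent.Helper85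

section crit

variable {G : Type*} [Group G]

/-- The `N_G(R)`-conjugates of the elements of `N_S(R)`. -/
def NcSet (S R : Subgroup G) : Set G :=
  {x : G | ∃ m ∈ Subgroup.normalizer (R : Set G), ∃ s ∈ S, s ∈ Subgroup.normalizer (R : Set G) ∧ x = m * s * m⁻¹}

/-- Elements of `N_G(S)` of local origin. -/
def LocSet2 (S : Subgroup G) : Set G :=
  {g : G | g ∈ Subgroup.normalizer (S : Set G) ∧
    (g ∈ S ∨ ∃ R : Subgroup G, R ≤ S ∧ Subgroup.centralizer (R : Set G) ≤ R ∧
      g ∈ Subgroup.closure (NcSet S R))}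

/-- `N_G(S)` is generated by its elements of local origin. -/
def LocGen2 (S : Subgroup G) : Prop :=
  Subgroup.normalizer (S : Set G) ≤ Subgroup.closure (LocSet2 S)

/-- The normal closure of `N_S(R)` in `N_G(R)` acts on `R` through maps of `E`. -/
theorem ind_of_mem_closure_ncSet {S : Subgroup G} {E : FusionSystem S} (hE : S5160.Good S E)
    {R : Subgroup G} (hRS : R ≤ S) {g : G} (hg : g ∈ Subgroup.closure (NcSet S R)) :
    g ∈ Subgroup.normalizer (R : Set G) ∧ S5160.Ind E g R := by
  let Y : Subgroup G :=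
    { carrier := {g | g ∈ Subgroup.normalizer (R : Set G) ∧ S5160.Ind E g R}
      one_mem' := ⟨Subgroup.one_mem _, S5160.ind_of_mem E hRS (Subgroup.one_mem _)⟩
      mul_mem' := by
        rintro a b ⟨ha, ha'⟩ ⟨hb, hb'⟩
        exact ⟨Subgroup.mul_mem _ ha hb, hb'.mul ha' (S5160.conjSub_eq_of_mem_normalizer hb).le⟩
      inv_mem' := by
        rintro a ⟨ha, ha'⟩
        refine ⟨Subgroup.inv_mem _ ha, ?_⟩
        have := ha'.inv
        rwa [S5160.conjSub_eq_of_mem_normalizer ha] at this }
  have hle : Subgroup.closure (NcSet S R) ≤ Y := by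
    rw [Subgroup.closure_le]
    rintro x ⟨m, hm, s, hs, hsN, rfl⟩
    have h1 : S5160.Ind E s R := S5160.ind_of_mem E hRS hs
    have h2 := S5160.ind_conj_of_mem_normalizer hE hRS hm h1 hsN
    exact ⟨Subgroup.mul_mem _ (Subgroup.mul_mem _ hm hsN) (Subgroup.inv_mem _ hm), h2⟩
  exact hle hg

/-- `F_S(G)` is simple when `S ≠ 1` is a Sylow `p`-subgroup, `N_G(S)` is generated by elements of local origin and no
proper nontrivial subgroup of `S` is strongly closed in `S` with respect to `G`. -/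
theorem isSimple_of_locGen2 [Finite G] (p : ℕ) [Fact p.Prime] (S : Sylow p G)
    (hS1 : (S : Subgroup G) ≠ ⊥) (hN : LocGen2 (S : Subgroup G)) (hT : NoStrClosed (S : Subgroup G)) :
    (groupFusionSystem (S : Subgroup G)).IsSimple p := by
  have hFsat : (groupFusionSystem (S : Subgroup G)).IsSaturated p := S5076.result p S
  refine ⟨hFsat, hS1, ?_⟩
  intro T E hEn
  obtain ⟨⟨hEsat, -, hsub, hsc, hinv, hfrat⟩, -⟩ := hEn
  have hTT : T = ⊥ ∨ T = (S : Subgroup G) := by
    obtain ⟨hTS, hcl⟩ := hsc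
    refine hT T hTS ?_
    intro t ht g hg
    have hR : Subgroup.zpowers t ≤ T := (Subgroup.zpowers_le).2 ht
    have hmem : conjHom (Subgroup.zpowers t) g ∈ (groupFusionSystem (S : Subgroup G)).Hom (Subgroup.zpowers t) := by
      refine ⟨hR.trans hTS, ?_, g, fun x => rfl⟩
      rintro ⟨x, k, rfl⟩
      show g * t ^ k * g⁻¹ ∈ (S : Subgroup G)
      have : g * t ^ k * g⁻¹ = (g * t * g⁻¹) ^ k := by
        rw [conj_zpow]
      rw [this]
      exact Subgroup.zpow_mem _ hg k
    exact hcl _ hR _ hmem ⟨t, Subgroup.mem_zpowers t⟩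
  rcases hTT with h | h
  · left; exact h
  right
  refine ⟨h, ?_⟩
  subst h
  have hE : S5160.Good (S : Subgroup G) E :=
    ⟨hsub, fun hh hn => S5160.invariance' E hinv hh hn, fun hP hgP => S5160.frattini' E hfrat hP hgP⟩
  intro P
  apply Set.Subset.antisymm (hsub P)
  apply S5160.hom_subset_of_forall_normalizer hE
  have hSS : (S : Subgroup G) ≤ S := le_rfl
  let Y : Subgroup G :=
    { carrier := {g | g ∈ Subgroup.normalizer ((S : Subgroup G) : Set G) ∧ S5160.Ind E g (S : Subgroup G)}
      one_mem' := ⟨Subgroup.one_mem _, S5160.ind_of_mem E hSS (Subgroup.one_mem _)⟩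
      mul_mem' := by
        rintro a b ⟨ha, ha'⟩ ⟨hb, hb'⟩
        exact ⟨Subgroup.mul_mem _ ha hb, hb'.mul ha' (S5160.conjSub_eq_of_mem_normalizer hb).le⟩
      inv_mem' := by
        rintro a ⟨ha, ha'⟩
        refine ⟨Subgroup.inv_mem _ ha, ?_⟩
        have := ha'.inv
        rwa [S5160.conjSub_eq_of_mem_normalizer ha] at this }
  have hle : Subgroup.closure (LocSet2 (S : Subgroup G)) ≤ Y := by
    rw [Subgroup.closure_le]
    rintro g ⟨hgS, hg | ⟨R, hRS, hCR, hg⟩⟩
    · exact ⟨hgS, S5160.ind_of_mem E hSS hg⟩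
    · have hCen : (groupFusionSystem (S : Subgroup G)).IsCentric R := by
        refine ⟨hRS, fun Q hQ => ?_⟩
        obtain ⟨a, rfl, -⟩ := (isConj_group_iff hRS).1 hQ
        rw [centralizerIn_eq, centralizer_cj]
        exact inf_le_right.trans (cj_mono a hCR)
      obtain ⟨hgR, hgI⟩ := ind_of_mem_closure_ncSet hE hRS hg
      exact ⟨hgS, S5160.ind_top S hE hEsat hgS _ R rfl hCen hgR hgI⟩
  intro n hn
  exact (hle (hN hn)).2

end crit

section ambient

open scoped Pointwise

variable {G Γ : Type*} [Group G] [Group Γ]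

/-- Conjugates, under elements of `A` normalizing `R`, of elements of `N_{S₀}(R)`. -/
def ANc (A S₀ R : Subgroup Γ) : Set Γ :=
  {x : Γ | ∃ m ∈ A, m ∈ Subgroup.normalizer (R : Set Γ) ∧ ∃ s ∈ S₀, s ∈ Subgroup.normalizer (R : Set Γ) ∧
    x = m * s * m⁻¹}

/-- Elements of `N_A(S₀)` of local origin, `A` a subgroup of an ambient group `Γ`. -/
def ALoc (A S₀ : Subgroup Γ) : Set Γ :=
  {g : Γ | g ∈ A ∧ g ∈ Subgroup.normalizer (S₀ : Set Γ) ∧
    (g ∈ S₀ ∨ ∃ R : Subgroup Γ, R ≤ S₀ ∧ (∀ c ∈ A, c ∈ Subgroup.centralizer (R : Set Γ) → c ∈ R) ∧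
      g ∈ Subgroup.closure (ANc A S₀ R))}

theorem mem_normalizer_comap_iff (ι : G →* Γ) {R : Subgroup Γ} (hR : R ≤ ι.range) (g : G) :
    g ∈ Subgroup.normalizer ((R.comap ι : Subgroup G) : Set G) ↔ ι g ∈ Subgroup.normalizer (R : Set Γ) := by
  rw [← Subgroup.comap_normalizer_eq_of_le_range hR, Subgroup.mem_comap]

/-- The simplicity criterion with hypotheses stated inside an ambient group `Γ ≥ A ≅ G`. -/
theorem isSimple_of_ambient [Finite G] (ι : G →* Γ) (hι : Function.Injective ι) (p : ℕ) [Fact p.Prime]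
    (S₀ : Subgroup Γ) (hS₀A : S₀ ≤ ι.range) (S : Sylow p G) (hS : (S : Subgroup G) = S₀.comap ι)
    (hne : S₀ ≠ ⊥)
    (hN : ∀ g ∈ ι.range, g ∈ Subgroup.normalizer (S₀ : Set Γ) → g ∈ Subgroup.closure (ALoc ι.range S₀))
    (hT : ∀ T : Subgroup Γ, T ≤ S₀ → (∀ t ∈ T, ∀ g ∈ ι.range, g * t * g⁻¹ ∈ S₀ → g * t * g⁻¹ ∈ T) →
      T = ⊥ ∨ T = S₀) :
    (groupFusionSystem (S : Subgroup G)).IsSimple p := by
  apply isSimple_of_locGen2 p S
  · rw [hS]
    intro h
    apply hne
    rw [eq_bot_iff]
    intro x hx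
    obtain ⟨g, rfl⟩ := hS₀A hx
    have : g ∈ S₀.comap ι := hx
    rw [h, Subgroup.mem_bot] at this
    rw [this, map_one]
    exact Subgroup.one_mem _
  · -- local generation
    intro n hn
    rw [hS, mem_normalizer_comap_iff ι hS₀A] at hn
    have key : ∀ x ∈ Subgroup.closure (ALoc ι.range S₀),
        ∃ g ∈ Subgroup.closure (LocSet2 (S : Subgroup G)), ι g = x := by
      intro x hx
      induction hx using Subgroup.closure_induction with
      | mem x hx =>
        obtain ⟨⟨g, rfl⟩, hxN, hx'⟩ := hx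
        refine ⟨g, Subgroup.subset_closure ⟨?_, ?_⟩, rfl⟩
        · rw [hS, mem_normalizer_comap_iff ι hS₀A]
          exact hxN
        · rcases hx' with h | ⟨R, hRS, hCR, hcl⟩
          · left
            rw [hS]
            exact h
          · right
            have hRr : R ≤ ι.range := hRS.trans hS₀A
            refine ⟨R.comap ι, ?_, ?_, ?_⟩
            · rw [hS]
              exact Subgroup.comap_mono hRS
            · intro c hc
              show ι c ∈ R
              apply hCR _ ⟨c, rfl⟩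
              rw [Subgroup.mem_centralizer_iff]
              intro r hr
              obtain ⟨r', rfl⟩ := hRr hr
              have := Subgroup.mem_centralizer_iff.mp hc r' hr
              rw [← map_mul, ← map_mul, this]
            · have key2 : ∀ y ∈ Subgroup.closure (ANc ι.range S₀ R),
                  ∃ g' ∈ Subgroup.closure (NcSet (S : Subgroup G) (R.comap ι)), ι g' = y := by
                intro y hy
                induction hy using Subgroup.closure_induction with
                | mem y hy =>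
                  obtain ⟨m, ⟨m', rfl⟩, hmN, s, hs, hsN, rfl⟩ := hy
                  obtain ⟨s', rfl⟩ := hS₀A hs
                  refine ⟨m' * s' * m'⁻¹, Subgroup.subset_closure ⟨m', ?_, s', ?_, ?_, rfl⟩, ?_⟩
                  · rw [mem_normalizer_comap_iff ι hRr]
                    exact hmN
                  · rw [hS]
                    exact hs
                  · rw [mem_normalizer_comap_iff ι hRr]
                    exact hsN
                  · rw [map_mul, map_mul, map_inv]
                | one => exact ⟨1, Subgroup.one_mem _, map_one ι⟩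
                | mul a b _ _ ha hb =>
                  obtain ⟨a', ha', rfl⟩ := ha
                  obtain ⟨b', hb', rfl⟩ := hb
                  exact ⟨a' * b', Subgroup.mul_mem _ ha' hb', map_mul ι a' b'⟩
                | inv a _ ha =>
                  obtain ⟨a', ha', rfl⟩ := ha
                  exact ⟨a'⁻¹, Subgroup.inv_mem _ ha', map_inv ι a'⟩
              obtain ⟨g', hg', hgg⟩ := key2 _ hcl
              rw [← hι hgg]
              exact hg'
      | one => exact ⟨1, Subgroup.one_mem _, map_one ι⟩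
      | mul a b _ _ ha hb =>
        obtain ⟨a', ha', rfl⟩ := ha
        obtain ⟨b', hb', rfl⟩ := hb
        exact ⟨a' * b', Subgroup.mul_mem _ ha' hb', map_mul ι a' b'⟩
      | inv a _ ha =>
        obtain ⟨a', ha', rfl⟩ := ha
        exact ⟨a'⁻¹, Subgroup.inv_mem _ ha', map_inv ι a'⟩
    obtain ⟨g, hg, hgn⟩ := key _ (hN _ ⟨n, rfl⟩ hn)
    rw [← hι hgn]
    exact hg
  · -- no strongly closed subgroups
    intro T hTS hcl
    have hT' : T.map ι ≤ S₀ := by
      rw [Subgroup.map_le_iff_le_comap, ← hS]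
      exact hTS
    have hcl' : ∀ t ∈ T.map ι, ∀ g ∈ ι.range, g * t * g⁻¹ ∈ S₀ → g * t * g⁻¹ ∈ T.map ι := by
      rintro _ ⟨t, ht, rfl⟩ _ ⟨g, rfl⟩ h
      refine ⟨g * t * g⁻¹, hcl t ht g ?_, by rw [map_mul, map_mul, map_inv]⟩
      rw [hS]
      show ι (g * t * g⁻¹) ∈ S₀
      rw [map_mul, map_mul, map_inv]
      exact h
    rcases hT _ hT' hcl' with h | h
    · left
      exact (Subgroup.map_eq_bot_iff_of_injective T hι).mp h
    · right
      rw [hS, ← h, Subgroup.comap_map_eq_self_of_injective hι]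

/-- The same for every Sylow `p`-subgroup of `G`. -/
theorem isSimple_of_ambient_all [Finite G] (ι : G →* Γ) (hι : Function.Injective ι) (p : ℕ) [Fact p.Prime]
    (S₀ : Subgroup Γ) (hS₀A : S₀ ≤ ι.range)
    (hcard : Nat.card S₀ = p ^ (Nat.card G).factorization p)
    (hne : S₀ ≠ ⊥)
    (hN : ∀ g ∈ ι.range, g ∈ Subgroup.normalizer (S₀ : Set Γ) → g ∈ Subgroup.closure (ALoc ι.range S₀))
    (hT : ∀ T : Subgroup Γ, T ≤ S₀ → (∀ t ∈ T, ∀ g ∈ ι.range, g * t * g⁻¹ ∈ S₀ → g * t * g⁻¹ ∈ T) →
      T = ⊥ ∨ T = S₀)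
    (S : Sylow p G) : (groupFusionSystem (S : Subgroup G)).IsSimple p := by
  have hc : Nat.card (S₀.comap ι) = p ^ (Nat.card G).factorization p := by
    rw [← hcard]
    have e : (S₀.comap ι) ≃ S₀ :=
      { toFun := fun x => ⟨ι x.1, x.2⟩
        invFun := fun y => ⟨(hS₀A y.2).choose, by
          show ι (hS₀A y.2).choose ∈ S₀
          rw [(hS₀A y.2).choose_spec]
          exact y.2⟩
        left_inv := fun x => Subtype.ext (hι (hS₀A x.2).choose_spec)
        right_inv := fun y => Subtype.ext (hS₀A y.2).choose_spec }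
    exact Nat.card_congr e
  let S₁ : Sylow p G := Sylow.ofCard _ hc
  obtain ⟨a, ha⟩ := MulAction.exists_smul_eq G S₁ S
  let ι' : G →* Γ := ι.comp (MulAut.conj a⁻¹).toMonoidHom
  have hι' : Function.Injective ι' := hι.comp (MulAut.conj a⁻¹).injective
  have hrange : ι'.range = ι.range := by
    ext x
    constructor
    · rintro ⟨g, rfl⟩
      exact ⟨_, rfl⟩
    · rintro ⟨g, rfl⟩
      refine ⟨a * g * a⁻¹, ?_⟩
      show ι (a⁻¹ * (a * g * a⁻¹) * a⁻¹⁻¹) = ι g
      congr 1
      group
  have hSeq : (S : Subgroup G) = S₀.comap ι' := by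
    rw [← ha]
    ext x
    show x ∈ (MulAut.conj a • (S₁ : Subgroup G)) ↔ _
    rw [Subgroup.mem_pointwise_smul_iff_inv_smul_mem]
    show (MulAut.conj a)⁻¹ • x ∈ S₀.comap ι ↔ ι (a⁻¹ * x * a⁻¹⁻¹) ∈ S₀
    rw [Subgroup.mem_comap, MulAut.smul_def, ← map_inv, MulAut.conj_apply]
  refine isSimple_of_ambient ι' hι' p S₀ (by rw [hrange]; exact hS₀A) S hSeq hne ?_ ?_
  · rw [hrange]
    exact hN
  · rw [hrange]
    exact hT

end ambient

end Cfsg.Agent.Helper88
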