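-- `p`-elements of `N_A(R)` are `N_A(R)`-conjugate into a Sylow `p`-subgroup `S₀ ≤ N_A(R)` of `A` (helper88).
import Cfsg.Agent.Helper88.AltCrit

set_option autoImplicit false

namespace Cfsg.Agent.Helper88

open Cfsg

variable {Γ : Type*} [Group Γ] [Finite Γ]

theorem mem_ANc_of_pow {p : ℕ} [Fact p.Prime] {A S₀ R : Subgroup Γ} (hSA : S₀ ≤ A)
    (hcard : Nat.card S₀ = p ^ (Nat.card A).factorization p)
    (hSR : S₀ ≤ Subgroup.normalizer (R : Set Γ)) {x : Γ} (hxA : x ∈ A)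
    (hxR : x ∈ Subgroup.normalizer (R : Set Γ)) {k : ℕ} (hx : x ^ p ^ k = 1) : x ∈ ANc A S₀ R := by
  have hp : p.Prime := Fact.out
  set N : Subgroup Γ := A ⊓ Subgroup.normalizer (R : Set Γ) with hN
  have hSN : S₀ ≤ N := le_inf hSA hSR
  have hNA : N ≤ A := inf_le_left
  have hA0 : Nat.card A ≠ 0 := Nat.card_pos.ne'
  have hN0 : Nat.card N ≠ 0 := Nat.card_pos.ne'
  have h1 : Nat.card S₀ ∣ Nat.card N := Subgroup.card_dvd_of_le hSN
  have h2 : Nat.card N ∣ Nat.card A := Subgroup.card_dvd_of_le hNA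
  have hfac : (Nat.card N).factorization p = (Nat.card A).factorization p := by
    apply le_antisymm
    · exact (Nat.factorization_le_iff_dvd hN0 hA0).mpr h2 p
    · rw [hcard] at h1
      exact (hp.pow_dvd_iff_le_factorization hN0).mp h1
  have hcard' : Nat.card S₀ = p ^ (Nat.card N).factorization p := by rw [hfac, hcard]
  have hord : ∃ j : ℕ, orderOf x = p ^ j := by
    obtain ⟨j, -, hj⟩ := (Nat.dvd_prime_pow hp).mp (orderOf_dvd_of_pow_eq_one hx)
    exact ⟨j, hj⟩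
  obtain ⟨m, hm, hmx⟩ := S5160.exists_conj_mem_of_card hSN hcard' (⟨hxA, hxR⟩ : x ∈ N) hord
  refine ⟨m⁻¹, Subgroup.inv_mem _ hm.1, Subgroup.inv_mem _ hm.2, m * x * m⁻¹, hmx, ?_, ?_⟩
  · exact Subgroup.mul_mem _ (Subgroup.mul_mem _ hm.2 hxR) (Subgroup.inv_mem _ hm.2)
  · group

end Cfsg.Agent.Helper88
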