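-- The wreath model `C_p ≀ K` inside `Perm (β × ZMod p ⊕ ρ)` (helper88), for the fusion systems of alternating groups.
import Cfsg.Agent.Helper42.SylowEA2

set_option autoImplicit false
set_option linter.unusedSectionVars false

namespace Cfsg.Agent.Helper88.AltM

open Equiv Cfsg.Agent.Helper42

variable {β ρ : Type*} [Fintype β] [DecidableEq β] [Fintype ρ] [DecidableEq ρ] {p : ℕ} [Fact p.Prime]

/-- The points: `p`-blocks indexed by `β`, and the leftover points `ρ`. -/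
abbrev Pt (β ρ : Type*) (p : ℕ) := β × ZMod p ⊕ ρ

/-- Extending a permutation of the blocks' points by the identity on `ρ`. -/
def inc (ρ : Type*) : Perm (β × ZMod p) →* Perm (Pt β ρ p) :=
  (Perm.sumCongrHom (β × ZMod p) ρ).comp (MonoidHom.inl _ _)

theorem inc_inl (g : Perm (β × ZMod p)) (x : β × ZMod p) : inc ρ g (Sum.inl x) = Sum.inl (g x) := rfl

theorem inc_inr (g : Perm (β × ZMod p)) (z : ρ) : inc ρ g (Sum.inr z) = Sum.inr z := rfl

theorem inc_injective : Function.Injective (inc ρ : Perm (β × ZMod p) →* Perm (Pt β ρ p)) := by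
  intro g g' h
  apply Equiv.ext
  intro x
  have := congrArg (fun k : Perm (Pt β ρ p) => k (Sum.inl x)) h
  simpa [inc_inl] using this

theorem sign_inc (g : Perm (β × ZMod p)) : Perm.sign (inc ρ g) = Perm.sign g := by
  show Perm.sign (Equiv.sumCongr g 1) = _
  rw [Perm.sign_sumCongr, map_one, mul_one]

/-- scaling of the fibres -/
def sc (h : β → (ZMod p)ˣ) : Perm (β × ZMod p) := Equiv.prodCongrRight (fun i => Units.mulLeft (h i))

theorem sc_apply (h : β → (ZMod p)ˣ) (i : β) (t : ZMod p) : sc h (i, t) = (i, (h i : ZMod p) * t) := rfl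

theorem sc_mul (h k : β → (ZMod p)ˣ) : sc (h * k) = sc h * sc k := by
  ext ⟨i, t⟩
  · rfl
  · simp only [Perm.mul_apply, sc_apply, Pi.mul_apply, Units.val_mul]
    ring

theorem sc_one : sc (1 : β → (ZMod p)ˣ) = 1 := by
  ext ⟨i, t⟩
  · rfl
  · simp [sc_apply]

/-- fibre scalings as a homomorphism -/
def scHom : (β → (ZMod p)ˣ) →* Perm (β × ZMod p) where
  toFun := sc
  map_one' := sc_one
  map_mul' := sc_mul

/-- block permutations as a homomorphism -/
def lfHom : Perm β →* Perm (β × ZMod p) where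
  toFun := lf p
  map_one' := lf_one
  map_mul' := lf_mul

/-- translations -/
def T (f : β → ZMod p) : Perm (Pt β ρ p) := inc ρ (tr f)

/-- block permutations -/
def L : Perm β →* Perm (Pt β ρ p) := (inc ρ).comp lfHom

/-- scalings -/
def C : (β → (ZMod p)ˣ) →* Perm (Pt β ρ p) := (inc ρ).comp scHom

@[simp] theorem T_inl (f : β → ZMod p) (y : β) (a : ZMod p) :
    (T f : Perm (Pt β ρ p)) (Sum.inl (y, a)) = Sum.inl (y, a + f y) := rfl

@[simp] theorem T_inr (f : β → ZMod p) (z : ρ) : (T f : Perm (Pt β ρ p)) (Sum.inr z) = Sum.inr z := rfl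

@[simp] theorem L_inl (σ : Perm β) (y : β) (a : ZMod p) :
    (L σ : Perm (Pt β ρ p)) (Sum.inl (y, a)) = Sum.inl (σ y, a) := rfl

@[simp] theorem L_inr (σ : Perm β) (z : ρ) : (L σ : Perm (Pt β ρ p)) (Sum.inr z) = Sum.inr z := rfl

@[simp] theorem C_inl (h : β → (ZMod p)ˣ) (y : β) (a : ZMod p) :
    (C h : Perm (Pt β ρ p)) (Sum.inl (y, a)) = Sum.inl (y, (h y : ZMod p) * a) := rfl

@[simp] theorem C_inr (h : β → (ZMod p)ˣ) (z : ρ) : (C h : Perm (Pt β ρ p)) (Sum.inr z) = Sum.inr z := rfl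

theorem T_add (f g : β → ZMod p) : (T (f + g) : Perm (Pt β ρ p)) = T f * T g := by
  unfold T
  rw [tr_add, map_mul]

theorem T_zero : (T (0 : β → ZMod p) : Perm (Pt β ρ p)) = 1 := by
  unfold T
  rw [tr_zero, map_one]

theorem T_neg (f : β → ZMod p) : (T (-f) : Perm (Pt β ρ p)) = (T f)⁻¹ := by
  unfold T
  rw [tr_neg, map_inv]

theorem T_sub (f g : β → ZMod p) : (T (f - g) : Perm (Pt β ρ p)) = T f * (T g)⁻¹ := by
  rw [sub_eq_add_neg, T_add, T_neg]

theorem T_pow (f : β → ZMod p) (k : ℕ) : (T f : Perm (Pt β ρ p)) ^ k = T (k • f) := by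
  unfold T
  rw [← map_pow, tr_pow]

theorem T_pow_p (f : β → ZMod p) : (T f : Perm (Pt β ρ p)) ^ p = 1 := by
  unfold T
  rw [← map_pow, tr_pow_p, map_one]

theorem T_injective : Function.Injective (T : (β → ZMod p) → Perm (Pt β ρ p)) := by
  intro f g h
  ext y
  have := congrArg (fun k : Perm (Pt β ρ p) => k (Sum.inl (y, 0))) h
  simpa using this

/-- translations as a homomorphism -/
def Thom : Multiplicative (β → ZMod p) →* Perm (Pt β ρ p) where
  toFun f := T (Multiplicative.toAdd f)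
  map_one' := T_zero
  map_mul' _ _ := T_add _ _

theorem L_T (σ : Perm β) (f : β → ZMod p) :
    (L σ : Perm (Pt β ρ p)) * T f = T (f ∘ σ.symm) * L σ := by
  show inc ρ (lf p σ) * inc ρ (tr f) = inc ρ (tr (f ∘ σ.symm)) * inc ρ (lf p σ)
  rw [← map_mul, ← map_mul, lf_tr]

theorem L_T_conj (σ : Perm β) (f : β → ZMod p) :
    (L σ : Perm (Pt β ρ p)) * T f * (L σ)⁻¹ = T (f ∘ σ.symm) := by
  rw [L_T, mul_inv_cancel_right]

theorem C_T (h : β → (ZMod p)ˣ) (f : β → ZMod p) :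
    (C h : Perm (Pt β ρ p)) * T f = T (fun y => (h y : ZMod p) * f y) * C h := by
  ext x
  rcases x with ⟨y, a⟩ | z
  · simp only [Perm.mul_apply, T_inl, C_inl]
    congr 2
    ring
  · rfl

theorem C_T_conj (h : β → (ZMod p)ˣ) (f : β → ZMod p) :
    (C h : Perm (Pt β ρ p)) * T f * (C h)⁻¹ = T (fun y => (h y : ZMod p) * f y) := by
  rw [C_T, mul_inv_cancel_right]

theorem L_C (σ : Perm β) (h : β → (ZMod p)ˣ) :
    (L σ : Perm (Pt β ρ p)) * C h = C (h ∘ σ.symm) * L σ := by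
  ext x
  rcases x with ⟨y, a⟩ | z
  · simp only [Perm.mul_apply, L_inl, C_inl, Function.comp_apply, Equiv.symm_apply_apply]
  · rfl

theorem L_C_conj (σ : Perm β) (h : β → (ZMod p)ˣ) :
    (L σ : Perm (Pt β ρ p)) * C h * (L σ)⁻¹ = C (h ∘ σ.symm) := by
  rw [L_C, mul_inv_cancel_right]

theorem L_injective : Function.Injective (L : Perm β →* Perm (Pt β ρ p)) := by
  intro σ τ h
  ext y
  have := congrArg (fun k : Perm (Pt β ρ p) => k (Sum.inl (y, 0))) h
  simpa using this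

/-- The base group. -/
def Bs (β ρ : Type*) [Fintype β] [DecidableEq β] [Fintype ρ] [DecidableEq ρ] (p : ℕ) [Fact p.Prime] :
    Subgroup (Perm (Pt β ρ p)) := (Thom : Multiplicative (β → ZMod p) →* Perm (Pt β ρ p)).range

theorem mem_Bs {g : Perm (Pt β ρ p)} : g ∈ Bs β ρ p ↔ ∃ f : β → ZMod p, g = T f := by
  constructor
  · rintro ⟨f, rfl⟩
    exact ⟨Multiplicative.toAdd f, rfl⟩
  · rintro ⟨f, rfl⟩
    exact ⟨Multiplicative.ofAdd f, rfl⟩

theorem T_mem_Bs (f : β → ZMod p) : (T f : Perm (Pt β ρ p)) ∈ Bs β ρ p := mem_Bs.mpr ⟨f, rfl⟩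

/-- The group `C_p ≀ K`. -/
def Ss (ρ : Type*) [Fintype ρ] [DecidableEq ρ] (K : Subgroup (Perm β)) : Subgroup (Perm (Pt β ρ p)) :=
  (wr (⊤ : AddSubgroup (β → ZMod p)) K (top_invariant K)).map (inc ρ)

theorem mem_Ss {K : Subgroup (Perm β)} {g : Perm (Pt β ρ p)} :
    g ∈ Ss ρ K ↔ ∃ (f : β → ZMod p) (σ : Perm β), σ ∈ K ∧ g = T f * L σ := by
  constructor
  · rintro ⟨w, ⟨f, -, σ, hσ, rfl⟩, rfl⟩
    exact ⟨f, σ, hσ, map_mul _ _ _⟩
  · rintro ⟨f, σ, hσ, rfl⟩
    exact ⟨tr f * lf p σ, ⟨f, AddSubgroup.mem_top _, σ, hσ, rfl⟩, map_mul _ _ _⟩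

theorem T_mem_Ss (K : Subgroup (Perm β)) (f : β → ZMod p) : (T f : Perm (Pt β ρ p)) ∈ Ss ρ K :=
  mem_Ss.mpr ⟨f, 1, K.one_mem, by rw [map_one, mul_one]⟩

theorem L_mem_Ss {K : Subgroup (Perm β)} {σ : Perm β} (hσ : σ ∈ K) : (L σ : Perm (Pt β ρ p)) ∈ Ss ρ K :=
  mem_Ss.mpr ⟨0, σ, hσ, by rw [T_zero, one_mul]⟩

theorem Bs_le_Ss (K : Subgroup (Perm β)) : Bs β ρ p ≤ Ss ρ K := by
  intro g hg
  obtain ⟨f, rfl⟩ := mem_Bs.mp hg
  exact T_mem_Ss K f

theorem card_Ss (K : Subgroup (Perm β)) :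
    Nat.card (Ss ρ K : Subgroup (Perm (Pt β ρ p))) = p ^ Fintype.card β * Nat.card K := by
  unfold Ss
  rw [Subgroup.card_map_of_injective inc_injective, card_wr, AddSubgroup.card_top, Nat.card_fun, Nat.card_zmod,
    Nat.card_eq_fintype_card]

theorem card_Pt : Fintype.card (Pt β ρ p) = p * Fintype.card β + Fintype.card ρ := by
  rw [Fintype.card_sum, Fintype.card_prod, ZMod.card, mul_comm]

/-- `C_p ≀ K` is a Sylow `p`-subgroup of the symmetric group when `K` is one and fewer than `p` points are left. -/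
theorem card_Ss_sylow (hρ : Fintype.card ρ < p) (K : Sylow p (Perm β)) :
    Nat.card (Ss ρ (K : Subgroup (Perm β)) : Subgroup (Perm (Pt β ρ p))) =
      p ^ (Nat.card (Perm (Pt β ρ p))).factorization p := by
  have hp : p.Prime := Fact.out
  rw [card_Ss, K.card_eq_multiplicity, ← pow_add]
  congr 1
  have h1 : Nat.card (Perm (Pt β ρ p)) = Nat.card (Perm (Fin (p * Fintype.card β + Fintype.card ρ))) := by
    rw [Nat.card_perm, Nat.card_perm, Nat.card_eq_fintype_card, card_Pt, Nat.card_fin]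
  have h2 : Nat.card (Perm β) = Nat.card (Perm (Fin (Fintype.card β))) := by
    rw [Nat.card_perm, Nat.card_perm, Nat.card_eq_fintype_card, Nat.card_fin]
  have h3 : (p * Fintype.card β + Fintype.card ρ) / p = Fintype.card β := by
    rw [Nat.mul_add_div hp.pos, Nat.div_eq_of_lt hρ, add_zero]
  rw [h1, factorization_card_perm p, h3, ← h2]

theorem sign_T (hp2 : p ≠ 2) (f : β → ZMod p) : Perm.sign (T f : Perm (Pt β ρ p)) = 1 := by
  have h1 : Perm.sign (T f : Perm (Pt β ρ p)) ^ p = 1 := by rw [← map_pow, T_pow_p, map_one]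
  have hodd : Odd p := (Fact.out : p.Prime).odd_of_ne_two hp2
  rcases Int.units_eq_one_or (Perm.sign (T f : Perm (Pt β ρ p))) with h | h
  · exact h
  · rw [h, hodd.neg_one_pow] at h1
    exact absurd h1 (by decide)

theorem sign_L (σ : Perm β) : Perm.sign (L σ : Perm (Pt β ρ p)) = Perm.sign σ ^ p := by
  show Perm.sign (inc ρ (lf p σ)) = _
  rw [sign_inc]
  unfold lf
  rw [Perm.sign_prodCongrLeft, Finset.prod_const, Finset.card_univ, ZMod.card]

theorem sign_L_odd (hp2 : p ≠ 2) (σ : Perm β) : Perm.sign (L σ : Perm (Pt β ρ p)) = Perm.sign σ := by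
  rw [sign_L]
  have hodd : Odd p := (Fact.out : p.Prime).odd_of_ne_two hp2
  rcases Int.units_eq_one_or (Perm.sign σ) with h | h
  · rw [h, one_pow]
  · rw [h, hodd.neg_one_pow]

/-- the sign of multiplication by a unit -/
def chi (p : ℕ) [Fact p.Prime] : (ZMod p)ˣ →* ℤˣ where
  toFun u := Perm.sign (Units.mulLeft u : Perm (ZMod p))
  map_one' := by
    have : (Units.mulLeft (1 : (ZMod p)ˣ) : Perm (ZMod p)) = 1 := by
      ext x
      simp
    rw [this, map_one]
  map_mul' u v := by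
    have : (Units.mulLeft (u * v) : Perm (ZMod p)) = Units.mulLeft u * Units.mulLeft v := by
      ext x
      simp [mul_assoc]
    rw [this, map_mul]

theorem sign_C (h : β → (ZMod p)ˣ) : Perm.sign (C h : Perm (Pt β ρ p)) = chi p (∏ y, h y) := by
  show Perm.sign (inc ρ (sc h)) = _
  rw [sign_inc]
  unfold sc
  rw [Perm.sign_prodCongrRight, map_prod]
  rfl

end Cfsg.Agent.Helper88.AltM
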