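-- A permutation conjugating the block `p`-cycles into the base group is monomial (helper88).
import Cfsg.Agent.Helper88.AltModel

set_option autoImplicit false
set_option linter.unusedSectionVars false

namespace Cfsg.Agent.Helper88.AltM

open Equiv Cfsg.Agent.Helper42

variable {β ρ : Type*} [Fintype β] [DecidableEq β] [Fintype ρ] [DecidableEq ρ] {p : ℕ} [Fact p.Prime]

/-- the `p`-cycle on block `y` -/
def tcyc (ρ : Type*) (p : ℕ) [Fact p.Prime] (y : β) : Perm (Pt β ρ p) := T (Pi.single y 1)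

theorem tcyc_pow_apply (y : β) (k : ℕ) :
    ((tcyc ρ p y) ^ k) (Sum.inl (y, 0)) = (Sum.inl (y, (k : ZMod p)) : Pt β ρ p) := by
  unfold tcyc
  rw [T_pow, T_inl]
  simp

theorem conj_pow_apply {α : Type*} (g t : Perm α) (k : ℕ) (x : α) :
    ((g * t * g⁻¹) ^ k) (g x) = g ((t ^ k) x) := by
  rw [conj_pow]
  simp

theorem decomp [Subsingleton ρ] (g : Perm (Pt β ρ p))
    (hg : ∀ y : β, g * tcyc ρ p y * g⁻¹ ∈ Bs β ρ p) :
    ∃ (f : β → ZMod p) (h : β → (ZMod p)ˣ) (τ : Perm β), g = T f * C h * L τ := by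
  have hg' : ∀ y : β, ∃ F : β → ZMod p, g * tcyc ρ p y * g⁻¹ = T F := fun y => mem_Bs.mp (hg y)
  choose F hF using hg'
  -- where the base point of block `y` goes
  have hu : ∀ y : β, ∃ (y' : β) (a' : ZMod p), g (Sum.inl (y, 0)) = Sum.inl (y', a') ∧ F y y' ≠ 0 := by
    intro y
    have h1 : (T (F y) : Perm (Pt β ρ p)) (g (Sum.inl (y, 0))) ≠ g (Sum.inl (y, 0)) := by
      rw [← hF y]
      simp only [Perm.mul_apply]
      intro h
      have h2 := g.injective h
      unfold tcyc at h2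
      have h3 : g⁻¹ (g (Sum.inl (y, 0))) = (Sum.inl (y, 0) : Pt β ρ p) := by simp
      rw [h3, T_inl] at h2
      simp at h2
    rcases hx : g (Sum.inl (y, 0)) with ⟨y', a'⟩ | z
    · refine ⟨y', a', rfl, ?_⟩
      rw [hx, T_inl] at h1
      intro h0
      apply h1
      rw [h0, add_zero]
    · rw [hx, T_inr] at h1
      exact absurd rfl h1
  choose τ a₀ hτ hc using hu
  have hform : ∀ (y : β) (a : ZMod p), g (Sum.inl (y, a)) = Sum.inl (τ y, a₀ y + a * F y (τ y)) := by
    intro y a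
    have ha : ((a.val : ℕ) : ZMod p) = a := ZMod.natCast_zmod_val a
    have h1 := conj_pow_apply g (tcyc ρ p y) a.val (Sum.inl (y, 0))
    rw [tcyc_pow_apply, ha, hF y, T_pow, hτ y, T_inl] at h1
    rw [← h1]
    simp [ha]
  have hτinj : Function.Injective τ := by
    intro y₁ y₂ h12
    have h1 := hform y₁ ((a₀ y₂ - a₀ y₁) / F y₁ (τ y₁))
    have h2 : a₀ y₁ + (a₀ y₂ - a₀ y₁) / F y₁ (τ y₁) * F y₁ (τ y₁) = a₀ y₂ := by
      rw [div_mul_cancel₀ _ (hc y₁)]
      ring
    rw [h2, h12, ← hτ y₂] at h1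
    have := g.injective h1
    simp only [Sum.inl.injEq, Prod.mk.injEq] at this
    exact this.1
  have hτbij : Function.Bijective τ := Finite.injective_iff_bijective.mp hτinj
  let τ' : Perm β := Equiv.ofBijective τ hτbij
  have hτ' : ∀ y, τ' y = τ y := fun y => rfl
  have hinr : ∀ z : ρ, g (Sum.inr z) = Sum.inr z := by
    intro z
    rcases hx : g (Sum.inr z) with ⟨y', b⟩ | z'
    · exfalso
      obtain ⟨y, rfl⟩ := hτbij.2 y'
      have h1 := hform y ((b - a₀ y) / F y (τ y))
      have h2 : a₀ y + (b - a₀ y) / F y (τ y) * F y (τ y) = b := by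
        rw [div_mul_cancel₀ _ (hc y)]
        ring
      rw [h2, ← hx] at h1
      have := g.injective h1
      simp at this
    · rw [Subsingleton.elim z' z]
  refine ⟨fun y' => a₀ (τ'.symm y'), fun y' => Units.mk0 (F (τ'.symm y') y') ?_, τ', ?_⟩
  · have := hc (τ'.symm y')
    rw [← hτ', Equiv.apply_symm_apply] at this
    exact this
  · ext x
    rcases x with ⟨y, a⟩ | z
    · rw [hform]
      have e : τ'.symm (τ y) = y := by rw [← hτ', Equiv.symm_apply_apply]
      simp only [Perm.mul_apply, L_inl, C_inl, T_inl, Units.val_mk0, hτ', e]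
      congr 2
      ring
    · rw [hinr]
      rfl

end Cfsg.Agent.Helper88.AltM
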