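-- Normalizers of the Sylow subgroups `C_p ≀ K` conjugate the block `p`-cycles into the base group (helper88).
import Cfsg.Agent.Helper88.AltDecomp

set_option autoImplicit false
set_option linter.unusedSectionVars false

namespace Cfsg.Agent.Helper88.AltM

open Equiv Cfsg.Agent.Helper42

variable {β ρ : Type*} [Fintype β] [DecidableEq β] [Fintype ρ] [DecidableEq ρ] {p : ℕ} [Fact p.Prime]

theorem tcyc_mem_Bs (y : β) : tcyc ρ p y ∈ Bs β ρ p := T_mem_Bs _

theorem support_tcyc_card_le (y : β) : (tcyc ρ p y).support.card ≤ p := by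
  have hsub : (tcyc ρ p y).support ⊆ Finset.image (fun a : ZMod p => (Sum.inl (y, a) : Pt β ρ p)) Finset.univ := by
    intro x hx
    rw [Perm.mem_support] at hx
    rcases x with ⟨y', a⟩ | z
    · by_cases hy : y' = y
      · subst hy
        exact Finset.mem_image.mpr ⟨a, Finset.mem_univ _, rfl⟩
      · exfalso
        apply hx
        unfold tcyc
        rw [T_inl, Pi.single_eq_of_ne hy, add_zero]
    · exact absurd rfl hx
  calc (tcyc ρ p y).support.card ≤ (Finset.image (fun a : ZMod p => (Sum.inl (y, a) : Pt β ρ p)) Finset.univ).card :=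
        Finset.card_le_card hsub
    _ ≤ (Finset.univ : Finset (ZMod p)).card := Finset.card_image_le
    _ = p := by rw [Finset.card_univ, ZMod.card]

/-- An element of `C_p ≀ K` moving at most `p` points lies in the base group. -/
theorem mem_Bs_of_support_le {K : Subgroup (Perm β)} {t : Perm (Pt β ρ p)} (ht : t ∈ Ss ρ K)
    (hcard : t.support.card ≤ p) : t ∈ Bs β ρ p := by
  obtain ⟨f, σ, -, rfl⟩ := mem_Ss.mp ht
  have hp : 0 < p := (Fact.out : p.Prime).pos
  by_cases hσ : σ = 1
  · rw [hσ, map_one, mul_one]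
    exact T_mem_Bs f
  exfalso
  obtain ⟨y₁, hy₁⟩ : ∃ y₁, σ y₁ ≠ y₁ := by
    by_contra hcon
    push Not at hcon
    exact hσ (Equiv.ext hcon)
  let e : ZMod p ⊕ ZMod p → Pt β ρ p := Sum.elim (fun a => Sum.inl (y₁, a)) (fun a => Sum.inl (σ y₁, a))
  have hinj : Function.Injective e := by
    rintro (a | a) (b | b) h
    · simp only [e, Sum.elim_inl, Sum.inl.injEq, Prod.mk.injEq] at h
      rw [h.2]
    · simp only [e, Sum.elim_inl, Sum.elim_inr, Sum.inl.injEq, Prod.mk.injEq] at h
      exact absurd h.1.symm hy₁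
    · simp only [e, Sum.elim_inl, Sum.elim_inr, Sum.inl.injEq, Prod.mk.injEq] at h
      exact absurd h.1 hy₁
    · simp only [e, Sum.elim_inr, Sum.inl.injEq, Prod.mk.injEq] at h
      rw [h.2]
  have hsub : Finset.image e Finset.univ ⊆ (T f * L σ : Perm (Pt β ρ p)).support := by
    intro x hx
    obtain ⟨q, -, rfl⟩ := Finset.mem_image.mp hx
    rw [Perm.mem_support]
    rcases q with a | a
    · simp only [e, Sum.elim_inl, Perm.mul_apply, L_inl, T_inl, ne_eq, Sum.inl.injEq, Prod.mk.injEq, not_and]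
      intro h
      exact absurd h hy₁
    · simp only [e, Sum.elim_inr, Perm.mul_apply, L_inl, T_inl, ne_eq, Sum.inl.injEq, Prod.mk.injEq, not_and]
      intro h
      exact absurd (σ.injective h) hy₁
  have h1 : (Finset.image e Finset.univ).card = p + p := by
    rw [Finset.card_image_of_injective _ hinj, Finset.card_univ, Fintype.card_sum, ZMod.card]
  have h2 := Finset.card_le_card hsub
  omega

/-- Elements normalizing `C_p ≀ K` conjugate the block `p`-cycles into the base group. -/
theorem conj_tcyc_mem_Bs_of_normalizer {K : Subgroup (Perm β)} {g : Perm (Pt β ρ p)}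
    (hg : g ∈ Subgroup.normalizer ((Ss ρ K : Subgroup (Perm (Pt β ρ p))) : Set (Perm (Pt β ρ p)))) (y : β) :
    g * tcyc ρ p y * g⁻¹ ∈ Bs β ρ p := by
  have h1 : g * tcyc ρ p y * g⁻¹ ∈ Ss ρ K :=
    (Subgroup.mem_normalizer_iff.mp hg _).mp (Bs_le_Ss K (tcyc_mem_Bs y))
  apply mem_Bs_of_support_le h1
  rw [Perm.card_support_conj]
  exact support_tcyc_card_le y

end Cfsg.Agent.Helper88.AltM
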