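-- `p = 2`: transpositions normalizing the even part of `C_2 ≀ K` are block transpositions (helper88).
import Cfsg.Agent.Helper88.AltNorm

set_option autoImplicit false
set_option linter.unusedSectionVars false

namespace Cfsg.Agent.Helper88.AltM

open Equiv Cfsg.Agent.Helper42

variable {β ρ : Type*} [Fintype β] [DecidableEq β] [Fintype ρ] [DecidableEq ρ]

theorem zmod2_cases (a : ZMod 2) : a = 0 ∨ a = 1 := by
  fin_cases a
  · left; rfl
  · right; rfl

theorem zmod2_add_one_ne (a : ZMod 2) : a + 1 ≠ a := by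
  rcases zmod2_cases a with rfl | rfl <;> decide

theorem zmod2_eq_or (a b : ZMod 2) : b = a ∨ b = a + 1 := by
  rcases zmod2_cases a with rfl | rfl <;> rcases zmod2_cases b with rfl | rfl <;> decide

theorem tcyc_two_eq_swap (y : β) (a : ZMod 2) :
    tcyc ρ 2 y = Equiv.swap (Sum.inl (y, a)) (Sum.inl (y, a + 1)) := by
  ext x
  unfold tcyc
  rcases x with ⟨y', b⟩ | z
  · by_cases hy : y' = y
    · subst hy
      rw [T_inl, Pi.single_eq_same]
      rcases zmod2_eq_or a b with rfl | rfl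
      · rw [Equiv.swap_apply_left]
      · rw [Equiv.swap_apply_right]
        congr 2
        rcases zmod2_cases a with rfl | rfl <;> decide
    · rw [T_inl, Pi.single_eq_of_ne hy, add_zero, Equiv.swap_apply_of_ne_of_ne]
      · intro h
        simp only [Sum.inl.injEq, Prod.mk.injEq] at h
        exact hy h.1
      · intro h
        simp only [Sum.inl.injEq, Prod.mk.injEq] at h
        exact hy h.1
  · rw [T_inr, Equiv.swap_apply_of_ne_of_ne] <;> simp

theorem sign_tcyc_two (y : β) : Perm.sign (tcyc ρ 2 y) = -1 := by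
  rw [tcyc_two_eq_swap y 0]
  apply Perm.sign_swap
  intro h
  simp only [Sum.inl.injEq, Prod.mk.injEq] at h
  exact absurd h.2 (by decide)

/-- elements of `C_p ≀ K` preserve the block system -/
theorem Ss_block {p : ℕ} [Fact p.Prime] {K : Subgroup (Perm β)} {s : Perm (Pt β ρ p)} (hs : s ∈ Ss ρ K) :
    ∃ σ : Perm β, (∀ y a, ∃ b, s (Sum.inl (y, a)) = Sum.inl (σ y, b)) ∧ ∀ z, s (Sum.inr z) = Sum.inr z := by
  obtain ⟨f, σ, -, rfl⟩ := mem_Ss.mp hs
  refine ⟨σ, fun y a => ⟨a + f (σ y), rfl⟩, fun z => rfl⟩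

theorem T_pair_mem (K : Subgroup (Perm β)) (y₁ y₂ : β) :
    (T (Pi.single y₁ 1 + Pi.single y₂ 1) : Perm (Pt β ρ 2)) ∈ Ss ρ K ⊓ alternatingGroup (Pt β ρ 2) := by
  refine ⟨T_mem_Ss K _, ?_⟩
  apply Perm.mem_alternatingGroup.mpr
  rw [T_add]
  show Perm.sign (tcyc ρ 2 y₁ * tcyc ρ 2 y₂) = 1
  rw [map_mul, sign_tcyc_two, sign_tcyc_two]
  rfl

/-- A transposition `(u v)` with `u` in block `y₁` conjugating the even part of `C_2 ≀ K` into `C_2 ≀ K` is the block
transposition. -/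
theorem swap_block [Subsingleton ρ] (hβ : 3 ≤ Fintype.card β) {K : Subgroup (Perm β)} (y₁ : β) (a : ZMod 2)
    (v : Pt β ρ 2) (hv : v ≠ Sum.inl (y₁, a))
    (hn : ∀ s ∈ Ss ρ K ⊓ alternatingGroup (Pt β ρ 2),
      Equiv.swap (Sum.inl (y₁, a)) v * s * Equiv.swap (Sum.inl (y₁, a)) v ∈ Ss ρ K) :
    v = Sum.inl (y₁, a + 1) := by
  by_contra hv'
  set u : Pt β ρ 2 := Sum.inl (y₁, a) with hu
  set u' : Pt β ρ 2 := Sum.inl (y₁, a + 1) with hu'
  have huu' : u' ≠ u := by
    intro h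
    simp only [hu, hu', Sum.inl.injEq, Prod.mk.injEq] at h
    exact zmod2_add_one_ne a h.2
  -- `v` is not in block `y₁`
  have hvb : ∀ b, v ≠ Sum.inl (y₁, b) := by
    intro b
    rcases zmod2_eq_or a b with rfl | rfl
    · exact hv
    · exact hv'
  -- a block `y₂ ≠ y₁` not containing `v`
  obtain ⟨y₂, h21, hv2⟩ : ∃ y₂ : β, y₂ ≠ y₁ ∧ ∀ b, v ≠ Sum.inl (y₂, b) := by
    have h3 : 2 < Fintype.card β := hβ
    obtain ⟨ya, yb, yc, hab, hac, hbc⟩ := Fintype.two_lt_card_iff.mp h3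
    -- among three distinct blocks, at most one is `y₁` and at most one contains `v`
    by_contra hcon
    push Not at hcon
    have key : ∀ y, y ≠ y₁ → ∃ b, v = Sum.inl (y, b) := hcon
    have huniq : ∀ y y', y ≠ y₁ → y' ≠ y₁ → y = y' := by
      intro y y' hy hy'
      obtain ⟨b, hb⟩ := key y hy
      obtain ⟨b', hb'⟩ := key y' hy'
      rw [hb] at hb'
      simp only [Sum.inl.injEq, Prod.mk.injEq] at hb'
      exact hb'.1
    by_cases h1 : ya = y₁
    · have hb1 : yb ≠ y₁ := fun h => hab (h1.trans h.symm)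
      have hc1 : yc ≠ y₁ := fun h => hac (h1.trans h.symm)
      exact hbc (huniq _ _ hb1 hc1)
    · by_cases h2 : yb = y₁
      · have hc1 : yc ≠ y₁ := fun h => hbc (h2.trans h.symm)
        exact hac (huniq _ _ h1 hc1)
      · exact hab (huniq _ _ h1 h2)
  have hz := T_pair_mem (ρ := ρ) K y₁ y₂
  have hw := hn _ hz
  obtain ⟨σ, hσ, hfix⟩ := Ss_block hw
  -- the image of `v`
  have hwv : (Equiv.swap u v * (T (Pi.single y₁ 1 + Pi.single y₂ 1) : Perm (Pt β ρ 2)) * Equiv.swap u v) v = u' := by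
    simp only [Perm.mul_apply, Equiv.swap_apply_right]
    have h1 : (T (Pi.single y₁ 1 + Pi.single y₂ 1) : Perm (Pt β ρ 2)) u = u' := by
      simp only [hu, hu', T_inl, Pi.add_apply, Pi.single_eq_same, Pi.single_eq_of_ne h21.symm, add_zero]
    rw [h1]
    exact Equiv.swap_apply_of_ne_of_ne huu' (fun h => hv' h.symm)
  rcases hvc : v with ⟨y₄, b⟩ | z₀
  · have h41 : y₄ ≠ y₁ := by
      intro h
      apply hvb b
      rw [hvc, h]
    have h42 : y₄ ≠ y₂ := by
      intro h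
      apply hv2 b
      rw [hvc, h]
    set v' : Pt β ρ 2 := Sum.inl (y₄, b + 1) with hv'def
    have hv'u : v' ≠ u := by
      intro h
      simp only [hv'def, hu, Sum.inl.injEq, Prod.mk.injEq] at h
      exact h41 h.1
    have hv'v : v' ≠ v := by
      intro h
      rw [hvc] at h
      simp only [hv'def, Sum.inl.injEq, Prod.mk.injEq] at h
      exact zmod2_add_one_ne b h.2
    have hwv' : (Equiv.swap u v * (T (Pi.single y₁ 1 + Pi.single y₂ 1) : Perm (Pt β ρ 2)) * Equiv.swap u v) v' = v' := by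
      simp only [Perm.mul_apply]
      rw [Equiv.swap_apply_of_ne_of_ne hv'u hv'v]
      have h1 : (T (Pi.single y₁ 1 + Pi.single y₂ 1) : Perm (Pt β ρ 2)) v' = v' := by
        simp only [hv'def, T_inl, Pi.add_apply, Pi.single_eq_of_ne h41, Pi.single_eq_of_ne h42, add_zero]
      rw [h1]
      exact Equiv.swap_apply_of_ne_of_ne hv'u hv'v
    obtain ⟨c, hc⟩ := hσ y₄ b
    obtain ⟨c', hc'⟩ := hσ y₄ (b + 1)
    rw [← hvc, hwv] at hc
    rw [← hv'def, hwv'] at hc'
    simp only [hu', Sum.inl.injEq, Prod.mk.injEq] at hc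
    simp only [hv'def, Sum.inl.injEq, Prod.mk.injEq] at hc'
    exact h41 (hc'.1.trans hc.1.symm)
  · have := hfix z₀
    rw [← hvc, hwv] at this
    exact hv' this.symm

/-- the even part of `C_2 ≀ K` -/
def Sev (ρ : Type*) [Fintype ρ] [DecidableEq ρ] (K : Subgroup (Perm β)) : Subgroup (Perm (Pt β ρ 2)) :=
  Ss ρ K ⊓ alternatingGroup (Pt β ρ 2)

theorem Ss_le_normalizer_Sev (K : Subgroup (Perm β)) :
    Ss ρ K ≤ Subgroup.normalizer ((Sev ρ K : Subgroup (Perm (Pt β ρ 2))) : Set (Perm (Pt β ρ 2))) := by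
  intro c hc
  apply Subgroup.mem_normalizer_fintype
  rintro s ⟨hs1, hs2⟩
  refine ⟨Subgroup.mul_mem _ (Subgroup.mul_mem _ hc hs1) (Subgroup.inv_mem _ hc), ?_⟩
  exact (alternatingGroup.normal (α := Pt β ρ 2)).conj_mem s hs2 c

/-- Elements normalizing the even part of `C_2 ≀ K` conjugate the block transpositions into the base group. -/
theorem conj_tcyc_mem_Bs_of_normalizer_two [Subsingleton ρ] (hβ : 3 ≤ Fintype.card β) {K : Subgroup (Perm β)}
    {g : Perm (Pt β ρ 2)}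
    (hg : g ∈ Subgroup.normalizer ((Sev ρ K : Subgroup (Perm (Pt β ρ 2))) : Set (Perm (Pt β ρ 2)))) (y : β) :
    g * tcyc ρ 2 y * g⁻¹ ∈ Bs β ρ 2 := by
  set u₀ : Pt β ρ 2 := Sum.inl (y, 0) with hu₀
  set u₁ : Pt β ρ 2 := Sum.inl (y, 0 + 1) with hu₁
  have hne01 : u₀ ≠ u₁ := by
    intro h
    simp only [hu₀, hu₁, Sum.inl.injEq, Prod.mk.injEq] at h
    exact absurd h.2 (by decide)
  have hc : tcyc ρ 2 y = Equiv.swap u₀ u₁ := tcyc_two_eq_swap y 0
  have ht : g * tcyc ρ 2 y * g⁻¹ = Equiv.swap (g u₀) (g u₁) := by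
    rw [hc, Equiv.swap_apply_apply]
  have hgne : g u₀ ≠ g u₁ := fun h => hne01 (g.injective h)
  have hcN : g * tcyc ρ 2 y * g⁻¹ ∈
      Subgroup.normalizer ((Sev ρ K : Subgroup (Perm (Pt β ρ 2))) : Set (Perm (Pt β ρ 2))) :=
    Subgroup.mul_mem _ (Subgroup.mul_mem _ hg (Ss_le_normalizer_Sev K (Bs_le_Ss K (tcyc_mem_Bs y))))
      (Subgroup.inv_mem _ hg)
  have hn : ∀ s ∈ Ss ρ K ⊓ alternatingGroup (Pt β ρ 2),
      Equiv.swap (g u₀) (g u₁) * s * Equiv.swap (g u₀) (g u₁) ∈ Ss ρ K := by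
    intro s hs
    have h1 := (Subgroup.mem_normalizer_iff.mp hcN s).mp hs
    rw [ht, Equiv.swap_inv] at h1
    exact h1.1
  rcases hx : g u₀ with ⟨y₁, a⟩ | z₀
  · have h1 := swap_block hβ y₁ a (g u₁) (by rw [← hx]; exact hgne.symm) (by rw [← hx]; exact hn)
    rw [ht, hx, h1, ← tcyc_two_eq_swap]
    exact tcyc_mem_Bs y₁
  · exfalso
    rcases hx' : g u₁ with ⟨y₁, a⟩ | z₁
    · have hn' : ∀ s ∈ Ss ρ K ⊓ alternatingGroup (Pt β ρ 2),
          Equiv.swap (Sum.inl (y₁, a)) (g u₀) * s * Equiv.swap (Sum.inl (y₁, a)) (g u₀) ∈ Ss ρ K := by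
        intro s hs
        rw [← hx', Equiv.swap_comm]
        exact hn s hs
      have h1 := swap_block hβ y₁ a (g u₀) (by rw [← hx']; exact hgne) hn'
      rw [hx] at h1
      exact absurd h1 (by simp)
    · apply hgne
      rw [hx, hx', Subsingleton.elim z₀ z₁]

end Cfsg.Agent.Helper88.AltM
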