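import Mathlib
import Cfsg.Agent.Helper44.AltSylDefs

set_option autoImplicit false

/-!
# S2221 pieces (D3), (D8), (D7) for helper44: finite `p`-groups with centre of order `p`
-/

namespace Cfsg.Agent.Helper88.AltSyl

open Cfsg.Agent.Helper44.AltSyl

/-- in a group whose centre has prime order `p`, every non-trivial central element generates the
centre -/
theorem center_le_of_mem_of_ne_one {G : Type*} [Group G] (p : ℕ) [Fact p.Prime]
    (hc : Nat.card (Subgroup.center G) = p) (K : Subgroup G) (z : G)
    (hz : z ∈ Subgroup.center G) (hz1 : z ≠ 1) (hzK : z ∈ K) : Subgroup.center G ≤ K := by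
  have hp : p.Prime := Fact.out
  have hfin : Finite (Subgroup.center G) := by
    apply Nat.finite_of_card_ne_zero
    rw [hc]
    exact hp.ne_zero
  -- the order of `z` divides `p`
  have hdvd : orderOf (⟨z, hz⟩ : Subgroup.center G) ∣ p := by
    rw [← hc]
    exact orderOf_dvd_natCard _
  have hne1 : orderOf (⟨z, hz⟩ : Subgroup.center G) ≠ 1 := by
    intro h
    rw [orderOf_eq_one_iff] at h
    exact hz1 (congrArg Subtype.val h)
  have hord : orderOf (⟨z, hz⟩ : Subgroup.center G) = p := by
    rcases (Nat.dvd_prime hp).mp hdvd with h | h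
    · exact absurd h hne1
    · exact h
  have htop : Subgroup.zpowers (⟨z, hz⟩ : Subgroup.center G) = ⊤ := by
    apply Subgroup.eq_top_of_card_eq
    rw [Nat.card_zpowers, hord, hc]
  intro c hcm
  have hmem : (⟨c, hcm⟩ : Subgroup.center G) ∈ Subgroup.zpowers (⟨z, hz⟩ : Subgroup.center G) := by
    rw [htop]
    exact Subgroup.mem_top _
  obtain ⟨k, hk⟩ := Subgroup.mem_zpowers_iff.mp hmem
  have hk' : z ^ k = c := by
    have := congrArg Subtype.val hk
    simpa using this
  rw [← hk']
  exact K.zpow_mem hzK k

/-- (D3) a finite `p`-group with centre of order `p` is indecomposable -/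
theorem not_decomp_of_card_center {G : Type*} [Group G] [Finite G] (p : ℕ) [Fact p.Prime]
    (hG : IsPGroup p G) (hc : Nat.card (Subgroup.center G) = p) : ¬ Decomp G := by
  have hp : p.Prime := Fact.out
  rintro ⟨S₁, S₂, h1, h2, hcomm, hinf, hsup⟩
  -- a non-trivial central element of `S` commuting with `T` is central in `G`
  have key : ∀ S T : Subgroup G, S ≠ ⊥ → (∀ a ∈ S, ∀ b ∈ T, a * b = b * a) → S ⊔ T = ⊤ →
      Subgroup.center G ≤ S := by
    intro S T hS hST hsupST
    have hnt : Nontrivial ↥S := (Subgroup.nontrivial_iff_ne_bot S).mpr hS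
    have hpS : IsPGroup p ↥S := hG.to_subgroup S
    have hcn : Nontrivial (Subgroup.center ↥S) := hpS.center_nontrivial
    obtain ⟨⟨z, hz⟩, hz1⟩ := exists_ne (1 : Subgroup.center ↥S)
    have hzc : (z : G) ∈ Subgroup.center G := by
      rw [Subgroup.mem_center_iff]
      have hle : S ⊔ T ≤ Subgroup.centralizer {(z : G)} := by
        apply sup_le
        · intro a ha
          rw [Subgroup.mem_centralizer_iff]
          intro y hy
          rw [Set.mem_singleton_iff] at hy
          subst hy
          have := (Subgroup.mem_center_iff.mp hz) ⟨a, ha⟩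
          have h' := congrArg Subtype.val this
          simpa using h'.symm
        · intro b hb
          rw [Subgroup.mem_centralizer_iff]
          intro y hy
          rw [Set.mem_singleton_iff] at hy
          subst hy
          exact hST z z.2 b hb
      intro g
      have hg : g ∈ Subgroup.centralizer {(z : G)} := hle (by rw [hsupST]; exact Subgroup.mem_top g)
      rw [Subgroup.mem_centralizer_iff] at hg
      exact (hg z rfl).symm
    have hz1' : (z : G) ≠ 1 := by
      intro h
      apply hz1
      apply Subtype.ext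
      apply Subtype.ext
      exact h
    exact center_le_of_mem_of_ne_one p hc S z hzc hz1' z.2
  have hle1 : Subgroup.center G ≤ S₁ := key S₁ S₂ h1 hcomm hsup
  have hle2 : Subgroup.center G ≤ S₂ := by
    apply key S₂ S₁ h2
    · intro a ha b hb
      exact (hcomm b hb a ha).symm
    · rw [sup_comm]
      exact hsup
  have hbot : Subgroup.center G = ⊥ := by
    rw [eq_bot_iff, ← hinf]
    exact le_inf hle1 hle2
  rw [hbot, Subgroup.card_bot] at hc
  exact hp.one_lt.ne hc

/-- (D8) a finite 2-group `D` with centre of order 2 is monolithic: every non-trivial normal subgroup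
contains the centre -/
theorem center_le_of_normal {D : Type*} [Group D] [Finite D] (hD : IsPGroup 2 D)
    (hc : Nat.card (Subgroup.center D) = 2) (N : Subgroup D) [N.Normal] (hN : N ≠ ⊥) :
    Subgroup.center D ≤ N := by
  have : Fact (Nat.Prime 2) := ⟨Nat.prime_two⟩
  have hnt : Nontrivial ↥N := (Subgroup.nontrivial_iff_ne_bot N).mpr hN
  -- the conjugation action on `N` has a non-trivial fixed point
  have hNp : IsPGroup 2 ↥N := hD.to_subgroup N
  obtain ⟨n, hn⟩ := IsPGroup.iff_card.mp hNp
  have hn0 : n ≠ 0 := by
    intro h0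
    rw [h0, pow_zero] at hn
    have : Subsingleton ↥N := (Nat.card_eq_one_iff_unique.mp hn).1
    exact not_subsingleton ↥N this
  have hdvd : 2 ∣ Nat.card ↥N := by
    rw [hn]
    exact dvd_pow_self 2 hn0
  have hCA : IsPGroup 2 (ConjAct D) := by
    exact hD.of_equiv ConjAct.ofConjAct.symm
  have hfix : (1 : ↥N) ∈ MulAction.fixedPoints (ConjAct D) ↥N := by
    intro g
    exact smul_one g
  obtain ⟨x, hx, hx1⟩ := hCA.exists_fixed_point_of_prime_dvd_card_of_fixed_point ↥N hdvd hfix
  have hxc : (x : D) ∈ Subgroup.center D := by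
    rw [Subgroup.mem_center_iff]
    intro g
    have h := hx (ConjAct.toConjAct g)
    have h' := congrArg Subtype.val h
    rw [ConjAct.Subgroup.val_conj_smul, ConjAct.smul_def, ConjAct.ofConjAct_toConjAct] at h'
    -- `g * x * g⁻¹ = x`
    calc g * (x : D) = (g * x * g⁻¹) * g := by group
      _ = x * g := by rw [h']
  have hx1' : (x : D) ≠ 1 := by
    intro h
    apply hx1
    apply Subtype.ext
    exact h.symm
  exact center_le_of_mem_of_ne_one 2 hc N x hxc hx1' x.2

/-- (D7) the kernel of the character of a strong factor is indecomposable -/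
theorem not_decomp_ker_of_strong {D : Type*} [Group D] (s : D →* ℤˣ) (h : Strong D s) :
    ¬ Decomp ↥s.ker := by
  have : Fact (Nat.Prime 2) := ⟨Nat.prime_two⟩
  have hfin : Finite D := h.finite
  have hpK : IsPGroup 2 ↥s.ker := h.pgroup.to_subgroup s.ker
  -- the centre of the kernel maps onto the centre of `D`
  have hmap : (Subgroup.center ↥s.ker).map s.ker.subtype = Subgroup.center D := by
    apply le_antisymm
    · rintro _ ⟨c, hcm, rfl⟩
      apply h.cent_le
      intro v hv
      have := (Subgroup.mem_center_iff.mp hcm) ⟨v, MonoidHom.mem_ker.mpr hv⟩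
      have h' := congrArg Subtype.val this
      show (c : D) * v = v * c
      simpa using h'.symm
    · intro c hcm
      have hck : c ∈ s.ker := MonoidHom.mem_ker.mpr (h.center_le c hcm)
      refine ⟨⟨c, hck⟩, ?_, rfl⟩
      show (⟨c, hck⟩ : ↥s.ker) ∈ Subgroup.center ↥s.ker
      rw [Subgroup.mem_center_iff]
      intro g
      apply Subtype.ext
      exact (Subgroup.mem_center_iff.mp hcm) g
  have hcard : Nat.card (Subgroup.center ↥s.ker) = 2 := by
    rw [← h.card_center, ← hmap]
    exact (Subgroup.card_map_of_injective (Subgroup.subtype_injective _)).symm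
  exact not_decomp_of_card_center 2 hpK hcard

end Cfsg.Agent.Helper88.AltSyl
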