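import Mathlib
import Cfsg.Agent.Helper44.AltSylDefs

set_option autoImplicit false

/-!
# S2221 piece (W4) for helper44: the step `D ↦ D ≀ᵣ C2` from `Good` to `Strong`
-/

namespace Cfsg.Agent.Helper88.AltSyl

open Cfsg.Agent.Helper44.AltSyl
open scoped RegularWreathProduct

theorem c2_cases (c : C2) : c = 1 ∨ c = gC2 := by
  revert c
  decide

theorem gC2_ne_one : gC2 ≠ 1 := by decide

theorem gC2_inv_mul_one : (gC2⁻¹ * 1 : C2) = gC2 := by decide

theorem gC2_inv_mul_self : (gC2⁻¹ * gC2 : C2) = 1 := by decide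

/-- the diagonal embedding of `D` in `D ≀ᵣ C2` -/
def wrDiag (D : Type*) [Group D] : D →* D ≀ᵣ C2 where
  toFun z := ⟨fun _ => z, 1⟩
  map_one' := rfl
  map_mul' a b := by
    ext x
    · simp
    · simp

@[simp] theorem wrDiag_left {D : Type*} [Group D] (z : D) (x : C2) :
    (wrDiag D z).left x = z := rfl

@[simp] theorem wrDiag_right {D : Type*} [Group D] (z : D) : (wrDiag D z).right = 1 := rfl

theorem wrDiag_injective (D : Type*) [Group D] : Function.Injective (wrDiag D) := by
  intro a b hab
  have := congrArg (fun w : D ≀ᵣ C2 => w.left 1) hab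
  simpa using this

theorem wrSign_wrDiag {D : Type*} [Group D] (s : D →* ℤˣ) (z : D) :
    wrSign s (wrDiag D z) = 1 := by
  show s ((wrDiag D z).left 1) * s ((wrDiag D z).left gC2) = 1
  rw [wrDiag_left, wrDiag_left]
  exact Int.units_mul_self _

/-- the diagonal image of a central element is central -/
theorem wrDiag_mem_center {D : Type*} [Group D] (z : D) (hz : z ∈ Subgroup.center D) :
    wrDiag D z ∈ Subgroup.center (D ≀ᵣ C2) := by
  rw [Subgroup.mem_center_iff]
  intro w
  ext x
  · simp only [RegularWreathProduct.mul_left, Pi.mul_apply, wrDiag_left, wrDiag_right, inv_one,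
      one_mul]
    exact (Subgroup.mem_center_iff.mp hz) (w.left x)
  · simp

/-- an element with one coordinate -/
def wrOne {D : Type*} [Group D] (x : D) : D ≀ᵣ C2 := ⟨fun c => if c = 1 then x else 1, 1⟩

theorem wrOne_left_one {D : Type*} [Group D] (x : D) : (wrOne x).left 1 = x := by
  show (if (1 : C2) = 1 then x else 1) = x
  rw [if_pos rfl]

theorem wrOne_left_g {D : Type*} [Group D] (x : D) : (wrOne x).left gC2 = 1 := by
  show (if gC2 = 1 then x else 1) = 1
  rw [if_neg gC2_ne_one]

theorem wrOne_right {D : Type*} [Group D] (x : D) : (wrOne x).right = 1 := rfl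

theorem wrSign_wrOne {D : Type*} [Group D] (s : D →* ℤˣ) (x : D) :
    wrSign s (wrOne x) = s x := by
  show s ((wrOne x).left 1) * s ((wrOne x).left gC2) = s x
  rw [wrOne_left_one, wrOne_left_g, map_one, mul_one]

/-- the swap -/
def wrSwap (D : Type*) [Group D] : D ≀ᵣ C2 := ⟨fun _ => 1, gC2⟩

theorem wrSign_wrSwap {D : Type*} [Group D] (s : D →* ℤˣ) : wrSign s (wrSwap D) = 1 := by
  show s 1 * s 1 = 1
  rw [map_one, mul_one]

/-- the centralizer of the kernel of `wrSign s` is the diagonal image of the centre of `D` -/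
theorem exists_wrDiag_of_cent {D : Type*} [Group D] (s : D →* ℤˣ)
    (x₀ : D) (hx₀ : s x₀ = 1) (hx₀1 : x₀ ≠ 1) (c : D ≀ᵣ C2)
    (hc : ∀ v : D ≀ᵣ C2, wrSign s v = 1 → Commute c v) :
    ∃ z ∈ Subgroup.center D, c = wrDiag D z := by
  -- the right component is trivial
  have hr : c.right = 1 := by
    rcases c2_cases c.right with h | h
    · exact h
    · exfalso
      have hcomm := hc (wrOne x₀) (by rw [wrSign_wrOne]; exact hx₀)
      have h1 := congrArg (fun w : D ≀ᵣ C2 => w.left 1) hcomm.eq
      simp only [RegularWreathProduct.mul_left, Pi.mul_apply] at h1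
      rw [h, gC2_inv_mul_one, wrOne_left_g, wrOne_right, inv_one, one_mul, wrOne_left_one,
        mul_one] at h1
      -- `c.left 1 = x₀ * c.left 1`
      apply hx₀1
      have : x₀ * c.left 1 = 1 * c.left 1 := by rw [one_mul]; exact h1.symm
      exact mul_right_cancel this
  -- the coordinates are central
  have hcen : ∀ x : C2, c.left x ∈ Subgroup.center D := by
    intro x
    rw [Subgroup.mem_center_iff]
    intro u
    have hcomm := hc (wrDiag D u) (wrSign_wrDiag s u)
    have h1 := congrArg (fun w : D ≀ᵣ C2 => w.left x) hcomm.eq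
    simp only [RegularWreathProduct.mul_left, Pi.mul_apply, wrDiag_left, wrDiag_right, inv_one,
      one_mul] at h1
    exact h1.symm
  -- the coordinates are equal
  have heq : c.left gC2 = c.left 1 := by
    have hcomm := hc (wrSwap D) (wrSign_wrSwap s)
    have h1 := congrArg (fun w : D ≀ᵣ C2 => w.left gC2) hcomm.eq
    simp only [RegularWreathProduct.mul_left, Pi.mul_apply] at h1
    have e1 : (wrSwap D).left (c.right⁻¹ * gC2) = 1 := rfl
    have e2 : (wrSwap D).left gC2 = 1 := rfl
    have e3 : (wrSwap D).right = gC2 := rfl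
    rw [e1, e2, e3, gC2_inv_mul_self, mul_one, one_mul] at h1
    exact h1
  refine ⟨c.left 1, hcen 1, ?_⟩
  ext x
  · rw [wrDiag_left]
    rcases c2_cases x with rfl | rfl
    · rfl
    · exact heq
  · rw [wrDiag_right]
    exact hr

/-- (W4) the step `D ↦ D ≀ C2` -/
theorem strong_step {D : Type*} [Group D] (s : D →* ℤˣ) (h : Good D s) :
    Strong (D ≀ᵣ C2) (wrSign s) := by
  have hfin : Finite D := h.finite
  obtain ⟨v, w, hv, hvw1, hvwc⟩ := h.exists_comm
  -- a non-trivial element of the kernel of `s`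
  have hx₀ : s (v * w * v⁻¹ * w⁻¹) = 1 := h.center_le _ hvwc
  have hcent : ∀ c : D ≀ᵣ C2, (∀ u : D ≀ᵣ C2, wrSign s u = 1 → Commute c u) →
      ∃ z ∈ Subgroup.center D, c = wrDiag D z :=
    fun c hc => exists_wrDiag_of_cent s _ hx₀ hvw1 c hc
  have hcent' : ∀ c : D ≀ᵣ C2, (∀ u : D ≀ᵣ C2, wrSign s u = 1 → Commute c u) →
      c ∈ Subgroup.center (D ≀ᵣ C2) := by
    intro c hc
    obtain ⟨z, hz, rfl⟩ := hcent c hc
    exact wrDiag_mem_center z hz
  have hcenter : Subgroup.center (D ≀ᵣ C2) = (Subgroup.center D).map (wrDiag D) := by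
    apply le_antisymm
    · intro c hc
      obtain ⟨z, hz, rfl⟩ := hcent c (fun u _ => (Subgroup.mem_center_iff.mp hc u).symm)
      exact ⟨z, hz, rfl⟩
    · rintro _ ⟨z, hz, rfl⟩
      exact wrDiag_mem_center z hz
  refine { finite := inferInstance, pgroup := ?_, card_center := ?_, exists_odd := ?_,
           center_le := ?_, cent_sign := ?_, cent_comm := ?_, cent_commute := ?_,
           exists_comm := ?_, cent_le := hcent' }
  · -- `pgroup`
    obtain ⟨n, hn⟩ := IsPGroup.iff_card.mp h.pgroup
    apply IsPGroup.of_card (n := n * 2 + 1)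
    rw [RegularWreathProduct.card, hn]
    have h2 : Nat.card C2 = 2 := by
      simp [C2]
    rw [h2]
    ring
  · -- `card_center`
    rw [hcenter, Subgroup.card_map_of_injective (wrDiag_injective D)]
    exact h.card_center
  · -- `exists_odd`
    obtain ⟨u, hu⟩ := h.exists_odd
    exact ⟨wrOne u, by rw [wrSign_wrOne]; exact hu⟩
  · -- `center_le`
    intro c hc
    rw [hcenter] at hc
    obtain ⟨z, _, rfl⟩ := hc
    exact wrSign_wrDiag s z
  · -- `cent_sign`
    intro c hc
    obtain ⟨z, _, rfl⟩ := hcent c hc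
    exact wrSign_wrDiag s z
  · -- `cent_comm`
    intro c hc u
    have hcc := hcent' c hc
    have : c * u * c⁻¹ * u⁻¹ = 1 := by
      rw [(Subgroup.mem_center_iff.mp hcc u).symm]
      group
    rw [this]
    exact Subgroup.one_mem _
  · -- `cent_commute`
    intro c c' hc _
    exact (Subgroup.mem_center_iff.mp (hcent' c hc) c').symm
  · -- `exists_comm`
    refine ⟨wrDiag D v, wrDiag D w, wrSign_wrDiag s v, ?_, ?_⟩
    · rw [← map_inv, ← map_inv, ← map_mul, ← map_mul, ← map_mul]
      intro h1
      apply hvw1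
      apply wrDiag_injective D
      rw [h1, map_one]
    · rw [← map_inv, ← map_inv, ← map_mul, ← map_mul, ← map_mul]
      exact wrDiag_mem_center _ hvwc

end Cfsg.Agent.Helper88.AltSyl
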