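import Mathlib
import Cfsg.Agent.Helper44.TensDefs

set_option autoImplicit false

/-!
# Piece (E2b) of helper44's S5979: `c • diag(-1, 1, …, 1)` with `c ^ n = -1`.
-/

namespace Cfsg.Agent.Helper88.Tens

open Matrix Cfsg.Geo Cfsg.Agent.Helper44.QSim

universe u

variable {F : Type u} [Field F] {n : ℕ}

/-- in a finite field of odd characteristic with `v₂(n) < v₂(q - 1)` there is `c` with
`c ^ n = -1` -/
theorem exists_pow_eq_neg_one [Fintype F] {q : ℕ} (hq : Fintype.card F = q)
    (hn : n ≠ 0) (hv : padicValNat 2 n < padicValNat 2 (q - 1)) :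
    ∃ c : F, c ^ n = -1 := by
  classical
  obtain ⟨g, hg⟩ := IsCyclic.exists_generator (α := Fˣ)
  have hord : orderOf g = q - 1 := by
    rw [orderOf_eq_card_of_forall_mem_zpowers hg, Nat.card_eq_fintype_card, Fintype.card_units, hq]
  have hq1 : q - 1 ≠ 0 := by
    intro h
    rw [h] at hv
    simp at hv
  -- `n = 2 ^ v * m`, `m` odd
  obtain ⟨v, m, hm, hnvm⟩ := Nat.exists_eq_two_pow_mul_odd hn
  have hvn : padicValNat 2 n = v := by
    rw [hnvm, padicValNat.mul (by positivity) (by rintro rfl; simp at hm), padicValNat.prime_pow]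
    have : padicValNat 2 m = 0 := by
      rw [padicValNat.eq_zero_iff]
      right; right
      exact hm.not_two_dvd_nat
    omega
  -- `2 ^ (v + 1) ∣ q - 1`
  have hdvd : 2 ^ (v + 1) ∣ q - 1 := by
    rw [padicValNat_dvd_iff_le hq1]
    omega
  obtain ⟨t, ht⟩ := hdvd
  have ht0 : t ≠ 0 := by
    rintro rfl
    exact hq1 (by simpa using ht)
  -- the element of order two
  set h : Fˣ := g ^ (t * 2 ^ v) with hh
  have hsq : h * h = 1 := by
    have hsum : t * 2 ^ v + t * 2 ^ v = orderOf g := by
      rw [hord, ht, pow_succ]; ring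
    rw [hh, ← pow_add, hsum, pow_orderOf_eq_one]
  have hne : h ≠ 1 := by
    rw [hh]
    apply pow_ne_one_of_lt_orderOf
    · positivity
    · rw [hord, ht, pow_succ]
      have : 0 < t * 2 ^ v := by positivity
      nlinarith
  have hF : (h : F) * (h : F) = 1 := by
    rw [← Units.val_mul, hsq, Units.val_one]
  have hneg : (h : F) = -1 := by
    rcases mul_self_eq_one_iff.mp hF with h1 | h1
    · exact absurd (Units.ext h1) hne
    · exact h1
  refine ⟨((g ^ t : Fˣ) : F), ?_⟩
  rw [← Units.val_pow_eq_pow_val, ← pow_mul, hnvm, ← mul_assoc, pow_mul, ← hh,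
    Units.val_pow_eq_pow_val, hneg, hm.neg_one_pow]

/-- (E2b) `c • diag(-1, 1, …, 1)` with `c ^ n = -1` -/
theorem exists_refl [Fintype F] {q : ℕ} (hq : Fintype.card F = q) (h2 : (2 : F) ≠ 0)
    (hn : 2 ≤ n) (hv : padicValNat 2 n < padicValNat 2 (q - 1)) :
    ∃ (x : GL (Fin n) F) (c : F), IsPrimeElt 2 x ∧
      ((x : Matrix (Fin n) (Fin n) F) - c • (1 : Matrix (Fin n) (Fin n) F)).rank = 1 := by
  classical
  obtain ⟨c, hc⟩ := exists_pow_eq_neg_one (n := n) hq (by omega) hv
  have hc0 : c ≠ 0 := by
    rintro rfl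
    rw [zero_pow (by omega)] at hc
    exact one_ne_zero (neg_eq_zero.mp hc.symm)
  set i0 : Fin n := ⟨0, by omega⟩ with hi0
  set i1 : Fin n := ⟨1, by omega⟩ with hi1
  have h01 : i1 ≠ i0 := by
    rw [hi0, hi1]; intro h; simpa using congrArg Fin.val h
  set w : Fin n → F := fun i => if i = i0 then -c else c with hw
  set M : Matrix (Fin n) (Fin n) F := Matrix.diagonal w with hM
  have hdet : M.det = 1 := by
    rw [hM, Matrix.det_diagonal, ← Finset.mul_prod_erase Finset.univ w (Finset.mem_univ i0)]
    have h1 : ∏ i ∈ Finset.univ.erase i0, w i = ∏ _i ∈ Finset.univ.erase i0, c := by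
      apply Finset.prod_congr rfl
      intro i hi
      rw [hw]; simp only
      rw [if_neg (Finset.ne_of_mem_erase hi)]
    rw [h1, Finset.prod_const, Finset.card_erase_of_mem (Finset.mem_univ _), Finset.card_univ,
      Fintype.card_fin]
    have h2' : w i0 = -c := by rw [hw]; simp
    rw [h2']
    have : -c * c ^ (n - 1) = -(c ^ n) := by
      conv_rhs => rw [show n = (n - 1) + 1 by omega, pow_succ]
      ring
    rw [this, hc, neg_neg]
  have hdet0 : M.det ≠ 0 := by rw [hdet]; exact one_ne_zero
  set x : GL (Fin n) F := Matrix.GeneralLinearGroup.mkOfDetNeZero M hdet0 with hx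
  have hxM : (x : Matrix (Fin n) (Fin n) F) = M := rfl
  refine ⟨x, c, ⟨?_, ?_, ?_⟩, ?_⟩
  · -- determinant one
    change Matrix.GeneralLinearGroup.det x = 1
    apply Units.ext
    rw [Matrix.GeneralLinearGroup.val_det_apply, hxM, hdet, Units.val_one]
  · -- the square is scalar
    refine ⟨c * c, ?_⟩
    rw [Units.val_pow_eq_pow_val, hxM, hM, pow_two, Matrix.diagonal_mul_diagonal,
      ← Matrix.diagonal_one, ← Matrix.diagonal_smul]
    congr 1
    funext i
    rw [hw]; simp only [Pi.smul_apply, smul_eq_mul, mul_one]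
    split_ifs <;> ring
  · -- not scalar
    intro z hz
    rw [hxM, hM] at hz
    have e0 : -c = z := by
      have := congrFun (congrFun hz i0) i0
      simpa [hw] using this
    have e1 : c = z := by
      have := congrFun (congrFun hz i1) i1
      simpa [hw, h01] using this
    have : (2 : F) * c = 0 := by
      have : -c = c := e0.trans e1.symm
      linear_combination -this
    rcases mul_eq_zero.mp this with h | h
    · exact h2 h
    · exact hc0 h
  · -- rank of `x - c`
    have h2c : (2 : F) * c ≠ 0 := mul_ne_zero h2 hc0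
    have hsub : M - c • (1 : Matrix (Fin n) (Fin n) F)
        = Matrix.diagonal (fun i => if i = i0 then -(2 * c) else 0) := by
      rw [hM, ← Matrix.diagonal_one, ← Matrix.diagonal_smul, Matrix.diagonal_sub]
      congr 1
      funext i
      rw [hw]; simp only [Pi.smul_apply, smul_eq_mul, mul_one]
      split_ifs <;> ring
    rw [hxM, hsub, Matrix.rank_diagonal]
    have : ∀ i : Fin n, ((if i = i0 then -(2 * c) else 0) ≠ 0) ↔ i = i0 := by
      intro i
      by_cases hi : i = i0
      · rw [if_pos hi]
        exact ⟨fun _ => hi, fun _ => neg_ne_zero.mpr h2c⟩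
      · rw [if_neg hi]
        simp [hi]
    rw [Fintype.card_congr (Equiv.subtypeEquivRight this)]
    simp

end Cfsg.Agent.Helper88.Tens
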