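import Mathlib

set_option autoImplicit false

/-!
# Piece (ES2a) of helper44's S5979: Cauchy in `GL_i(q)`, `i` the order of `q` modulo `r`.
-/

namespace Cfsg.Agent.Helper88.Tens

open Matrix

universe u

variable {F : Type u} [Field F]

/-- (ES2a) Cauchy in `GL_i(q)`, `i` the order of `q` modulo `r` -/
theorem exists_gl_orderOf [Fintype F] (p : ℕ) [Fact p.Prime] [CharP F p] {q : ℕ}
    (hq : Fintype.card F = q) (r : ℕ) (hr : r.Prime) (hrp : r ≠ p) :
    ∃ u : GL (Fin (orderOf (q : ZMod r))) F, orderOf u = r := by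
  classical
  have : Fact r.Prime := ⟨hr⟩
  have hp : p.Prime := Fact.out
  -- `q` is a power of `p`
  obtain ⟨⟨k, hk0⟩, hk'⟩ := FiniteField.card F p
  rw [hq] at hk'
  simp only [PNat.mk_coe] at hk'
  have hk : q = p ^ k := hk'.2
  -- `q` is a unit modulo `r`
  have hqr : (q : ZMod r) ≠ 0 := by
    intro h
    rw [ZMod.natCast_eq_zero_iff] at h
    rw [hk] at h
    have := (Nat.prime_dvd_prime_iff_eq hr hp).mp (hr.dvd_of_dvd_pow h)
    exact hrp this
  have hfin : IsOfFinOrder (q : ZMod r) := by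
    rw [isOfFinOrder_iff_pow_eq_one]
    refine ⟨r - 1, ?_, ?_⟩
    · have := hr.two_le; omega
    · exact ZMod.pow_card_sub_one_eq_one hqr
  set i := orderOf (q : ZMod r) with hi
  have hipos : 0 < i := hfin.orderOf_pos
  have hpow : (q : ZMod r) ^ i = 1 := pow_orderOf_eq_one _
  have hq1 : 1 ≤ q ^ i := Nat.one_le_pow _ _ (by rw [hk]; exact pow_pos hp.pos _)
  have hdvd : r ∣ q ^ i - 1 := by
    rw [← ZMod.natCast_eq_zero_iff, Nat.cast_sub hq1, Nat.cast_pow, hpow, Nat.cast_one, sub_self]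
  -- `r` divides the order of `GL_i(q)`
  have hcard : Nat.card (GL (Fin i) F) = ∏ j : Fin i, (q ^ i - q ^ (j : ℕ)) := by
    rw [← hq]; exact Matrix.card_GL_field i
  have hdvd2 : r ∣ Nat.card (GL (Fin i) F) := by
    rw [hcard]
    have h0 : (⟨0, hipos⟩ : Fin i) ∈ (Finset.univ : Finset (Fin i)) := Finset.mem_univ _
    refine Dvd.dvd.trans ?_ (Finset.dvd_prod_of_mem _ h0)
    simpa using hdvd
  obtain ⟨u, hu⟩ := exists_prime_orderOf_dvd_card' r hdvd2
  exact ⟨u, hu⟩

end Cfsg.Agent.Helper88.Tens
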