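import Cfsg.Agent.Helper87.FusionNormal
import Cfsg.Agent.Helper87.FusionClosed
import Cfsg.Agent.Helper88.FusionCentric
set_option autoImplicit false

/-!
Normality criterion for a subgroup of a saturated fusion system: every map between subgroups of `U` extends to
an element of `Aut_F(U)`.
-/

namespace Cfsg.Agent.Helper88.FS

open Cfsg Cfsg.FusionSystem Cfsg.Agent.Helper87

variable {Ω : Type*} [Group Ω] {S : Subgroup Ω}

/-- An automorphism centralizing `V` and acting trivially modulo `V`, where `V` has exponent dividing `n`, has order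
dividing `n`. -/
theorem pow_eq_one_of_stabilizes {P : Type*} [Group P] (β : MulAut P) (V : Subgroup P) (n : ℕ)
    (hV : ∀ v ∈ V, v ^ n = 1) (h1 : ∀ x : P, x⁻¹ * β x ∈ V) (h2 : ∀ v ∈ V, β v = v) : β ^ n = 1 := by
  have key : ∀ (m : ℕ) (x : P), (β ^ m) x = x * (x⁻¹ * β x) ^ m := by
    intro m
    induction m with
    | zero => intro x; simp
    | succ m ih =>
      intro x
      rw [pow_succ', MulAut.mul_apply, ih, map_mul, h2 _ (V.pow_mem (h1 x) m), pow_succ', ← mul_assoc,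
        mul_inv_cancel_left]
  ext x
  rw [key, hV _ (h1 x)]
  simp

/-- Powers of an automorphism acting on `P ∩ U` as conjugation by `u ∈ U`. -/
theorem pow_apply_of_conj_on {P U : Subgroup Ω} (β : MulAut P) {u : Ω} (hu : u ∈ U)
    (h : ∀ x : P, (x : Ω) ∈ U → ((β x : P) : Ω) = u * x * u⁻¹) (m : ℕ) (x : P) (hx : (x : Ω) ∈ U) :
    (((β ^ m) x : P) : Ω) = u ^ m * x * (u ^ m)⁻¹ := by
  induction m with
  | zero => simp
  | succ m ih =>
    rw [pow_succ', MulAut.mul_apply]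
    have hm : (((β ^ m) x : P) : Ω) ∈ U := by
      rw [ih]
      exact U.mul_mem (U.mul_mem (U.pow_mem hu m) hx) (U.inv_mem (U.pow_mem hu m))
    rw [h _ hm, ih, pow_succ']
    group

/-- The automorphisms in `Aut_F(P)` acting trivially on `P` modulo `U` and as conjugation by an element of `U` on
`P ∩ U`. -/
def critSub (F : FusionSystem S) (U P : Subgroup Ω) : Subgroup (MulAut P) where
  carrier := {β | β ∈ F.autGroup P ∧ (∀ x : P, (x : Ω)⁻¹ * ((β x : P) : Ω) ∈ U) ∧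
      ∃ u ∈ U, ∀ x : P, (x : Ω) ∈ U → ((β x : P) : Ω) = u * x * u⁻¹}
  one_mem' := ⟨(F.autGroup P).one_mem, fun x => by simp, 1, U.one_mem, fun x _ => by simp⟩
  mul_mem' := by
    rintro a b ⟨ha, ha1, u, hu, hau⟩ ⟨hb, hb1, v, hv, hbv⟩
    refine ⟨(F.autGroup P).mul_mem ha hb, fun x => ?_, u * v, U.mul_mem hu hv, fun x hx => ?_⟩
    · rw [MulAut.mul_apply]
      have h1 := hb1 x
      have h2 := ha1 (b x)
      have := U.mul_mem h1 h2
      have e : (x : Ω)⁻¹ * ((b x : P) : Ω) * (((b x : P) : Ω)⁻¹ * ((a (b x) : P) : Ω)) =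
          (x : Ω)⁻¹ * ((a (b x) : P) : Ω) := by group
      rwa [e] at this
    · rw [MulAut.mul_apply]
      have h1 : ((b x : P) : Ω) ∈ U := by
        rw [hbv x hx]
        exact U.mul_mem (U.mul_mem hv hx) (U.inv_mem hv)
      rw [hau _ h1, hbv x hx]
      group
  inv_mem' := by
    rintro a ⟨ha, ha1, u, hu, hau⟩
    have key : ∀ x : P, (x : Ω)⁻¹ * ((a⁻¹ x : P) : Ω) ∈ U := by
      intro x
      have h1 := ha1 (a⁻¹ x)
      rw [MulAut.apply_inv_self] at h1
      have := U.inv_mem h1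
      have e : (((a⁻¹ x : P) : Ω)⁻¹ * (x : Ω))⁻¹ = (x : Ω)⁻¹ * ((a⁻¹ x : P) : Ω) := by group
      rwa [e] at this
    refine ⟨(F.autGroup P).inv_mem ha, key, u⁻¹, U.inv_mem hu, fun x hx => ?_⟩
    have hy : ((a⁻¹ x : P) : Ω) ∈ U := by
      have := U.mul_mem hx (key x)
      rwa [mul_inv_cancel_left] at this
    have h2 := hau _ hy
    rw [MulAut.apply_inv_self] at h2
    rw [h2]
    group

theorem mem_critSub_iff (F : FusionSystem S) (U P : Subgroup Ω) (β : MulAut P) :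
    β ∈ critSub F U P ↔ β ∈ F.autGroup P ∧ (∀ x : P, (x : Ω)⁻¹ * ((β x : P) : Ω) ∈ U) ∧
      ∃ u ∈ U, ∀ x : P, (x : Ω) ∈ U → ((β x : P) : Ω) = u * x * u⁻¹ := Iff.rfl

theorem critSub_le_autGroup (F : FusionSystem S) (U P : Subgroup Ω) : critSub F U P ≤ F.autGroup P :=
  fun _ h => h.1

/-- `critSub` is a `p`-group. -/
theorem isPGroup_critSub [Finite S] {p : ℕ} [Fact p.Prime] (hS : IsPGroup p S) (F : FusionSystem S) {U P : Subgroup Ω}
    (hUS : U ≤ S) (hPS : P ≤ S) : IsPGroup p (critSub F U P) := by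
  obtain ⟨k, hk⟩ := IsPGroup.iff_card.mp hS
  have hpow : ∀ g ∈ S, g ^ (p ^ k) = 1 := by
    intro g hg
    have := pow_card_eq_one' (G := S) (x := ⟨g, hg⟩)
    rw [hk] at this
    have h0 := congrArg Subtype.val this
    simpa using h0
  rintro ⟨β, hβ⟩
  refine ⟨k + k, Subtype.ext ?_⟩
  show β ^ p ^ (k + k) = 1
  rw [pow_add, pow_mul]
  set n := p ^ k with hn
  have hβn : β ^ n ∈ critSub F U P := (critSub F U P).pow_mem hβ n
  obtain ⟨-, hb1, -⟩ := hβn
  obtain ⟨-, -, u, hu, hβu⟩ := hβ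
  apply pow_eq_one_of_stabilizes (β ^ n) (U.subgroupOf P) n
  · intro v _
    apply Subtype.ext
    have := hpow v (hPS v.2)
    simpa using this
  · intro x
    rw [Subgroup.mem_subgroupOf]
    exact hb1 x
  · intro v hv
    rw [Subgroup.mem_subgroupOf] at hv
    apply Subtype.ext
    rw [pow_apply_of_conj_on β hu hβu n v hv, hpow u (hUS hu)]
    simp

/-- `critSub` is normal in `Aut_F(P)` when `U` is strongly closed and maps between subgroups of `U` extend to
automorphisms of `U` in the system. -/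
theorem critSub_normal (F : FusionSystem S) {U P : Subgroup Ω} (hsc : F.StronglyClosed U) (hPS : P ≤ S)
    (h : ∀ (Q : Subgroup Ω) (hQU : Q ≤ U) (φ : Q →* Ω), φ ∈ F.Hom Q →
      ∃ α ∈ F.autGroup U, ∀ x : Q, ((α (Subgroup.inclusion hQU x) : U) : Ω) = φ x) :
    ((critSub F U P).subgroupOf (F.autGroup P)).Normal := by
  constructor
  intro b hb a
  rw [Subgroup.mem_subgroupOf] at hb ⊢
  obtain ⟨hbA, hb1, u, hu, hbu⟩ := hb
  have haA : (a : MulAut P) ∈ F.autGroup P := a.2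
  have haiso := (mem_autGroup_iff F hPS _).mp haA
  have hainv : (a : MulAut P)⁻¹ ∈ F.autGroup P := (F.autGroup P).inv_mem haA
  show ((a : MulAut P) * (b : MulAut P) * (a : MulAut P)⁻¹) ∈ critSub F U P
  refine ⟨(F.autGroup P).mul_mem ((F.autGroup P).mul_mem haA hbA) hainv, fun y => ?_, ?_⟩
  · rw [MulAut.mul_apply, MulAut.mul_apply]
    set x := (a : MulAut P)⁻¹ y with hx
    have hy : y = (a : MulAut P) x := by rw [hx, MulAut.apply_inv_self]
    -- the element `w = x⁻¹ β(x)` of `P ∩ U`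
    have hw := aut_mem_of_stronglyClosed F hsc hPS haA (x⁻¹ * (b : MulAut P) x) (hb1 x)
    rw [map_mul, map_inv] at hw
    rw [hy]
    exact hw
  · -- extend `α|_{P ∩ U}` to `γ ∈ Aut_F(U)`
    obtain ⟨γ, hγ, hγx⟩ := h (P ⊓ U) inf_le_right _ (restrict_mem F haiso (inf_le_left : P ⊓ U ≤ P))
    have hγ' : ∀ (x : P) (hxU : (x : Ω) ∈ U), ((γ ⟨x, hxU⟩ : U) : Ω) = (((a : MulAut P) x : P) : Ω) := by
      intro x hxU
      exact hγx ⟨x, x.2, hxU⟩
    refine ⟨((γ ⟨u, hu⟩ : U) : Ω), (γ ⟨u, hu⟩).2, fun y hyU => ?_⟩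
    rw [MulAut.mul_apply, MulAut.mul_apply]
    set x := (a : MulAut P)⁻¹ y with hx
    have hy : y = (a : MulAut P) x := by rw [hx, MulAut.apply_inv_self]
    have hxU : (x : Ω) ∈ U := aut_mem_of_stronglyClosed F hsc hPS hainv y hyU
    have hbxU : (((b : MulAut P) x : P) : Ω) ∈ U := by
      rw [hbu x hxU]
      exact U.mul_mem (U.mul_mem hu hxU) (U.inv_mem hu)
    rw [← hγ' _ hbxU]
    have e : (⟨(((b : MulAut P) x : P) : Ω), hbxU⟩ : U) = ⟨u, hu⟩ * ⟨x, hxU⟩ * ⟨u, hu⟩⁻¹ :=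
      Subtype.ext (hbu x hxU)
    rw [e, map_mul, map_mul, map_inv]
    have := hγ' x hxU
    rw [hy]
    simp only [Subgroup.coe_mul, Subgroup.coe_inv, this]

/-- Elements of `U ⊔ P` are products, when `P ≤ S` and `S` normalizes `U`. -/
theorem exists_mul_of_mem_sup {U P : Subgroup Ω} (hPS : P ≤ S) (hU : ∀ g ∈ S, ∀ x ∈ U, g * x * g⁻¹ ∈ U) {g : Ω}
    (hg : g ∈ U ⊔ P) : ∃ u ∈ U, ∃ r ∈ P, g = u * r := by
  rw [Subgroup.sup_eq_closure] at hg
  induction hg using Subgroup.closure_induction with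
  | mem x hx =>
    rcases hx with hx | hx
    · exact ⟨x, hx, 1, P.one_mem, by simp⟩
    · exact ⟨1, U.one_mem, x, hx, by simp⟩
  | one => exact ⟨1, U.one_mem, 1, P.one_mem, by simp⟩
  | mul x y _ _ hx hy =>
    obtain ⟨u, hu, r, hr, rfl⟩ := hx
    obtain ⟨v, hv, t, ht, rfl⟩ := hy
    refine ⟨u * (r * v * r⁻¹), U.mul_mem hu (hU r (hPS hr) v hv), r * t, P.mul_mem hr ht, by group⟩
  | inv x _ hx =>
    obtain ⟨u, hu, r, hr, rfl⟩ := hx
    have := hU r⁻¹ (S.inv_mem (hPS hr)) u⁻¹ (U.inv_mem hu)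
    rw [inv_inv] at this
    exact ⟨r⁻¹ * u⁻¹ * r, this, r⁻¹, P.inv_mem hr, by group⟩

/-- Under the extension hypothesis, `U` lies in every centric radical subgroup. -/
theorem le_of_maps_extend_of_centric_radical [Finite S] {p : ℕ} [Fact p.Prime] (hS : IsPGroup p S)
    (F : FusionSystem S) {U P : Subgroup Ω} (hsc : F.StronglyClosed U)
    (h : ∀ (Q : Subgroup Ω) (hQU : Q ≤ U) (φ : Q →* Ω), φ ∈ F.Hom Q →
      ∃ α ∈ F.autGroup U, ∀ x : Q, ((α (Subgroup.inclusion hQU x) : U) : Ω) = φ x)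
    (hPc : F.IsCentric P) (hPr : F.IsRadical p P) : U ≤ P := by
  have hPS : P ≤ S := hPc.1
  have hUS : U ≤ S := hsc.1
  have hUn : ∀ g ∈ S, ∀ x ∈ U, g * x * g⁻¹ ∈ U := fun g hg x hx => conj_mem_of_stronglyClosed F hsc hg hx
  have hCle : critSub F U P ≤ Inn P := by
    rw [← hPr.2]
    intro β hβ
    have hβA := critSub_le_autGroup F U P hβ
    have h1 : (⟨β, hβA⟩ : F.autGroup P) ∈ pCore p (F.autGroup P) :=
      Cfsg.Agent.Lib.le_pCore (critSub_normal F hsc hPS h) ((isPGroup_critSub hS F hUS hPS).comap_subtype)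
        (Subgroup.mem_subgroupOf.mpr hβ)
    exact ⟨⟨β, hβA⟩, h1, rfl⟩
  -- `N_U(P) ≤ P`
  have hNU : ∀ d ∈ U, d ∈ Subgroup.normalizer (P : Set Ω) → d ∈ P := by
    intro d hdU hdN
    have hdC : conjAut P d hdN ∈ critSub F U P := by
      refine ⟨(mem_autGroup_iff F hPS _).mpr (isIso_conjAut F hPS (hUS hdU) hdN), fun x => ?_, d, hdU, fun x _ => rfl⟩
      rw [conjAut_apply]
      have h1 := hUn (x : Ω)⁻¹ (S.inv_mem (hPS x.2)) d hdU
      rw [inv_inv] at h1
      have := U.mul_mem h1 (U.inv_mem hdU)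
      have e : (x : Ω)⁻¹ * d * x * d⁻¹ = (x : Ω)⁻¹ * (d * x * d⁻¹) := by group
      rwa [e] at this
    obtain ⟨r, hr⟩ := hCle hdC
    refine mem_of_conj_eq_inner (hPc.2 P (isConj_refl F hPS)) (hUS hdU) hPS r (fun x => ?_)
    have := congrArg (fun β : MulAut P => ((β x : P) : Ω)) hr
    exact this
  by_contra hnot
  have hKS : U ⊔ P ≤ S := sup_le hUS hPS
  have hlt : P < U ⊔ P := lt_of_le_of_ne le_sup_right (fun h => hnot (h ▸ le_sup_left))
  have hfin : Finite ↥(U ⊔ P) := finite_of_le hKS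
  have hp' : IsPGroup p ↥(U ⊔ P) := hS.to_le hKS
  obtain ⟨g, hgN, hgP⟩ := SetLike.exists_of_lt (lt_normalizerIn hp' hlt)
  obtain ⟨u, hu, r, hr, rfl⟩ := exists_mul_of_mem_sup hPS hUn hgN.1
  apply hgP
  have huN : u ∈ Subgroup.normalizer (P : Set Ω) := by
    have h1 : u = u * r * r⁻¹ := by group
    rw [h1]
    exact Subgroup.mul_mem _ hgN.2 (Subgroup.inv_mem _ (Subgroup.le_normalizer hr))
  exact P.mul_mem (hNU u hu huN) hr

/-- Normality criterion: if every map of the saturated system with source a subgroup of `U` is the restriction of an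
element of `Aut_F(U)`, then `U` is normal in the system. -/
theorem isNormal_of_maps_extend [Finite S] {p : ℕ} [Fact p.Prime] (hS : IsPGroup p S)
    (F : FusionSystem S) (hF : F.IsSaturated p) {U : Subgroup Ω} (hUS : U ≤ S)
    (h : ∀ (Q : Subgroup Ω) (hQU : Q ≤ U) (φ : Q →* Ω), φ ∈ F.Hom Q →
      ∃ α ∈ F.autGroup U, ∀ x : Q, ((α (Subgroup.inclusion hQU x) : U) : Ω) = φ x) : F.IsNormal U := by
  have hsc : F.StronglyClosed U := by
    refine ⟨hUS, fun Q hQU φ hφ x => ?_⟩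
    obtain ⟨α, -, hαx⟩ := h Q hQU φ hφ
    rw [← hαx x]
    exact (α _).2
  rw [isNormal_iff_stronglyClosed_centric_radical hS F hF U]
  exact ⟨hsc, fun P hPc hPr => le_of_maps_extend_of_centric_radical hS F hsc h hPc hPr⟩

end Cfsg.Agent.Helper88.FS
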