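-- Interface for S5320, part 2 (helper88): the intermediate facts about `Sp₄(F)` and about a Sylow 2-subgroup `Q` of `SL₂(F)`,
-- as `Prop`-valued definitions (so that the pieces can be proved independently), the quaternion data for `|Q| = 8` and the
-- subgroup `E = Q₈ ∘ D₈`.
import Cfsg.Agent.Helper88.PSp4Fus

set_option autoImplicit false

namespace Cfsg.Agent.Helper88.PSp4F

open Matrix Equiv Cfsg.Agent.Helper42 Cfsg.Agent.Helper85 Cfsg.Agent.Helper84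

variable {F : Type*} [Field F]

/-- all non-central involutions of `Sp₄(F)` are conjugate to `t₀` -/
def HG3 (F : Type*) [Field F] : Prop :=
  ∀ g : Sp4 F, g * g = 1 → g ≠ 1 → g ≠ nI F → ∃ k : Sp4 F, k * t0 F * k⁻¹ = g

/-- all elements of `Sp₄(F)` with square `-1` are conjugate -/
def HG4 (F : Type*) [Field F] : Prop :=
  ∀ g h : Sp4 F, g * g = nI F → h * h = nI F → ∃ k : Sp4 F, k * g * k⁻¹ = h

/-- the centralizer of `t₀` is `ι(SL₂ × SL₂)` -/
def HG5 (F : Type*) [Field F] : Prop :=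
  ∀ g : Sp4 F, g * t0 F = t0 F * g → ∃ a b : SL2 F, g = io a b

/-- `C_{SL₂}(Q) = {±1}` -/
def HQb (Q : Subgroup (SL2 F)) : Prop :=
  ∀ a : SL2 F, (∀ c ∈ Q, a * c = c * a) → a = 1 ∨ a = negOneSL F

/-- `Q` contains an element of square `-1` and is generated by the quotients of two such elements -/
def HQc (Q : Subgroup (SL2 F)) : Prop :=
  (∃ c ∈ Q, c * c = negOneSL F) ∧
    ∀ H : Subgroup (SL2 F), (∀ x ∈ Q, ∀ x' ∈ Q, x * x = negOneSL F → x' * x' = negOneSL F → x * x'⁻¹ ∈ H) → Q ≤ H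

/-- the elements of `S = Q ≀ 2` which are central modulo `±1` are `±1, ±t₀` -/
def HF1 (Q : Subgroup (SL2 F)) : Prop :=
  ∀ x ∈ SQ Q, (∀ s ∈ SQ Q, x * s * x⁻¹ * s⁻¹ = 1 ∨ x * s * x⁻¹ * s⁻¹ = nI F) →
    x = 1 ∨ x = nI F ∨ x = t0 F ∨ x = nI F * t0 F

/-- `Q = {±1, ±x, ±y, ±xy}` is a quaternion group of order 8 -/
structure Q8Data (Q : Subgroup (SL2 F)) (x y : SL2 F) : Prop where
  hx : x * x = negOneSL F
  hy : y * y = negOneSL F
  hxy : y * x = negOneSL F * (x * y)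
  mem : ∀ g : SL2 F, g ∈ Q ↔ g = 1 ∨ g = negOneSL F ∨ g = x ∨ g = negOneSL F * x ∨ g = y ∨ g = negOneSL F * y ∨
    g = x * y ∨ g = negOneSL F * (x * y)

/-- `w` is an element `(1 + x + y + xy)/2` of order 3 modulo `±1` normalizing `Q₈ = ⟨x, y⟩` -/
structure OmData (x y w : SL2 F) : Prop where
  val : w.1 = (2 : F)⁻¹ • ((1 + x.1) * (1 + y.1))
  hwx : w * x * w⁻¹ = y
  hwy : w * y * w⁻¹ = x * y

/-- the diagonal embedding `SL₂ → Sp₄` -/
def dgh (F : Type*) [Field F] : SL2 F →* Sp4 F where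
  toFun a := io a a
  map_one' := io_one
  map_mul' a b := (io_mul a a b b).symm

/-- the subgroup `E = Q ∘ D₈` of `Sp₄(F)`, where `D₈ = ⟨t₀, tw⟩`; extraspecial `2^{1+4}_-` when `Q ≅ Q₈` -/
def EQ (Q : Subgroup (SL2 F)) : Subgroup (Sp4 F) := Q.map (dgh F) ⊔ Subgroup.closure {t0 F, tw}

end Cfsg.Agent.Helper88.PSp4F
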