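import Mathlib
import Cfsg.Prelude.Def_FusionSystem
import Cfsg.Agent.S5082
import Cfsg.Agent.Helper51.FusWC9
import Cfsg.Agent.Helper87.NormModel
set_option autoImplicit false

/-! # Control of transfer by a characteristic functor: basic notions

`Good K φ`: all quotients `x⁻¹ φ(x)` lie in `K`.  `Kf W F`: the subgroup generated by these quotients over the maps of
the normalizer system of `W(S)`.  `IsCtrl W F`: every map of `F` is good for `Kf W F`. -/

namespace Cfsg.Agent.Helper88.Ctrl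

universe u

open Cfsg Cfsg.FusionSystem Cfsg.Agent.Helper87 Cfsg.Agent.Helper51.FusWC

section general

variable {Ω : Type*} [Group Ω] {S : Subgroup Ω}

/-- All quotients `x⁻¹ φ(x)` lie in `K`. -/
def Good (K : Subgroup Ω) {P : Subgroup Ω} (φ : P →* Ω) : Prop := ∀ x : P, (x : Ω)⁻¹ * φ x ∈ K

theorem Good.comp {K : Subgroup Ω} {P Q : Subgroup Ω} {φ : P →* Ω} {ψ : Q →* Ω} (hφ : Good K φ)
    (hψ : Good K ψ) (h : ∀ x : P, φ x ∈ Q) : Good K (ψ.comp (φ.codRestrict Q h)) := by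
  intro x
  have h1 := hφ x
  have h2 : (φ x)⁻¹ * ψ (φ.codRestrict Q h x) ∈ K := hψ (φ.codRestrict Q h x)
  have e : (x : Ω)⁻¹ * (ψ.comp (φ.codRestrict Q h)) x =
      ((x : Ω)⁻¹ * φ x) * ((φ x)⁻¹ * ψ (φ.codRestrict Q h x)) := by
    show (x : Ω)⁻¹ * ψ (φ.codRestrict Q h x) = _
    group
  rw [e]
  exact K.mul_mem h1 h2

theorem Good.of_inv {K : Subgroup Ω} {P : Subgroup Ω} {φ : P →* Ω} (hφ : Good K φ) {ψ : φ.range →* Ω}
    (hinv : ∀ x : P, ψ ⟨φ x, ⟨x, rfl⟩⟩ = (x : Ω)) : Good K ψ := by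
  rintro ⟨_, x, rfl⟩
  show (φ x)⁻¹ * ψ ⟨φ x, ⟨x, rfl⟩⟩ ∈ K
  rw [hinv x]
  have := K.inv_mem (hφ x)
  rwa [mul_inv_rev, inv_inv] at this

theorem Good.restrict {K : Subgroup Ω} {P R : Subgroup Ω} {φ : P →* Ω} (hφ : Good K φ) (h : R ≤ P) :
    Good K (φ.comp (Subgroup.inclusion h)) := fun x => hφ (Subgroup.inclusion h x)

theorem Good.of_eq {K : Subgroup Ω} {P : Subgroup Ω} {φ ψ : P →* Ω} (hφ : Good K φ) (h : ∀ x, ψ x = φ x) :
    Good K ψ := fun x => by rw [h x]; exact hφ x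

/-- If `φ` is the restriction of a good map then it is good. -/
theorem Good.of_restrict {K : Subgroup Ω} {P A : Subgroup Ω} {ψ : A →* Ω} (hψ : Good K ψ) (h : P ≤ A)
    {φ : P →* Ω} (hφ : ∀ x : P, φ x = ψ ⟨x, h x.2⟩) : Good K φ := fun x => by
  rw [hφ x]; exact hψ ⟨x, h x.2⟩

/-- The subsystem of the maps which are good on the subgroups of order larger than `t`. -/
def goodSys [Finite S] (F : FusionSystem S) (K : Subgroup Ω)
    (hK : ∀ g ∈ S, ∀ x ∈ S, x⁻¹ * (g * x * g⁻¹) ∈ K) (t : ℕ) : FusionSystem S where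
  Hom P := {φ | φ ∈ F.Hom P ∧ (t < Nat.card P → Good K φ)}
  le_of_mem h := F.le_of_mem h.1
  injective_of_mem h := F.injective_of_mem h.1
  conj_mem := by
    intro P g hP hg
    exact ⟨F.conj_mem hP hg, fun _ x => hK g hg x (hP x.2)⟩
  comp_mem := by
    intro P Q φ ψ hφ hψ h
    refine ⟨F.comp_mem hφ.1 hψ.1 h, fun ht => ?_⟩
    have hQS : Q ≤ S := (F.le_of_mem hψ.1).1
    have : Finite Q := finite_of_le hQS
    have hcard : Nat.card P ≤ Nat.card Q := by
      refine Nat.card_le_card_of_injective (φ.codRestrict Q h) ?_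
      intro a b hab
      exact F.injective_of_mem hφ.1 (congrArg Subtype.val hab)
    exact (hφ.2 ht).comp (hψ.2 (lt_of_lt_of_le ht hcard)) h
  inv_mem := by
    intro P φ hφ
    obtain ⟨ψ, hψ, hinv⟩ := F.inv_mem hφ.1
    refine ⟨ψ, ⟨hψ, fun ht' => ?_⟩, hinv⟩
    have hc : Nat.card φ.range = Nat.card P :=
      (Nat.card_congr (MonoidHom.ofInjective (F.injective_of_mem hφ.1)).toEquiv).symm
    exact (hφ.2 (by omega)).of_inv hinv

/-- **Alperin consequence.** If the automorphisms of `S` and of the essential subgroups of order larger than `t` are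
good, then so is every map of the system defined on a subgroup of order larger than `t`. -/
theorem good_of_big [Finite S] {p : ℕ} [Fact p.Prime] (hS : IsPGroup p S) (F : FusionSystem S)
    (hF : F.IsSaturated p) (K : Subgroup Ω) (hK : ∀ g ∈ S, ∀ x ∈ S, x⁻¹ * (g * x * g⁻¹) ∈ K) (t : ℕ)
    (h : ∀ P : Subgroup Ω, (P = S ∨ F.IsEssential p P) → t < Nat.card P →
      ∀ α : MulAut P, P.subtype.comp α.toMonoidHom ∈ F.Hom P → Good K (P.subtype.comp α.toMonoidHom)) :
    ∀ (Q : Subgroup Ω) (φ : Q →* Ω), φ ∈ F.Hom Q → t < Nat.card Q → Good K φ := by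
  have hle : F ≤ goodSys F K hK t := by
    apply Cfsg.Agent.S5082.result p hS F hF
    intro P hP
    unfold autGroup
    apply Subgroup.closure_mono
    intro α hα
    exact ⟨hα, fun ht => h P hP ht α hα⟩
  intro Q φ hφ ht
  exact (hle Q hφ).2 ht

/-- A subgroup normalized by `S` is fully normalized. -/
theorem isFullyNormalized_of_le_normalizer [Finite S] (F : FusionSystem S) {Q : Subgroup Ω} (hQ : Q ≤ S)
    (h : S ≤ Subgroup.normalizer (Q : Set Ω)) : F.IsFullyNormalized Q := by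
  refine ⟨hQ, fun Q' _ => ?_⟩
  have h1 : normalizerIn S Q' ≤ normalizerIn S Q := fun x hx => ⟨hx.1, h hx.1⟩
  have : Finite (normalizerIn S Q) := finite_of_le inf_le_left
  exact Nat.card_le_card_of_injective (Subgroup.inclusion h1) (Subgroup.inclusion_injective h1)

theorem normalizerIn_eq_of_le_normalizer {Q : Subgroup Ω} (h : S ≤ Subgroup.normalizer (Q : Set Ω)) :
    normalizerIn S Q = S :=
  le_antisymm inf_le_left (le_inf le_rfl h)

end general

section functor

variable {Ω : Type u} [Group Ω] {S : Subgroup Ω} (W : ∀ (Q : Type u) [Group Q], Subgroup Q)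

/-- The subgroup generated by the quotients `x⁻¹ φ(x)` over the maps of the normalizer system of `W(S)`. -/
def Kf (F : FusionSystem S) : Subgroup Ω :=
  Subgroup.closure {y : Ω | ∃ (P : Subgroup Ω) (φ : P →* Ω) (x : P),
    φ ∈ F.normalizerHom (Wf W S) P ∧ y = (x : Ω)⁻¹ * φ x}

/-- Every map of the system is good for `Kf W F`: the functor controls transfer in `F`. -/
def IsCtrl (F : FusionSystem S) : Prop :=
  ∀ (P : Subgroup Ω) (φ : P →* Ω), φ ∈ F.Hom P → Good (Kf W F) φ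

theorem mem_Kf (F : FusionSystem S) {P : Subgroup Ω} {φ : P →* Ω} (hφ : φ ∈ F.normalizerHom (Wf W S) P)
    (x : P) : (x : Ω)⁻¹ * φ x ∈ Kf W F :=
  Subgroup.subset_closure ⟨P, φ, x, hφ, rfl⟩

theorem Kf_le_focal (F : FusionSystem S) : Kf W F ≤ F.focalSubgroup := by
  apply Subgroup.closure_mono
  rintro y ⟨P, φ, x, hφ, rfl⟩
  exact ⟨P, φ, x, hφ.1, rfl⟩

theorem Kf_le (F : FusionSystem S) : Kf W F ≤ S := by
  unfold Kf
  rw [Subgroup.closure_le]
  rintro y ⟨P, φ, x, hφ, rfl⟩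
  exact S.mul_mem (S.inv_mem ((F.le_of_mem hφ.1).1 x.2)) ((F.le_of_mem hφ.1).2 x)

theorem focal_eq_of_ctrl (F : FusionSystem S) (h : IsCtrl W F) (N : FusionSystem (normalizerIn S (Wf W S)))
    (hN : F.IsNormalizerSystem (Wf W S) N) : N.focalSubgroup = F.focalSubgroup := by
  have h1 : N.focalSubgroup = Kf W F := by
    unfold focalSubgroup Kf
    congr 1
    ext y
    constructor
    · rintro ⟨P, φ, x, hφ, rfl⟩
      rw [hN P] at hφ
      exact ⟨P, φ, x, hφ, rfl⟩
    · rintro ⟨P, φ, x, hφ, rfl⟩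
      rw [← hN P] at hφ
      exact ⟨P, φ, x, hφ, rfl⟩
  rw [h1]
  apply le_antisymm (Kf_le_focal W F)
  unfold focalSubgroup
  rw [Subgroup.closure_le]
  rintro y ⟨P, φ, x, hφ, rfl⟩
  exact h P φ hφ x

variable {p : ℕ}
  (hW2 : ∀ (Q R : Type u) [Group Q] [Group R] [Finite Q], IsPGroup p Q → ∀ φ : Q ≃* R,
    (W Q).map φ.toMonoidHom = W R)

include hW2 in
theorem le_normalizerIn_Wf [Finite S] (hS : IsPGroup p S) : S ≤ normalizerIn S (Wf W S) :=
  le_inf le_rfl (Subgroup.le_normalizer.trans (normalizer_le_normalizer_Wf W hW2 S hS))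

include hW2 in
theorem map_Wf_of_mem_top [Finite S] (hS : IsPGroup p S) (F : FusionSystem S) {ψ : S →* Ω}
    (hψ : ψ ∈ F.Hom S) : ((Wf W S).subgroupOf S).map ψ = Wf W S := by
  have hψS : ∀ x : S, ψ x ∈ S := (F.le_of_mem hψ).2
  have hinj : Function.Injective (ψ.codRestrict S hψS) := by
    intro a b hab
    exact F.injective_of_mem hψ (congrArg Subtype.val hab)
  let α : S ≃* S :=
    MulEquiv.ofBijective (ψ.codRestrict S hψS) ⟨hinj, Finite.injective_iff_surjective.mp hinj⟩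
  have h1 : (Wf W S).subgroupOf S = W ↥S :=
    Subgroup.comap_map_eq_self_of_injective (Subgroup.subtype_injective S) _
  have h2 := hW2 ↥S ↥S hS α
  have h3 : ψ = S.subtype.comp α.toMonoidHom := by ext x; rfl
  rw [h1, h3, ← Subgroup.map_map, h2]

include hW2 in
/-- Every map of the system defined on all of `S` is a map of the normalizer system of `W(S)`. -/
theorem mem_normalizerHom_top [Finite S] (hS : IsPGroup p S) (F : FusionSystem S) {ψ : S →* Ω}
    (hψ : ψ ∈ F.Hom S) : ψ ∈ F.normalizerHom (Wf W S) S :=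
  mem_normalizerHom_of_le F (Wf_le W S) (le_normalizerIn_Wf W hW2 hS) hψ
    (map_Wf_of_mem_top W hW2 hS F hψ)

include hW2 in
theorem good_of_mem_top [Finite S] (hS : IsPGroup p S) (F : FusionSystem S) {ψ : S →* Ω}
    (hψ : ψ ∈ F.Hom S) : Good (Kf W F) ψ :=
  fun x => mem_Kf W F (mem_normalizerHom_top W hW2 hS F hψ) x

include hW2 in
theorem conj_mem_Kf [Finite S] (hS : IsPGroup p S) (F : FusionSystem S) :
    ∀ g ∈ S, ∀ x ∈ S, x⁻¹ * (g * x * g⁻¹) ∈ Kf W F := by
  intro g hg x hx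
  exact good_of_mem_top W hW2 hS F (F.conj_mem le_rfl hg) ⟨x, hx⟩

/-- A map of the normalizer system of `W(T')` inside the normalizer system `E` of `R` (over `T' = N_S(R)`) is the
restriction of a map of `F` defined on a subgroup containing `W(T')` and carrying `W(T')` onto itself. -/
theorem exists_of_mem_normalizerHom_normalizerSystem (F : FusionSystem S) {R : Subgroup Ω}
    (E : FusionSystem (normalizerIn S R)) (hE : F.IsNormalizerSystem R E) {B : Subgroup Ω} {θ : B →* Ω}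
    (hθ : θ ∈ E.normalizerHom (Wf W (normalizerIn S R)) B) :
    ∃ (A : Subgroup Ω) (ψ : A →* Ω) (hBA : B ≤ A), ψ ∈ F.Hom A ∧ Wf W (normalizerIn S R) ≤ A ∧
      A ≤ normalizerIn S (Wf W (normalizerIn S R)) ∧
      ((Wf W (normalizerIn S R)).subgroupOf A).map ψ = Wf W (normalizerIn S R) ∧
      ∀ x : B, ψ ⟨x, hBA x.2⟩ = θ x := by
  obtain ⟨-, hBN, -, ψ, hψ, hψθ, hψQ⟩ := hθ
  rw [hE] at hψ
  have hQT : Wf W (normalizerIn S R) ≤ normalizerIn S R := Wf_le W _
  refine ⟨B ⊔ Wf W (normalizerIn S R), ψ, le_sup_left, hψ.1, le_sup_right, ?_, hψQ, fun x => hψθ x⟩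
  apply sup_le
  · intro x hx
    exact ⟨(hBN hx).1.1, (hBN hx).2⟩
  · intro x hx
    exact ⟨(hQT hx).1, Subgroup.le_normalizer hx⟩

/-- If `N_S(R) = S` then the generators of `Kf` for the normalizer system of `R` are generators for `F`. -/
theorem Kf_normalizerSystem_le [Finite S] (F : FusionSystem S) {R : Subgroup Ω}
    (E : FusionSystem (normalizerIn S R)) (hE : F.IsNormalizerSystem R E) (h : normalizerIn S R = S) :
    Kf W E ≤ Kf W F := by
  have hWf : Wf W (normalizerIn S R) = Wf W S := congrArg (fun T => Wf W T) h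
  unfold Kf
  rw [Subgroup.closure_le]
  rintro y ⟨B, θ, x, hθ, rfl⟩
  obtain ⟨A, ψ, hBA, hψ, hQA, hAN, hψQ, hψθ⟩ :=
    exists_of_mem_normalizerHom_normalizerSystem W F E hE hθ
  rw [hWf] at hQA hAN hψQ
  have hmem := mem_normalizerHom_of_le F hQA hAN hψ hψQ
  have := mem_Kf W F hmem ⟨x, hBA x.2⟩
  rw [hψθ x] at this
  exact this

end functor

end Cfsg.Agent.Helper88.Ctrl
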