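import Mathlib

/-!
# S3614 piece (MAXORD) for helper58: an `r`-group of order `> r` on fewer than `r ^ 2` points
-/

set_option autoImplicit false

namespace Cfsg.Agent.Helper88.N4

open MulAction
open scoped Pointwise

/-- (MAXORD) an `r`-group of order `> r` on fewer than `r ^ 2` points has, for every point, an
element of order `r` fixing the orbit of that point pointwise -/
theorem exists_orderOf_eq_fixing_orbit {G Ω : Type*} [Group G] [MulAction G Ω] [Fintype Ω]
    {r : ℕ} [Fact r.Prime] (V : Subgroup G) [Finite V] (hV : IsPGroup r V)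
    (hΩ : Fintype.card Ω < r ^ 2) (hcard : r < Nat.card V) (x : Ω) :
    ∃ v ∈ V, orderOf v = r ∧ ∀ u ∈ V, v • (u • x) = u • x := by
  have hr : r.Prime := Fact.out
  -- the stabilizer of `x` in `V`
  set H : Subgroup ↥V := stabilizer ↥V x with hH
  -- its index is `1` or `r`
  obtain ⟨n, hn⟩ := hV.index H
  have hidx : H.index = (orbit ↥V x).ncard := index_stabilizer ↥V x
  have hle : (orbit ↥V x).ncard ≤ Fintype.card Ω := by
    rw [← Nat.card_eq_fintype_card, ← Set.ncard_univ]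
    exact Set.ncard_le_ncard (Set.subset_univ _) (Set.toFinite _)
  have hn2 : n < 2 := by
    have h1 : r ^ n < r ^ 2 := by
      rw [← hn, hidx]
      exact lt_of_le_of_lt hle hΩ
    exact (Nat.pow_lt_pow_iff_right hr.one_lt).mp h1
  have hidx_le : H.index ∣ r := by
    rw [hn]
    interval_cases n
    · simp
    · simp
  -- `H` is normal in `V`
  obtain ⟨k, hk⟩ := IsPGroup.iff_card.mp hV
  have hk0 : k ≠ 0 := by
    rintro rfl
    rw [pow_zero] at hk
    rw [hk] at hcard
    exact absurd hcard (by have := hr.one_lt; omega)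
  have hnormal : H.Normal := by
    interval_cases n
    · rw [pow_zero] at hn
      rw [Subgroup.index_eq_one.mp hn]
      infer_instance
    · rw [pow_one] at hn
      apply Subgroup.normal_of_index_eq_minFac_card
      rw [hn, hk, hr.pow_minFac hk0]
  -- `H` is non-trivial
  have hcardH : Nat.card ↥H * H.index = Nat.card ↥V := H.card_mul_index
  have hHgt : 1 < Nat.card ↥H := by
    by_contra hcon
    have h1 : Nat.card ↥H ≤ 1 := by omega
    have hpos : 0 < Nat.card ↥H := Nat.card_pos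
    have h2 : Nat.card ↥H = 1 := by omega
    rw [h2, one_mul] at hcardH
    have h3 : H.index ≤ r := Nat.le_of_dvd hr.pos hidx_le
    omega
  have hHp : IsPGroup r ↥H := hV.to_subgroup H
  obtain ⟨j, hj⟩ := IsPGroup.iff_card.mp hHp
  have hj0 : j ≠ 0 := by
    rintro rfl
    rw [pow_zero] at hj
    omega
  have hdvd : r ∣ Nat.card ↥H := by
    rw [hj]
    exact dvd_pow_self r hj0
  obtain ⟨h, hh⟩ := exists_prime_orderOf_dvd_card' r hdvd
  refine ⟨((h : ↥V) : G), (h : ↥V).2, ?_, ?_⟩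
  · rw [Subgroup.orderOf_coe, Subgroup.orderOf_coe]
    exact hh
  · intro u hu
    have hconj : (⟨u, hu⟩ : ↥V)⁻¹ * (h : ↥V) * (⟨u, hu⟩ : ↥V)⁻¹⁻¹ ∈ H :=
      hnormal.conj_mem (h : ↥V) h.2 (⟨u, hu⟩ : ↥V)⁻¹
    have hconj' : ((⟨u, hu⟩ : ↥V)⁻¹ * (h : ↥V) * (⟨u, hu⟩ : ↥V)⁻¹⁻¹ : ↥V) • x = x :=
      mem_stabilizer_iff.mp hconj
    -- `(u⁻¹ * h * u) • x = x`
    have h1 : (u⁻¹ * ((h : ↥V) : G) * u) • x = x := by
      have h2 : (((⟨u, hu⟩ : ↥V)⁻¹ * (h : ↥V) * (⟨u, hu⟩ : ↥V)⁻¹⁻¹ : ↥V) : G) • x = x := by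
        rw [← Subgroup.smul_def]
        exact hconj'
      simpa using h2
    rw [mul_smul, mul_smul, inv_smul_eq_iff] at h1
    exact h1

end Cfsg.Agent.Helper88.N4
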