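import Cfsg.Agent.Helper84.PStable
import Cfsg.Agent.Helper87.FusionRS
import Cfsg.Agent.Helper87.FusionAlperin
import Cfsg.Agent.Helper88.AutSystem
import Cfsg.Agent.Helper88.FusionStrongInv
import Cfsg.Agent.S5096
import Cfsg.Agent.S5104
import Cfsg.Agent.Lib.Cores
set_option autoImplicit false

/-!
Climbing from a subgroup to a fully normalized centric radical subgroup along which all automorphisms extend.
-/

namespace Cfsg.Agent.Helper88.FS

open Cfsg Cfsg.FusionSystem Cfsg.Agent.Helper87 Cfsg.Agent.Helper88 Cfsg.Agent.Helper84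

variable {Ω : Type*} [Group Ω] {S : Subgroup Ω}

/-- Every automorphism of `Q` in the system extends to an automorphism of `Q₁` in the system. -/
def AutExt (F : FusionSystem S) (Q Q₁ : Subgroup Ω) : Prop :=
  ∃ h : Q ≤ Q₁, ∀ α ∈ F.autGroup Q, ∃ β ∈ F.autGroup Q₁, ∀ x : Q, ((β ⟨x, h x.2⟩ : Q₁) : Ω) = ((α x : Q) : Ω)

theorem AutExt.refl (F : FusionSystem S) (Q : Subgroup Ω) : AutExt F Q Q :=
  ⟨le_rfl, fun α hα => ⟨α, hα, fun _ => rfl⟩⟩

theorem AutExt.trans {F : FusionSystem S} {Q Q₁ Q₂ : Subgroup Ω} (h₁ : AutExt F Q Q₁) (h₂ : AutExt F Q₁ Q₂) :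
    AutExt F Q Q₂ := by
  obtain ⟨h, h1⟩ := h₁
  obtain ⟨h', h2⟩ := h₂
  refine ⟨h.trans h', fun α hα => ?_⟩
  obtain ⟨β, hβ, hβx⟩ := h1 α hα
  obtain ⟨γ, hγ, hγx⟩ := h2 β hβ
  refine ⟨γ, hγ, fun x => ?_⟩
  rw [← hβx x]
  exact hγx ⟨x, h x.2⟩

/-- `O_p(Aut_F(Q))` as a subgroup of `Aut(Q)`. -/
abbrev opAut (F : FusionSystem S) (p : ℕ) (Q : Subgroup Ω) : Subgroup (MulAut Q) :=
  (pCore p (F.autGroup Q)).map (F.autGroup Q).subtype

theorem opAut_le_autGroup (F : FusionSystem S) (p : ℕ) (Q : Subgroup Ω) : opAut F p Q ≤ F.autGroup Q :=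
  Subgroup.map_subtype_le _

theorem opAut_le_autInducedBy {p : ℕ} [Fact p.Prime] (F : FusionSystem S) {Q : Subgroup Ω}
    (hQa : F.IsFullyAutomized p Q) : opAut F p Q ≤ autInducedBy S Q := by
  obtain ⟨-, R, hR⟩ := hQa
  rintro _ ⟨κ, hκ, rfl⟩
  have h1 : κ ∈ (R : Subgroup (F.autGroup Q)) := Cfsg.Agent.Lib.pCore_le_sylow R hκ
  rw [hR, Subgroup.mem_subgroupOf] at h1
  exact h1

theorem opAut_normalized (F : FusionSystem S) (p : ℕ) (Q : Subgroup Ω) :
    ∀ a ∈ F.autGroup Q, ∀ k ∈ opAut F p Q, a * k * a⁻¹ ∈ opAut F p Q := by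
  intro a ha k hk
  obtain ⟨N, hNA, hNn, hNp, hkN⟩ := (mem_pCore_map_iff _ _).mp hk
  exact (mem_pCore_map_iff _ _).mpr ⟨N, hNA, hNn, hNp, hNn a ha k hkN⟩

theorem inn_le_opAut [Finite S] {p : ℕ} [Fact p.Prime] (hS : IsPGroup p S) (F : FusionSystem S) {Q : Subgroup Ω}
    (hQS : Q ≤ S) : Inn Q ≤ opAut F p Q := by
  intro ν hν
  refine (mem_pCore_map_iff _ _).mpr ⟨Inn Q, inn_le_autGroup F hQS, fun a _ n hn => ?_, ?_, hν⟩
  · exact (inn_normal Q).conj_mem n hn a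
  · rintro ⟨_, g, rfl⟩
    obtain ⟨k, hk⟩ := (hS.to_le hQS) g
    refine ⟨k, Subtype.ext ?_⟩
    show (MulAut.conj g) ^ p ^ k = 1
    rw [← map_pow, hk, map_one]


/-- A map of the system from `Q₂` into `Q₂` is an automorphism of `Q₂` in the system. -/
theorem exists_aut_of_maps_into [Finite S] (F : FusionSystem S) {Q₂ : Subgroup Ω} {φ : Q₂ →* Ω} (hφ : φ ∈ F.Hom Q₂)
    (hval : ∀ x : Q₂, φ x ∈ Q₂) : ∃ β ∈ F.autGroup Q₂, ∀ x : Q₂, ((β x : Q₂) : Ω) = φ x := by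
  have hQS : Q₂ ≤ S := (F.le_of_mem hφ).1
  have : Finite Q₂ := finite_of_le hQS
  have hle : φ.range ≤ Q₂ := by
    rintro _ ⟨x, rfl⟩
    exact hval x
  have hr : φ.range = Q₂ :=
    Subgroup.eq_of_le_of_card_ge hle (card_range_eq_of_mem F hφ).ge
  exact ⟨isoOfRange F hφ hr, (mem_autGroup_iff F hQS _).mpr (isIso_isoOfRange F hφ hr), fun x => rfl⟩

/-- For `Q₁` fully normalized in a saturated system, every automorphism of `Q₁` extends to the preimage in `S` of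
`O_p(Aut_F(Q₁))`. -/
theorem autExt_NK_opAut [Finite S] {p : ℕ} [Fact p.Prime] (hS : IsPGroup p S) (F : FusionSystem S)
    (hF : F.IsSaturated p) {Q₁ : Subgroup Ω} (hQ₁ : F.IsFullyNormalized Q₁) :
    AutExt F Q₁ (NK S Q₁ (opAut F p Q₁)) := by
  have hQS := hQ₁.1
  obtain ⟨hfc, hfa⟩ := fullyAutomized_fullyCentralized_of_fullyNormalized hS F hF hQ₁
  have hrec := receptive_of_fullyCentralized hS F hF hfc
  have hle : Q₁ ≤ NK S Q₁ (opAut F p Q₁) := by
    intro x hx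
    rw [mem_NK_iff]
    refine ⟨hQS hx, Subgroup.le_normalizer hx, inn_le_opAut hS F hQS ⟨⟨x, hx⟩, ?_⟩⟩
    ext y
    rfl
  refine ⟨hle, fun α hα => ?_⟩
  have hαiso := (mem_autGroup_iff F hQS α).mp hα
  obtain ⟨ψ, hψ, hψx⟩ := hrec.2 Q₁ _ hαiso (range_subtype_comp_equiv (α : Q₁ ≃* Q₁))
  have hext : NK S Q₁ (opAut F p Q₁) ≤ extender S Q₁ (Q₁.subtype.comp (α : Q₁ ≃* Q₁).toMonoidHom) := by
    intro g hg
    obtain ⟨hgS, hgN, hgK⟩ := (mem_NK_iff S Q₁ _ g).mp hg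
    rw [mem_extender_iff]
    have h1 : α * conjAut Q₁ g hgN * α⁻¹ ∈ autInducedBy S Q₁ :=
      opAut_le_autInducedBy F hfa (opAut_normalized F p Q₁ α hα _ hgK)
    obtain ⟨h, hhS, hhx⟩ := (mem_autInducedBy_iff S Q₁ _).mp h1
    refine ⟨hgS, hgN, h, hhS, fun x hx => ?_⟩
    have := hhx (α x)
    rw [MulAut.mul_apply, MulAut.mul_apply, MulAut.inv_apply_self] at this
    exact this
  have hψ₂ := restrict_mem F hψ hext
  have hψα : ∀ z : Q₁, ψ (Subgroup.inclusion hext ⟨z, hle z.2⟩) = ((α z : Q₁) : Ω) := fun z =>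
    hψx z z.2 (hext (hle z.2))
  have hval : ∀ g : ↥(NK S Q₁ (opAut F p Q₁)), (ψ.comp (Subgroup.inclusion hext)) g ∈ NK S Q₁ (opAut F p Q₁) := by
    intro g
    obtain ⟨hgS, hgN, hgK⟩ := (mem_NK_iff S Q₁ _ g).mp g.2
    have hψgS : ψ (Subgroup.inclusion hext g) ∈ S := (F.le_of_mem hψ).2 _
    have key : ∀ y : Q₁, (((α * conjAut Q₁ g hgN * α⁻¹) y : Q₁) : Ω) =
        ψ (Subgroup.inclusion hext g) * y * (ψ (Subgroup.inclusion hext g))⁻¹ := by
      intro y
      rw [MulAut.mul_apply, MulAut.mul_apply]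
      have hy : ((y : Q₁) : Ω) = ((α (α⁻¹ y) : Q₁) : Ω) := by rw [MulAut.apply_inv_self]
      rw [hy, ← hψα, ← hψα (α⁻¹ y), ← map_inv, ← map_mul, ← map_mul]
      congr 1
    have hN : ψ (Subgroup.inclusion hext g) ∈ Subgroup.normalizer (Q₁ : Set Ω) := mem_normalizer_of_conj_eq _ _ key
    rw [mem_NK_iff]
    refine ⟨hψgS, hN, ?_⟩
    have e : conjAut Q₁ _ hN = α * conjAut Q₁ g hgN * α⁻¹ := by
      ext y
      rw [conjAut_apply, key]
    have hmem := opAut_normalized F p Q₁ α hα _ hgK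
    rw [← e] at hmem
    exact hmem
  obtain ⟨β, hβ, hβx⟩ := exists_aut_of_maps_into F hψ₂ hval
  refine ⟨β, hβ, fun x => ?_⟩
  rw [hβx]
  exact hψα x


/-- If the preimage of `O_p(Aut_F(Q₁))` is `Q₁` itself, the fully normalized subgroup `Q₁` is centric and radical. -/
theorem centric_radical_of_NK_le [Finite S] {p : ℕ} [Fact p.Prime] (hS : IsPGroup p S) (F : FusionSystem S)
    (hF : F.IsSaturated p) {Q₁ : Subgroup Ω} (hQ₁ : F.IsFullyNormalized Q₁)
    (h : NK S Q₁ (opAut F p Q₁) ≤ Q₁) : F.IsCentric Q₁ ∧ F.IsRadical p Q₁ := by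
  have hQS := hQ₁.1
  obtain ⟨hfc, hfa⟩ := fullyAutomized_fullyCentralized_of_fullyNormalized hS F hF hQ₁
  constructor
  · apply Cfsg.Agent.S5104.result p hS F hF Q₁ hfc
    rintro c ⟨hcS, hcC⟩
    apply h
    rw [mem_NK_iff]
    have hcN : c ∈ Subgroup.normalizer (Q₁ : Set Ω) := Subgroup.centralizer_le_normalizer _ hcC
    refine ⟨hcS, hcN, ?_⟩
    have : conjAut Q₁ c hcN = 1 := (conjAut_eq_one_iff Q₁ c hcN).mpr hcC
    rw [this]
    exact Subgroup.one_mem _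
  · refine ⟨hQS, le_antisymm ?_ (inn_le_opAut hS F hQS)⟩
    intro κ hκ
    obtain ⟨g, hgS, hgx⟩ := (mem_autInducedBy_iff S Q₁ κ).mp (opAut_le_autInducedBy F hfa hκ)
    have hgN := mem_normalizer_of_conj_eq κ g hgx
    have hκeq : κ = conjAut Q₁ g hgN := eq_conjAut_of_conj_eq κ g hgx
    have hgQ : g ∈ Q₁ := h ((mem_NK_iff S Q₁ _ g).mpr ⟨hgS, hgN, hκeq ▸ hκ⟩)
    refine ⟨⟨g, hgQ⟩, ?_⟩
    ext y
    rw [hgx]
    rfl

/-- Transport of `AutExt` along an isomorphism of the system defined on the larger subgroup. -/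
theorem AutExt.transport {F : FusionSystem S} {Q Q₁ Q₁' : Subgroup Ω} (h : AutExt F Q Q₁) (e₁ : Q₁ ≃* Q₁')
    (he₁ : IsIso F e₁) : ∃ (Q' : Subgroup Ω) (e : Q ≃* Q'), IsIso F e ∧ AutExt F Q' Q₁' := by
  obtain ⟨hQ, hext⟩ := h
  have hφ : (Q₁'.subtype.comp e₁.toMonoidHom).comp (Subgroup.inclusion hQ) ∈ F.Hom Q := restrict_mem F he₁ hQ
  have he : IsIso F (isoOfRange F hφ rfl) := isIso_isoOfRange F hφ rfl
  have hex : ∀ x : Q, ((isoOfRange F hφ rfl x : _) : Ω) = ((e₁ ⟨x, hQ x.2⟩ : Q₁') : Ω) := fun x => rfl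
  have hQ'le : ((Q₁'.subtype.comp e₁.toMonoidHom).comp (Subgroup.inclusion hQ)).range ≤ Q₁' := by
    rintro _ ⟨x, rfl⟩
    exact (e₁ _).2
  refine ⟨_, isoOfRange F hφ rfl, he, hQ'le, fun α' hα' => ?_⟩
  have hα : MulAut.congr (isoOfRange F hφ rfl).symm α' ∈ F.autGroup Q := by
    rw [← tr_autGroup F (isoOfRange F hφ rfl).symm he.symm]
    exact congr_mem_tr _ _ hα'
  obtain ⟨β, hβ, hβx⟩ := hext _ hα
  have hβ' : MulAut.congr e₁ β ∈ F.autGroup Q₁' := by
    rw [← tr_autGroup F e₁ he₁]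
    exact congr_mem_tr e₁ _ hβ
  refine ⟨MulAut.congr e₁ β, hβ', fun y => ?_⟩
  obtain ⟨x, rfl⟩ := (isoOfRange F hφ rfl).surjective y
  have h1 : e₁.symm ⟨((isoOfRange F hφ rfl x : _) : Ω), hQ'le (isoOfRange F hφ rfl x).2⟩ = ⟨x, hQ x.2⟩ := by
    rw [MulEquiv.symm_apply_eq]
    exact Subtype.ext (hex x)
  have h2 : β ⟨x, hQ x.2⟩ = ⟨((MulAut.congr (isoOfRange F hφ rfl).symm α' x : Q) : Ω), hQ (_ : Q).2⟩ :=
    Subtype.ext (hβx x)
  show ((e₁ (β (e₁.symm ⟨((isoOfRange F hφ rfl x : _) : Ω), _⟩)) : Q₁') : Ω) = _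
  rw [h1, h2, ← hex]
  congr 1
  show (isoOfRange F hφ rfl) ((isoOfRange F hφ rfl).symm (α' ((isoOfRange F hφ rfl).symm.symm x))) = _
  rw [MulEquiv.apply_symm_apply]
  rfl

/-- In the normalizer system of `R`, the automorphism group of a subgroup `Q'` of `R` all of whose automorphisms extend
to `R` is the full automorphism group in `F`. -/
theorem autGroup_normalizerSystem_of_autExt (F : FusionSystem S) {Q' R : Subgroup Ω} (hRS : R ≤ S)
    (N : FusionSystem (normalizerIn S R)) (hN : F.IsNormalizerSystem R N) (hext : AutExt F Q' R) :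
    N.autGroup Q' = F.autGroup Q' := by
  obtain ⟨hQR, hext⟩ := hext
  have hQN : Q' ≤ normalizerIn S R := hQR.trans (le_normalizerIn hRS)
  apply le_antisymm
  · apply autGroup_le_of_hom_subset
    rw [hN Q']
    exact fun φ hφ => hφ.1
  · intro α hα
    rw [mem_autGroup_iff N hQN]
    have hαiso := (mem_autGroup_iff F (hQR.trans hRS) α).mp hα
    show Q'.subtype.comp (α : Q' ≃* Q').toMonoidHom ∈ N.Hom Q'
    rw [hN Q']
    obtain ⟨β, hβ, hβx⟩ := hext α hα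
    have hβiso := (mem_autGroup_iff F hRS β).mp hβ
    have hle : Q' ⊔ R ≤ R := sup_le hQR le_rfl
    refine ⟨hαiso, hQN, fun x => hQN (α x).2, (R.subtype.comp (β : R ≃* R).toMonoidHom).comp (Subgroup.inclusion hle),
      restrict_mem F hβiso hle, fun x => hβx x, ?_⟩
    rw [Helper85.map_subgroupOf_eq_iff]
    refine ⟨fun x _ => (β (Subgroup.inclusion hle x)).2, fun y hy => ?_⟩
    refine ⟨Subgroup.inclusion le_sup_right (β⁻¹ ⟨y, hy⟩), (β⁻¹ ⟨y, hy⟩).2, ?_⟩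
    show ((β (Subgroup.inclusion hle (Subgroup.inclusion le_sup_right (β⁻¹ ⟨y, hy⟩))) : R) : Ω) = y
    have : Subgroup.inclusion hle (Subgroup.inclusion le_sup_right (β⁻¹ ⟨y, hy⟩)) = β⁻¹ ⟨y, hy⟩ := Subtype.ext rfl
    rw [this, MulAut.apply_inv_self]


/-- If the normalizer systems of the fully normalized centric radical subgroups are `p`-stable, then the system is
`p`-stable at every subgroup whose automorphisms extend to some larger subgroup (induction on the index of the latter). -/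
theorem pStableAt_of_autExt [Finite S] {p : ℕ} [Fact p.Prime] (hS : IsPGroup p S) (F : FusionSystem S)
    (hF : F.IsSaturated p)
    (h : ∀ R : Subgroup Ω, F.IsFullyNormalized R → F.IsCentric R → F.IsRadical p R →
      ∀ N : FusionSystem (normalizerIn S R), F.IsNormalizerSystem R N →
        ∀ Q : Subgroup Ω, N.IsFullyNormalized Q → PStableAt N p Q) :
    ∀ (n : ℕ) (Q Q₁ : Subgroup Ω), Q₁ ≤ S → Nat.card S - Nat.card Q₁ = n → AutExt F Q Q₁ → PStableAt F p Q := by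
  intro n
  induction n using Nat.strong_induction_on with
  | _ n ih =>
    intro Q Q₁ hQ₁S hn hext
    obtain ⟨Q₁', hconj, hfn⟩ := exists_isConj_fullyNormalized F hQ₁S
    obtain ⟨e₁, he₁⟩ := (isConj_iff F Q₁ Q₁').mp hconj
    obtain ⟨Q', e, he, hext'⟩ := hext.transport e₁ he₁
    apply PStableAt.of_iso F e he
    have hcard : Nat.card Q₁' = Nat.card Q₁ := (Nat.card_congr e₁.toEquiv).symm
    by_cases hle : NK S Q₁' (opAut F p Q₁') ≤ Q₁'
    · obtain ⟨hc, hr⟩ := centric_radical_of_NK_le hS F hF hfn hle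
      obtain ⟨N, hN⟩ := Cfsg.Agent.S5096.result F Q₁' hfn.1
      have hfinN : Finite (normalizerIn S Q₁') := finite_of_le inf_le_left
      have hQ'N : Q' ≤ normalizerIn S Q₁' := hext'.1.trans (le_normalizerIn hfn.1)
      have hstab : PStableAt N p Q' := PStableAt.of_fullyNormalized N (h Q₁' hfn hc hr N hN) hQ'N
      have heq : N.autGroup Q' = F.autGroup Q' := autGroup_normalizerSystem_of_autExt F hfn.1 N hN hext'
      intro χ hχ hq
      exact mem_pCore_map_congr heq (hstab χ (heq ▸ hχ) hq)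
    · have hext2 := autExt_NK_opAut hS F hF hfn
      have hlt : Q₁' < NK S Q₁' (opAut F p Q₁') := lt_of_le_of_ne hext2.1 (fun h => hle h.ge)
      have hfinK : Finite (NK S Q₁' (opAut F p Q₁')) := finite_NK _ _
      have hcardlt := card_lt_card_of_lt hlt
      have hcardle : Nat.card (NK S Q₁' (opAut F p Q₁')) ≤ Nat.card S := Subgroup.card_le_of_le (NK_le _ _ _)
      exact ih (Nat.card S - Nat.card (NK S Q₁' (opAut F p Q₁'))) (by omega) Q' _ (NK_le _ _ _) rfl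
        (hext'.trans hext2)

/-- A saturated system is `p`-stable when the normalizer systems of its fully normalized centric radical subgroups
are. -/
theorem pStableAt_of_frc [Finite S] {p : ℕ} [Fact p.Prime] (hS : IsPGroup p S) (F : FusionSystem S)
    (hF : F.IsSaturated p)
    (h : ∀ R : Subgroup Ω, F.IsFullyNormalized R → F.IsCentric R → F.IsRadical p R →
      ∀ N : FusionSystem (normalizerIn S R), F.IsNormalizerSystem R N →
        ∀ Q : Subgroup Ω, N.IsFullyNormalized Q → PStableAt N p Q) {Q : Subgroup Ω} (hQS : Q ≤ S) :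
    PStableAt F p Q :=
  pStableAt_of_autExt hS F hF h _ Q Q hQS rfl (AutExt.refl F Q)

end Cfsg.Agent.Helper88.FS
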