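import Cfsg.Agent.Helper88.FusionStrongInv
import Cfsg.Agent.Helper85.Basic
set_option autoImplicit false

/-!
Basic facts on the normalizer system `N_F(R)`: `R` is normal in it, its automorphisms of `R` are those of `F`, and `R`
is centric in it when it is centric in `F`.
-/

namespace Cfsg.Agent.Helper88.FS

open Cfsg Cfsg.FusionSystem Cfsg.Agent.Helper87 Cfsg.Agent.Helper85

variable {Ω : Type*} [Group Ω] {S : Subgroup Ω}

/-- A map on `P ⊔ R` carrying `R` onto `R`, seen on `(P ⊔ R) ⊔ R`. -/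
theorem exists_hom_sup_sup (F : FusionSystem S) {P R : Subgroup Ω} {ψ : ↥(P ⊔ R) →* Ω} (hψ : ψ ∈ F.Hom (P ⊔ R))
    (himg : (R.subgroupOf (P ⊔ R)).map ψ = R) :
    ∃ ψ' ∈ F.Hom ((P ⊔ R) ⊔ R), (∀ x : ↥(P ⊔ R), ψ' (Subgroup.inclusion le_sup_left x) = ψ x) ∧
      (R.subgroupOf ((P ⊔ R) ⊔ R)).map ψ' = R := by
  have hEq : P ⊔ R = (P ⊔ R) ⊔ R := by
    rw [sup_assoc, sup_idem]
  obtain ⟨ψ', hψ', hψ'x⟩ := exists_hom_of_eq F hEq hψ
  refine ⟨ψ', hψ', fun x => hψ'x x x.2 _, ?_⟩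
  obtain ⟨h1, h2⟩ := (map_subgroupOf_eq_iff ψ).mp himg
  rw [map_subgroupOf_eq_iff]
  constructor
  · intro x hx
    have hx' : (x : Ω) ∈ P ⊔ R := Subgroup.mem_sup_right hx
    have : ψ' x = ψ ⟨x, hx'⟩ := hψ'x x hx' x.2
    rw [this]
    exact h1 _ hx
  · intro y hy
    obtain ⟨x, hx, hxy⟩ := h2 y hy
    exact ⟨Subgroup.inclusion le_sup_left x, hx, (hψ'x x x.2 _).trans hxy⟩

/-- `R` is normal in its normalizer system. -/
theorem isNormal_of_isNormalizerSystem (F : FusionSystem S) {R : Subgroup Ω} (hRS : R ≤ S)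
    (E : FusionSystem (normalizerIn S R)) (hE : F.IsNormalizerSystem R E) : E.IsNormal R := by
  have hRN : R ≤ normalizerIn S R := le_normalizerIn hRS
  refine ⟨hRN, fun P φ hφ => ?_⟩
  rw [hE P] at hφ
  obtain ⟨hφF, hPN, hval, ψ, hψ, hagree, himg⟩ := hφ
  refine ⟨ψ, ?_, hagree, himg⟩
  rw [hE (P ⊔ R)]
  obtain ⟨h1, -⟩ := (map_subgroupOf_eq_iff ψ).mp himg
  have hvalψ : ∀ z, ψ z ∈ normalizerIn S R := by
    apply forall_mem_of_sup ((normalizerIn S R).comap ψ)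
    · intro x
      rw [Subgroup.mem_comap, hagree]
      exact hval x
    · intro x
      rw [Subgroup.mem_comap]
      exact hRN (h1 _ x.2)
  exact ⟨hψ, sup_le hPN hRN, hvalψ, exists_hom_sup_sup F hψ himg⟩

/-- Automorphisms of `R` in `F` are maps of the normalizer system. -/
theorem mem_normalizerSystem_of_mem_autGroup (F : FusionSystem S) {R : Subgroup Ω} (hRS : R ≤ S)
    (E : FusionSystem (normalizerIn S R)) (hE : F.IsNormalizerSystem R E) {α : MulAut R} (hα : α ∈ F.autGroup R) :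
    R.subtype.comp (α : R ≃* R).toMonoidHom ∈ E.Hom R := by
  have hRN : R ≤ normalizerIn S R := le_normalizerIn hRS
  have hαF : R.subtype.comp (α : R ≃* R).toMonoidHom ∈ F.Hom R := (mem_autGroup_iff F hRS α).mp hα
  rw [hE R]
  refine ⟨hαF, hRN, fun x => hRN (α x).2, ?_⟩
  have hEq : R = R ⊔ R := by rw [sup_idem]
  obtain ⟨ψ', hψ', hψ'x⟩ := exists_hom_of_eq F hEq hαF
  refine ⟨ψ', hψ', fun x => hψ'x x x.2 _, ?_⟩
  rw [map_subgroupOf_eq_iff]
  constructor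
  · intro x hx
    rw [hψ'x x hx x.2]
    exact (α _).2
  · intro y hy
    refine ⟨⟨(α⁻¹ ⟨y, hy⟩ : R), Subgroup.mem_sup_left (α⁻¹ ⟨y, hy⟩ : R).2⟩, (α⁻¹ ⟨y, hy⟩ : R).2, ?_⟩
    rw [hψ'x _ (α⁻¹ ⟨y, hy⟩ : R).2]
    show ((α (α⁻¹ ⟨y, hy⟩) : R) : Ω) = y
    rw [MulAut.apply_inv_self]

/-- `R` centric in `F` is centric in its normalizer system. -/
theorem isCentric_of_isNormalizerSystem (F : FusionSystem S) {R : Subgroup Ω} (hRc : F.IsCentric R)
    (E : FusionSystem (normalizerIn S R)) (hE : F.IsNormalizerSystem R E) : E.IsCentric R := by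
  have hRS : R ≤ S := hRc.1
  have hRN : R ≤ normalizerIn S R := le_normalizerIn hRS
  refine ⟨hRN, fun Q hQ => ?_⟩
  obtain ⟨φ, hφ, hrange⟩ := hQ
  rw [hE R] at hφ
  obtain ⟨hφF, -, -, ψ, hψ, hagree, himg⟩ := hφ
  obtain ⟨h1, h2⟩ := (map_subgroupOf_eq_iff ψ).mp himg
  have hQR : Q = R := by
    rw [← hrange]
    apply le_antisymm
    · rintro y ⟨x, rfl⟩
      rw [← hagree]
      exact h1 _ x.2
    · intro y hy
      obtain ⟨x, hx, hxy⟩ := h2 y hy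
      refine ⟨⟨x, hx⟩, ?_⟩
      rw [← hxy, ← hagree]
      rfl
  rw [hQR]
  intro y hy
  exact hRc.2 R (isConj_refl F hRS) ⟨hy.1.1, hy.2⟩

end Cfsg.Agent.Helper88.FS
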