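import Cfsg.Agent.Helper88.TransferCount
set_option autoImplicit false
set_option linter.style.haveILetI false

/-! # The transfer through the cosets fixed by an element, and two general facts on the transfer -/

namespace Cfsg.Agent.Helper88.TransferCount

open MulAction Subgroup

section General

variable {Γ : Type*} [Group Γ] [Finite Γ] (H : Subgroup Γ) {A : Type*} [CommGroup A] (ϕ : H →* A) (g : Γ)

/-- The transfer is natural in the target group. -/
theorem transfer_comp_hom {B : Type*} [CommGroup B] (f : A →* B) :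
    MonoidHom.transfer (f.comp ϕ) g = f (MonoidHom.transfer ϕ g) := by
  haveI : Fintype (orbitRel.Quotient (zpowers g) (Γ ⧸ H)) := Fintype.ofFinite _
  rw [MonoidHom.transfer_eq_prod_quotient_orbitRel_zpowers_quot,
    MonoidHom.transfer_eq_prod_quotient_orbitRel_zpowers_quot, map_prod]
  rfl

/-- The transfer of the restriction of a homomorphism of the whole group is the power by the index. -/
theorem transfer_restrict (θ : Γ →* A) : MonoidHom.transfer (θ.comp H.subtype) g = θ g ^ H.index := by
  haveI : Fintype (orbitRel.Quotient (zpowers g) (Γ ⧸ H)) := Fintype.ofFinite _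
  rw [MonoidHom.transfer_eq_prod_quotient_orbitRel_zpowers_quot]
  have h1 : ∀ q : orbitRel.Quotient (zpowers g) (Γ ⧸ H),
      (θ.comp H.subtype) ⟨q.out.out⁻¹ * g ^ Function.minimalPeriod (g • ·) q.out * q.out.out,
        QuotientGroup.out_conj_pow_minimalPeriod_mem H g q.out⟩ =
        θ g ^ Function.minimalPeriod (g • ·) q.out := by
    intro q
    show θ (q.out.out⁻¹ * g ^ Function.minimalPeriod (g • ·) q.out * q.out.out) = _
    rw [map_mul, map_mul, map_inv, map_pow, mul_comm, mul_inv_cancel_left]
  rw [Finset.prod_congr rfl (fun q _ => h1 q), Finset.prod_pow_eq_pow_sum, ← index_eq_sum_minimalPeriod]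

theorem per_dvd_orderOf (q : orbitRel.Quotient (zpowers g) (Γ ⧸ H)) : per H g q ∣ orderOf g := by
  unfold per
  have h1 : Function.IsPeriodicPt (g • ·) (orderOf g) q.out := by
    show (g • ·)^[orderOf g] q.out = q.out
    rw [smul_iterate, pow_orderOf_eq_one]
    exact one_smul _ _
  exact h1.minimalPeriod_dvd

end General

section Fixed

variable {Γ : Type*} [Group Γ] [Finite Γ] (H : Subgroup Γ) {A : Type*} [CommGroup A] [Fintype A] (ϕ : H →* A) (g : Γ)

open Classical in
/-- If the conjugates of the proper powers of `g` lying in `H` are killed, the transfer is the product of the values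
at the conjugates of `g` itself, over the cosets fixed by `g`. -/
theorem transfer_eq_prod_fixed
    (hmin : ∀ (x : Γ) (n : ℕ), 1 < n → n ∣ orderOf g → ∀ h : x⁻¹ * g ^ n * x ∈ H, ϕ ⟨_, h⟩ = 1) :
    MonoidHom.transfer ϕ g = ∏ β : A, β ^ orbCount H ϕ g 1 β := by
  haveI : Fintype (orbitRel.Quotient (zpowers g) (Γ ⧸ H)) := Fintype.ofFinite _
  have hlab : ∀ q : orbitRel.Quotient (zpowers g) (Γ ⧸ H), per H g q ≠ 1 → lab H ϕ g q = 1 := by
    intro q hq
    have h1 : 1 < per H g q := by
      have := per_pos H g q
      omega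
    exact hmin q.out.out (per H g q) h1 (per_dvd_orderOf H g q) _
  rw [transfer_eq_prod_orbCount H ϕ g (Nat.card Γ) (per_le_card H g)]
  rw [Finset.prod_eq_single 1]
  · intro d _ hd
    apply Finset.prod_eq_one
    intro β _
    by_cases hβ : β = 1
    · rw [hβ, one_pow]
    · have : orbCount H ϕ g d β = 0 := by
        unfold orbCount
        rw [Nat.card_eq_zero]
        left
        constructor
        rintro ⟨q, h1, h2⟩
        exact hβ (h2 ▸ hlab q (h1 ▸ hd))
      rw [this, pow_zero]
  · intro h
    exfalso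
    apply h
    rw [Finset.mem_range]
    have : 0 < Nat.card Γ := Nat.card_pos
    omega

open Classical in
/-- The number of cosets fixed by `g` with a given value, through the elements conjugating `g` into `H`. -/
theorem card_mul_orbCount_one (β : A) :
    Nat.card H * orbCount H ϕ g 1 β = Nat.card {x : Γ // PrU H ϕ β (x⁻¹ * g * x)} := by
  haveI : Fintype (orbitRel.Quotient (zpowers g) (Γ ⧸ H)) := Fintype.ofFinite _
  have h1 := card_PrU_eq H ϕ g β 1 Nat.one_pos
  simp only [pow_one] at h1
  rw [h1, Nat.divisors_one, Finset.sum_singleton]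
  congr 1
  rw [Finset.sum_eq_single β]
  · simp
  · intro b _ hb
    rw [if_neg]
    simpa using hb
  · intro h; exact absurd (Finset.mem_univ _) h

end Fixed

section Cosets

variable {Γ : Type*} [Group Γ] [Finite Γ]

/-- Counting the elements with a property coset by coset. -/
theorem card_subtype_eq_sum_cosets (M : Subgroup Γ) [Fintype (Γ ⧸ M)] (Pr : Γ → Prop) :
    Nat.card {x : Γ // Pr x} = ∑ c : Γ ⧸ M, Nat.card {y : M // Pr (c.out * y)} := by
  rw [Nat.card_congr (Equiv.sigmaFiberEquiv (fun x : {x : Γ // Pr x} => ((x : Γ) : Γ ⧸ M))).symm, Nat.card_sigma]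
  apply Finset.sum_congr rfl
  intro c _
  refine Nat.card_congr ⟨fun x => ⟨⟨c.out⁻¹ * x.1.1, ?_⟩, ?_⟩, fun y => ⟨⟨c.out * y.1, y.2⟩, ?_⟩, ?_, ?_⟩
  · have h := x.2
    rw [← QuotientGroup.eq, QuotientGroup.out_eq']
    exact h.symm
  · show Pr (c.out * (c.out⁻¹ * x.1.1))
    rw [mul_inv_cancel_left]
    exact x.1.2
  · show ((c.out * (y.1 : Γ) : Γ) : Γ ⧸ M) = c
    have : ((c.out * (y.1 : Γ) : Γ) : Γ ⧸ M) = ((c.out : Γ) : Γ ⧸ M) := by
      rw [QuotientGroup.eq]
      have := M.inv_mem y.1.2
      convert this using 1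
      group
    rw [this, QuotientGroup.out_eq']
  · intro x
    apply Subtype.ext
    apply Subtype.ext
    show c.out * (c.out⁻¹ * x.1.1) = x.1.1
    rw [mul_inv_cancel_left]
  · intro y
    apply Subtype.ext
    apply Subtype.ext
    show c.out⁻¹ * (c.out * (y.1 : Γ)) = y.1
    rw [inv_mul_cancel_left]

end Cosets

end Cfsg.Agent.Helper88.TransferCount
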