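import Cfsg.Agent.Helper88.FTransfer2
import Cfsg.Agent.Helper88.TransferFix
import Cfsg.Agent.Lib.HW6
set_option autoImplicit false
set_option linter.style.haveILetI false

/-! # Tate's theorem, first part, through the transfer of a characteristic biset

For a saturated fusion system `F` over `S` and a subgroup `S' ≤ K ≤ foc(F)` which is not all of `foc(F)`, there is a
homomorphism of `S` onto a group of order `p` killing `K` but not `foc(F)`.  Equivalently `foc(F) ≤ Φ(S) K` forces
`K = foc(F)`. -/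

namespace Cfsg.Agent.Helper88.Biset

universe u

open Cfsg Cfsg.FusionSystem Cfsg.Agent.Helper87 Cfsg.Agent.Helper88.Marks Cfsg.Agent.Helper88.TransferCount

variable {Ω : Type u} [Group Ω] {S : Subgroup Ω}

/-- The transfer of a multiset is natural in the target group. -/
theorem bisetTransfer_comp_hom [Finite S] {A B : Type*} [CommGroup A] [CommGroup B] (m : Subgroup (↥S × ↥S) →₀ ℕ)
    (lam : ↥S →* A) (f : A →* B) (x : ↥S) :
    bisetTransfer m (f.comp lam) x = f (bisetTransfer m lam x) := by
  rw [bisetTransfer_apply, bisetTransfer_apply, map_prod]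
  apply Finset.prod_congr rfl
  intro D _
  rw [map_pow]
  congr 1
  have h : homOf (f.comp lam) D = f.comp (homOf lam D) := by
    unfold homOf
    by_cases hD : IsFunctional D
    · rw [dif_pos hD, dif_pos hD]
      rfl
    · rw [dif_neg hD, dif_neg hD]
      ext a
      simp
  rw [h]
  exact transfer_comp_hom (fstG D) (homOf lam D) x f

/-- A homomorphism of `S` to an abelian group which is constant on the classes of the system. -/
def IsStableHom (F : FusionSystem S) {A : Type*} [CommGroup A] (θ : ↥S →* A) : Prop :=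
  ∀ (P : Subgroup Ω) (φ : P →* Ω) (hφ : φ ∈ F.Hom P) (x : P),
    θ ⟨φ x, (F.le_of_mem hφ).2 x⟩ = θ ⟨x, (F.le_of_mem hφ).1 x.2⟩

theorem homOf_eq_restrict_of_stable (F : FusionSystem S) {A : Type*} [CommGroup A] (θ : ↥S →* A)
    (hθ : IsStableHom F θ) {D : Subgroup (↥S × ↥S)} (hD : TD F D) :
    homOf θ D = θ.comp (fstG D).subtype := by
  have hfun := hD.isFunctional
  rw [homOf_eq θ hfun]
  ext a
  show θ (sndHom D hfun a) = θ (a : ↥S)
  obtain ⟨a, ha⟩ := a
  obtain ⟨w, hw, hw1⟩ := Subgroup.mem_map.mp ha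
  have hw1' : w.1 = a := hw1
  have h3 := sndHom_apply hfun hw (fst_mem_fstG hw)
  have e : (⟨a, ha⟩ : fstG D) = ⟨w.1, fst_mem_fstG hw⟩ := Subtype.ext hw1'.symm
  rw [e, h3]
  show θ w.2 = θ w.1
  obtain ⟨P, Q, e', he', hDeq⟩ := hD
  rw [hDeq] at hw
  obtain ⟨a', ha1, ha2⟩ := hw
  have h4 := hθ P _ he' a'
  have h5 : w.2 = ⟨(Q.subtype.comp e'.toMonoidHom) a', (F.le_of_mem he').2 a'⟩ := Subtype.ext ha2
  have h6 : w.1 = ⟨a', (F.le_of_mem he').1 a'.2⟩ := Subtype.ext ha1
  rw [h5, h6]
  exact h4

/-- On a stable homomorphism the transfer of a multiset of twisted diagonals is the power map by the index. -/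
theorem bisetTransfer_of_stable [Finite S] {A : Type*} [CommGroup A] (F : FusionSystem S)
    (m : Subgroup (↥S × ↥S) →₀ ℕ) (hsupp : ∀ D ∈ m.support, TD F D)
    (θ : ↥S →* A) (hθ : IsStableHom F θ) (x : ↥S) :
    bisetTransfer m θ x = θ x ^ idx m := by
  rw [bisetTransfer_apply]
  unfold idx Finsupp.sum
  rw [← Finset.prod_pow_eq_pow_sum]
  apply Finset.prod_congr rfl
  intro D hD
  have hTD := hsupp D hD
  have hfun := hTD.isFunctional
  rw [homOf_eq_restrict_of_stable F θ hθ hTD, transfer_restrict]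
  have hidx : (fstG D).index = Nat.card S / Nat.card D := by
    have h1 := Subgroup.card_mul_index (fstG D)
    rw [card_fstG hfun] at h1
    rw [← h1, Nat.mul_div_cancel_left _ Nat.card_pos]
  rw [hidx, ← pow_mul, mul_comm]

/-- The quotient of the abelianization by the image of a subgroup containing the commutator subgroup: its kernel. -/
theorem quot_of_eq_one_iff {G : Type*} [Group G] (N : Subgroup G) (hN : commutator G ≤ N) (x : G) :
    ((QuotientGroup.mk' (N.map Abelianization.of)).comp Abelianization.of) x = 1 ↔ x ∈ N := by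
  show QuotientGroup.mk' (N.map Abelianization.of) (Abelianization.of x) = 1 ↔ _
  rw [QuotientGroup.mk'_apply, QuotientGroup.eq_one_iff]
  constructor
  · rintro ⟨k, hk, hkx⟩
    have h1 : k⁻¹ * x ∈ (Abelianization.of (G := G)).ker := by
      rw [MonoidHom.mem_ker, map_mul, map_inv, hkx, inv_mul_cancel]
    rw [Abelianization.ker_of] at h1
    have := N.mul_mem hk (hN h1)
    rwa [mul_inv_cancel_left] at this
  · intro hx
    exact ⟨x, hx, rfl⟩

theorem quot_of_surjective {G : Type*} [Group G] (N : Subgroup G) :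
    Function.Surjective ((QuotientGroup.mk' (N.map Abelianization.of)).comp Abelianization.of) := by
  intro b
  obtain ⟨a, rfl⟩ := QuotientGroup.mk'_surjective _ b
  obtain ⟨x, rfl⟩ := QuotientGroup.mk'_surjective (commutator G) a
  exact ⟨x, rfl⟩


/-- The quotient map of `S` by the focal subgroup (through the abelianization) is stable. -/
theorem isStableHom_of_focal_le (F : FusionSystem S) {A : Type*} [CommGroup A] (θ : ↥S →* A)
    (h : F.focalSubgroup.subgroupOf S ≤ θ.ker) : IsStableHom F θ := by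
  intro P φ hφ x
  have hmem : (⟨x, (F.le_of_mem hφ).1 x.2⟩ : ↥S)⁻¹ * ⟨φ x, (F.le_of_mem hφ).2 x⟩ ∈ F.focalSubgroup.subgroupOf S := by
    rw [Subgroup.mem_subgroupOf]
    apply Subgroup.subset_closure
    exact ⟨P, φ, x, hφ, rfl⟩
  have := h hmem
  rw [MonoidHom.mem_ker, map_mul, map_inv, inv_mul_eq_one] at this
  exact this.symm

/-- **Tate's theorem, first part.**  If `S' ≤ K ≤ foc(F)` and `K ≠ foc(F)` for a saturated fusion system `F` over `S`, then some
homomorphism of `S` onto a group of order `p` kills `K` and does not kill `foc(F)`. -/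
theorem exists_hom_of_focal_not_le [Finite S] {p : ℕ} [hp : Fact p.Prime] (hS : IsPGroup p S) (F : FusionSystem S)
    (hF : F.IsSaturated p) (K : Subgroup ↥S) (hK1 : commutator ↥S ≤ K) (hK2 : K ≤ F.focalSubgroup.subgroupOf S)
    (hne : ¬ F.focalSubgroup.subgroupOf S ≤ K) :
    ∃ (A : Type u) (_ : CommGroup A) (lam : ↥S →* A), Nat.card A = p ∧ K ≤ lam.ker ∧
      ∃ y ∈ F.focalSubgroup.subgroupOf S, lam y ≠ 1 := by
  set Φ : Subgroup ↥S := F.focalSubgroup.subgroupOf S with hΦ
  have hΦ1 : commutator ↥S ≤ Φ := hK1.trans hK2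
  set Kb : Subgroup (Abelianization ↥S) := K.map Abelianization.of with hKb
  set q : ↥S →* (Abelianization ↥S ⧸ Kb) := (QuotientGroup.mk' Kb).comp Abelianization.of with hq
  have hq1 : ∀ x : ↥S, q x = 1 ↔ x ∈ K := quot_of_eq_one_iff K hK1
  have hqs : Function.Surjective q := quot_of_surjective K
  have hBp : IsPGroup p (Abelianization ↥S ⧸ Kb) := hS.of_surjective q hqs
  set C : Subgroup (Abelianization ↥S ⧸ Kb) := Φ.map q with hC
  by_cases hCfr : C ≤ frattini (Abelianization ↥S ⧸ Kb)
  · -- the Frattini case is impossible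
    exfalso
    apply hne
    obtain ⟨m, hsupp, hstab, hidx⟩ := exists_char_biset hS F hF
    set μ : ↥S →* (Abelianization ↥S ⧸ Kb) := bisetTransfer m q with hμ
    have hμfoc : ∀ y ∈ Φ, μ y = 1 := by
      intro y hy
      exact bisetTransfer_focal F m hsupp hstab q (y : Ω) (Subgroup.mem_subgroupOf.mp hy)
    set Φb : Subgroup (Abelianization ↥S) := Φ.map Abelianization.of with hΦb
    set θ : ↥S →* (Abelianization ↥S ⧸ Φb) := (QuotientGroup.mk' Φb).comp Abelianization.of with hθ
    have hθ1 : ∀ x : ↥S, θ x = 1 ↔ x ∈ Φ := quot_of_eq_one_iff Φ hΦ1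
    have hθs : Function.Surjective θ := quot_of_surjective Φ
    have hKΦb : Kb ≤ Φb.comap (MonoidHom.id (Abelianization ↥S)) := by
      rintro _ ⟨k, hk, rfl⟩
      exact ⟨k, hK2 hk, rfl⟩
    set π : (Abelianization ↥S ⧸ Kb) →* (Abelianization ↥S ⧸ Φb) :=
      QuotientGroup.map Kb Φb (MonoidHom.id (Abelianization ↥S)) hKΦb with hπ
    have hπq : π.comp q = θ := by
      ext x
      rfl
    have hθstab : IsStableHom F θ := by
      apply isStableHom_of_focal_le
      intro y hy
      exact (hθ1 y).mpr hy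
    have hπμ : ∀ x : ↥S, π (μ x) = θ x ^ idx m := by
      intro x
      rw [hμ, ← bisetTransfer_comp_hom, hπq, bisetTransfer_of_stable F m hsupp θ hθstab]
    -- the kernel of `π`
    have hkerπ : ∀ b, π b = 1 → b ∈ C := by
      intro b hb
      obtain ⟨x, rfl⟩ := hqs b
      have : θ x = 1 := by rw [← hπq]; exact hb
      exact ⟨x, (hθ1 x).mp this, rfl⟩
    -- the target of `θ` is a `p`-group, so the power map by `idx m` is bijective on it
    have hA0p : IsPGroup p (Abelianization ↥S ⧸ Φb) := hS.of_surjective θ hθs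
    obtain ⟨e, he⟩ := IsPGroup.iff_card.mp hA0p
    have hcop : (Nat.card (Abelianization ↥S ⧸ Φb)).Coprime (idx m) := by
      rw [he]
      exact Nat.Coprime.pow_left _ ((Nat.Prime.coprime_iff_not_dvd hp.1).mpr hidx)
    have hpowinj : ∀ a : Abelianization ↥S ⧸ Φb, a ^ idx m = 1 → a = 1 := by
      intro a ha
      apply (powCoprime hcop).injective
      show a ^ idx m = 1 ^ idx m
      rw [ha, one_pow]
    -- the range of `μ` with `C` generates, hence the range is everything
    have hgen : μ.range ⊔ C = ⊤ := by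
      rw [eq_top_iff]
      intro b _
      obtain ⟨a, ha⟩ := (powCoprime hcop).surjective (π b)
      have ha' : a ^ idx m = π b := ha
      obtain ⟨s, rfl⟩ := hθs a
      have h1 : π (b * (μ s)⁻¹) = 1 := by
        rw [map_mul, map_inv, hπμ, ha', mul_inv_cancel]
      have h2 := hkerπ _ h1
      have h3 : b = μ s * (b * (μ s)⁻¹) := by
        rw [mul_comm b, mul_inv_cancel_left]
      rw [h3]
      exact Subgroup.mul_mem _ (Subgroup.mem_sup_left ⟨s, rfl⟩) (Subgroup.mem_sup_right h2)
    have hrange : μ.range = ⊤ := by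
      apply frattini_nongenerating
      rw [eq_top_iff, ← hgen]
      exact sup_le_sup_left hCfr _
    intro y hy
    have hqy : q y ∈ μ.range := by rw [hrange]; trivial
    obtain ⟨s, hs⟩ := hqy
    have h1 : θ y = 1 := (hθ1 y).mpr hy
    have h2 : θ s ^ idx m = 1 := by
      rw [← hπμ, hs]
      show (π.comp q) y = 1
      rw [hπq, h1]
    have h3 : s ∈ Φ := (hθ1 s).mp (hpowinj _ h2)
    have h4 : q y = 1 := by rw [← hs]; exact hμfoc s h3
    exact (hq1 y).mp h4
  · -- a maximal subgroup not containing the image of the focal subgroup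
    obtain ⟨c, hcC, hcfr⟩ := Set.not_subset.mp hCfr
    have hex : ∃ Mb : Subgroup (Abelianization ↥S ⧸ Kb), IsCoatom Mb ∧ c ∉ Mb := by
      by_contra h
      apply hcfr
      apply Cfsg.Agent.Lib.HW.mem_frattini_of_forall_coatom
      intro Mb hMb
      by_contra hc
      exact h ⟨Mb, hMb, hc⟩
    obtain ⟨Mb, hMb, hcMb⟩ := hex
    obtain ⟨hn, hidx⟩ := Cfsg.Agent.Lib.HW.coatom_pgroup hBp Mb hMb
    refine ⟨(Abelianization ↥S ⧸ Kb) ⧸ Mb, inferInstance, (QuotientGroup.mk' Mb).comp q, ?_, ?_, ?_⟩
    · rw [← Subgroup.index_eq_card, hidx]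
    · intro x hx
      rw [MonoidHom.mem_ker]
      show QuotientGroup.mk' Mb (q x) = 1
      rw [(hq1 x).mpr hx, map_one]
    · obtain ⟨y, hy, rfl⟩ := hcC
      refine ⟨y, hy, ?_⟩
      intro h
      apply hcMb
      have : QuotientGroup.mk' Mb (q y) = 1 := h
      rwa [QuotientGroup.mk'_apply, QuotientGroup.eq_one_iff] at this

end Cfsg.Agent.Helper88.Biset
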