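import Mathlib
set_option autoImplicit false
set_option linter.style.haveILetI false

/-! # Marks (numbers of fixed points) of finite `G`-sets

`fixCard X K` is the number of points of the `G`-set `X` fixed by the subgroup `K`.  We prove the divisibility
coming from the orbit counting lemma, and compute the marks of transitive `G`-sets `G ⧸ D`. -/

namespace Cfsg.Agent.Helper88.Marks

open MulAction

variable {G : Type*} [Group G]

/-- The conjugate `g K g⁻¹` of a subgroup. -/
def cj (g : G) (K : Subgroup G) : Subgroup G := K.map (MulAut.conj g).toMonoidHom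

theorem mem_cj {g : G} {K : Subgroup G} {x : G} : x ∈ cj g K ↔ g⁻¹ * x * g ∈ K := by
  unfold cj
  constructor
  · rintro ⟨k, hk, rfl⟩
    have : g⁻¹ * (MulAut.conj g).toMonoidHom k * g = k := by
      simp [MulAut.conj_apply, mul_assoc]
    rw [this]; exact hk
  · intro h
    refine ⟨g⁻¹ * x * g, h, ?_⟩
    simp [MulAut.conj_apply, mul_assoc]

theorem cj_one (K : Subgroup G) : cj 1 K = K := by
  ext x; rw [mem_cj]; simp

theorem cj_mul (g h : G) (K : Subgroup G) : cj (g * h) K = cj g (cj h K) := by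
  ext x; simp only [mem_cj, mul_inv_rev]
  constructor <;> intro hx <;> convert hx using 1 <;> group

theorem cj_inv_cj (g : G) (K : Subgroup G) : cj g⁻¹ (cj g K) = K := by
  rw [← cj_mul, inv_mul_cancel, cj_one]

theorem cj_cj_inv (g : G) (K : Subgroup G) : cj g (cj g⁻¹ K) = K := by
  rw [← cj_mul, mul_inv_cancel, cj_one]

theorem card_cj [Finite G] (g : G) (K : Subgroup G) : Nat.card (cj g K) = Nat.card K := by
  unfold cj
  exact Nat.card_congr (K.equivMapOfInjective _ (MulAut.conj g).injective).symm.toEquiv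

theorem cj_le_cj {g : G} {K L : Subgroup G} (h : K ≤ L) : cj g K ≤ cj g L :=
  Subgroup.map_mono h

theorem cj_eq_self_of_mem_normalizer {g : G} {K : Subgroup G} (hg : g ∈ Subgroup.normalizer (K : Set G)) :
    cj g K = K := by
  ext x
  rw [mem_cj]
  exact ((Subgroup.mem_normalizer_iff''.mp hg) x).symm

theorem mem_normalizer_of_cj_eq_self {g : G} {K : Subgroup G} (h : cj g K = K) :
    g ∈ Subgroup.normalizer (K : Set G) := by
  rw [Subgroup.mem_normalizer_iff'']
  intro x
  rw [← mem_cj, h]

/-- The number of points of the `G`-set `X` fixed by the subgroup `K`. -/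
noncomputable def fixCard (X : Type*) [MulAction G X] (K : Subgroup G) : ℕ :=
  Nat.card (fixedPoints K X)

theorem mem_fixedPoints_sup_zpowers {X : Type*} [MulAction G X] (D : Subgroup G) (g : G) (x : X) :
    x ∈ fixedPoints (↥(D ⊔ Subgroup.zpowers g)) X ↔ x ∈ fixedPoints D X ∧ g • x = x := by
  constructor
  · intro h
    refine ⟨fun d => h ⟨d.1, le_sup_left (a := D) d.2⟩, ?_⟩
    exact h ⟨g, (le_sup_right : Subgroup.zpowers g ≤ D ⊔ Subgroup.zpowers g) (Subgroup.mem_zpowers g)⟩
  · rintro ⟨h1, h2⟩ ⟨k, hk⟩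
    have hle : D ⊔ Subgroup.zpowers g ≤ stabilizer G x := by
      apply sup_le
      · intro d hd
        exact h1 ⟨d, hd⟩
      · rw [Subgroup.zpowers_le]
        exact h2
    exact hle hk

/-- Conjugating the subgroup does not change the number of fixed points. -/
theorem fixCard_cj (X : Type*) [MulAction G X] (g : G) (K : Subgroup G) :
    fixCard X (cj g K) = fixCard X K := by
  unfold fixCard
  refine Nat.card_congr ⟨fun x => ⟨g⁻¹ • x.1, ?_⟩, fun x => ⟨g • x.1, ?_⟩, ?_, ?_⟩
  · rintro ⟨k, hk⟩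
    have h := x.2 ⟨g * k * g⁻¹, by rw [mem_cj]; simpa [mul_assoc] using hk⟩
    show k • g⁻¹ • x.1 = g⁻¹ • x.1
    have h' : (g * k * g⁻¹) • x.1 = x.1 := h
    calc k • g⁻¹ • x.1 = g⁻¹ • ((g * k * g⁻¹) • x.1) := by simp [smul_smul, mul_assoc]
      _ = g⁻¹ • x.1 := by rw [h']
  · rintro ⟨k, hk⟩
    have hk' : g⁻¹ * k * g ∈ K := mem_cj.mp hk
    have h := x.2 ⟨g⁻¹ * k * g, hk'⟩
    show k • g • x.1 = g • x.1
    have h' : (g⁻¹ * k * g) • x.1 = x.1 := h
    calc k • g • x.1 = g • ((g⁻¹ * k * g) • x.1) := by simp [smul_smul, mul_assoc]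
      _ = g • x.1 := by rw [h']
  · intro x; apply Subtype.ext; simp
  · intro x; apply Subtype.ext; simp

/-- **Orbit counting divisibility.** Let the finite group `N` act on the `G`-set `X` through `θ : N →* G`, with `θ(N)`
normalizing `D`.  Then `|N|` divides `∑_{n ∈ N} |X^{⟨D, θ n⟩}|`. -/
theorem card_dvd_sum_fixCard {N : Type*} [Group N] [Fintype N] (θ : N →* G) (X : Type*) [MulAction G X] [Finite X]
    (D : Subgroup G) (hθ : ∀ n, θ n ∈ Subgroup.normalizer (D : Set G)) :
    Fintype.card N ∣ ∑ n : N, fixCard X (D ⊔ Subgroup.zpowers (θ n)) := by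
  classical
  have hmem : ∀ (n : N) (y : fixedPoints D X), θ n • y.1 ∈ fixedPoints D X := by
    intro n y d
    have hd : (θ n)⁻¹ * d.1 * θ n ∈ D := ((Subgroup.mem_normalizer_iff''.mp (hθ n)) d.1).mp d.2
    have h := y.2 ⟨_, hd⟩
    have h' : ((θ n)⁻¹ * d.1 * θ n) • y.1 = y.1 := h
    show d.1 • θ n • y.1 = θ n • y.1
    calc d.1 • θ n • y.1 = θ n • (((θ n)⁻¹ * d.1 * θ n) • y.1) := by simp [smul_smul, mul_assoc]
      _ = θ n • y.1 := by rw [h']
  letI act : MulAction N (fixedPoints D X) :=
    { smul := fun n y => ⟨θ n • y.1, hmem n y⟩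
      one_smul := fun y => Subtype.ext (by show θ 1 • y.1 = y.1; simp)
      mul_smul := fun a b y => Subtype.ext (by show θ (a * b) • y.1 = θ a • θ b • y.1; simp [mul_smul]) }
  have hsmul : ∀ (n : N) (y : fixedPoints D X), ((n • y : fixedPoints D X) : X) = θ n • y.1 := fun _ _ => rfl
  haveI : Fintype (fixedPoints D X) := Fintype.ofFinite _
  haveI : ∀ n : N, Fintype (fixedBy (fixedPoints D X) n) := fun n => Fintype.ofFinite _
  haveI : Fintype (Quotient (orbitRel N (fixedPoints D X))) := Fintype.ofFinite _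
  have hB := sum_card_fixedBy_eq_card_orbits_mul_card_group N (fixedPoints D X)
  have hterm : ∀ n : N, Fintype.card (fixedBy (fixedPoints D X) n) = fixCard X (D ⊔ Subgroup.zpowers (θ n)) := by
    intro n
    unfold fixCard
    rw [← Nat.card_eq_fintype_card]
    refine Nat.card_congr ⟨fun y => ⟨y.1.1, ?_⟩, fun x => ⟨⟨x.1, ?_⟩, ?_⟩, ?_, ?_⟩
    · rw [mem_fixedPoints_sup_zpowers]
      refine ⟨y.1.2, ?_⟩
      have := y.2
      rw [mem_fixedBy] at this
      have h2 := congrArg Subtype.val this
      rwa [hsmul] at h2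
    · exact ((mem_fixedPoints_sup_zpowers D (θ n) x.1).mp x.2).1
    · rw [mem_fixedBy]
      apply Subtype.ext
      rw [hsmul]
      exact ((mem_fixedPoints_sup_zpowers D (θ n) x.1).mp x.2).2
    · intro y; rfl
    · intro x; rfl
  rw [← Finset.sum_congr rfl (fun n _ => hterm n), hB]
  exact dvd_mul_left _ _

section Quotient

variable (D' : Subgroup G)

theorem mk_mem_fixedPoints_iff (K : Subgroup G) (g : G) :
    ((g : G) : G ⧸ D') ∈ fixedPoints K (G ⧸ D') ↔ ∀ k ∈ K, g⁻¹ * k * g ∈ D' := by
  constructor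
  · intro h k hk
    have h1 : (⟨k, hk⟩ : K) • ((g : G) : G ⧸ D') = (g : G ⧸ D') := h ⟨k, hk⟩
    have h2 : ((k * g : G) : G ⧸ D') = (g : G ⧸ D') := h1
    have h3 := QuotientGroup.eq.mp h2
    have h4 : (g⁻¹ * k * g)⁻¹ ∈ D' := by
      convert h3 using 1; group
    exact D'.inv_mem_iff.mp h4
  · rintro h ⟨k, hk⟩
    show ((k * g : G) : G ⧸ D') = (g : G ⧸ D')
    rw [QuotientGroup.eq]
    have h4 := D'.inv_mem (h k hk)
    convert h4 using 1; group

theorem mk_mem_fixedPoints_iff_cj (K : Subgroup G) (g : G) :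
    ((g : G) : G ⧸ D') ∈ fixedPoints K (G ⧸ D') ↔ K ≤ cj g D' := by
  rw [mk_mem_fixedPoints_iff]
  constructor
  · intro h k hk
    rw [mem_cj]; exact h k hk
  · intro h k hk
    exact mem_cj.mp (h hk)

/-- No fixed points when the acting subgroup is larger than the isotropy group. -/
theorem fixCard_quotient_eq_zero_of_card_lt [Finite G] (K : Subgroup G) (h : Nat.card D' < Nat.card K) :
    fixCard (G ⧸ D') K = 0 := by
  unfold fixCard
  rw [Nat.card_eq_zero]
  left
  constructor
  rintro ⟨x, hx⟩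
  obtain ⟨g, rfl⟩ := QuotientGroup.mk_surjective x
  have hx := (mk_mem_fixedPoints_iff_cj D' K g).mp hx
  have := Subgroup.card_le_of_le hx
  rw [card_cj] at this
  omega

/-- No fixed points when the acting subgroup is not conjugate into the isotropy group. -/
theorem fixCard_quotient_eq_zero_of_not_le (K : Subgroup G) (h : ∀ g : G, ¬ K ≤ cj g D') :
    fixCard (G ⧸ D') K = 0 := by
  unfold fixCard
  rw [Nat.card_eq_zero]
  left
  constructor
  rintro ⟨x, hx⟩
  obtain ⟨g, rfl⟩ := QuotientGroup.mk_surjective x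
  exact h g ((mk_mem_fixedPoints_iff_cj D' K g).mp hx)

/-- The weight `|N_G(D) : D|`. -/
noncomputable def wt (D : Subgroup G) : ℕ := Nat.card (Subgroup.normalizer (D : Set G)) / Nat.card D

theorem card_dvd_card_normalizer [Finite G] (D : Subgroup G) :
    Nat.card D ∣ Nat.card (Subgroup.normalizer (D : Set G)) :=
  Subgroup.card_dvd_of_le Subgroup.le_normalizer

theorem wt_mul_card [Finite G] (D : Subgroup G) :
    wt D * Nat.card D = Nat.card (Subgroup.normalizer (D : Set G)) :=
  Nat.div_mul_cancel (card_dvd_card_normalizer D)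

theorem wt_pos [Finite G] (D : Subgroup G) : 0 < wt D := by
  have h := wt_mul_card D
  have hN : 0 < Nat.card (Subgroup.normalizer (D : Set G)) := Nat.card_pos
  rcases Nat.eq_zero_or_pos (wt D) with h0 | h0
  · rw [h0, zero_mul] at h; omega
  · exact h0

theorem normalizer_cj (g : G) (D : Subgroup G) :
    Subgroup.normalizer ((cj g D : Subgroup G) : Set G) = cj g (Subgroup.normalizer (D : Set G)) := by
  ext x
  rw [mem_cj, Subgroup.mem_normalizer_iff, Subgroup.mem_normalizer_iff]
  constructor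
  · intro h y
    have := h (g * y * g⁻¹)
    rw [mem_cj, mem_cj] at this
    have e1 : g⁻¹ * (g * y * g⁻¹) * g = y := by group
    have e2 : g⁻¹ * (x * (g * y * g⁻¹) * x⁻¹) * g = g⁻¹ * x * g * y * (g⁻¹ * x * g)⁻¹ := by group
    rw [e1, e2] at this
    exact this
  · intro h y
    rw [mem_cj, mem_cj]
    have := h (g⁻¹ * y * g)
    have e2 : g⁻¹ * x * g * (g⁻¹ * y * g) * (g⁻¹ * x * g)⁻¹ = g⁻¹ * (x * y * x⁻¹) * g := by group
    rw [e2] at this
    exact this

theorem wt_cj [Finite G] (g : G) (D : Subgroup G) : wt (cj g D) = wt D := by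
  unfold wt
  rw [normalizer_cj, card_cj, card_cj]

/-- The marks of `G ⧸ D'` at a subgroup of the same order conjugate to `D'`. -/
theorem fixCard_quotient_cj [Finite G] (g₀ : G) : fixCard (G ⧸ D') (cj g₀ D') = wt D' := by
  classical
  rw [fixCard_cj]
  unfold fixCard
  -- fixed points of `D'` on `G ⧸ D'` are the cosets `n D'` with `n ∈ N_G(D')`
  set F : Set (G ⧸ D') := fixedPoints D' (G ⧸ D') with hF
  have hpre : (QuotientGroup.mk ⁻¹' F : Set G) = (Subgroup.normalizer (D' : Set G) : Set G) := by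
    ext g
    rw [Set.mem_preimage, hF, mk_mem_fixedPoints_iff_cj]
    constructor
    · intro h
      have hcard : Nat.card (cj g D') = Nat.card D' := card_cj g D'
      have heq : D' = cj g D' := Subgroup.eq_of_le_of_card_ge h (le_of_eq hcard)
      exact mem_normalizer_of_cj_eq_self heq.symm
    · intro h
      rw [cj_eq_self_of_mem_normalizer h]
  have e := QuotientGroup.preimageMkEquivSubgroupProdSet D' F
  have h1 : Nat.card (QuotientGroup.mk ⁻¹' F : Set G) = Nat.card D' * Nat.card F := by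
    rw [Nat.card_congr e, Nat.card_prod]
  have h2 : Nat.card (QuotientGroup.mk ⁻¹' F : Set G) = Nat.card (Subgroup.normalizer (D' : Set G)) := by
    rw [hpre]; rfl
  unfold wt
  rw [← h2, h1]
  have hpos : 0 < Nat.card D' := Nat.card_pos
  rw [Nat.mul_div_cancel_left _ hpos]
  rfl

/-- The marks of `G ⧸ D'` at a subgroup of the same order: `|N_G(D') : D'|` if conjugate to `D'`, zero otherwise. -/
theorem fixCard_quotient_of_card_eq [Finite G] (K : Subgroup G) (h : Nat.card K = Nat.card D') :
    (∀ g : G, K ≠ cj g D') → fixCard (G ⧸ D') K = 0 := by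
  intro hne
  apply fixCard_quotient_eq_zero_of_not_le
  intro g hle
  apply hne g
  exact Subgroup.eq_of_le_of_card_ge hle (by rw [card_cj, h])

end Quotient

end Cfsg.Agent.Helper88.Marks
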