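-- Root elements of `SL₂(p)` as permutations of `ZMod p × ZMod p` and the torus as a product of them (helper88).
import Mathlib

set_option autoImplicit false

namespace Cfsg.Agent.Helper88.AltM

open Equiv

variable {p : ℕ} [Fact p.Prime]

/-- `(i, a) ↦ (i, a + t i)` -/
def uU (t : ZMod p) : Perm (ZMod p × ZMod p) where
  toFun q := (q.1, q.2 + t * q.1)
  invFun q := (q.1, q.2 - t * q.1)
  left_inv q := by ext <;> simp
  right_inv q := by ext <;> simp

/-- `(i, a) ↦ (i + t a, a)` -/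
def uV (t : ZMod p) : Perm (ZMod p × ZMod p) where
  toFun q := (q.1 + t * q.2, q.2)
  invFun q := (q.1 - t * q.2, q.2)
  left_inv q := by ext <;> simp
  right_inv q := by ext <;> simp

/-- `(i, a) ↦ (-a, i)` -/
def uW (p : ℕ) [Fact p.Prime] : Perm (ZMod p × ZMod p) where
  toFun q := (-q.2, q.1)
  invFun q := (q.2, -q.1)
  left_inv q := by ext <;> simp
  right_inv q := by ext <;> simp

/-- `(i, a) ↦ (u⁻¹ i, u a)` -/
def uD (u : (ZMod p)ˣ) : Perm (ZMod p × ZMod p) where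
  toFun q := (((u⁻¹ : (ZMod p)ˣ) : ZMod p) * q.1, (u : ZMod p) * q.2)
  invFun q := ((u : ZMod p) * q.1, ((u⁻¹ : (ZMod p)ˣ) : ZMod p) * q.2)
  left_inv q := by
    apply Prod.ext
    · show (u : ZMod p) * (((u⁻¹ : (ZMod p)ˣ) : ZMod p) * q.1) = q.1
      rw [← mul_assoc, ← Units.val_mul, mul_inv_cancel, Units.val_one, one_mul]
    · show ((u⁻¹ : (ZMod p)ˣ) : ZMod p) * ((u : ZMod p) * q.2) = q.2
      rw [← mul_assoc, ← Units.val_mul, inv_mul_cancel, Units.val_one, one_mul]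
  right_inv q := by
    apply Prod.ext
    · show ((u⁻¹ : (ZMod p)ˣ) : ZMod p) * ((u : ZMod p) * q.1) = q.1
      rw [← mul_assoc, ← Units.val_mul, inv_mul_cancel, Units.val_one, one_mul]
    · show (u : ZMod p) * (((u⁻¹ : (ZMod p)ˣ) : ZMod p) * q.2) = q.2
      rw [← mul_assoc, ← Units.val_mul, mul_inv_cancel, Units.val_one, one_mul]

/-- translation by `v` -/
def uT (v : ZMod p × ZMod p) : Perm (ZMod p × ZMod p) := Equiv.addRight v

@[simp] theorem uU_apply (t : ZMod p) (q : ZMod p × ZMod p) : uU t q = (q.1, q.2 + t * q.1) := rfl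
@[simp] theorem uV_apply (t : ZMod p) (q : ZMod p × ZMod p) : uV t q = (q.1 + t * q.2, q.2) := rfl
@[simp] theorem uW_apply (q : ZMod p × ZMod p) : uW p q = (-q.2, q.1) := rfl
@[simp] theorem uD_apply (u : (ZMod p)ˣ) (q : ZMod p × ZMod p) :
    uD u q = (((u⁻¹ : (ZMod p)ˣ) : ZMod p) * q.1, (u : ZMod p) * q.2) := rfl
@[simp] theorem uT_apply (v q : ZMod p × ZMod p) : uT v q = q + v := rfl

theorem uU_add (s t : ZMod p) : uU (s + t) = uU s * uU t := by
  ext q <;> simp [Perm.mul_apply]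
  ring

theorem uU_zero : uU (0 : ZMod p) = 1 := by
  ext q <;> simp

theorem uU_pow (t : ZMod p) (k : ℕ) : uU t ^ k = uU (k • t) := by
  induction k with
  | zero => rw [pow_zero, zero_smul, uU_zero]
  | succ k ih => rw [pow_succ, ih, ← uU_add, succ_nsmul]

theorem uU_pow_p (t : ZMod p) : uU t ^ p = 1 := by
  rw [uU_pow]
  have : p • t = 0 := by simp
  rw [this, uU_zero]

theorem uV_add (s t : ZMod p) : uV (s + t) = uV s * uV t := by
  ext q <;> simp [Perm.mul_apply]
  ring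

theorem uV_zero : uV (0 : ZMod p) = 1 := by
  ext q <;> simp

theorem uV_pow (t : ZMod p) (k : ℕ) : uV t ^ k = uV (k • t) := by
  induction k with
  | zero => rw [pow_zero, zero_smul, uV_zero]
  | succ k ih => rw [pow_succ, ih, ← uV_add, succ_nsmul]

theorem uV_pow_p (t : ZMod p) : uV t ^ p = 1 := by
  rw [uV_pow]
  have : p • t = 0 := by simp
  rw [this, uV_zero]

theorem uW_eq : uW p = uV (-1) * uU 1 * uV (-1) := by
  ext q <;> simp [Perm.mul_apply]

theorem uV_eq_conj (t : ZMod p) : uV t = uW p * uU (-t) * (uW p)⁻¹ := by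
  rw [eq_mul_inv_iff_mul_eq]
  ext q <;> simp [Perm.mul_apply] <;> ring

theorem uD_eq (u : (ZMod p)ˣ) :
    uD u = uV ((u⁻¹ : (ZMod p)ˣ) : ZMod p) * uU (-(u : ZMod p)) * uV ((u⁻¹ : (ZMod p)ˣ) : ZMod p) *
      (uV (-1) * uU 1 * uV (-1)) := by
  have h1 : ((u⁻¹ : (ZMod p)ˣ) : ZMod p) * (u : ZMod p) = 1 := by
    rw [← Units.val_mul, inv_mul_cancel, Units.val_one]
  ext q
  · simp only [Perm.mul_apply, uD_apply, uV_apply, uU_apply]
    linear_combination (((u⁻¹ : (ZMod p)ˣ) : ZMod p) * q.1 - q.2) * h1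
  · simp only [Perm.mul_apply, uD_apply, uV_apply, uU_apply]
    linear_combination q.1 * h1

theorem uD_mul (u v : (ZMod p)ˣ) : uD (u * v) = uD u * uD v := by
  ext q
  · simp only [Perm.mul_apply, uD_apply, mul_inv_rev, Units.val_mul]
    ring
  · simp only [Perm.mul_apply, uD_apply, Units.val_mul]
    ring

theorem uD_one : uD (1 : (ZMod p)ˣ) = 1 := by
  ext q <;> simp

/-- the torus as a homomorphism -/
def uDhom : (ZMod p)ˣ →* Perm (ZMod p × ZMod p) where
  toFun := uD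
  map_one' := uD_one
  map_mul' := uD_mul

theorem uW_conj_uT (v : ZMod p × ZMod p) : uW p * uT v * (uW p)⁻¹ = uT (-v.2, v.1) := by
  rw [mul_inv_eq_iff_eq_mul]
  ext q <;> simp [Perm.mul_apply] <;> ring

end Cfsg.Agent.Helper88.AltM
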