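-- Two-level wreath model: the action of `Perm (ZMod p × ZMod p)` on chosen `p²`-blocks, and the abelian
-- subgroup `R_O` (regular `C_p²` on the chosen `p²`-blocks times the base group elsewhere) (helper88).
import Cfsg.Agent.Helper88.AltModel
import Cfsg.Agent.Helper88.AltSL2

set_option autoImplicit false
set_option linter.unusedSectionVars false

namespace Cfsg.Agent.Helper88.AltM

open Equiv Cfsg.Agent.Helper42

variable {β' ρ' ρ : Type*} [Fintype β'] [DecidableEq β'] [Fintype ρ'] [DecidableEq ρ'] [Fintype ρ] [DecidableEq ρ]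
  {p : ℕ} [Fact p.Prime]

/-- The points of the two-level model. -/
abbrev Pt2 (β' ρ' ρ : Type*) (p : ℕ) := Pt (Pt β' ρ' p) ρ p

/-- a family of permutations of `ZMod p × ZMod p` acting on the `p²`-blocks -/
def extF (ρ' ρ : Type*) (G : β' → Perm (ZMod p × ZMod p)) : Pt2 β' ρ' ρ p → Pt2 β' ρ' ρ p
  | Sum.inl (Sum.inl (j, i), a) => Sum.inl (Sum.inl (j, (G j (i, a)).1), (G j (i, a)).2)
  | Sum.inl (Sum.inr z', a) => Sum.inl (Sum.inr z', a)
  | Sum.inr z => Sum.inr z

theorem extF_extF (G H : β' → Perm (ZMod p × ZMod p)) (x : Pt2 β' ρ' ρ p) :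
    extF ρ' ρ G (extF ρ' ρ H x) = extF ρ' ρ (G * H) x := by
  rcases x with ⟨⟨j, i⟩ | z', a⟩ | z
  · simp [extF]
  · rfl
  · rfl

theorem extF_one (x : Pt2 β' ρ' ρ p) : extF ρ' ρ (1 : β' → Perm (ZMod p × ZMod p)) x = x := by
  rcases x with ⟨⟨j, i⟩ | z', a⟩ | z <;> rfl

/-- the action on the `p²`-blocks as a homomorphism -/
def Ext : (β' → Perm (ZMod p × ZMod p)) →* Perm (Pt2 β' ρ' ρ p) where
  toFun G :=
    { toFun := extF ρ' ρ G
      invFun := extF ρ' ρ G⁻¹
      left_inv := fun x => by rw [extF_extF, inv_mul_cancel, extF_one]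
      right_inv := fun x => by rw [extF_extF, mul_inv_cancel, extF_one] }
  map_one' := by
    ext x
    exact extF_one x
  map_mul' G H := by
    ext x
    exact (extF_extF G H x).symm

@[simp] theorem Ext_inl_inl (G : β' → Perm (ZMod p × ZMod p)) (j : β') (i a : ZMod p) :
    (Ext G : Perm (Pt2 β' ρ' ρ p)) (Sum.inl (Sum.inl (j, i), a)) =
      Sum.inl (Sum.inl (j, (G j (i, a)).1), (G j (i, a)).2) := rfl

@[simp] theorem Ext_inl_inr (G : β' → Perm (ZMod p × ZMod p)) (z' : ρ') (a : ZMod p) :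
    (Ext G : Perm (Pt2 β' ρ' ρ p)) (Sum.inl (Sum.inr z', a)) = Sum.inl (Sum.inr z', a) := rfl

@[simp] theorem Ext_inr (G : β' → Perm (ZMod p × ZMod p)) (z : ρ) :
    (Ext G : Perm (Pt2 β' ρ' ρ p)) (Sum.inr z) = Sum.inr z := rfl

/-- the same permutation on the `p²`-blocks in `O`, the identity on the others -/
def res (O : Finset β') : Perm (ZMod p × ZMod p) →* (β' → Perm (ZMod p × ZMod p)) where
  toFun M j := if j ∈ O then M else 1
  map_one' := by
    funext j
    simp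
  map_mul' M N := by
    funext j
    by_cases hj : j ∈ O <;> simp [hj]

theorem res_mem {O : Finset β'} (M : Perm (ZMod p × ZMod p)) {j : β'} (hj : j ∈ O) : res O M j = M := by
  show (if j ∈ O then M else 1) = M
  rw [if_pos hj]

theorem res_not_mem {O : Finset β'} (M : Perm (ZMod p × ZMod p)) {j : β'} (hj : j ∉ O) : res O M j = 1 := by
  show (if j ∈ O then M else 1) = 1
  rw [if_neg hj]

/-- `M` acting on the `p²`-blocks in `O` -/
def ExtO (ρ' ρ : Type*) [Fintype ρ'] [DecidableEq ρ'] [Fintype ρ] [DecidableEq ρ] (O : Finset β') :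
    Perm (ZMod p × ZMod p) →* Perm (Pt2 β' ρ' ρ p) := (Ext).comp (res O)

theorem ExtO_mem {O : Finset β'} (M : Perm (ZMod p × ZMod p)) {j : β'} (hj : j ∈ O) (i a : ZMod p) :
    (ExtO ρ' ρ O M) (Sum.inl (Sum.inl (j, i), a)) = Sum.inl (Sum.inl (j, (M (i, a)).1), (M (i, a)).2) := by
  show (Ext (res O M) : Perm (Pt2 β' ρ' ρ p)) _ = _
  rw [Ext_inl_inl, res_mem M hj]

theorem ExtO_not_mem {O : Finset β'} (M : Perm (ZMod p × ZMod p)) {j : β'} (hj : j ∉ O) (i a : ZMod p) :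
    (ExtO ρ' ρ O M) (Sum.inl (Sum.inl (j, i), a)) = Sum.inl (Sum.inl (j, i), a) := by
  show (Ext (res O M) : Perm (Pt2 β' ρ' ρ p)) _ = _
  rw [Ext_inl_inl, res_not_mem M hj]
  rfl

theorem ExtO_inl_inr {O : Finset β'} (M : Perm (ZMod p × ZMod p)) (z' : ρ') (a : ZMod p) :
    (ExtO ρ' ρ O M) (Sum.inl (Sum.inr z', a)) = (Sum.inl (Sum.inr z', a) : Pt2 β' ρ' ρ p) := rfl

theorem ExtO_inr {O : Finset β'} (M : Perm (ZMod p × ZMod p)) (z : ρ) :
    (ExtO ρ' ρ O M) (Sum.inr z) = (Sum.inr z : Pt2 β' ρ' ρ p) := rfl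

/-- the translation function of the root element `uU t` on the blocks over `O` -/
def fU (ρ' : Type*) (O : Finset β') (t : ZMod p) : Pt β' ρ' p → ZMod p :=
  Sum.elim (fun q => if q.1 ∈ O then t * q.2 else 0) (fun _ => 0)

theorem ExtO_uU (O : Finset β') (t : ZMod p) :
    ExtO ρ' ρ O (uU t) = (T (fU ρ' O t) : Perm (Pt2 β' ρ' ρ p)) := by
  ext x
  rcases x with ⟨⟨j, i⟩ | z', a⟩ | z
  · by_cases hj : j ∈ O
    · rw [ExtO_mem _ hj, T_inl]
      simp [fU, hj]
    · rw [ExtO_not_mem _ hj, T_inl]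
      simp [fU, hj]
  · rw [ExtO_inl_inr, T_inl]
    simp [fU]
  · rfl

/-- the scalings of the torus element: on the blocks -/
def hD (ρ' : Type*) (O : Finset β') (u : (ZMod p)ˣ) : Pt β' ρ' p → (ZMod p)ˣ :=
  Sum.elim (fun q => if q.1 ∈ O then u else 1) (fun _ => 1)

/-- the scalings of the torus element: on the `p²`-blocks -/
def hD' (O : Finset β') (u : (ZMod p)ˣ) : β' → (ZMod p)ˣ := fun j => if j ∈ O then u⁻¹ else 1

theorem ExtO_uD (O : Finset β') (u : (ZMod p)ˣ) :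
    ExtO ρ' ρ O (uD u) = (C (hD ρ' O u) * L (C (hD' O u) : Perm (Pt β' ρ' p)) : Perm (Pt2 β' ρ' ρ p)) := by
  ext x
  rcases x with ⟨⟨j, i⟩ | z', a⟩ | z
  · by_cases hj : j ∈ O
    · rw [ExtO_mem _ hj, Perm.mul_apply, L_inl, C_inl, C_inl]
      simp only [uD_apply, hD, hD', Sum.elim_inl, if_pos hj]
    · rw [ExtO_not_mem _ hj, Perm.mul_apply, L_inl, C_inl, C_inl]
      simp only [hD, hD', Sum.elim_inl, if_neg hj, Units.val_one, one_mul]
  · rw [ExtO_inl_inr, Perm.mul_apply, L_inl, C_inr, C_inl]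
    simp only [hD, Sum.elim_inr, Units.val_one, one_mul]
  · rfl

theorem prod_hD (O : Finset β') (u : (ZMod p)ˣ) : ∏ y, hD ρ' O u y = u ^ (p * O.card) := by
  rw [Fintype.prod_sum_type]
  simp only [hD, Sum.elim_inl, Sum.elim_inr, Finset.prod_const_one, mul_one]
  rw [Fintype.prod_prod_type]
  have h1 : ∀ x : β', (∏ _i : ZMod p, if x ∈ O then u else 1) = (if x ∈ O then u else 1) ^ p := by
    intro x
    rw [Finset.prod_const, Finset.card_univ, ZMod.card]
  rw [Finset.prod_congr rfl (fun x _ => h1 x), Finset.prod_pow, Finset.prod_ite_mem, Finset.univ_inter,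
    Finset.prod_const, ← pow_mul, mul_comm]

end Cfsg.Agent.Helper88.AltM
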