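-- The abelian subgroup `R_O` of the two-level wreath model: regular `C_p²` on the `p²`-blocks in `O`, the base
-- group elsewhere; it is contained in the Sylow subgroup, self-centralizing, and normalized by the `SL₂(p)` root
-- elements acting on the `p²`-blocks in `O` (helper88).
import Cfsg.Agent.Helper88.AltExt

set_option autoImplicit false
set_option linter.unusedSectionVars false

namespace Cfsg.Agent.Helper88.AltM

open Equiv Cfsg.Agent.Helper42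

variable {β' ρ' ρ : Type*} [Fintype β'] [DecidableEq β'] [Fintype ρ'] [DecidableEq ρ'] [Fintype ρ] [DecidableEq ρ]
  {p : ℕ} [Fact p.Prime]

/-- the condition on the translation data of `R_O` -/
def ROc (O : Finset β') (f : Pt β' ρ' p → ZMod p) (f' : β' → ZMod p) : Prop :=
  (∀ j, j ∉ O → f' j = 0) ∧ ∀ j, j ∈ O → ∀ i, f (Sum.inl (j, i)) = f (Sum.inl (j, 0))

theorem comp_T_symm_eq {O : Finset β'} {f : Pt β' ρ' p → ZMod p} {f' f₁' : β' → ZMod p} (h : ROc O f f')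
    (h₁ : ∀ j, j ∉ O → f₁' j = 0) : f ∘ ((T f₁' : Perm (Pt β' ρ' p))).symm = f := by
  funext y
  have hs : ((T f₁' : Perm (Pt β' ρ' p))).symm = T (-f₁') := by
    rw [T_neg]
    rfl
  rw [Function.comp_apply, hs]
  rcases y with ⟨j, i⟩ | z'
  · rw [T_inl]
    by_cases hj : j ∈ O
    · rw [h.2 j hj, h.2 j hj i]
    · rw [Pi.neg_apply, h₁ j hj, neg_zero, add_zero]
  · rfl

/-- the elements of `R_O` -/
def rO (ρ : Type*) [Fintype ρ] [DecidableEq ρ] (f : Pt β' ρ' p → ZMod p) (f' : β' → ZMod p) :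
    Perm (Pt2 β' ρ' ρ p) := T f * L (T f' : Perm (Pt β' ρ' p))

theorem rO_mul {O : Finset β'} {f₁ f₂ : Pt β' ρ' p → ZMod p} {f₁' f₂' : β' → ZMod p} (h₂ : ROc O f₂ f₂')
    (h₁ : ∀ j, j ∉ O → f₁' j = 0) :
    rO ρ f₁ f₁' * rO ρ f₂ f₂' = rO ρ (f₁ + f₂) (f₁' + f₂') := by
  unfold rO
  rw [mul_assoc, ← mul_assoc (L _) (T f₂), L_T, comp_T_symm_eq h₂ h₁, T_add, T_add, map_mul]
  simp only [mul_assoc]

theorem ROc_add {O : Finset β'} {f₁ f₂ : Pt β' ρ' p → ZMod p} {f₁' f₂' : β' → ZMod p} (h₁ : ROc O f₁ f₁')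
    (h₂ : ROc O f₂ f₂') : ROc O (f₁ + f₂) (f₁' + f₂') := by
  refine ⟨fun j hj => ?_, fun j hj i => ?_⟩
  · rw [Pi.add_apply, h₁.1 j hj, h₂.1 j hj, add_zero]
  · rw [Pi.add_apply, Pi.add_apply, h₁.2 j hj i, h₂.2 j hj i]

theorem ROc_neg {O : Finset β'} {f : Pt β' ρ' p → ZMod p} {f' : β' → ZMod p} (h : ROc O f f') :
    ROc O (-f) (-f') := by
  refine ⟨fun j hj => ?_, fun j hj i => ?_⟩
  · rw [Pi.neg_apply, h.1 j hj, neg_zero]
  · rw [Pi.neg_apply, Pi.neg_apply, h.2 j hj i]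

theorem ROc_zero (O : Finset β') : ROc O (0 : Pt β' ρ' p → ZMod p) (0 : β' → ZMod p) :=
  ⟨fun _ _ => rfl, fun _ _ _ => rfl⟩

theorem rO_zero : rO ρ (0 : Pt β' ρ' p → ZMod p) (0 : β' → ZMod p) = 1 := by
  unfold rO
  rw [T_zero, T_zero, map_one, one_mul]

/-- the subgroup `R_O` -/
def RO (ρ : Type*) [Fintype ρ] [DecidableEq ρ] (ρ' : Type*) [Fintype ρ'] [DecidableEq ρ'] (p : ℕ) [Fact p.Prime]
    (O : Finset β') : Subgroup (Perm (Pt2 β' ρ' ρ p)) where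
  carrier := {r | ∃ (f : Pt β' ρ' p → ZMod p) (f' : β' → ZMod p), ROc O f f' ∧ r = rO ρ f f'}
  mul_mem' := by
    rintro _ _ ⟨f₁, f₁', h₁, rfl⟩ ⟨f₂, f₂', h₂, rfl⟩
    exact ⟨f₁ + f₂, f₁' + f₂', ROc_add h₁ h₂, rO_mul h₂ h₁.1⟩
  one_mem' := ⟨0, 0, ROc_zero O, rO_zero.symm⟩
  inv_mem' := by
    rintro _ ⟨f, f', h, rfl⟩
    refine ⟨-f, -f', ROc_neg h, ?_⟩
    rw [inv_eq_iff_mul_eq_one, rO_mul (ROc_neg h) h.1, add_neg_cancel, add_neg_cancel, rO_zero]

theorem mem_RO {O : Finset β'} {r : Perm (Pt2 β' ρ' ρ p)} :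
    r ∈ RO ρ ρ' p O ↔ ∃ (f : Pt β' ρ' p → ZMod p) (f' : β' → ZMod p), ROc O f f' ∧ r = rO ρ f f' := Iff.rfl

theorem RO_le_Ss (O : Finset β') (K'' : Subgroup (Perm β')) :
    RO ρ ρ' p O ≤ Ss ρ (Ss ρ' K'' : Subgroup (Perm (Pt β' ρ' p))) := by
  rintro _ ⟨f, f', -, rfl⟩
  exact mem_Ss.mpr ⟨f, T f', T_mem_Ss K'' f', rfl⟩

theorem rO_inl_inl (f : Pt β' ρ' p → ZMod p) (f' : β' → ZMod p) (j : β') (i a : ZMod p) :
    rO ρ f f' (Sum.inl (Sum.inl (j, i), a)) =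
      Sum.inl (Sum.inl (j, i + f' j), a + f (Sum.inl (j, i + f' j))) := rfl

theorem rO_inl_inr (f : Pt β' ρ' p → ZMod p) (f' : β' → ZMod p) (z' : ρ') (a : ZMod p) :
    rO ρ f f' (Sum.inl (Sum.inr z', a)) = Sum.inl (Sum.inr z', a + f (Sum.inr z')) := rfl

theorem rO_inr (f : Pt β' ρ' p → ZMod p) (f' : β' → ZMod p) (z : ρ) :
    rO ρ f f' (Sum.inr z) = Sum.inr z := rfl

/-! ### normalizing elements -/

theorem ExtO_uW_mul_rO {O : Finset β'} {f : Pt β' ρ' p → ZMod p} {f' : β' → ZMod p} (h : ROc O f f') :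
    ExtO ρ' ρ O (uW p) * rO ρ f f' =
      rO ρ (Sum.elim (fun q => if q.1 ∈ O then f' q.1 else f (Sum.inl q)) (fun z' => f (Sum.inr z')))
        (fun j => if j ∈ O then -f (Sum.inl (j, 0)) else 0) * ExtO ρ' ρ O (uW p) := by
  ext x
  rcases x with ⟨⟨j, i⟩ | z', a⟩ | z
  · by_cases hj : j ∈ O
    · rw [Perm.mul_apply, Perm.mul_apply, rO_inl_inl, ExtO_mem _ hj, ExtO_mem _ hj, rO_inl_inl]
      simp only [uW_apply, Sum.elim_inl, if_pos hj, h.2 j hj (i + f' j)]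
      rw [neg_add]
    · rw [Perm.mul_apply, Perm.mul_apply, rO_inl_inl, ExtO_not_mem _ hj, ExtO_not_mem _ hj, rO_inl_inl]
      simp only [Sum.elim_inl, if_neg hj, h.1 j hj, add_zero]
  · rw [Perm.mul_apply, Perm.mul_apply, rO_inl_inr, ExtO_inl_inr, ExtO_inl_inr, rO_inl_inr]
    simp only [Sum.elim_inr]
  · rfl

theorem ExtO_uW_mem_normalizer (O : Finset β') :
    ExtO ρ' ρ O (uW p) ∈ Subgroup.normalizer ((RO ρ ρ' p O : Subgroup (Perm (Pt2 β' ρ' ρ p))) :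
      Set (Perm (Pt2 β' ρ' ρ p))) := by
  apply Subgroup.mem_normalizer_fintype
  rintro _ ⟨f, f', h, rfl⟩
  rw [ExtO_uW_mul_rO h, mul_inv_cancel_right]
  refine ⟨_, _, ⟨fun j hj => if_neg hj, fun j hj i => ?_⟩, rfl⟩
  simp only [Sum.elim_inl, if_pos hj]

theorem T_fU_conj_rO {O : Finset β'} (t : ZMod p) {f : Pt β' ρ' p → ZMod p} {f' : β' → ZMod p}
    (_h : ROc O f f') :
    (T (fU ρ' O t) : Perm (Pt2 β' ρ' ρ p)) * rO ρ f f' * (T (fU ρ' O t))⁻¹ =
      rO ρ (f + (fU ρ' O t - fU ρ' O t ∘ ((T f' : Perm (Pt β' ρ' p))).symm)) f' := by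
  unfold rO
  rw [← T_neg, mul_assoc, mul_assoc, L_T, ← mul_assoc, ← mul_assoc, ← T_add, ← T_add]
  congr 2
  funext y
  simp only [Pi.add_apply, Pi.sub_apply, Pi.neg_apply, Function.comp_apply]
  abel

theorem T_fU_mem_normalizer (O : Finset β') (t : ZMod p) :
    (T (fU ρ' O t) : Perm (Pt2 β' ρ' ρ p)) ∈
      Subgroup.normalizer ((RO ρ ρ' p O : Subgroup (Perm (Pt2 β' ρ' ρ p))) : Set (Perm (Pt2 β' ρ' ρ p))) := by
  apply Subgroup.mem_normalizer_fintype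
  rintro _ ⟨f, f', h, rfl⟩
  rw [T_fU_conj_rO t h]
  refine ⟨_, _, ⟨h.1, fun j hj i => ?_⟩, rfl⟩
  have hs : ((T f' : Perm (Pt β' ρ' p))).symm = T (-f') := by
    rw [T_neg]
    rfl
  simp only [Pi.add_apply, Pi.sub_apply, Function.comp_apply, hs, T_inl, fU, Sum.elim_inl, if_pos hj,
    h.2 j hj i, Pi.neg_apply]
  ring

/-! ### `R_O` is self-centralizing -/

/-- translation by `(i, a)` on the `p²`-block `j` -/
def rJ (ρ' ρ : Type*) [Fintype ρ'] [DecidableEq ρ'] [Fintype ρ] [DecidableEq ρ] (j : β') (i a : ZMod p) :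
    Perm (Pt2 β' ρ' ρ p) :=
  rO ρ (Sum.elim (fun q => if q.1 = j then a else 0) (fun _ => 0) : Pt β' ρ' p → ZMod p) (Pi.single j i)

theorem rJ_mem {O : Finset β'} {j : β'} (hj : j ∈ O) (i a : ZMod p) : rJ ρ' ρ j i a ∈ RO ρ ρ' p O := by
  refine ⟨_, _, ⟨fun j' hj' => ?_, fun j' _ i' => rfl⟩, rfl⟩
  rw [Pi.single_eq_of_ne]
  rintro rfl
  exact hj' hj

theorem rJ_apply_same (j : β') (i a i₁ a₁ : ZMod p) :
    rJ ρ' ρ j i a (Sum.inl (Sum.inl (j, i₁), a₁)) = Sum.inl (Sum.inl (j, i₁ + i), a₁ + a) := by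
  unfold rJ
  rw [rO_inl_inl]
  simp

theorem rJ_apply_ne {j j' : β'} (h : j' ≠ j) (i a i₁ a₁ : ZMod p) :
    rJ ρ' ρ j i a (Sum.inl (Sum.inl (j', i₁), a₁)) = Sum.inl (Sum.inl (j', i₁), a₁) := by
  unfold rJ
  rw [rO_inl_inl]
  simp [h]

theorem rJ_inl_inr (j : β') (i a : ZMod p) (z' : ρ') (a₁ : ZMod p) :
    rJ ρ' ρ j i a (Sum.inl (Sum.inr z', a₁)) = Sum.inl (Sum.inr z', a₁) := by
  unfold rJ
  rw [rO_inl_inr]
  simp

theorem T_mem_RO {O : Finset β'} {f : Pt β' ρ' p → ZMod p}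
    (hf : ∀ j, j ∈ O → ∀ i, f (Sum.inl (j, i)) = f (Sum.inl (j, 0))) :
    (T f : Perm (Pt2 β' ρ' ρ p)) ∈ RO ρ ρ' p O := by
  refine ⟨f, 0, ⟨fun _ _ => rfl, hf⟩, ?_⟩
  unfold rO
  rw [T_zero, map_one, mul_one]

/-- the blocks not over `O` -/
def FreeBlock (O : Finset β') (y : Pt β' ρ' p) : Prop := ∀ j i, y = Sum.inl (j, i) → j ∉ O

theorem T_single_mem_RO {O : Finset β'} {y : Pt β' ρ' p} (hy : FreeBlock O y) (a : ZMod p) :
    (T (Pi.single y a) : Perm (Pt2 β' ρ' ρ p)) ∈ RO ρ ρ' p O := by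
  apply T_mem_RO
  intro j hj i
  have h1 : ∀ i', (Sum.inl (j, i') : Pt β' ρ' p) ≠ y := by
    intro i' h
    exact hy j i' h.symm hj
  rw [Pi.single_eq_of_ne (h1 i), Pi.single_eq_of_ne (h1 0)]

theorem centralizer_RO_le [Subsingleton ρ] (O : Finset β') (c : Perm (Pt2 β' ρ' ρ p))
    (hc : c ∈ Subgroup.centralizer ((RO ρ ρ' p O : Subgroup (Perm (Pt2 β' ρ' ρ p))) :
      Set (Perm (Pt2 β' ρ' ρ p)))) :
    c ∈ RO ρ ρ' p O := by
  have comm : ∀ r ∈ RO ρ ρ' p O, ∀ x, c (r x) = r (c x) := by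
    intro r hr x
    have := Subgroup.mem_centralizer_iff.mp hc r hr
    have h2 := congrArg (fun k : Perm (Pt2 β' ρ' ρ p) => k x) this
    simp only [Perm.mul_apply] at h2
    exact h2.symm
  -- `p²`-blocks over `O`
  have step1 : ∀ j, ∃ i₀ a₀ : ZMod p, j ∈ O →
      c (Sum.inl (Sum.inl (j, 0), 0)) = Sum.inl (Sum.inl (j, i₀), a₀) := by
    intro j
    by_cases hj : j ∈ O
    · have h1 := comm _ (rJ_mem (ρ' := ρ') (ρ := ρ) hj 0 1) (Sum.inl (Sum.inl (j, 0), 0))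
      rw [rJ_apply_same] at h1
      have hne : c (Sum.inl (Sum.inl (j, 0 + 0), 0 + 1)) ≠ c (Sum.inl (Sum.inl (j, 0), 0)) := by
        intro h
        have := c.injective h
        simp at this
      rw [h1] at hne
      rcases hx : c (Sum.inl (Sum.inl (j, 0), 0)) with ⟨⟨j', i'⟩ | z', a'⟩ | z
      · by_cases hjj : j' = j
        · subst hjj
          exact ⟨i', a', fun _ => rfl⟩
        · exfalso
          rw [hx, rJ_apply_ne hjj] at hne
          exact hne rfl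
      · exfalso
        rw [hx, rJ_inl_inr] at hne
        exact hne rfl
      · exfalso
        rw [hx] at hne
        exact hne rfl
    · exact ⟨0, 0, fun h => absurd h hj⟩
  choose i₀ a₀ h₁ using step1
  -- the other blocks
  have step2 : ∀ y : Pt β' ρ' p, ∃ b₀ : ZMod p, FreeBlock O y →
      c (Sum.inl (y, 0)) = Sum.inl (y, b₀) := by
    intro y
    by_cases hy : FreeBlock O y
    · have h1 := comm _ (T_single_mem_RO (ρ := ρ) hy 1) (Sum.inl (y, 0))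
      rw [T_inl, Pi.single_eq_same] at h1
      have hne : c (Sum.inl (y, 0 + 1)) ≠ c (Sum.inl (y, 0)) := by
        intro h
        have := c.injective h
        simp at this
      rw [h1] at hne
      rcases hx : c (Sum.inl (y, 0)) with ⟨y₁, a₁⟩ | z
      · by_cases hyy : y₁ = y
        · subst hyy
          exact ⟨a₁, fun _ => rfl⟩
        · exfalso
          rw [hx, T_inl, Pi.single_eq_of_ne hyy, add_zero] at hne
          exact hne rfl
      · exfalso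
        rw [hx] at hne
        exact hne rfl
    · exact ⟨0, fun h => absurd h hy⟩
  choose b₀ h₂ using step2
  -- the fixed point
  have step3 : ∀ z : ρ, c (Sum.inr z) = Sum.inr z := by
    intro z
    rcases hx : c (Sum.inr z) with ⟨y₁, a₁⟩ | z₁
    · exfalso
      by_cases hy : FreeBlock O y₁
      · have h1 := comm _ (T_single_mem_RO (ρ := ρ) hy 1) (Sum.inr z)
        rw [T_inr, hx, T_inl, Pi.single_eq_same] at h1
        simp at h1
      · unfold FreeBlock at hy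
        push Not at hy
        obtain ⟨j, i, rfl, hj⟩ := hy
        have h1 := comm _ (rJ_mem (ρ' := ρ') (ρ := ρ) hj 0 1) (Sum.inr z)
        rw [show rJ ρ' ρ j 0 1 (Sum.inr z) = (Sum.inr z : Pt2 β' ρ' ρ p) from rfl, hx, rJ_apply_same] at h1
        simp at h1
    · rw [Subsingleton.elim z₁ z]
  refine ⟨Sum.elim (fun q => if q.1 ∈ O then a₀ q.1 else b₀ (Sum.inl q)) (fun z' => b₀ (Sum.inr z')),
    fun j => if j ∈ O then i₀ j else 0, ⟨fun j hj => if_neg hj, fun j hj i => ?_⟩, ?_⟩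
  · simp only [Sum.elim_inl, if_pos hj]
  · ext x
    rcases x with ⟨⟨j, i⟩ | z', a⟩ | z
    · by_cases hj : j ∈ O
      · have h1 := comm _ (rJ_mem (ρ' := ρ') (ρ := ρ) hj i a) (Sum.inl (Sum.inl (j, 0), 0))
        rw [rJ_apply_same, h₁ j hj, rJ_apply_same, zero_add, zero_add] at h1
        rw [h1, rO_inl_inl]
        simp only [Sum.elim_inl, if_pos hj]
        rw [add_comm i, add_comm a]
      · have hy : FreeBlock O (Sum.inl (j, i) : Pt β' ρ' p) := by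
          intro j' i' h
          simp only [Sum.inl.injEq, Prod.mk.injEq] at h
          rw [← h.1]
          exact hj
        have h1 := comm _ (T_single_mem_RO (ρ := ρ) hy a) (Sum.inl (Sum.inl (j, i), 0))
        rw [T_inl, Pi.single_eq_same, h₂ _ hy, T_inl, Pi.single_eq_same, zero_add] at h1
        rw [h1, rO_inl_inl]
        simp only [Sum.elim_inl, if_neg hj, add_zero]
        rw [add_comm a]
    · have hy : FreeBlock O (Sum.inr z' : Pt β' ρ' p) := by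
        intro j' i' h
        exact absurd h (by simp)
      have h1 := comm _ (T_single_mem_RO (ρ := ρ) hy a) (Sum.inl (Sum.inr z', 0))
      rw [T_inl, Pi.single_eq_same, h₂ _ hy, T_inl, Pi.single_eq_same, zero_add] at h1
      rw [h1, rO_inl_inr]
      simp only [Sum.elim_inr]
      rw [add_comm a]
    · rw [step3]
      rfl

end Cfsg.Agent.Helper88.AltM
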