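-- The `SL₂(p)`-torus element `g₀` of the two-level wreath model: it normalizes the Sylow subgroup and is a product
-- of `N_A(R_O)`-conjugates of elements of `N_S(R_O)` (helper88).
import Cfsg.Agent.Helper88.AltRO
import Cfsg.Agent.Helper88.AltCrit2
import Cfsg.Agent.Helper60.AltP910

set_option autoImplicit false
set_option linter.unusedSectionVars false

namespace Cfsg.Agent.Helper88.AltM

open Equiv Cfsg.Agent.Helper42 Cfsg.Agent.Helper88

variable {β' ρ' ρ : Type*} [Fintype β'] [DecidableEq β'] [Fintype ρ'] [DecidableEq ρ'] [Fintype ρ] [DecidableEq ρ]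
  {p : ℕ} [Fact p.Prime]

theorem sign_eq_one_of_pow_p {α : Type*} [Fintype α] [DecidableEq α] (hp2 : p ≠ 2) (x : Perm α)
    (hx : x ^ p = 1) : Perm.sign x = 1 := by
  have h1 : Perm.sign x ^ p = 1 := by rw [← map_pow, hx, map_one]
  have hodd : Odd p := (Fact.out : p.Prime).odd_of_ne_two hp2
  rcases Int.units_eq_one_or (Perm.sign x) with h | h
  · exact h
  · rw [h, hodd.neg_one_pow] at h1
    exact absurd h1 (by decide)

/-- the torus element -/
def g0 (ρ' ρ : Type*) [Fintype ρ'] [DecidableEq ρ'] [Fintype ρ] [DecidableEq ρ] (O : Finset β')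
    (u : (ZMod p)ˣ) : Perm (Pt2 β' ρ' ρ p) :=
  C (hD ρ' O u) * L (C (hD' O u) : Perm (Pt β' ρ' p))

theorem g0_eq_ExtO (O : Finset β') (u : (ZMod p)ˣ) : g0 ρ' ρ O u = ExtO ρ' ρ O (uD u) :=
  (ExtO_uD O u).symm

/-- `g₀` normalizes the Sylow subgroup when `O` is invariant under the top group. -/
theorem g0_mem_normalizer (O : Finset β') (u : (ZMod p)ˣ) (K'' : Subgroup (Perm β'))
    (hO : ∀ σ ∈ K'', ∀ j, σ j ∈ O ↔ j ∈ O) :
    g0 ρ' ρ O u ∈ Subgroup.normalizer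
      ((Ss ρ (Ss ρ' K'' : Subgroup (Perm (Pt β' ρ' p))) : Subgroup (Perm (Pt2 β' ρ' ρ p))) :
        Set (Perm (Pt2 β' ρ' ρ p))) := by
  unfold g0
  apply Cfsg.Agent.Helper60.C_mul_L_mem_normalizer
  · intro σ hσ y
    obtain ⟨f, σ'', hσ'', rfl⟩ := mem_Ss.mp hσ
    rcases y with ⟨j, i⟩ | z'
    · simp only [Perm.mul_apply, L_inl, T_inl, hD, Sum.elim_inl]
      by_cases hj : j ∈ O
      · rw [if_pos hj, if_pos ((hO σ'' hσ'' j).mpr hj)]
      · rw [if_neg hj, if_neg (fun h => hj ((hO σ'' hσ'' j).mp h))]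
    · rfl
  · have h1 := Cfsg.Agent.Helper60.C_mul_L_mem_normalizer (ρ := ρ') K'' (hD' O u)
      (fun σ hσ j => by
        simp only [hD']
        by_cases hj : j ∈ O
        · rw [if_pos hj, if_pos ((hO σ hσ j).mpr hj)]
        · rw [if_neg hj, if_neg (fun h => hj ((hO σ hσ j).mp h))]) 1 (Subgroup.one_mem _)
    rw [map_one, mul_one] at h1
    exact h1

/-- `g₀` is a product of `N_A(R_O)`-conjugates of elements of `N_S(R_O)`. -/
theorem g0_mem_closure (hp2 : p ≠ 2) (O : Finset β') (u : (ZMod p)ˣ) (K'' : Subgroup (Perm β')) :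
    g0 ρ' ρ O u ∈ Subgroup.closure (ANc (alternatingGroup (Pt2 β' ρ' ρ p))
      (Ss ρ (Ss ρ' K'' : Subgroup (Perm (Pt β' ρ' p)))) (RO ρ ρ' p O)) := by
  set N := Subgroup.closure (ANc (alternatingGroup (Pt2 β' ρ' ρ p))
      (Ss ρ (Ss ρ' K'' : Subgroup (Perm (Pt β' ρ' p)))) (RO ρ ρ' p O)) with hN
  have hU : ∀ t : ZMod p, ExtO ρ' ρ O (uU t) ∈ N := by
    intro t
    apply Subgroup.subset_closure
    refine ⟨1, Subgroup.one_mem _, Subgroup.one_mem _, ExtO ρ' ρ O (uU t), ?_, ?_, by rw [one_mul, inv_one, mul_one]⟩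
    · rw [ExtO_uU]
      exact T_mem_Ss _ _
    · rw [ExtO_uU]
      exact T_fU_mem_normalizer O t
  have hsV : ∀ t : ZMod p, Perm.sign (ExtO ρ' ρ O (uV t)) = 1 := by
    intro t
    apply sign_eq_one_of_pow_p hp2
    rw [← map_pow, uV_pow_p, map_one]
  have hsU : ∀ t : ZMod p, Perm.sign (ExtO ρ' ρ O (uU t)) = 1 := by
    intro t
    apply sign_eq_one_of_pow_p hp2
    rw [← map_pow, uU_pow_p, map_one]
  have hWA : ExtO ρ' ρ O (uW p) ∈ alternatingGroup (Pt2 β' ρ' ρ p) := by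
    apply Perm.mem_alternatingGroup.mpr
    rw [uW_eq, map_mul, map_mul, map_mul, map_mul, hsV, hsU, one_mul, one_mul]
  have hV : ∀ t : ZMod p, ExtO ρ' ρ O (uV t) ∈ N := by
    intro t
    apply Subgroup.subset_closure
    refine ⟨ExtO ρ' ρ O (uW p), hWA, ExtO_uW_mem_normalizer O, ExtO ρ' ρ O (uU (-t)), ?_, ?_, ?_⟩
    · rw [ExtO_uU]
      exact T_mem_Ss _ _
    · rw [ExtO_uU]
      exact T_fU_mem_normalizer O (-t)
    · rw [uV_eq_conj, map_mul, map_mul, map_inv]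
  rw [g0_eq_ExtO, uD_eq]
  simp only [map_mul]
  exact Subgroup.mul_mem _ (Subgroup.mul_mem _ (Subgroup.mul_mem _ (hV _) (hU _)) (hV _))
    (Subgroup.mul_mem _ (Subgroup.mul_mem _ (hV _) (hU _)) (hV _))

end Cfsg.Agent.Helper88.AltM
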