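-- Simplicity of the `p`-fusion system of the alternating group on the two-level wreath model, `p` odd (helper88).
import Cfsg.Agent.Helper88.AltG0
import Cfsg.Agent.Helper88.AltNorm
import Cfsg.Agent.Helper4.AltP2
import Cfsg.Agent.Helper46.AltLocOdd
import Cfsg.Agent.Helper80.AltCardSylow
import Cfsg.Agent.Helper80.SylowPermGen

set_option autoImplicit false
set_option linter.unusedSectionVars false

namespace Cfsg.Agent.Helper88.AltM

open Equiv Cfsg Cfsg.Agent.Helper42 Cfsg.Agent.Helper88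

variable {β' ρ' ρ : Type*} [Fintype β'] [DecidableEq β'] [Fintype ρ'] [DecidableEq ρ'] [Fintype ρ] [DecidableEq ρ]
  {p : ℕ} [Fact p.Prime]

theorem units_pow_p (u : (ZMod p)ˣ) : u ^ p = u := by
  have hp : p.Prime := Fact.out
  have h1 : u ^ (p - 1) = 1 := ZMod.units_pow_card_sub_one_eq_one p u
  calc u ^ p = u ^ (p - 1 + 1) := by rw [Nat.sub_add_cancel hp.one_lt.le]
    _ = u := by rw [pow_succ, h1, one_mul]

theorem units_pow_p_pow (u : (ZMod p)ˣ) (n : ℕ) : u ^ (p ^ n) = u := by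
  induction n with
  | zero => rw [pow_zero, pow_one]
  | succ n ih => rw [pow_succ, pow_mul, ih, units_pow_p]

theorem g0_zpow (O : Finset β') (u : (ZMod p)ˣ) (z : ℤ) :
    (g0 ρ' ρ O u) ^ z = g0 ρ' ρ O (u ^ z) := by
  rw [g0_eq_ExtO, g0_eq_ExtO]
  show (ExtO ρ' ρ O (uDhom u)) ^ z = ExtO ρ' ρ O (uDhom (u ^ z))
  rw [map_zpow, map_zpow]

theorem closure_ANc_le {Γ : Type*} [Group Γ] {A S₀ R : Subgroup Γ} (hSA : S₀ ≤ A) :
    Subgroup.closure (ANc A S₀ R) ≤ A := by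
  rw [Subgroup.closure_le]
  rintro _ ⟨m, hm, -, s, hs, -, rfl⟩
  exact Subgroup.mul_mem _ (Subgroup.mul_mem _ hm (hSA hs)) (Subgroup.inv_mem _ hm)

/-- local generation of the normalizer of the Sylow subgroup, `p` odd -/
theorem locGen_odd (hp2 : p ≠ 2) [Subsingleton ρ] (K'' : Subgroup (Perm β')) (O : Finset β')
    (hO : ∀ σ ∈ K'', ∀ j, σ j ∈ O ↔ j ∈ O) (b : ℕ) (hOc : O.card = p ^ b)
    (hcard : Nat.card (Ss ρ (Ss ρ' K'' : Subgroup (Perm (Pt β' ρ' p))) : Subgroup (Perm (Pt2 β' ρ' ρ p))) =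
      p ^ (Nat.card (alternatingGroup (Pt2 β' ρ' ρ p))).factorization p)
    (hSA : (Ss ρ (Ss ρ' K'' : Subgroup (Perm (Pt β' ρ' p))) : Subgroup (Perm (Pt2 β' ρ' ρ p))) ≤
      alternatingGroup (Pt2 β' ρ' ρ p))
    (g : Perm (Pt2 β' ρ' ρ p)) (hgA : g ∈ alternatingGroup (Pt2 β' ρ' ρ p))
    (hgN : g ∈ Subgroup.normalizer
      ((Ss ρ (Ss ρ' K'' : Subgroup (Perm (Pt β' ρ' p))) : Subgroup (Perm (Pt2 β' ρ' ρ p))) :
        Set (Perm (Pt2 β' ρ' ρ p)))) :
    g ∈ Subgroup.closure (ALoc (alternatingGroup (Pt2 β' ρ' ρ p))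
      (Ss ρ (Ss ρ' K'' : Subgroup (Perm (Pt β' ρ' p))))) := by
  have hp : p.Prime := Fact.out
  set A := alternatingGroup (Pt2 β' ρ' ρ p) with hA
  set S₀ : Subgroup (Perm (Pt2 β' ρ' ρ p)) := Ss ρ (Ss ρ' K'' : Subgroup (Perm (Pt β' ρ' p))) with hS₀
  have hβ : p ≤ Fintype.card (Pt β' ρ' p) := by
    rw [card_Pt]
    have hOpos : 0 < O.card := by
      rw [hOc]
      exact pow_pos hp.pos b
    have h1 : O.card ≤ Fintype.card β' := Finset.card_le_univ O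
    nlinarith
  obtain ⟨f, h, τ, rfl⟩ := decomp g (fun y => conj_tcyc_mem_Bs_of_normalizer hgN y)
  obtain ⟨u, hu⟩ := IsCyclic.exists_generator (α := (ZMod p)ˣ)
  obtain ⟨k, hk⟩ : ∃ k : ℤ, u ^ k = ∏ y, h y := Subgroup.mem_zpowers_iff.mp (hu _)
  -- the torus element
  have hg0cl := g0_mem_closure (ρ' := ρ') (ρ := ρ) hp2 O u K''
  have hg0A : g0 ρ' ρ O u ∈ A := closure_ANc_le hSA hg0cl
  have hg0N := g0_mem_normalizer (ρ' := ρ') (ρ := ρ) O u K'' hO
  have hg0 : g0 ρ' ρ O u ∈ Subgroup.closure (ALoc A S₀) :=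
    Subgroup.subset_closure ⟨hg0A, hg0N, Or.inr ⟨RO ρ ρ' p O, RO_le_Ss O K'',
      fun c _ hc => centralizer_RO_le O c hc, hg0cl⟩⟩
  set v : (ZMod p)ˣ := u ^ (-k) with hv
  have hg0k : (g0 ρ' ρ O u) ^ (-k) = g0 ρ' ρ O v := g0_zpow O u (-k)
  have key : (T f * C h * L τ : Perm (Pt2 β' ρ' ρ p)) * g0 ρ' ρ O v =
      T f * C (h * (hD ρ' O v ∘ τ.symm)) * L (τ * (C (hD' O v) : Perm (Pt β' ρ' p))) := by
    unfold g0
    rw [map_mul, map_mul]
    calc (T f * C h * L τ : Perm (Pt2 β' ρ' ρ p)) * (C (hD ρ' O v) * L (C (hD' O v) : Perm (Pt β' ρ' p)))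
        = T f * C h * (L τ * C (hD ρ' O v)) * L (C (hD' O v) : Perm (Pt β' ρ' p)) := by
          simp only [mul_assoc]
      _ = T f * C h * (C (hD ρ' O v ∘ τ.symm) * L τ) * L (C (hD' O v) : Perm (Pt β' ρ' p)) := by
          rw [L_C]
      _ = _ := by simp only [mul_assoc]
  have hprod : ∏ y, (h * (hD ρ' O v ∘ τ.symm)) y = 1 := by
    simp only [Pi.mul_apply, Function.comp_apply]
    rw [Finset.prod_mul_distrib, Equiv.prod_comp τ.symm (hD ρ' O v), prod_hD, hOc, ← pow_succ',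
      units_pow_p_pow, ← hk, hv, ← zpow_add, add_neg_cancel, zpow_zero]
  have hg1A : (T f * C h * L τ : Perm (Pt2 β' ρ' ρ p)) * g0 ρ' ρ O v ∈ A := by
    rw [← hg0k]
    exact Subgroup.mul_mem _ hgA (Subgroup.zpow_mem _ hg0A _)
  have hg1N : (T f * C h * L τ : Perm (Pt2 β' ρ' ρ p)) * g0 ρ' ρ O v ∈
      Subgroup.normalizer ((S₀ : Subgroup (Perm (Pt2 β' ρ' ρ p))) : Set (Perm (Pt2 β' ρ' ρ p))) := by
    rw [← hg0k]
    exact Subgroup.mul_mem _ hgN (Subgroup.zpow_mem _ hg0N _)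
  have hτ1 : Perm.sign (τ * (C (hD' O v) : Perm (Pt β' ρ' p))) = 1 := by
    have h1 := Perm.mem_alternatingGroup.mp hg1A
    rw [key, map_mul, map_mul, sign_T hp2, sign_C, hprod, map_one, sign_L_odd hp2, one_mul, one_mul] at h1
    exact h1
  have hg1cl := Cfsg.Agent.Helper46.locGen_odd_ker (ρ := ρ) hp2 hβ (Ss ρ' K'' : Subgroup (Perm (Pt β' ρ' p)))
    hcard f (h * (hD ρ' O v ∘ τ.symm)) (τ * (C (hD' O v) : Perm (Pt β' ρ' p))) hprod hτ1
  have hg1 : (T f * C h * L τ : Perm (Pt2 β' ρ' ρ p)) * g0 ρ' ρ O v ∈ Subgroup.closure (ALoc A S₀) := by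
    apply Subgroup.subset_closure
    refine ⟨hg1A, hg1N, Or.inr ⟨Bs (Pt β' ρ' p) ρ p, Bs_le_Ss _,
      fun c _ hc => Cfsg.Agent.Helper60.centralizer_Bs_le c hc, ?_⟩⟩
    rw [key]
    exact hg1cl
  have hfin : (T f * C h * L τ : Perm (Pt2 β' ρ' ρ p)) =
      (T f * C h * L τ * g0 ρ' ρ O v) * (g0 ρ' ρ O u) ^ k := by
    rw [← hg0k, zpow_neg, inv_mul_cancel_right]
  rw [hfin]
  exact Subgroup.mul_mem _ hg1 (Subgroup.zpow_mem _ hg0 k)

theorem card_Pt_ge [Nonempty β'] : p ≤ Fintype.card (Pt β' ρ' p) := by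
  rw [card_Pt]
  have h1 : 0 < Fintype.card β' := Fintype.card_pos
  nlinarith

/-- The `p`-fusion system of a group isomorphic to the alternating group on the two-level wreath model is simple,
`p` odd. -/
theorem isSimple_odd (hp2 : p ≠ 2) [Subsingleton ρ] (hρ' : Fintype.card ρ' < p) [Nonempty β']
    (K'' : Sylow p (Perm β')) {G : Type*} [Group G] [Finite G] (ι : G →* Perm (Pt2 β' ρ' ρ p))
    (hι : Function.Injective ι) (hr : ι.range = alternatingGroup (Pt2 β' ρ' ρ p)) (S : Sylow p G) :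
    (groupFusionSystem (S : Subgroup G)).IsSimple p := by
  classical
  have hp : p.Prime := Fact.out
  have hp3 : 3 ≤ p := by
    have := hp.two_le
    omega
  -- the middle Sylow subgroup
  let Kmid : Sylow p (Perm (Pt β' ρ' p)) :=
    Sylow.ofCard (Ss ρ' (K'' : Subgroup (Perm β'))) (card_Ss_sylow hρ' K'')
  have hKmid : (Kmid : Subgroup (Perm (Pt β' ρ' p))) = Ss ρ' (K'' : Subgroup (Perm β')) := rfl
  have hρ : Fintype.card ρ < p := by
    have := Fintype.card_le_one_iff_subsingleton.mpr (inferInstance : Subsingleton ρ)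
    omega
  have hcard : Nat.card (Ss ρ (Ss ρ' (K'' : Subgroup (Perm β')) : Subgroup (Perm (Pt β' ρ' p))) :
      Subgroup (Perm (Pt2 β' ρ' ρ p))) =
      p ^ (Nat.card (alternatingGroup (Pt2 β' ρ' ρ p))).factorization p := by
    have := Cfsg.Agent.Helper80.card_Ss_sylow_alt (ρ := ρ) hp2 hρ Kmid
    rw [hKmid] at this
    exact this
  have hGA : Nat.card G = Nat.card (alternatingGroup (Pt2 β' ρ' ρ p)) := by
    rw [← hr]
    exact Nat.card_congr (MonoidHom.ofInjective hι).toEquiv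
  -- the Sylow subgroup consists of even permutations
  have hSA : (Ss ρ (Ss ρ' (K'' : Subgroup (Perm β')) : Subgroup (Perm (Pt β' ρ' p))) :
      Subgroup (Perm (Pt2 β' ρ' ρ p))) ≤ alternatingGroup (Pt2 β' ρ' ρ p) := by
    have hpg : IsPGroup p (Ss ρ (Ss ρ' (K'' : Subgroup (Perm β')) : Subgroup (Perm (Pt β' ρ' p))) :
        Subgroup (Perm (Pt2 β' ρ' ρ p))) := IsPGroup.of_card hcard
    intro x hx
    apply Perm.mem_alternatingGroup.mpr
    obtain ⟨k, hk⟩ := hpg ⟨x, hx⟩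
    have hk' : x ^ p ^ k = 1 := congrArg Subtype.val hk
    have h1 : Perm.sign x ^ p ^ k = 1 := by rw [← map_pow, hk', map_one]
    have hodd : Odd (p ^ k) := (hp.odd_of_ne_two hp2).pow
    rcases Int.units_eq_one_or (Perm.sign x) with h | h
    · exact h
    · rw [h, hodd.neg_one_pow] at h1
      exact absurd h1 (by decide)
  -- an orbit of the top group
  obtain ⟨j₀⟩ := (inferInstance : Nonempty β')
  let O : Finset β' := Finset.univ.filter (fun j => j ∈ MulAction.orbit (K'' : Subgroup (Perm β')) j₀)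
  have hOmem : ∀ j, j ∈ O ↔ j ∈ MulAction.orbit (K'' : Subgroup (Perm β')) j₀ := by
    intro j
    simp [O]
  have hO : ∀ σ ∈ (K'' : Subgroup (Perm β')), ∀ j, σ j ∈ O ↔ j ∈ O := by
    intro σ hσ j
    rw [hOmem, hOmem]
    constructor
    · rintro ⟨τ, hτ⟩
      have hτ' : τ • j₀ = σ j := hτ
      refine ⟨(⟨σ, hσ⟩ : (K'' : Subgroup (Perm β')))⁻¹ * τ, ?_⟩
      show ((⟨σ, hσ⟩ : (K'' : Subgroup (Perm β')))⁻¹ * τ) • j₀ = j
      rw [mul_smul, hτ']
      show σ⁻¹ (σ j) = j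
      simp
    · rintro ⟨τ, hτ⟩
      have hτ' : τ • j₀ = j := hτ
      refine ⟨(⟨σ, hσ⟩ : (K'' : Subgroup (Perm β'))) * τ, ?_⟩
      show ((⟨σ, hσ⟩ : (K'' : Subgroup (Perm β'))) * τ) • j₀ = σ j
      rw [mul_smul, hτ']
      rfl
  obtain ⟨b, hb⟩ := K''.2.card_orbit j₀
  have hOc : O.card = p ^ b := by
    rw [← hb, Nat.card_eq_fintype_card, Fintype.card_subtype]
  have hβ3 : 3 ≤ Fintype.card (Pt β' ρ' p) := hp3.trans card_Pt_ge
  refine isSimple_of_ambient_all ι hι p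
    (Ss ρ (Ss ρ' (K'' : Subgroup (Perm β')) : Subgroup (Perm (Pt β' ρ' p)))) ?_ ?_ ?_ ?_ ?_ S
  · rw [hr]
    exact hSA
  · rw [hGA]
    exact hcard
  · -- nontrivial
    intro hbot
    have h1 : tcyc ρ p (Sum.inl (j₀, 0) : Pt β' ρ' p) ∈
        (Ss ρ (Ss ρ' (K'' : Subgroup (Perm β')) : Subgroup (Perm (Pt β' ρ' p))) :
          Subgroup (Perm (Pt2 β' ρ' ρ p))) := Bs_le_Ss _ (tcyc_mem_Bs _)
    rw [hbot, Subgroup.mem_bot] at h1
    have h2 := congrArg (fun k : Perm (Pt2 β' ρ' ρ p) => k (Sum.inl (Sum.inl (j₀, 0), 0))) h1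
    simp only [tcyc, T_inl, Pi.single_eq_same, Perm.one_apply, Sum.inl.injEq, Prod.mk.injEq] at h2
    have h3 : (1 : ZMod p) ≠ 0 := one_ne_zero
    apply h3
    rw [← h2.2, zero_add]
  · rw [hr]
    intro g hgA hgN
    exact locGen_odd hp2 (K'' : Subgroup (Perm β')) O hO b hOc hcard hSA g hgA hgN
  · rw [hr]
    intro T' hT' hcl
    have hK := Cfsg.Agent.Helper80.sylow_perm_gen_by_order_p p Kmid
    rw [hKmid] at hK
    exact Cfsg.Agent.Helper4.noStrClosed_odd hp2 hβ3 _ hK T' hT' hcl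

end Cfsg.Agent.Helper88.AltM
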