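-- Simplicity of the `2`-fusion system of the alternating group on the two-level wreath model (helper88).
import Cfsg.Agent.Helper88.AltNorm2
import Cfsg.Agent.Helper88.AltCrit2
import Cfsg.Agent.Helper9.AltLocTwo
import Cfsg.Agent.Helper60.AltP3
import Cfsg.Agent.Helper80.AltCardSylow
import Cfsg.Agent.Helper80.SylowPermGen

set_option autoImplicit false
set_option linter.unusedSectionVars false

namespace Cfsg.Agent.Helper88.AltM

open Equiv Cfsg Cfsg.Agent.Helper42 Cfsg.Agent.Helper88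

variable {β' ρ' ρ : Type*} [Fintype β'] [DecidableEq β'] [Fintype ρ'] [DecidableEq ρ'] [Fintype ρ] [DecidableEq ρ]

/-- The `2`-fusion system of a group isomorphic to the alternating group on the two-level wreath model is simple. -/
theorem isSimple_two [Subsingleton ρ] (hρ' : Fintype.card ρ' < 2) [Nonempty β']
    (hβ3 : 3 ≤ Fintype.card (Pt β' ρ' 2))
    (K'' : Sylow 2 (Perm β')) {G : Type*} [Group G] [Finite G] (ι : G →* Perm (Pt (Pt β' ρ' 2) ρ 2))
    (hι : Function.Injective ι) (hr : ι.range = alternatingGroup (Pt (Pt β' ρ' 2) ρ 2)) (S : Sylow 2 G) :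
    (groupFusionSystem (S : Subgroup G)).IsSimple 2 := by
  classical
  let Kmid : Sylow 2 (Perm (Pt β' ρ' 2)) :=
    Sylow.ofCard (Ss ρ' (K'' : Subgroup (Perm β'))) (card_Ss_sylow hρ' K'')
  have hKmid : (Kmid : Subgroup (Perm (Pt β' ρ' 2))) = Ss ρ' (K'' : Subgroup (Perm β')) := rfl
  have hρ : Fintype.card ρ < 2 := by
    have := Fintype.card_le_one_iff_subsingleton.mpr (inferInstance : Subsingleton ρ)
    omega
  have hcard : Nat.card (Sev ρ (Ss ρ' (K'' : Subgroup (Perm β')) : Subgroup (Perm (Pt β' ρ' 2))) :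
      Subgroup (Perm (Pt (Pt β' ρ' 2) ρ 2))) =
      2 ^ (Nat.card (alternatingGroup (Pt (Pt β' ρ' 2) ρ 2))).factorization 2 := by
    have := Cfsg.Agent.Helper80.card_Sev_sylow (ρ := ρ) hρ (by omega) Kmid
    rw [hKmid] at this
    exact this
  have hGA : Nat.card G = Nat.card (alternatingGroup (Pt (Pt β' ρ' 2) ρ 2)) := by
    rw [← hr]
    exact Nat.card_congr (MonoidHom.ofInjective hι).toEquiv
  obtain ⟨j₀⟩ := (inferInstance : Nonempty β')
  have hsw : ∃ y y' : Pt β' ρ' 2, y ≠ y' ∧ Equiv.swap y y' ∈ Ss ρ' (K'' : Subgroup (Perm β')) := by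
    refine ⟨Sum.inl (j₀, 0), Sum.inl (j₀, 0 + 1), ?_, ?_⟩
    · intro h
      simp only [Sum.inl.injEq, Prod.mk.injEq] at h
      exact absurd h.2 (by decide)
    · rw [← tcyc_two_eq_swap]
      exact Bs_le_Ss _ (tcyc_mem_Bs _)
  refine isSimple_of_ambient_all ι hι 2
    (Sev ρ (Ss ρ' (K'' : Subgroup (Perm β')) : Subgroup (Perm (Pt β' ρ' 2)))) ?_ ?_ ?_ ?_ ?_ S
  · rw [hr]
    exact inf_le_right
  · rw [hGA]
    exact hcard
  · -- nontrivial
    intro hbot
    obtain ⟨y, y', hyy', -⟩ := hsw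
    have h1 := T_pair_mem (ρ := ρ) (Ss ρ' (K'' : Subgroup (Perm β'))) y y'
    change _ ∈ Sev ρ _ at h1
    rw [hbot, Subgroup.mem_bot] at h1
    have h2 := congrArg (fun k : Perm (Pt (Pt β' ρ' 2) ρ 2) => k (Sum.inl (y, 0))) h1
    simp only [T_inl, Pi.add_apply, Pi.single_eq_same, Pi.single_eq_of_ne hyy', Perm.one_apply,
      Sum.inl.injEq, Prod.mk.injEq] at h2
    exact absurd h2.2 (by decide)
  · rw [hr]
    intro g hgA hgN
    exact Cfsg.Agent.Helper9.locGen_two hβ3 _ hsw g hgA hgN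
  · rw [hr]
    intro T' hT' hcl
    have hK := Cfsg.Agent.Helper80.sylow_perm_gen_by_order_p 2 Kmid
    rw [hKmid] at hK
    exact Cfsg.Agent.Helper60.noStrClosed_two hβ3 _ hK hsw T' hT' hcl

end Cfsg.Agent.Helper88.AltM
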