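import Mathlib

set_option autoImplicit false

/-! # The barycenter homomorphism of a monomial action (Gaschütz-type averaging)

A group `G` acts on a finite set `Q` through `π`, with a cocycle `h : G → Q → G` (`h (s s') q = h s (π s' q) h s' q`), graded over a
quotient `Gt` of `G` modulo an abelian normal subgroup (the image of `j : M →* Gt`): `qt (h s q) = j (d s q) qt s`.
Then `f s = j ((∏ q, d s q) ^ n') qt s` is a homomorphism `G →* Gt` lifting the identity modulo `j M`, and it is surjective as soon
as the products `∏ q, d u q`, `u` over `j M`, lie in the Frattini subgroup.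
-/

namespace Cfsg.Agent.Helper88.Bary

variable {G Gt M Q : Type*} [Group G] [Group Gt] [CommGroup M] [Fintype Q]
  (qt : G →* Gt) (j : M →* Gt) (act : G →* MulAut M) (π : G →* Equiv.Perm Q) (h : G → Q → G) (d : G → Q → M)

/-- The product of the differences. -/
noncomputable def dl (d : G → Q → M) (s : G) : M := ∏ q, d s q

section

variable (hact : ∀ (s : G) (m : M), j (act s m) = qt s * j m * (qt s)⁻¹) (hj : Function.Injective j)
  (hh : ∀ (s s' : G) (q : Q), h (s * s') q = h s (π s' q) * h s' q)
  (hd : ∀ (s : G) (q : Q), j (d s q) = qt (h s q) * (qt s)⁻¹)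

omit [Fintype Q] in
include hact hj hh hd in
theorem d_mul (s s' : G) (q : Q) : d (s * s') q = d s (π s' q) * act s (d s' q) := by
  apply hj
  rw [map_mul, hd, hd, hact, hd, hh, map_mul, map_mul]
  group

include hact hj hh hd in
theorem dl_mul (s s' : G) : dl d (s * s') = dl d s * act s (dl d s') := by
  unfold dl
  rw [map_prod, ← Fintype.prod_equiv (π s') (fun q => d s (π s' q)) (fun q => d s q) (fun _ => rfl),
    ← Finset.prod_mul_distrib]
  apply Finset.prod_congr rfl
  intro q _
  exact d_mul qt j act π h d hact hj hh hd s s' q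

/-- The barycenter homomorphism. -/
noncomputable def baryHom (n' : ℕ) : G →* Gt where
  toFun s := j (dl d s ^ n') * qt s
  map_one' := by
    have h1 : dl d (1 : G) = 1 := by
      have := dl_mul qt j act π h d hact hj hh hd 1 1
      rw [mul_one, map_one, MulAut.one_apply] at this
      exact (mul_eq_left.mp this.symm)
    rw [h1, one_pow, map_one, map_one, mul_one]
  map_mul' s s' := by
    rw [dl_mul qt j act π h d hact hj hh hd s s', mul_pow, map_mul, ← map_pow (act s), hact, map_mul]
    group

theorem baryHom_apply (n' : ℕ) (s : G) :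
    baryHom qt j act π h d hact hj hh hd n' s = j (dl d s ^ n') * qt s := rfl

/-- The barycenter homomorphism is surjective when the products of the differences over the kernel of the grading lie in the
Frattini subgroup. -/
theorem baryHom_surjective [Finite Gt] (n' : ℕ) (hqt : Function.Surjective qt)
    (hfr : ∀ (u : G) (ub : M), qt u = j ub → j (dl d u) ∈ frattini Gt) :
    Function.Surjective (baryHom qt j act π h d hact hj hh hd n') := by
  set f := baryHom qt j act π h d hact hj hh hd n' with hf
  rw [← MonoidHom.range_eq_top]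
  apply frattini_nongenerating
  rw [eq_top_iff]
  have hjm : ∀ m : M, j m ∈ f.range ⊔ frattini Gt := by
    intro m
    obtain ⟨u, hu⟩ := hqt (j m)
    have h1 : f u = j (dl d u ^ n') * j m := by rw [hf, baryHom_apply, hu]
    have h3 : j m = (j (dl d u ^ n'))⁻¹ * f u := by rw [h1]; group
    rw [h3]
    apply Subgroup.mul_mem
    · apply Subgroup.inv_mem
      rw [map_pow]
      exact (le_sup_right : frattini Gt ≤ f.range ⊔ frattini Gt) (Subgroup.pow_mem _ (hfr u m hu) n')
    · exact (le_sup_left : f.range ≤ f.range ⊔ frattini Gt) ⟨u, rfl⟩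
  intro g _
  obtain ⟨s, rfl⟩ := hqt g
  have h3 : qt s = (j (dl d s ^ n'))⁻¹ * f s := by rw [hf, baryHom_apply]; group
  rw [h3]
  apply Subgroup.mul_mem
  · exact Subgroup.inv_mem _ (hjm _)
  · exact (le_sup_left : f.range ≤ f.range ⊔ frattini Gt) ⟨s, rfl⟩

include hact hj hh hd in
/-- Every element of the abelian normal subgroup is the value of the barycenter homomorphism at an element of its preimage. -/
theorem exists_baryHom_eq [Finite Gt] (n' : ℕ) (hqt : Function.Surjective qt)
    (hfr : ∀ (u : G) (ub : M), qt u = j ub → j (dl d u) ∈ frattini Gt) (m : M) :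
    ∃ (u : G) (ub : M), qt u = j ub ∧ dl d u ^ n' * ub = m := by
  obtain ⟨u, hu⟩ := baryHom_surjective qt j act π h d hact hj hh hd n' hqt hfr (j m)
  rw [baryHom_apply] at hu
  have h1 : qt u = j ((dl d u ^ n')⁻¹ * m) := by
    rw [map_mul, map_inv, ← hu]; group
  refine ⟨u, (dl d u ^ n')⁻¹ * m, h1, ?_⟩
  rw [mul_inv_cancel_left]

end

end Cfsg.Agent.Helper88.Bary
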