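import Cfsg.Agent.Helper88.ParkSec
import Cfsg.Agent.Helper88.Bary

set_option autoImplicit false

/-! # The barycenter homomorphism of a biset

For an `S × S`-set `X` with free right action, an augmentation `ε` over `lam : S → A` and a section `t` of the right orbits with
`ε ∘ t = 1`, the cocycle of the left action is graded over `lam`.  For a quotient `Gt` of `S` in which the image of `ker lam` is the
(injective) image of an abelian group `M` of exponent `p`, the products `wK u = ∏ q, [h u q]` define a homomorphism `ker lam →* M`,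
which is surjective as soon as the quotient of `S` onto the Frattini quotient of `Gt` admits a degree function on `X`.
-/

namespace Cfsg.Agent.Helper88.BaryPark

open Cfsg Cfsg.Agent.Helper86.Park Cfsg.Agent.Helper86.PP Cfsg.Agent.Helper88.ParkSec MulAction

variable {Ω : Type*} [Group Ω] {S : Subgroup Ω} {X : Type*} [MulAction (↥S × ↥S) X]
  {A : Type*} [CommGroup A] {lam : ↥S →* A} {ε : X → A} {t : RQ S X → X}

/-- The cocycle of the left action. -/
noncomputable def hS (ht : IsSec t) (s : ↥S) (q : RQ S X) : ↥S := hOf ht (iotaHom S X s) q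

theorem hS_mul (hfree : RightFree S X) (ht : IsSec t) (s s' : ↥S) (q : RQ S X) :
    hS ht (s * s') q = hS ht s (iotaHom S X s' • q) * hS ht s' q := by
  unfold hS
  rw [map_mul, hOf_mul hfree]

theorem lam_hS (hε : IsAug lam ε) (ht : IsSec t) (ht1 : ∀ q, ε (t q) = 1) (s : ↥S) (q : RQ S X) :
    lam (hS ht s q) = lam s :=
  lam_hOf_iota hε ht ht1 s q

/-- The cocycle on the kernel of the grading. -/
noncomputable def hK (hε : IsAug lam ε) (ht : IsSec t) (ht1 : ∀ q, ε (t q) = 1) (u : lam.ker) (q : RQ S X) : lam.ker :=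
  ⟨hS ht u q, by rw [MonoidHom.mem_ker, lam_hS hε ht ht1]; exact u.2⟩

theorem hK_mul (hfree : RightFree S X) (hε : IsAug lam ε) (ht : IsSec t) (ht1 : ∀ q, ε (t q) = 1)
    (u u' : lam.ker) (q : RQ S X) :
    hK hε ht ht1 (u * u') q = hK hε ht ht1 u (iotaHom S X u' • q) * hK hε ht ht1 u' q := by
  apply Subtype.ext
  exact hS_mul hfree ht u u' q

/-- The action on the right orbits. -/
def piS (S : Subgroup Ω) (X : Type*) [MulAction (↥S × ↥S) X] : ↥S →* Equiv.Perm (RQ S X) :=
  (MulAction.toPermHom ↥(AutR S X) (RQ S X)).comp (iotaHom S X)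

theorem piS_apply (s : ↥S) (q : RQ S X) : piS S X s q = iotaHom S X s • q := rfl

variable [Finite X] {M : Type*} [CommGroup M] (qT : lam.ker →* M)

/-- The product of the classes of the cocycle. -/
noncomputable def wK (hfree : RightFree S X) (hε : IsAug lam ε) (ht : IsSec t) (ht1 : ∀ q, ε (t q) = 1) :
    lam.ker →* M where
  toFun u := ∏ q : RQ S X, qT (hK hε ht ht1 u q)
  map_one' := by
    have h1 : ∀ q : RQ S X, hK hε ht ht1 1 q = 1 := by
      intro q
      have h2 := hK_mul hfree hε ht ht1 1 1 q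
      rw [mul_one] at h2
      have h3 : iotaHom S X ((1 : lam.ker) : ↥S) • q = q := by
        have : ((1 : lam.ker) : ↥S) = 1 := rfl
        rw [this, map_one, one_smul]
      rw [h3] at h2
      exact mul_eq_left.mp h2.symm
    apply Finset.prod_eq_one
    intro q _
    rw [h1, map_one]
  map_mul' u u' := by
    have h1 : ∀ q : RQ S X, qT (hK hε ht ht1 (u * u') q) =
        qT (hK hε ht ht1 u (piS S X u' q)) * qT (hK hε ht ht1 u' q) := by
      intro q
      rw [hK_mul hfree, map_mul]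
      rfl
    rw [Finset.prod_congr rfl (fun q _ => h1 q), Finset.prod_mul_distrib]
    congr 1
    exact Equiv.prod_comp (piS S X u') (fun q => qT (hK hε ht ht1 u q))

theorem wK_apply (hfree : RightFree S X) (hε : IsAug lam ε) (ht : IsSec t) (ht1 : ∀ q, ε (t q) = 1) (u : lam.ker) :
    wK qT hfree hε ht ht1 u = ∏ q : RQ S X, qT (hK hε ht ht1 u q) := rfl

section surj

variable {Gt : Type*} [Group Gt] (qt : ↥S →* Gt) (j : M →* Gt) (act : ↥S →* MulAut M)
  (hj : Function.Injective j) (hqT : ∀ v : lam.ker, j (qT v) = qt v)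
  (hact : ∀ (s : ↥S) (m : M), j (act s m) = qt s * j m * (qt s)⁻¹)

/-- The differences of the cocycle. -/
noncomputable def dS (hε : IsAug lam ε) (ht : IsSec t) (ht1 : ∀ q, ε (t q) = 1) (s : ↥S) (q : RQ S X) : M :=
  qT ⟨hS ht s q * s⁻¹, by rw [MonoidHom.mem_ker, map_mul, lam_hS hε ht ht1, map_inv, mul_inv_cancel]⟩

omit [Finite X] in
include hqT in
theorem j_dS (hε : IsAug lam ε) (ht : IsSec t) (ht1 : ∀ q, ε (t q) = 1) (s : ↥S) (q : RQ S X) :
    j (dS qT hε ht ht1 s q) = qt (hS ht s q) * (qt s)⁻¹ := by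
  unfold dS
  rw [hqT]
  show qt (hS ht s q * s⁻¹) = _
  rw [map_mul, map_inv]

omit [Finite X] in
theorem dS_ker (hε : IsAug lam ε) (ht : IsSec t) (ht1 : ∀ q, ε (t q) = 1) (u : lam.ker) (q : RQ S X) :
    dS qT hε ht ht1 u q = qT (hK hε ht ht1 u q) * (qT u)⁻¹ := by
  unfold dS
  rw [← map_inv, ← map_mul]
  rfl

theorem dl_dS_ker (hfree : RightFree S X) (hε : IsAug lam ε) (ht : IsSec t) (ht1 : ∀ q, ε (t q) = 1) (u : lam.ker) :
    Bary.dl (dS qT hε ht ht1) (u : ↥S) = wK qT hfree hε ht ht1 u * ((qT u) ^ Fintype.card (RQ S X))⁻¹ := by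
  unfold Bary.dl
  rw [Finset.prod_congr rfl (fun q _ => dS_ker qT hε ht ht1 u q), Finset.prod_mul_distrib, Finset.prod_const,
    Finset.card_univ, inv_pow]
  rfl

include hj hqT hact in
/-- **Surjectivity of the product homomorphism.** -/
theorem wK_surjective [Finite Gt] (hfree : RightFree S X) (hε : IsAug lam ε) (ht : IsSec t) (ht1 : ∀ q, ε (t q) = 1)
    {p : ℕ} (hM : ∀ m : M, m ^ p = 1) (n' : ℕ) (hn' : Fintype.card (RQ S X) * n' % p = 1)
    (hqt : Function.Surjective qt) (hker : ∀ (u : ↥S) (m : M), qt u = j m → lam u = 1)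
    {B : Type*} [CommGroup B] (μ' : Gt →* B) (hμ' : ∀ g : Gt, μ' g = 1 → g ∈ frattini Gt)
    (Dμ : X → B) (hDμ : IsAug (μ'.comp qt) Dμ) :
    Function.Surjective (wK qT hfree hε ht ht1) := by
  classical
  have hh : ∀ (s s' : ↥S) (q : RQ S X), hS ht (s * s') q = hS ht s (piS S X s' q) * hS ht s' q :=
    fun s s' q => hS_mul hfree ht s s' q
  have hd := j_dS qT qt j hqT hε ht ht1
  have hfr : ∀ (u : ↥S) (ub : M), qt u = j ub → j (Bary.dl (dS qT hε ht ht1) u) ∈ frattini Gt := by
    intro u ub _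
    apply hμ'
    unfold Bary.dl
    show (μ'.comp j) (∏ q : RQ S X, dS qT hε ht ht1 u q) = 1
    rw [map_prod]
    have h1 : ∀ q : RQ S X, (μ'.comp j) (dS qT hε ht ht1 u q) = Dμ (t q) / Dμ (t (piS S X u q)) := by
      intro q
      show μ' (j (dS qT hε ht ht1 u q)) = _
      rw [hd, map_mul, map_inv]
      have h2 : μ' (qt (hS ht u q)) = (μ'.comp qt) (hOf ht (iotaHom S X u) q) := rfl
      rw [h2, deg_hOf hDμ ht, iotaHom_apply, hDμ, map_one, inv_one, mul_one]
      show (μ'.comp qt) u * Dμ (t q) / Dμ (t (piS S X u q)) * ((μ'.comp qt) u)⁻¹ = _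
      rw [mul_div_assoc, mul_comm, ← mul_assoc, inv_mul_cancel, one_mul]
    rw [Finset.prod_congr rfl (fun q _ => h1 q), Finset.prod_div_distrib,
      Equiv.prod_comp (piS S X u) (fun q => Dμ (t q)), div_self']
  intro m
  obtain ⟨u, ub, hu, hum⟩ := Bary.exists_baryHom_eq qt j act (piS S X) (hS ht) (dS qT hε ht ht1) hact hj hh hd n' hqt hfr m
  have hul : lam u = 1 := hker u ub hu
  have hub : ub = qT ⟨u, hul⟩ := by
    apply hj
    rw [← hu, hqT]
  have hpow : ∀ (a : M) (i : ℕ), i % p = 1 → a ^ i = a := by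
    intro a i hi
    rw [← Nat.div_add_mod i p, hi, pow_add, pow_mul, hM, one_pow, one_mul, pow_one]
  refine ⟨⟨u, hul⟩ ^ n', ?_⟩
  rw [map_pow, ← hum, hub]
  have h3 := dl_dS_ker qT hfree hε ht ht1 ⟨u, hul⟩
  have h4 : Bary.dl (dS qT hε ht ht1) u = wK qT hfree hε ht ht1 ⟨u, hul⟩ *
      ((qT ⟨u, hul⟩) ^ Fintype.card (RQ S X))⁻¹ := h3
  rw [h4, mul_pow, inv_pow, ← pow_mul, hpow _ _ hn', inv_mul_cancel_right]

end surj

end Cfsg.Agent.Helper88.BaryPark
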