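import Cfsg.Agent.Helper88.TwistedDiag
import Cfsg.Agent.Helper87.FusionExtend
set_option autoImplicit false
set_option linter.style.haveILetI false

/-! # The congruence between the marks at a twisted diagonal and at the diagonal of a fully automized receptive
conjugate of its source -/

namespace Cfsg.Agent.Helper88.Biset

open Cfsg Cfsg.FusionSystem Cfsg.Agent.Helper87 Cfsg.Agent.Helper88.Marks

variable {Ω : Type*} [Group Ω] {S : Subgroup Ω}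

theorem mk_mem_graph {P Q : Subgroup Ω} (e : P ≃* Q) (hP : P ≤ S) (hQ : Q ≤ S) (a : P) :
    ((⟨a, hP a.2⟩, ⟨e a, hQ (e a).2⟩) : ↥S × ↥S) ∈ (graph e : Subgroup (↥S × ↥S)) := ⟨a, rfl, rfl⟩

/-- Elements normalizing a graph intertwine the isomorphism. -/
theorem normalizer_graph_apply {P Q : Subgroup Ω} (e : P ≃* Q) (hP : P ≤ S) (hQ : Q ≤ S) {n : ↥S × ↥S}
    (hn : n ∈ Subgroup.normalizer ((graph e : Subgroup (↥S × ↥S)) : Set (↥S × ↥S))) (a : P) :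
    ∃ a' : P, ((n.1 : ↥S) : Ω) * a * ((n.1 : ↥S) : Ω)⁻¹ = a' ∧
      ((n.2 : ↥S) : Ω) * e a * ((n.2 : ↥S) : Ω)⁻¹ = e a' := by
  have h := (Subgroup.mem_normalizer_iff.mp hn _).mp (mk_mem_graph e hP hQ a)
  obtain ⟨a', h1, h2⟩ := h
  exact ⟨a', h1, h2⟩

theorem fst_mem_normalizer_of_mem_normalizer_graph {P Q : Subgroup Ω} (e : P ≃* Q) (hP : P ≤ S) (hQ : Q ≤ S)
    {n : ↥S × ↥S} (hn : n ∈ Subgroup.normalizer ((graph e : Subgroup (↥S × ↥S)) : Set (↥S × ↥S))) :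
    ((n.1 : ↥S) : Ω) ∈ Subgroup.normalizer (P : Set Ω) := by
  apply mem_normalizer_of_conj_mem_of_inv_conj_mem
  · intro y hy
    obtain ⟨a', h1, -⟩ := normalizer_graph_apply e hP hQ hn ⟨y, hy⟩
    rw [h1]; exact a'.2
  · intro y hy
    obtain ⟨a', h1, -⟩ := normalizer_graph_apply e hP hQ (Subgroup.inv_mem _ hn) ⟨y, hy⟩
    have : ((n.1 : ↥S) : Ω)⁻¹ * y * ((n.1 : ↥S) : Ω) = a' := by
      rw [← h1]
      simp
    rw [this]; exact a'.2

theorem snd_mem_normalizer_of_mem_normalizer_graph {P Q : Subgroup Ω} (e : P ≃* Q) (hP : P ≤ S) (hQ : Q ≤ S)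
    {n : ↥S × ↥S} (hn : n ∈ Subgroup.normalizer ((graph e : Subgroup (↥S × ↥S)) : Set (↥S × ↥S))) :
    ((n.2 : ↥S) : Ω) ∈ Subgroup.normalizer (Q : Set Ω) := by
  apply mem_normalizer_of_conj_mem_of_inv_conj_mem
  · intro y hy
    obtain ⟨a', -, h2⟩ := normalizer_graph_apply e hP hQ hn (e.symm ⟨y, hy⟩)
    rw [MulEquiv.apply_symm_apply] at h2
    rw [h2]; exact (e a').2
  · intro y hy
    obtain ⟨a', -, h2⟩ := normalizer_graph_apply e hP hQ (Subgroup.inv_mem _ hn) (e.symm ⟨y, hy⟩)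
    rw [MulEquiv.apply_symm_apply] at h2
    have : ((n.2 : ↥S) : Ω)⁻¹ * y * ((n.2 : ↥S) : Ω) = e a' := by
      rw [← h2]
      simp
    rw [this]; exact (e a').2

/-- **The congruence.** For `ρ : R ≃ I` an isomorphism of a saturated system and `Rs` a fully automized receptive conjugate
of `R`, the marks at the graph of `ρ` and at the diagonal of `Rs` are congruent modulo the weight of the graph, which
divides the weight of the diagonal; provided the marks are already stable above the level of `R`. -/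
theorem cong_star [Finite S] {p : ℕ} [Fact p.Prime] (hS : IsPGroup p S) (F : FusionSystem S)
    {R I Rs : Subgroup Ω} (ρ : R ≃* I) (hρ : IsIso F ρ) (hRs₁ : F.IsFullyAutomized p Rs)
    (hRs₂ : F.IsReceptive Rs) (hconj : F.IsConj R Rs)
    (m : Subgroup (↥S × ↥S) →₀ ℕ) (hsupp : ∀ D ∈ m.support, TD F D)
    (hstab : ∀ K K' : Subgroup (↥S × ↥S), TD F K → TD F K' → F.IsConj (src K) (src K') →
      Nat.card (graph ρ : Subgroup (↥S × ↥S)) < Nat.card K → mark m K = mark m K') :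
    mark m (graph ρ) ≡ mark m (graph (MulEquiv.refl Rs)) [MOD wt (graph ρ : Subgroup (↥S × ↥S))] ∧
      wt (graph ρ : Subgroup (↥S × ↥S)) ∣ wt (graph (MulEquiv.refl Rs) : Subgroup (↥S × ↥S)) := by
  classical
  have hR : R ≤ S := hρ.le_left
  have hI : I ≤ S := hρ.le_right
  have hRsS : Rs ≤ S := hRs₁.1
  obtain ⟨eR, heR⟩ := (isConj_iff F R Rs).mp hconj
  obtain ⟨τ, hτ, e', he', hτe, hτN, -, hτR⟩ :=
    exists_extension_normalizerIn' hS F hRs₁ hRs₂ (ρ.symm.trans eR) (hρ.symm.trans heR)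
  have hσ₀i : IsIso F (ρ.trans e') := hρ.trans he'
  obtain ⟨σ₀, hσ₀⟩ : ∃ σ₀ : R ≃* Rs, σ₀ = ρ.trans e' := ⟨_, rfl⟩
  rw [← hσ₀] at hσ₀i
  have hσ₀a : ∀ a : R, ((σ₀ a : Rs) : Ω) = e' (ρ a) := by intro a; rw [hσ₀]; rfl
  obtain ⟨φ₀, hφ₀⟩ : ∃ φ₀ : R →* Ω, φ₀ = Rs.subtype.comp σ₀.toMonoidHom := ⟨_, rfl⟩
  have hφ₀a : ∀ a : R, φ₀ a = σ₀ a := by intro a; rw [hφ₀]; rfl
  have hφ₀m : φ₀ ∈ F.Hom R := by rw [hφ₀]; exact hσ₀i
  have hrange : φ₀.range = Rs := by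
    ext y; constructor
    · rintro ⟨x, rfl⟩; rw [hφ₀a]; exact (σ₀ x).2
    · intro hy
      refine ⟨σ₀.symm ⟨y, hy⟩, ?_⟩
      rw [hφ₀a, MulEquiv.apply_symm_apply]
  obtain ⟨σ, hσ, hσx⟩ := hRs₂.2 R φ₀ hφ₀m hrange
  have hσinj := F.injective_of_mem hσ
  have hτinj := F.injective_of_mem hτ
  have hRext : R ≤ extender S R φ₀ := le_extender_of_mem F hφ₀m
  have hσa : ∀ a : R, σ ⟨a, hRext a.2⟩ = σ₀ a := by
    intro a; rw [hσx a a.2 (hRext a.2), hφ₀a]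
  have hIN : I ≤ normalizerIn S I := le_normalizerIn hI
  have hτb : ∀ b : I, τ ⟨b, hIN b.2⟩ = e' b := hτe
  obtain ⟨D, hD⟩ : ∃ D : Subgroup (↥S × ↥S), D = graph ρ := ⟨_, rfl⟩
  obtain ⟨Ds, hDs⟩ : ∃ Ds : Subgroup (↥S × ↥S), Ds = graph (MulEquiv.refl Rs) := ⟨_, rfl⟩
  rw [← hD, ← hDs]
  rw [← hD] at hstab
  have hmemD : ∀ z : ↥S × ↥S, z ∈ D ↔ ∃ a : R, ((z.1 : ↥S) : Ω) = a ∧ ((z.2 : ↥S) : Ω) = ρ a := by
    intro z; rw [hD]; rfl
  have hmemDs : ∀ z : ↥S × ↥S, z ∈ Ds ↔ ∃ b : Rs, ((z.1 : ↥S) : Ω) = b ∧ ((z.2 : ↥S) : Ω) = b := by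
    intro z; rw [hDs]; rfl
  -- facts about elements normalizing `D`
  have f3 : ∀ n : ↥S × ↥S, n ∈ Subgroup.normalizer (D : Set (↥S × ↥S)) → ∀ a : R,
      ∃ a' : R, ((n.1 : ↥S) : Ω) * a * ((n.1 : ↥S) : Ω)⁻¹ = a' ∧
        ((n.2 : ↥S) : Ω) * ρ a * ((n.2 : ↥S) : Ω)⁻¹ = ρ a' := by
    intro n hn a
    rw [hD] at hn
    exact normalizer_graph_apply ρ hR hI hn a
  have hy : ∀ n : ↥S × ↥S, n ∈ Subgroup.normalizer (D : Set (↥S × ↥S)) →
      ((n.2 : ↥S) : Ω) ∈ normalizerIn S I := by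
    intro n hn
    rw [hD] at hn
    exact ⟨n.2.2, snd_mem_normalizer_of_mem_normalizer_graph ρ hR hI hn⟩
  have hτconj : ∀ n : ↥S × ↥S, ∀ hn : n ∈ Subgroup.normalizer (D : Set (↥S × ↥S)), ∀ a a' : R,
      ((n.2 : ↥S) : Ω) * ρ a * ((n.2 : ↥S) : Ω)⁻¹ = ρ a' →
      τ ⟨n.2, hy n hn⟩ * (σ₀ a : Ω) * (τ ⟨n.2, hy n hn⟩)⁻¹ = σ₀ a' := by
    intro n hn a a' h2
    rw [hσ₀a, hσ₀a, ← hτb, ← hτb, ← map_inv, ← map_mul, ← map_mul]
    congr 1
    exact Subtype.ext h2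
  have hx : ∀ n : ↥S × ↥S, n ∈ Subgroup.normalizer (D : Set (↥S × ↥S)) →
      ((n.1 : ↥S) : Ω) ∈ extender S R φ₀ := by
    intro n hn
    rw [mem_extender_iff]
    refine ⟨n.1.2, ?_, τ ⟨n.2, hy n hn⟩, (F.le_of_mem hτ).2 _, ?_⟩
    · rw [hD] at hn
      exact fst_mem_normalizer_of_mem_normalizer_graph ρ hR hI hn
    · intro a ha
      obtain ⟨a', h1, h2⟩ := f3 n hn a
      have e1 : (⟨((n.1 : ↥S) : Ω) * a * ((n.1 : ↥S) : Ω)⁻¹, ha⟩ : R) = a' := Subtype.ext h1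
      rw [e1, hφ₀a, hφ₀a]
      exact (hτconj n hn a a' h2).symm
  have hσconj : ∀ n : ↥S × ↥S, ∀ hn : n ∈ Subgroup.normalizer (D : Set (↥S × ↥S)), ∀ a a' : R,
      ((n.1 : ↥S) : Ω) * a * ((n.1 : ↥S) : Ω)⁻¹ = a' →
      σ ⟨n.1, hx n hn⟩ * (σ₀ a : Ω) * (σ ⟨n.1, hx n hn⟩)⁻¹ = σ₀ a' := by
    intro n hn a a' h1
    rw [← hσa, ← hσa, ← map_inv, ← map_mul, ← map_mul]
    congr 1
    exact Subtype.ext h1
  -- the second map
  obtain ⟨N, hN⟩ : ∃ N : Subgroup (↥S × ↥S), N = Subgroup.normalizer (D : Set (↥S × ↥S)) := ⟨_, rfl⟩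
  have hmemN : ∀ n : N, (n : ↥S × ↥S) ∈ Subgroup.normalizer (D : Set (↥S × ↥S)) := by
    intro n; rw [← hN]; exact n.2
  let θ₂ : ↥N →* ↥S × ↥S := MonoidHom.mk'
    (fun n => (⟨σ ⟨((n : ↥S × ↥S).1 : ↥S), hx n (hmemN n)⟩, (F.le_of_mem hσ).2 _⟩,
      ⟨τ ⟨((n : ↥S × ↥S).2 : ↥S), hy n (hmemN n)⟩, (F.le_of_mem hτ).2 _⟩))
    (by
      intro a b
      apply Prod.ext
      · apply Subtype.ext
        show σ ⟨_, _⟩ = σ ⟨_, _⟩ * σ ⟨_, _⟩
        rw [← map_mul]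
        rfl
      · apply Subtype.ext
        show τ ⟨_, _⟩ = τ ⟨_, _⟩ * τ ⟨_, _⟩
        rw [← map_mul]
        rfl)
  have hθ1 : ∀ n : N, (((θ₂ n).1 : ↥S) : Ω) = σ ⟨((n : ↥S × ↥S).1 : ↥S), hx n (hmemN n)⟩ := fun n => rfl
  have hθ2 : ∀ n : N, (((θ₂ n).2 : ↥S) : Ω) = τ ⟨((n : ↥S × ↥S).2 : ↥S), hy n (hmemN n)⟩ := fun n => rfl
  have hθinj : Function.Injective θ₂ := by
    intro a b hab
    have h1 : (((θ₂ a).1 : ↥S) : Ω) = (((θ₂ b).1 : ↥S) : Ω) := by rw [hab]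
    have h2 : (((θ₂ a).2 : ↥S) : Ω) = (((θ₂ b).2 : ↥S) : Ω) := by rw [hab]
    rw [hθ1, hθ1] at h1
    rw [hθ2, hθ2] at h2
    have h1' := congrArg Subtype.val (hσinj h1)
    have h2' := congrArg Subtype.val (hτinj h2)
    apply Subtype.ext
    apply Prod.ext
    · exact Subtype.ext h1'
    · exact Subtype.ext h2'
  -- images of elements of `D`
  have hθD : ∀ n : N, (n : ↥S × ↥S) ∈ D → θ₂ n ∈ Ds := by
    intro n hnD
    obtain ⟨a, ha1, ha2⟩ := (hmemD _).mp hnD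
    rw [hmemDs]
    refine ⟨σ₀ a, ?_, ?_⟩
    · rw [hθ1, ← hσa]
      congr 1
      exact Subtype.ext ha1
    · rw [hθ2, hσ₀a, ← hτb]
      congr 1
      exact Subtype.ext ha2
  have hθDs : ∀ n : N, θ₂ n ∈ Ds → (n : ↥S × ↥S) ∈ D := by
    intro n hn
    obtain ⟨b, hb1, hb2⟩ := (hmemDs _).mp hn
    rw [hθ1] at hb1
    rw [hθ2] at hb2
    have hnI : (((n : ↥S × ↥S).2 : ↥S) : Ω) ∈ I := by
      apply hτR ⟨_, hy n (hmemN n)⟩
      rw [hb2]; exact b.2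
    rw [hmemD]
    refine ⟨ρ.symm ⟨_, hnI⟩, ?_, ?_⟩
    · have h1 : σ ⟨(ρ.symm ⟨_, hnI⟩ : R), hRext (ρ.symm ⟨_, hnI⟩).2⟩ =
          σ ⟨((n : ↥S × ↥S).1 : ↥S), hx n (hmemN n)⟩ := by
        rw [hσa, hσ₀a, MulEquiv.apply_symm_apply, ← hτb, hb1]
        exact hb2
      have h2 := congrArg Subtype.val (hσinj h1)
      exact h2.symm
    · rw [MulEquiv.apply_symm_apply]
  -- `θ₂` normalizes the diagonal
  have hkey : ∀ n : N, ∀ z ∈ Ds, θ₂ n * z * (θ₂ n)⁻¹ ∈ Ds := by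
    intro n z hz
    obtain ⟨b, hb1, hb2⟩ := (hmemDs _).mp hz
    obtain ⟨a', h1, h2⟩ := f3 n (hmemN n) (σ₀.symm b)
    rw [hmemDs]
    refine ⟨σ₀ a', ?_, ?_⟩
    · show (((θ₂ n).1 : ↥S) : Ω) * ((z.1 : ↥S) : Ω) * (((θ₂ n).1 : ↥S) : Ω)⁻¹ = σ₀ a'
      rw [hθ1, hb1]
      have := hσconj n (hmemN n) (σ₀.symm b) a' h1
      rwa [MulEquiv.apply_symm_apply] at this
    · show (((θ₂ n).2 : ↥S) : Ω) * ((z.2 : ↥S) : Ω) * (((θ₂ n).2 : ↥S) : Ω)⁻¹ = σ₀ a'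
      rw [hθ2, hb2]
      have := hτconj n (hmemN n) (σ₀.symm b) a' h2
      rwa [MulEquiv.apply_symm_apply] at this
  have hθN : ∀ n : N, θ₂ n ∈ Subgroup.normalizer (Ds : Set (↥S × ↥S)) := by
    intro n
    apply mem_normalizer_of_conj_mem_of_inv_conj_mem (hkey n)
    intro z hz
    have := hkey n⁻¹ z hz
    rwa [map_inv, inv_inv] at this
  haveI : Fintype N := Fintype.ofFinite N
  have hDN : D ≤ N := by rw [hN]; exact Subgroup.le_normalizer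
  have hmapE : (D.subgroupOf N).map θ₂ = Ds := by
    ext z
    rw [Subgroup.mem_map]
    constructor
    · rintro ⟨x, hx', rfl⟩
      exact hθD x hx'
    · intro hz
      obtain ⟨b, hb1, hb2⟩ := (hmemDs _).mp hz
      have hn₀D : ((⟨(σ₀.symm b : R), hR (σ₀.symm b).2⟩, ⟨ρ (σ₀.symm b), hI (ρ (σ₀.symm b)).2⟩) : ↥S × ↥S) ∈ D := by
        rw [hD]; exact mk_mem_graph ρ hR hI _
      refine ⟨⟨_, hDN hn₀D⟩, hn₀D, ?_⟩
      apply Prod.ext
      · apply Subtype.ext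
        rw [hθ1, hb1]
        show σ ⟨(σ₀.symm b : R), _⟩ = b
        rw [hσa, MulEquiv.apply_symm_apply]
      · apply Subtype.ext
        rw [hθ2, hb2]
        show τ ⟨(ρ (σ₀.symm b) : I), _⟩ = b
        rw [hτb, ← hσ₀a, MulEquiv.apply_symm_apply]
  have hcardE : Nat.card (D.subgroupOf N) = Nat.card D :=
    Nat.card_congr (Subgroup.subgroupOfEquivOfLe hDN).toEquiv
  have hmod := mark_modEq N.subtype θ₂ m D Ds hmemN hθN (D.subgroupOf N) (fun n => Iff.rfl)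
    (fun n => ⟨hθDs n, hθD n⟩) ?_
  · constructor
    · have hwt : wt D = Fintype.card N / Nat.card (D.subgroupOf N) := by
        unfold wt
        rw [hcardE, ← Nat.card_eq_fintype_card, hN]
      rw [hwt]
      exact hmod
    · have h1 : Nat.card N ∣ Nat.card (Subgroup.normalizer (Ds : Set (↥S × ↥S))) :=
        Subgroup.card_dvd_of_injective (θ₂.codRestrict _ hθN) (by
          intro a b hab
          apply hθinj
          exact congrArg Subtype.val hab)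
      have h2 : Nat.card D = Nat.card Ds := by
        rw [hD, hDs, card_graph ρ hR hI, card_graph (MulEquiv.refl Rs) hRsS hRsS]
        exact Nat.card_congr σ₀.toEquiv
      have h3 := wt_mul_card D
      have h4 := wt_mul_card Ds
      rw [← hN] at h3
      rw [← h3, ← h4, ← h2] at h1
      exact Nat.dvd_of_mul_dvd_mul_right Nat.card_pos h1
  · intro n hnE
    have hnD : (n : ↥S × ↥S) ∉ D := hnE
    have hKN : D ⊔ Subgroup.zpowers (N.subtype n) ≤ N := by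
      apply sup_le hDN
      rw [Subgroup.zpowers_le]
      exact n.2
    have hKA : ∀ z ∈ D ⊔ Subgroup.zpowers (N.subtype n), ((z.1 : ↥S) : Ω) ∈ extender S R φ₀ :=
      fun z hz => hx z (hN ▸ hKN hz)
    have hKB : ∀ z ∈ D ⊔ Subgroup.zpowers (N.subtype n), ((z.2 : ↥S) : Ω) ∈ normalizerIn S I :=
      fun z hz => hy z (hN ▸ hKN hz)
    have hKs : Ds ⊔ Subgroup.zpowers (θ₂ n) = ((D ⊔ Subgroup.zpowers (N.subtype n)).subgroupOf N).map θ₂ := by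
      rw [Subgroup.subgroupOf_sup hDN (by rw [Subgroup.zpowers_le]; exact n.2), Subgroup.map_sup, hmapE]
      congr 1
      rw [← MonoidHom.map_zpowers]
      congr 1
      ext x
      rw [Subgroup.mem_subgroupOf, Subgroup.mem_zpowers_iff, Subgroup.mem_zpowers_iff]
      constructor
      · rintro ⟨k, hk⟩
        exact ⟨k, congrArg Subtype.val hk⟩
      · rintro ⟨k, hk⟩
        exact ⟨k, Subtype.ext hk⟩
    have hK' : ∀ z' : ↥S × ↥S, z' ∈ Ds ⊔ Subgroup.zpowers (θ₂ n) ↔ ∃ z, ∃ hz : z ∈ D ⊔ Subgroup.zpowers (N.subtype n),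
        ((z'.1 : ↥S) : Ω) = σ ⟨z.1, hKA z hz⟩ ∧ ((z'.2 : ↥S) : Ω) = τ ⟨z.2, hKB z hz⟩ := by
      intro z'
      rw [hKs, Subgroup.mem_map]
      constructor
      · rintro ⟨x, hxK, rfl⟩
        exact ⟨x, hxK, rfl, rfl⟩
      · rintro ⟨z, hz, hz1, hz2⟩
        refine ⟨⟨z, hKN hz⟩, hz, ?_⟩
        apply Prod.ext
        · apply Subtype.ext
          rw [hz1]; rfl
        · apply Subtype.ext
          rw [hz2]; rfl
    by_cases hTD : TD F (D ⊔ Subgroup.zpowers (N.subtype n))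
    · obtain ⟨hTDs, hcj⟩ := TD.transport hσ hτ hKA hKB hK' hTD
      apply hstab _ _ hTD hTDs hcj
      by_contra hlt
      have hEq := Subgroup.eq_of_le_of_card_ge (le_sup_left : D ≤ D ⊔ Subgroup.zpowers (N.subtype n)) (not_lt.mp hlt)
      apply hnD
      rw [hEq]
      exact (le_sup_right : Subgroup.zpowers (N.subtype n) ≤ _) (Subgroup.mem_zpowers _)
    · have h1 : mark m (D ⊔ Subgroup.zpowers (N.subtype n)) = 0 := by
        by_contra h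
        exact hTD (TD.of_mark_ne_zero m hsupp _ h)
      have h2 : mark m (Ds ⊔ Subgroup.zpowers (θ₂ n)) = 0 := by
        by_contra h
        exact hTD (TD.transport_symm hσ hτ hKA hKB hK' (TD.of_mark_ne_zero m hsupp _ h))
      rw [h1, h2]

end Cfsg.Agent.Helper88.Biset
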