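import Cfsg.Agent.Helper88.BisetCong
set_option autoImplicit false
set_option linter.style.haveILetI false

/-! # Existence of a characteristic biset (as a multiset of twisted diagonals with stable marks) -/

namespace Cfsg.Agent.Helper88.Biset

open Cfsg Cfsg.FusionSystem Cfsg.Agent.Helper87 Cfsg.Agent.Helper88.Marks

variable {Ω : Type*} [Group Ω] {S : Subgroup Ω}

open Classical in
/-- A fully automized receptive member of a set of subgroups, if there is one. -/
noncomputable def starOfSet (F : FusionSystem S) (p : ℕ) (c : Set (Subgroup Ω)) : Subgroup Ω :=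
  if h : ∃ Q ∈ c, F.IsFullyAutomized p Q ∧ F.IsReceptive Q then Classical.choose h else ⊥

/-- A chosen fully automized receptive conjugate, depending only on the conjugacy class. -/
noncomputable def Rstar (F : FusionSystem S) (p : ℕ) (P : Subgroup Ω) : Subgroup Ω :=
  starOfSet F p {P' | F.IsConj P P'}

theorem Rstar_spec (F : FusionSystem S) {p : ℕ} (hF : F.IsSaturated p) {P : Subgroup Ω} (hP : P ≤ S) :
    F.IsConj P (Rstar F p P) ∧ F.IsFullyAutomized p (Rstar F p P) ∧ F.IsReceptive (Rstar F p P) := by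
  have h : ∃ Q ∈ {P' | F.IsConj P P'}, F.IsFullyAutomized p Q ∧ F.IsReceptive Q := by
    obtain ⟨Q, h1, h2, h3⟩ := hF P hP
    exact ⟨Q, h1, h2, h3⟩
  unfold Rstar starOfSet
  rw [dif_pos h]
  obtain ⟨h1, h2⟩ := Classical.choose_spec h
  exact ⟨h1, h2⟩

theorem Rstar_congr (F : FusionSystem S) (p : ℕ) {P P' : Subgroup Ω} (h : F.IsConj P P') :
    Rstar F p P = Rstar F p P' := by
  unfold Rstar
  congr 1
  ext Q
  exact ⟨fun hQ => isConj_trans F (isConj_symm F h) hQ, fun hQ => isConj_trans F h hQ⟩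

theorem card_eq_of_isConj (F : FusionSystem S) {P Q : Subgroup Ω} (h : F.IsConj P Q) : Nat.card P = Nat.card Q := by
  obtain ⟨e, -⟩ := (isConj_iff F P Q).mp h
  exact Nat.card_congr e.toEquiv

theorem TD.card_eq_card_src [Finite S] {F : FusionSystem S} {D : Subgroup (↥S × ↥S)} (hD : TD F D) :
    Nat.card D = Nat.card (src D) := by
  obtain ⟨P, Q, e, he, rfl⟩ := hD
  rw [card_graph e he.le_left he.le_right, src_graph e he.le_left he.le_right]

/-- The diagonal of a subgroup. -/
def diag (R : Subgroup Ω) : Subgroup (↥S × ↥S) := graph (MulEquiv.refl R)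

/-- The star of a twisted diagonal: the diagonal of the chosen conjugate of its source. -/
noncomputable def star (F : FusionSystem S) (p : ℕ) (D : Subgroup (↥S × ↥S)) : Subgroup (↥S × ↥S) :=
  diag (Rstar F p (src D))

/-- Stability of the marks at the twisted diagonals of order at least `k`. -/
def StableFrom (F : FusionSystem S) (m : Subgroup (↥S × ↥S) →₀ ℕ) (k : ℕ) : Prop :=
  ∀ K K' : Subgroup (↥S × ↥S), TD F K → TD F K' → F.IsConj (src K) (src K') → k ≤ Nat.card K →
    mark m K = mark m K'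

open Classical in
/-- **One level of the construction.** -/
theorem exists_level_step [Finite S] {p : ℕ} [Fact p.Prime] (hS : IsPGroup p S) (F : FusionSystem S)
    (hF : F.IsSaturated p) (k : ℕ) (m : Subgroup (↥S × ↥S) →₀ ℕ) (hsupp : ∀ D ∈ m.support, TD F D)
    (hstab : StableFrom F m (k + 1)) :
    ∃ a : Subgroup (↥S × ↥S) →₀ ℕ,
      (∀ R : Subgroup (↥S × ↥S), a R = if (TD F R ∧ Nat.card R = k) ∧ rep R = R then
        (mark m (star F p R) + wt (star F p R) * (total m + 1) - mark m R) / wt R else 0) ∧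
      (∀ D ∈ (m + a).support, TD F D) ∧ StableFrom F (m + a) k := by
  have hTcj : ∀ D ∈ {D : Subgroup (↥S × ↥S) | TD F D ∧ Nat.card D = k}, ∀ g : ↥S × ↥S,
      cj g D ∈ {D : Subgroup (↥S × ↥S) | TD F D ∧ Nat.card D = k} := by
    intro D hD g
    exact ⟨(hD.1.cj g).1, by rw [card_cj]; exact hD.2⟩
  have hstar_cj : ∀ D ∈ {D : Subgroup (↥S × ↥S) | TD F D ∧ Nat.card D = k}, ∀ g : ↥S × ↥S,
      star F p (cj g D) = star F p D := by
    intro D hD g
    unfold star
    rw [Rstar_congr F p (hD.1.cj g).2]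
  have hboth : ∀ D ∈ {D : Subgroup (↥S × ↥S) | TD F D ∧ Nat.card D = k},
      mark m D ≡ mark m (star F p D) [MOD wt D] ∧ wt D ∣ wt (star F p D) := by
    rintro D ⟨hTD, hcard⟩
    obtain ⟨R, I, ρ, hρ, rfl⟩ := hTD
    have hR : R ≤ S := hρ.le_left
    have hI : I ≤ S := hρ.le_right
    obtain ⟨h1, h2, h3⟩ := Rstar_spec F hF hR
    have hst : star F p (graph ρ : Subgroup (↥S × ↥S)) = graph (MulEquiv.refl (Rstar F p R)) := by
      unfold star diag
      rw [src_graph ρ hR hI]
    rw [hst]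
    apply cong_star hS F ρ hρ h2 h3 h1 m hsupp
    intro K K' hK hK' hc hlt
    apply hstab K K' hK hK' hc
    rw [hcard] at hlt
    exact hlt
  obtain ⟨a, ha, hmark⟩ := exists_step k {D : Subgroup (↥S × ↥S) | TD F D ∧ Nat.card D = k} (fun D hD => hD.2)
    hTcj (star F p) hstar_cj m (fun D hD => (hboth D hD).2) (fun D hD => (hboth D hD).1)
  have haT : ∀ R : Subgroup (↥S × ↥S), a R ≠ 0 → TD F R ∧ Nat.card R = k := by
    intro R hR
    by_contra hcon
    apply hR
    rw [ha R, if_neg]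
    exact fun h => hcon h.1
  refine ⟨a, fun R => ?_, ?_, ?_⟩
  · rw [ha R]
    by_cases hc : (TD F R ∧ Nat.card R = k) ∧ rep R = R
    · rw [if_pos hc]
      exact if_pos hc
    · rw [if_neg hc]
      exact if_neg hc
  · intro D hD
    rw [Finsupp.mem_support_iff, Finsupp.add_apply] at hD
    by_cases hmD : m D = 0
    · have : a D ≠ 0 := by
        intro h0; rw [hmD, h0] at hD; exact hD rfl
      exact (haT D this).1
    · exact hsupp D (Finsupp.mem_support_iff.mpr hmD)
  · intro K K' hK hK' hc hle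
    have hcardKK' : Nat.card K = Nat.card K' := by
      rw [hK.card_eq_card_src, hK'.card_eq_card_src]
      exact card_eq_of_isConj F hc
    rcases Nat.lt_or_ge k (Nat.card K) with hlt | hge
    · have h0 : ∀ K'' : Subgroup (↥S × ↥S), k < Nat.card K'' → mark a K'' = 0 := by
        intro K'' hK''
        apply mark_eq_zero_of_card_lt
        intro D hD
        rw [(haT D (Finsupp.mem_support_iff.mp hD)).2]
        exact hK''
      rw [mark_add, mark_add, h0 K hlt, h0 K' (hcardKK' ▸ hlt)]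
      rw [hstab K K' hK hK' hc hlt]
    · have hk : Nat.card K = k := le_antisymm hge hle
      have hKT : K ∈ {D : Subgroup (↥S × ↥S) | TD F D ∧ Nat.card D = k} := ⟨hK, hk⟩
      have hKT' : K' ∈ {D : Subgroup (↥S × ↥S) | TD F D ∧ Nat.card D = k} := ⟨hK', hcardKK' ▸ hk⟩
      rw [hmark K hKT, hmark K' hKT']
      have : star F p K = star F p K' := by
        unfold star
        rw [Rstar_congr F p hc]
      rw [this]

/-! ### The top level: graphs of automorphisms of `S` -/

theorem mem_graph_aut (α : MulAut ↥S) (z : ↥S × ↥S) :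
    z ∈ (graph (α : ↥S ≃* ↥S) : Subgroup (↥S × ↥S)) ↔ z.2 = α z.1 := by
  rw [mem_graph]
  constructor
  · rintro ⟨a, h1, h2⟩
    have : z.1 = a := Subtype.ext h1
    rw [this]
    exact Subtype.ext h2
  · intro h
    exact ⟨z.1, rfl, by rw [h]⟩

/-- Twisted diagonals of full order are the graphs of the automorphisms of `S` in the system. -/
theorem TD_top_iff [Finite S] (F : FusionSystem S) (D : Subgroup (↥S × ↥S)) :
    (TD F D ∧ Nat.card D = Nat.card S) ↔ ∃ α ∈ F.autGroup S, D = graph (α : ↥S ≃* ↥S) := by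
  constructor
  · rintro ⟨⟨P, Q, e, he, rfl⟩, hcard⟩
    have hP : P ≤ S := he.le_left
    have hQ : Q ≤ S := he.le_right
    rw [card_graph e hP hQ] at hcard
    have hPS : P = S := Subgroup.eq_of_le_of_card_ge hP hcard.ge
    have hQS : Q = S := by
      apply Subgroup.eq_of_le_of_card_ge hQ
      rw [← Nat.card_congr e.toEquiv]
      exact hcard.ge
    subst hPS
    subst hQS
    exact ⟨e, (mem_autGroup_iff F le_rfl e).mpr he, rfl⟩
  · rintro ⟨α, hα, rfl⟩
    have hα' : IsIso F (α : ↥S ≃* ↥S) := (mem_autGroup_iff F le_rfl α).mp hα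
    exact ⟨⟨S, S, α, hα', rfl⟩, card_graph _ le_rfl le_rfl⟩

/-- Graphs of two automorphisms are conjugate exactly when the automorphisms differ by an inner automorphism. -/
theorem graph_aut_mem_cls_iff (α β : MulAut ↥S) :
    (graph (β : ↥S ≃* ↥S) : Subgroup (↥S × ↥S)) ∈ cls (graph (α : ↥S ≃* ↥S) : Subgroup (↥S × ↥S)) ↔
      α⁻¹ * β ∈ autInducedBy S S := by
  rw [mem_autInducedBy_iff]
  constructor
  · rintro ⟨g, hg⟩
    have key : ∀ s : ↥S, β s = g.2 * α (g.1⁻¹ * s * g.1) * g.2⁻¹ := by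
      intro s
      have h1 : ((s, β s) : ↥S × ↥S) ∈ (graph (β : ↥S ≃* ↥S) : Subgroup (↥S × ↥S)) := (mem_graph_aut β _).mpr rfl
      rw [hg, mem_cj, mem_graph_aut] at h1
      have h2 : g.2⁻¹ * β s * g.2 = α (g.1⁻¹ * s * g.1) := h1
      rw [← h2]
      group
    refine ⟨((α.symm g.2 * g.1⁻¹ : ↥S) : Ω), (α.symm g.2 * g.1⁻¹ : ↥S).2, fun s => ?_⟩
    have h3 : (α⁻¹ * β) s = (α.symm g.2 * g.1⁻¹) * s * (α.symm g.2 * g.1⁻¹)⁻¹ := by
      rw [MulAut.mul_apply, key s]
      show α.symm (g.2 * α (g.1⁻¹ * s * g.1) * g.2⁻¹) = _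
      rw [map_mul, map_mul, map_inv, MulEquiv.symm_apply_apply]
      group
    rw [h3]
    rfl
  · rintro ⟨u, hu, hus⟩
    have key : ∀ s : ↥S, β s = α (⟨u, hu⟩ * s * ⟨u, hu⟩⁻¹) := by
      intro s
      have h1 : (α⁻¹ * β) s = ⟨u, hu⟩ * s * ⟨u, hu⟩⁻¹ := Subtype.ext (hus s)
      rw [← h1, MulAut.mul_apply]
      show β s = α (α.symm (β s))
      rw [MulEquiv.apply_symm_apply]
    refine ⟨((⟨u, hu⟩ : ↥S)⁻¹, 1), ?_⟩
    ext z
    rw [mem_cj, mem_graph_aut, mem_graph_aut, key]
    show z.2 = α (⟨u, hu⟩ * z.1 * ⟨u, hu⟩⁻¹) ↔ (1 : ↥S)⁻¹ * z.2 * 1 = α (((⟨u, hu⟩ : ↥S)⁻¹)⁻¹ * z.1 * (⟨u, hu⟩ : ↥S)⁻¹)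
    rw [inv_inv, inv_one, one_mul, mul_one]

/-- All graphs of automorphisms have the same weight. -/
theorem wt_graph_aut [Finite S] (α : MulAut ↥S) :
    wt (graph (α : ↥S ≃* ↥S) : Subgroup (↥S × ↥S)) = wt (graph (MulEquiv.refl ↥S) : Subgroup (↥S × ↥S)) := by
  have hmap : (graph (MulEquiv.refl ↥S) : Subgroup (↥S × ↥S)).map
      (MulEquiv.prodCongr (MulEquiv.refl ↥S) α).toMonoidHom = graph (α : ↥S ≃* ↥S) := by
    ext z
    rw [Subgroup.mem_map, mem_graph_aut]
    constructor
    · rintro ⟨w, hw, rfl⟩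
      have hw' := (mem_graph_aut (1 : MulAut ↥S) w).mp hw
      show α w.2 = α w.1
      rw [hw']; rfl
    · intro hz
      refine ⟨(z.1, z.1), (mem_graph_aut (1 : MulAut ↥S) _).mpr rfl, ?_⟩
      apply Prod.ext
      · rfl
      · exact hz.symm
  unfold wt
  have h1 := Subgroup.map_equiv_normalizer_eq (graph (MulEquiv.refl ↥S) : Subgroup (↥S × ↥S))
    (MulEquiv.prodCongr (MulEquiv.refl ↥S) α)
  rw [hmap] at h1
  rw [← h1, ← hmap, Subgroup.card_map_of_injective (MulEquiv.injective _),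
    Subgroup.card_map_of_injective (MulEquiv.injective _)]

theorem rep_eq_rep_iff {G : Type*} [Group G] [Finite G] (D D' : Subgroup G) : rep D = rep D' ↔ D' ∈ cls D := by
  constructor
  · intro h
    obtain ⟨g, hg⟩ := rep_mem_cls D
    obtain ⟨g', hg'⟩ := rep_mem_cls D'
    refine ⟨g'⁻¹ * g, ?_⟩
    rw [cj_mul, ← hg, h, hg', cj_inv_cj]
  · rintro ⟨g, rfl⟩
    exact (rep_cj g D).symm

/-- The number of conjugacy classes of twisted diagonals of full order is prime to `p`. -/
theorem not_dvd_card_top_reps [Finite S] {p : ℕ} [Fact p.Prime] (F : FusionSystem S)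
    (hFA : F.IsFullyAutomized p S) :
    ¬ p ∣ Nat.card {R : Subgroup (↥S × ↥S) // (TD F R ∧ Nat.card R = Nat.card S) ∧ rep R = R} := by
  haveI : Finite (MulAut ↥S) := finite_mulAut_of_le (le_rfl : S ≤ S)
  obtain ⟨P, hP⟩ := hFA.2
  have hmemT : ∀ α : F.autGroup S, (TD F (rep (graph ((α : MulAut ↥S) : ↥S ≃* ↥S) : Subgroup (↥S × ↥S))) ∧
      Nat.card (rep (graph ((α : MulAut ↥S) : ↥S ≃* ↥S) : Subgroup (↥S × ↥S))) = Nat.card S) := by
    intro α
    obtain ⟨g, hg⟩ := rep_mem_cls (graph ((α : MulAut ↥S) : ↥S ≃* ↥S) : Subgroup (↥S × ↥S))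
    have h := (TD_top_iff F _).mpr ⟨α, α.2, rfl⟩
    rw [hg]
    exact ⟨(h.1.cj g).1, by rw [card_cj]; exact h.2⟩
  let f : F.autGroup S → {R : Subgroup (↥S × ↥S) // (TD F R ∧ Nat.card R = Nat.card S) ∧ rep R = R} :=
    fun α => ⟨rep (graph ((α : MulAut ↥S) : ↥S ≃* ↥S)), hmemT α, rep_rep _⟩
  have hf : ∀ a b : F.autGroup S, f a = f b ↔ a⁻¹ * b ∈ (autInducedBy S S).subgroupOf (F.autGroup S) := by
    intro a b
    rw [Subgroup.mem_subgroupOf]
    show f a = f b ↔ (a : MulAut ↥S)⁻¹ * (b : MulAut ↥S) ∈ autInducedBy S S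
    rw [← graph_aut_mem_cls_iff, ← rep_eq_rep_iff]
    constructor
    · intro h
      exact congrArg Subtype.val h
    · intro h
      exact Subtype.ext h
  let fq : (F.autGroup S ⧸ (autInducedBy S S).subgroupOf (F.autGroup S)) →
      {R : Subgroup (↥S × ↥S) // (TD F R ∧ Nat.card R = Nat.card S) ∧ rep R = R} :=
    Quotient.lift f (fun a b hab => (hf a b).mpr (QuotientGroup.leftRel_apply.mp hab))
  have hbij : Function.Bijective fq := by
    constructor
    · intro x y
      induction x using Quotient.inductionOn with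
      | h a =>
        induction y using Quotient.inductionOn with
        | h b =>
          intro hab
          apply Quotient.sound
          exact QuotientGroup.leftRel_apply.mpr ((hf a b).mp hab)
    · rintro ⟨R, hR, hrep⟩
      obtain ⟨α, hα, rfl⟩ := (TD_top_iff F R).mp hR
      refine ⟨Quotient.mk _ ⟨α, hα⟩, ?_⟩
      apply Subtype.ext
      exact hrep
  rw [← Nat.card_congr (Equiv.ofBijective fq hbij), ← Subgroup.index_eq_card, ← hP]
  exact P.not_dvd_index

/-! ### The index and the main existence theorem -/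

/-- The number of points divided by `|S|`: the number of orbits of either factor. -/
noncomputable def idx (m : Subgroup (↥S × ↥S) →₀ ℕ) : ℕ :=
  m.sum (fun D c => c * (Nat.card S / Nat.card D))

theorem idx_add (m m' : Subgroup (↥S × ↥S) →₀ ℕ) : idx (m + m') = idx m + idx m' := by
  unfold idx
  apply Finsupp.sum_add_index'
  · intro D; simp
  · intro D a b; ring

theorem idx_zero : idx (0 : Subgroup (↥S × ↥S) →₀ ℕ) = 0 := by
  unfold idx; simp

/-- Below the top level, each new orbit type contributes a multiple of `p` to the index. -/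
theorem dvd_idx_of_level [Finite S] {p : ℕ} [hp : Fact p.Prime] (hS : IsPGroup p S) (F : FusionSystem S) (k : ℕ)
    (hk : k < Nat.card S) (a : Subgroup (↥S × ↥S) →₀ ℕ)
    (ha : ∀ R : Subgroup (↥S × ↥S), a R ≠ 0 → TD F R ∧ Nat.card R = k) : p ∣ idx a := by
  unfold idx Finsupp.sum
  apply Finset.dvd_sum
  intro D hD
  obtain ⟨hTD, hcard⟩ := ha D (Finsupp.mem_support_iff.mp hD)
  apply Dvd.dvd.mul_left
  obtain ⟨e, he⟩ := IsPGroup.iff_card.mp hS
  have hdvd : Nat.card D ∣ Nat.card S := by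
    rw [hTD.card_eq_card_src]
    exact Subgroup.card_dvd_of_le (src_le D)
  obtain ⟨q, hq⟩ := hdvd
  have hpos : 0 < Nat.card D := Nat.card_pos
  have hdiv : Nat.card S / Nat.card D = q := by
    rw [hq, Nat.mul_div_cancel_left _ hpos]
  rw [hdiv]
  have hq1 : q ≠ 1 := by
    rintro rfl
    rw [mul_one] at hq
    rw [hq, hcard] at hk
    exact lt_irrefl _ hk
  have hqdvd : q ∣ p ^ e := by
    rw [← he, hq]; exact Dvd.intro_left _ rfl
  obtain ⟨i, -, hi⟩ := (Nat.dvd_prime_pow hp.1).mp hqdvd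
  rcases Nat.eq_zero_or_pos i with h0 | h0
  · rw [h0, pow_zero] at hi
    exact absurd hi hq1
  · rw [hi]
    exact dvd_pow_self p h0.ne'

open Classical in
/-- The top level of the construction. -/
theorem exists_top_level [Finite S] {p : ℕ} [Fact p.Prime] (hS : IsPGroup p S) (F : FusionSystem S)
    (hF : F.IsSaturated p) :
    ∃ m : Subgroup (↥S × ↥S) →₀ ℕ, (∀ D ∈ m.support, TD F D) ∧ StableFrom F m (Nat.card S) ∧ ¬ p ∣ idx m := by
  haveI : Fintype (Subgroup (↥S × ↥S)) := Fintype.ofFinite _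
  have hstab0 : StableFrom F (0 : Subgroup (↥S × ↥S) →₀ ℕ) (Nat.card S + 1) := by
    intro K K' _ _ _ _
    rw [mark_zero, mark_zero]
  obtain ⟨a, ha, hsupp, hstab⟩ := exists_level_step hS F hF (Nat.card S) 0 (by simp) hstab0
  rw [zero_add] at hsupp hstab
  refine ⟨a, hsupp, hstab, ?_⟩
  -- `S` is fully automized
  have hFA : F.IsFullyAutomized p S := by
    obtain ⟨Q, h1, h2, -⟩ := hF S le_rfl
    have hQS : Q = S := Subgroup.eq_of_le_of_card_ge h2.1 (card_eq_of_isConj F h1).le
    subst hQS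
    exact h2
  have hRS : Rstar F p S = S := by
    obtain ⟨h1, h2, -⟩ := Rstar_spec F hF (le_rfl : S ≤ S)
    exact Subgroup.eq_of_le_of_card_ge h2.1 (card_eq_of_isConj F h1).le
  have hone : ∀ R : Subgroup (↥S × ↥S), (TD F R ∧ Nat.card R = Nat.card S) ∧ rep R = R → a R = 1 := by
    intro R hR
    rw [ha R, if_pos hR, mark_zero, mark_zero]
    obtain ⟨α, hα, rfl⟩ := (TD_top_iff F R).mp hR.1
    have hst : star F p (graph (α : ↥S ≃* ↥S) : Subgroup (↥S × ↥S)) = graph (MulEquiv.refl ↥S) := by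
      unfold star
      rw [src_graph _ le_rfl le_rfl, hRS]
      rfl
    rw [hst, wt_graph_aut α]
    have : total (0 : Subgroup (↥S × ↥S) →₀ ℕ) = 0 := by unfold total; simp
    rw [this]
    simp only [zero_add, mul_one, Nat.sub_zero]
    exact Nat.div_self (wt_pos _)
  have hidx : idx a = Nat.card {R : Subgroup (↥S × ↥S) // (TD F R ∧ Nat.card R = Nat.card S) ∧ rep R = R} := by
    have hcard : Nat.card {R : Subgroup (↥S × ↥S) // (TD F R ∧ Nat.card R = Nat.card S) ∧ rep R = R} =
        (Finset.univ.filter (fun R : Subgroup (↥S × ↥S) =>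
          (TD F R ∧ Nat.card R = Nat.card S) ∧ rep R = R)).card := by
      rw [Nat.card_eq_fintype_card, Fintype.card_subtype]
    rw [hcard]
    unfold idx
    rw [Finsupp.sum_fintype _ _ (by intro D; simp)]
    rw [Finset.card_eq_sum_ones, Finset.sum_filter]
    apply Finset.sum_congr rfl
    intro R _
    by_cases hR : (TD F R ∧ Nat.card R = Nat.card S) ∧ rep R = R
    · rw [if_pos hR, hone R hR, hR.1.2, Nat.div_self Nat.card_pos]
    · rw [if_neg hR, ha R, if_neg hR, zero_mul]
  rw [hidx]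
  exact not_dvd_card_top_reps F hFA

/-- **Existence of a characteristic biset**, in terms of marks: a multiset of twisted diagonals of a saturated fusion
system whose marks are stable under the system, with index prime to `p`. -/
theorem exists_char_biset [Finite S] {p : ℕ} [Fact p.Prime] (hS : IsPGroup p S) (F : FusionSystem S)
    (hF : F.IsSaturated p) :
    ∃ m : Subgroup (↥S × ↥S) →₀ ℕ, (∀ D ∈ m.support, TD F D) ∧ StableFrom F m 0 ∧ ¬ p ∣ idx m := by
  have key : ∀ j : ℕ, ∃ m : Subgroup (↥S × ↥S) →₀ ℕ, (∀ D ∈ m.support, TD F D) ∧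
      StableFrom F m (Nat.card S - j) ∧ ¬ p ∣ idx m := by
    intro j
    induction j with
    | zero => exact exists_top_level hS F hF
    | succ j ih =>
      obtain ⟨m, h1, h2, h3⟩ := ih
      rcases Nat.eq_zero_or_pos (Nat.card S - j) with h0 | h0
      · refine ⟨m, h1, ?_, h3⟩
        have : Nat.card S - (j + 1) = Nat.card S - j := by omega
        rw [this]; exact h2
      · have hk1 : Nat.card S - (j + 1) + 1 = Nat.card S - j := by omega
        rw [← hk1] at h2
        obtain ⟨a, ha, hsupp, hstab⟩ := exists_level_step hS F hF (Nat.card S - (j + 1)) m h1 h2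
        refine ⟨m + a, hsupp, hstab, ?_⟩
        rw [idx_add]
        have hdvd : p ∣ idx a := by
          apply dvd_idx_of_level hS F (Nat.card S - (j + 1)) (by omega) a
          intro R hR
          by_contra hcon
          apply hR
          rw [ha R, if_neg]
          exact fun h => hcon h.1
        intro hcon
        exact h3 ((Nat.dvd_add_left hdvd).mp hcon)
  obtain ⟨m, h1, h2, h3⟩ := key (Nat.card S)
  rw [Nat.sub_self] at h2
  exact ⟨m, h1, h2, h3⟩

end Cfsg.Agent.Helper88.Biset
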