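import Cfsg.Agent.Helper88.CtrlBase
import Cfsg.Agent.S5096
import Cfsg.Agent.Helper51.FusWC2
set_option autoImplicit false

/-! # Control of transfer: the chain lemma and the reduction to normalizer systems

If every normalizer system of a nontrivial fully normalized subgroup is controlled by the functor, then so is `F`. -/

namespace Cfsg.Agent.Helper88.Ctrl

universe u

open Cfsg Cfsg.FusionSystem Cfsg.Agent.Helper87 Cfsg.Agent.Helper51.FusWC

variable {Ω : Type u} [Group Ω] {S : Subgroup Ω} (W : ∀ (Q : Type u) [Group Q], Subgroup Q) {p : ℕ}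
  (hW1 : ∀ (Q : Type u) [Group Q] [Finite Q], IsPGroup p Q → Nontrivial Q → W Q ≠ ⊥)
  (hW2 : ∀ (Q R : Type u) [Group Q] [Group R] [Finite Q], IsPGroup p Q → ∀ φ : Q ≃* R,
    (W Q).map φ.toMonoidHom = W R)

include hW1 in
theorem Wf_ne_bot {T : Subgroup Ω} [Finite T] (hT : IsPGroup p T) (hne : T ≠ ⊥) : Wf W T ≠ ⊥ := by
  have hnt : Nontrivial ↥T := (Subgroup.nontrivial_iff_ne_bot T).mpr hne
  have h1 := hW1 ↥T hT hnt
  intro h
  apply h1
  exact (Subgroup.map_eq_bot_iff_of_injective _ (Subgroup.subtype_injective T)).mp h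

/-- Transporting a map `ψ` on `A ≤ N` along a map `χ` on `N`. -/
theorem exists_transport (F : FusionSystem S) {N A : Subgroup Ω} {χ : N →* Ω} (hχ : χ ∈ F.Hom N) (hAN : A ≤ N)
    {ψ : A →* Ω} (hψ : ψ ∈ F.Hom A) (hψN : ∀ x : A, ψ x ∈ N) :
    ∃ ψ' : (χ.comp (Subgroup.inclusion hAN)).range →* Ω, ψ' ∈ F.Hom (χ.comp (Subgroup.inclusion hAN)).range ∧
      ∀ x : A, ψ' ⟨χ (Subgroup.inclusion hAN x), ⟨x, rfl⟩⟩ = χ ⟨ψ x, hψN x⟩ := by
  have hχA : χ.comp (Subgroup.inclusion hAN) ∈ F.Hom A := restrict_mem F hχ hAN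
  obtain ⟨χi, hχi, hinv⟩ := F.inv_mem hχA
  have hχi_mem : ∀ y : (χ.comp (Subgroup.inclusion hAN)).range, χi y ∈ A := by
    rintro ⟨_, x, rfl⟩
    rw [hinv x]
    exact x.2
  have h1 : ψ.comp (χi.codRestrict A hχi_mem) ∈ F.Hom (χ.comp (Subgroup.inclusion hAN)).range :=
    F.comp_mem hχi hψ hχi_mem
  have h1N : ∀ y : (χ.comp (Subgroup.inclusion hAN)).range,
      (ψ.comp (χi.codRestrict A hχi_mem)) y ∈ N := fun y => hψN _
  refine ⟨χ.comp ((ψ.comp (χi.codRestrict A hχi_mem)).codRestrict _ h1N), F.comp_mem h1 hχ h1N, fun x => ?_⟩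
  show χ ⟨ψ (χi.codRestrict A hχi_mem ⟨χ (Subgroup.inclusion hAN x), ⟨x, rfl⟩⟩), _⟩ = _
  congr 1
  apply Subtype.ext
  show ψ (χi.codRestrict A hχi_mem ⟨χ (Subgroup.inclusion hAN x), ⟨x, rfl⟩⟩) = ψ x
  congr 1
  apply Subtype.ext
  exact hinv x

include hW1 hW2 in
/-- The chain lemma for a fully normalized subgroup. -/
theorem chain_fn [Finite S] [Fact p.Prime] (hS : IsPGroup p S) (F : FusionSystem S)
    (hnorm : ∀ R : Subgroup Ω, R ≠ ⊥ → F.IsFullyNormalized R →
      ∀ E : FusionSystem (normalizerIn S R), F.IsNormalizerSystem R E → IsCtrl W E)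
    (R : Subgroup Ω) (hR : R ≠ ⊥) (hfn : F.IsFullyNormalized R)
    (ih : ∀ R₂ : Subgroup Ω, R₂ ≠ ⊥ → R₂ ≤ S →
      Nat.card (normalizerIn S R) < Nat.card (normalizerIn S R₂) →
      ∀ (A : Subgroup Ω) (ψ : A →* Ω), ψ ∈ F.Hom A → R₂ ≤ A → A ≤ normalizerIn S R₂ →
        (R₂.subgroupOf A).map ψ = R₂ → Good (Kf W F) ψ)
    (A : Subgroup Ω) (ψ : A →* Ω) (hψ : ψ ∈ F.Hom A) (hRA : R ≤ A) (hAN : A ≤ normalizerIn S R)
    (hψR : (R.subgroupOf A).map ψ = R) : Good (Kf W F) ψ := by
  have hRS : R ≤ S := hfn.1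
  obtain ⟨E, hE⟩ := Cfsg.Agent.S5096.result F R hRS
  have hctrl := hnorm R hR hfn E hE
  have hψE : ψ ∈ E.Hom A := by
    rw [hE A]
    exact mem_normalizerHom_of_le F hRA hAN hψ hψR
  have hTS : normalizerIn S R ≤ S := inf_le_left
  have hfinT : Finite ↥(normalizerIn S R) := finite_of_le hTS
  have hTp : IsPGroup p ↥(normalizerIn S R) := hS.to_le hTS
  have hle : Kf W E ≤ Kf W F := by
    by_cases hT : normalizerIn S R = S
    · exact Kf_normalizerSystem_le W F E hE hT
    · have hTlt : normalizerIn S R < S := lt_of_le_of_ne hTS hT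
      unfold Kf
      rw [Subgroup.closure_le]
      rintro y ⟨B, θ, x, hθ, rfl⟩
      obtain ⟨A₂, ψ₂, hBA, hψ₂, hQA, hAN₂, hψQ, hψθ⟩ :=
        exists_of_mem_normalizerHom_normalizerSystem W F E hE hθ
      have hTne : normalizerIn S R ≠ ⊥ := by
        intro h
        apply hR
        rw [eq_bot_iff, ← h]
        exact le_normalizerIn hRS
      have hR₂ : Wf W (normalizerIn S R) ≠ ⊥ := Wf_ne_bot W hW1 hTp hTne
      have hR₂S : Wf W (normalizerIn S R) ≤ S := (Wf_le W _).trans hTS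
      have h1 : normalizerIn S R < normalizerIn S (normalizerIn S R) := lt_normalizerIn hS hTlt
      have h2 : normalizerIn S (normalizerIn S R) ≤ normalizerIn S (Wf W (normalizerIn S R)) :=
        inf_le_inf_left S (normalizer_le_normalizer_Wf W hW2 _ hTp)
      have hfin2 : Finite ↥(normalizerIn S (Wf W (normalizerIn S R))) := finite_of_le inf_le_left
      have hcard : Nat.card (normalizerIn S R) < Nat.card (normalizerIn S (Wf W (normalizerIn S R))) :=
        card_lt_card_of_lt (lt_of_lt_of_le h1 h2)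
      have hgood := ih _ hR₂ hR₂S hcard A₂ ψ₂ hψ₂ hQA hAN₂ hψQ
      have := hgood ⟨x, hBA x.2⟩
      rw [hψθ x] at this
      exact this
  intro x
  exact hle (hctrl A ψ hψE x)

include hW1 hW2 in
/-- **The chain lemma.** If all maps on subgroups of order larger than `t` are good, then every map of the system
normalizing a nontrivial subgroup `R` with `|N_S(R)| > t` is good. -/
theorem chain [Finite S] [Fact p.Prime] (hS : IsPGroup p S) (F : FusionSystem S) (hF : F.IsSaturated p)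
    (hnorm : ∀ R : Subgroup Ω, R ≠ ⊥ → F.IsFullyNormalized R →
      ∀ E : FusionSystem (normalizerIn S R), F.IsNormalizerSystem R E → IsCtrl W E)
    (t : ℕ) (hbig : ∀ (Q : Subgroup Ω) (φ : Q →* Ω), φ ∈ F.Hom Q → t < Nat.card Q → Good (Kf W F) φ) :
    ∀ (d : ℕ) (R : Subgroup Ω), R ≠ ⊥ → R ≤ S → Nat.card S - Nat.card (normalizerIn S R) = d →
      t < Nat.card (normalizerIn S R) →
      ∀ (A : Subgroup Ω) (ψ : A →* Ω), ψ ∈ F.Hom A → R ≤ A → A ≤ normalizerIn S R →
        (R.subgroupOf A).map ψ = R → Good (Kf W F) ψ := by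
  intro d
  induction d using Nat.strong_induction_on with
  | _ d IH =>
  intro R hR hRS hd ht A ψ hψ hRA hAN hψR
  have hNS : normalizerIn S R ≤ S := inf_le_left
  have hfinN : Finite ↥(normalizerIn S R) := finite_of_le hNS
  have hcardN : Nat.card (normalizerIn S R) ≤ Nat.card S :=
    Nat.card_le_card_of_injective (Subgroup.inclusion hNS) (Subgroup.inclusion_injective hNS)
  -- a fully normalized conjugate
  obtain ⟨R', hconj, hfn⟩ := exists_isConj_fullyNormalized F hRS
  obtain ⟨hfc, hfa⟩ := fullyAutomized_fullyCentralized_of_fullyNormalized hS F hF hfn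
  have hrec := receptive_of_fullyCentralized hS F hF hfc
  obtain ⟨e, he⟩ := (isConj_iff F R R').mp hconj
  obtain ⟨χ, hχ, e', he', hχx⟩ := exists_extension_normalizerIn hS F hfa hrec e he
  have hR'S : R' ≤ S := hfn.1
  have hχgood : Good (Kf W F) χ := hbig _ χ hχ ht
  have hχS : ∀ z, χ z ∈ S := (F.le_of_mem hχ).2
  have hχinj := F.injective_of_mem hχ
  have hψN : ∀ x : A, ψ x ∈ normalizerIn S R := (mem_normalizerHom_of_le F hRA hAN hψ hψR).2.2.1
  obtain ⟨ψ', hψ', hval⟩ := exists_transport F hχ hAN hψ hψN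
  -- `χ` on `R`
  have hχR : ∀ (r : Ω) (hr : r ∈ R), χ ⟨r, le_normalizerIn hRS hr⟩ = e' ⟨r, hr⟩ := fun r hr => hχx ⟨r, hr⟩
  have hψRR := (Helper85.map_subgroupOf_eq_iff ψ).mp hψR
  -- `R' ≤ A'`
  have hR'A' : R' ≤ (χ.comp (Subgroup.inclusion hAN)).range := by
    intro y hy
    obtain ⟨r, hr⟩ := e'.surjective ⟨y, hy⟩
    refine ⟨⟨r, hRA r.2⟩, ?_⟩
    have := hχR r r.2
    show χ ⟨r, _⟩ = y
    rw [this, Subtype.coe_eta, hr]
  -- `A' ≤ N_S(R')`
  have hA'N : (χ.comp (Subgroup.inclusion hAN)).range ≤ normalizerIn S R' := by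
    rintro _ ⟨x, rfl⟩
    refine ⟨hχS _, ?_⟩
    refine map_mem_normalizer χ (le_normalizerIn hRS) (fun q => ?_) (fun y hy => ?_) _ (hAN x.2).2
    · have := hχR q q.2
      show χ ⟨q, _⟩ ∈ R'
      rw [this]
      exact (e' _).2
    · obtain ⟨r, hr⟩ := e'.surjective ⟨y, hy⟩
      refine ⟨r, ?_⟩
      have := hχR r r.2
      show χ ⟨r, _⟩ = y
      rw [this, Subtype.coe_eta, hr]
  -- `ψ'` carries `R'` onto itself
  have hψ'R' : (R'.subgroupOf (χ.comp (Subgroup.inclusion hAN)).range).map ψ' = R' := by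
    rw [Helper85.map_subgroupOf_eq_iff]
    constructor
    · rintro ⟨_, x, rfl⟩ hy
      -- `x ∈ R`
      obtain ⟨r, hr⟩ := e'.surjective ⟨_, hy⟩
      have h3 : χ ⟨r, le_normalizerIn hRS r.2⟩ = χ (Subgroup.inclusion hAN x) := by
        rw [hχR r r.2, Subtype.coe_eta, hr]
        rfl
      have h4 := hχinj h3
      have hxR : (x : Ω) ∈ R := by
        have : (r : Ω) = x := congrArg Subtype.val h4
        rw [← this]
        exact r.2
      have h5 : ψ x ∈ R := hψRR.1 x hxR
      have h6 := hval x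
      show ψ' ⟨χ (Subgroup.inclusion hAN x), ⟨x, rfl⟩⟩ ∈ R'
      rw [h6]
      have := hχR (ψ x) h5
      rw [this]
      exact (e' _).2
    · intro y hy
      obtain ⟨r, hr⟩ := e'.surjective ⟨y, hy⟩
      obtain ⟨r₀, hr₀, hr₀r⟩ := hψRR.2 r r.2
      refine ⟨⟨χ (Subgroup.inclusion hAN r₀), ⟨r₀, rfl⟩⟩, ?_, ?_⟩
      · have := hχR r₀ hr₀
        show χ ⟨r₀, _⟩ ∈ R'
        rw [this]
        exact (e' _).2
      · rw [hval r₀]
        have h7 : (⟨ψ r₀, hψN r₀⟩ : normalizerIn S R) = ⟨r, le_normalizerIn hRS r.2⟩ := Subtype.ext hr₀r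
        rw [h7, hχR r r.2, Subtype.coe_eta, hr]
  -- `R' ≠ ⊥`
  have hR' : R' ≠ ⊥ := by
    intro h
    apply hR
    rw [eq_bot_iff]
    intro r hr
    have h8 : (e' ⟨r, hr⟩ : Ω) ∈ (⊥ : Subgroup Ω) := (le_of_eq h) (e' ⟨r, hr⟩).2
    rw [Subgroup.mem_bot] at h8
    have h9 : e' ⟨r, hr⟩ = 1 := Subtype.ext h8
    have h10 : (⟨r, hr⟩ : R) = 1 := by
      apply e'.injective
      rw [h9, map_one]
    rw [Subgroup.mem_bot]
    exact congrArg Subtype.val h10
  -- the normalizer of `R'` is at least as large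
  have hcard' : Nat.card (normalizerIn S R) ≤ Nat.card (normalizerIn S R') := hfn.2 R (isConj_symm F hconj)
  have hfinN' : Finite ↥(normalizerIn S R') := finite_of_le inf_le_left
  have hcardN' : Nat.card (normalizerIn S R') ≤ Nat.card S :=
    Nat.card_le_card_of_injective (Subgroup.inclusion (inf_le_left : normalizerIn S R' ≤ S))
      (Subgroup.inclusion_injective _)
  have hgood' : Good (Kf W F) ψ' := by
    refine chain_fn W hW1 hW2 hS F hnorm R' hR' hfn ?_ _ ψ' hψ' hR'A' hA'N hψ'R'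
    intro R₂ hR₂ hR₂S hlt A₂ ψ₂ hψ₂ hRA₂ hAN₂ hψR₂
    have hfinN₂ : Finite ↥(normalizerIn S R₂) := finite_of_le inf_le_left
    have hcardN₂ : Nat.card (normalizerIn S R₂) ≤ Nat.card S :=
      Nat.card_le_card_of_injective (Subgroup.inclusion (inf_le_left : normalizerIn S R₂ ≤ S))
        (Subgroup.inclusion_injective _)
    exact IH (Nat.card S - Nat.card (normalizerIn S R₂)) (by omega) R₂ hR₂ hR₂S rfl (by omega)
      A₂ ψ₂ hψ₂ hRA₂ hAN₂ hψR₂
  -- conclude
  intro x
  have g1 := hχgood (Subgroup.inclusion hAN x)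
  have g2 := hgood' ⟨χ (Subgroup.inclusion hAN x), ⟨x, rfl⟩⟩
  rw [hval x] at g2
  have g3 := hχgood ⟨ψ x, hψN x⟩
  have e1 : (x : Ω)⁻¹ * ψ x = ((x : Ω)⁻¹ * χ (Subgroup.inclusion hAN x)) *
      ((χ (Subgroup.inclusion hAN x))⁻¹ * χ ⟨ψ x, hψN x⟩) * ((ψ x)⁻¹ * χ ⟨ψ x, hψN x⟩)⁻¹ := by
    group
  rw [e1]
  exact (Kf W F).mul_mem ((Kf W F).mul_mem g1 g2) ((Kf W F).inv_mem g3)

include hW1 hW2 in
/-- **Reduction to normalizer systems.** If the functor controls transfer in the normalizer system of every nontrivial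
fully normalized subgroup, then it controls transfer in `F`. -/
theorem ctrl_of_normalizers [Finite S] [Fact p.Prime] (hS : IsPGroup p S) (F : FusionSystem S)
    (hF : F.IsSaturated p)
    (hnorm : ∀ R : Subgroup Ω, R ≠ ⊥ → F.IsFullyNormalized R →
      ∀ E : FusionSystem (normalizerIn S R), F.IsNormalizerSystem R E → IsCtrl W E) : IsCtrl W F := by
  have hK := conj_mem_Kf W hW2 hS F
  have key : ∀ j : ℕ, ∀ (Q : Subgroup Ω) (φ : Q →* Ω), φ ∈ F.Hom Q → Nat.card S - j < Nat.card Q →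
      Good (Kf W F) φ := by
    intro j
    induction j with
    | zero =>
      intro Q φ hφ hlt
      exfalso
      have hQS : Q ≤ S := (F.le_of_mem hφ).1
      have := Nat.card_le_card_of_injective (Subgroup.inclusion hQS) (Subgroup.inclusion_injective hQS)
      omega
    | succ j ih =>
      apply good_of_big hS F hF (Kf W F) hK (Nat.card S - (j + 1))
      intro P hP ht α hα
      by_cases hlt : Nat.card S - j < Nat.card P
      · exact ih P _ hα hlt
      · have hPS : P ≤ S := (F.le_of_mem hα).1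
        rcases hP with rfl | hPe
        · exact good_of_mem_top W hW2 hS F hα
        · by_cases hPeq : P = S
          · subst hPeq
            exact good_of_mem_top W hW2 hS F hα
          · have hPlt : P < S := lt_of_le_of_ne hPS hPeq
            have hPN := lt_normalizerIn hS hPlt
            have hfinN : Finite ↥(normalizerIn S P) := finite_of_le inf_le_left
            have hcardPN : Nat.card P < Nat.card (normalizerIn S P) := card_lt_card_of_lt hPN
            have hPne : P ≠ ⊥ := by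
              intro h
              apply hPeq
              have hc := hPe.1.2 P (isConj_refl F hPS)
              rw [h] at hc ⊢
              apply le_antisymm bot_le
              intro s hs
              apply hc
              refine ⟨hs, Subgroup.mem_centralizer_iff.mpr ?_⟩
              intro y hy
              rw [SetLike.mem_coe, Subgroup.mem_bot] at hy
              rw [hy, one_mul, mul_one]
            have hcardPS : Nat.card (normalizerIn S P) ≤ Nat.card S :=
              Nat.card_le_card_of_injective (Subgroup.inclusion (inf_le_left : normalizerIn S P ≤ S))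
                (Subgroup.inclusion_injective _)
            refine chain W hW1 hW2 hS F hF hnorm (Nat.card S - j) ih _ P hPne hPS rfl (by omega)
              P _ hα le_rfl (le_normalizerIn hPS) ?_
            rw [Helper85.map_subgroupOf_eq_iff]
            refine ⟨fun x _ => (α x).2, fun y hy => ⟨α.symm ⟨y, hy⟩, (α.symm ⟨y, hy⟩).2, ?_⟩⟩
            show ((α (α.symm ⟨y, hy⟩) : P) : Ω) = y
            rw [MulEquiv.apply_symm_apply]
  intro Q φ hφ
  have hQS : Q ≤ S := (F.le_of_mem hφ).1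
  have : Finite Q := finite_of_le hQS
  exact key (Nat.card S) Q φ hφ (by rw [Nat.sub_self]; exact Nat.card_pos)

end Cfsg.Agent.Helper88.Ctrl
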