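import Cfsg.Agent.Helper88.CtrlStepOne
set_option autoImplicit false

/-! # Control of transfer: the induction -/

namespace Cfsg.Agent.Helper88.Ctrl

universe u

open Cfsg Cfsg.FusionSystem Cfsg.Agent.Helper87 Cfsg.Agent.Helper51.FusWC

variable (W : ∀ (Q : Type u) [Group Q], Subgroup Q) {p : ℕ}
  (hW1 : ∀ (Q : Type u) [Group Q] [Finite Q], IsPGroup p Q → Nontrivial Q → W Q ≠ ⊥)
  (hW2 : ∀ (Q R : Type u) [Group Q] [Group R] [Finite Q], IsPGroup p Q → ∀ φ : Q ≃* R,
    (W Q).map φ.toMonoidHom = W R)
  (hT : ∀ (G : Type u) [Group G] [Finite G] (P : Sylow p G),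
      Subgroup.centralizer ((Cfsg.pCore p G : Subgroup G) : Set G) ≤ Cfsg.pCore p G →
      Cfsg.pCore p G ⊓ commutator G = Cfsg.pCore p G ⊓
        (commutator ↥(Subgroup.normalizer (((W ↥(P : Subgroup G)).map
          (P : Subgroup G).subtype : Subgroup G) : Set G))).map
          (Subgroup.normalizer (((W ↥(P : Subgroup G)).map (P : Subgroup G).subtype : Subgroup G) : Set G)).subtype)

include hW1 hW2 hT in
/-- Systems over groups of order `n` with a nontrivial normal subgroup, given the theorem for smaller groups. -/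
theorem step_one [Fact p.Prime] (n : ℕ)
    (IH : ∀ (Ω' : Type u) [Group Ω'] (S' : Subgroup Ω') [Finite S'], IsPGroup p S' →
      Nat.card S' < n → ∀ F' : FusionSystem S', F'.IsSaturated p → IsCtrl W F') :
    ∀ (d : ℕ) (Ω : Type u) [Group Ω] (S : Subgroup Ω) [Finite S], IsPGroup p S → Nat.card S = n →
      ∀ F : FusionSystem S, F.IsSaturated p → F.core ≠ ⊥ → n - Nat.card F.core = d → IsCtrl W F := by
  intro d
  induction d using Nat.strong_induction_on with
  | _ d IHd =>
  intro Ω _ S _ hS hn F hF hcore hd
  have hV := Cfsg.Agent.S5145.result F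
  have hVS : F.core ≤ S := hV.1
  have hfinV : Finite F.core := finite_of_le hVS
  refine step_one_core W hW1 hW2 hS F hF hT hV hcore ?_ ?_
  · intro Ω' _ S' _ hS' hlt F' hF'
    exact IH Ω' S' hS' (by omega) F' hF'
  · intro Q hQS hSQ hcard A ψ hψ hQA hψQ
    obtain ⟨E, hE⟩ := Cfsg.Agent.S5096.result F Q hQS
    have hfn := isFullyNormalized_of_le_normalizer F hQS hSQ
    have hEsat := Cfsg.Agent.S5098.result p hS F hF Q hfn E hE
    have hN : normalizerIn S Q = S := normalizerIn_eq_of_le_normalizer hSQ
    have hfinN : Finite ↥(normalizerIn S Q) := finite_of_le inf_le_left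
    have hNp : IsPGroup p ↥(normalizerIn S Q) := hS.to_le inf_le_left
    have hcardN : Nat.card ↥(normalizerIn S Q) = n := by
      rw [← hn]
      exact congrArg (fun T : Subgroup Ω => Nat.card T) hN
    have hQcore : Q ≤ E.core := le_sSup (isNormal_normalizerSystem F hQS E hE)
    have hEcoreN : E.core ≤ normalizerIn S Q := (Cfsg.Agent.S5145.result E).1
    have hfinEc : Finite E.core := finite_of_le hEcoreN
    have hfinQ : Finite Q := finite_of_le hQS
    have hc1 : Nat.card Q ≤ Nat.card E.core :=
      Nat.card_le_card_of_injective (Subgroup.inclusion hQcore) (Subgroup.inclusion_injective hQcore)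
    have hc2 : Nat.card E.core ≤ Nat.card ↥(normalizerIn S Q) :=
      Nat.card_le_card_of_injective (Subgroup.inclusion hEcoreN) (Subgroup.inclusion_injective hEcoreN)
    have hcpos : 0 < Nat.card F.core := Nat.card_pos
    have hEne : E.core ≠ ⊥ := by
      intro h
      have : Nat.card E.core = 1 := by rw [h]; exact Subgroup.card_bot
      omega
    have hctrlE : IsCtrl W E :=
      IHd (n - Nat.card E.core) (by omega) Ω (normalizerIn S Q) hNp hcardN E hEsat hEne rfl
    have hAS : A ≤ S := (F.le_of_mem hψ).1
    have hAN : A ≤ normalizerIn S Q := by rw [hN]; exact hAS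
    have hψE : ψ ∈ E.Hom A := by
      rw [hE A]
      exact mem_normalizerHom_of_le F hQA hAN hψ hψQ
    intro x
    exact Kf_normalizerSystem_le W F E hE hN (hctrlE A ψ hψE x)

include hW1 hW2 hT in
/-- **Control of transfer**: a positive characteristic functor satisfying the local focal condition controls transfer in
every saturated fusion system. -/
theorem ctrl_main [Fact p.Prime] :
    ∀ (n : ℕ) (Ω : Type u) [Group Ω] (S : Subgroup Ω) [Finite S], IsPGroup p S → Nat.card S = n →
      ∀ F : FusionSystem S, F.IsSaturated p → IsCtrl W F := by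
  intro n
  induction n using Nat.strong_induction_on with
  | _ n IHn =>
  have IH : ∀ (Ω' : Type u) [Group Ω'] (S' : Subgroup Ω') [Finite S'], IsPGroup p S' →
      Nat.card S' < n → ∀ F' : FusionSystem S', F'.IsSaturated p → IsCtrl W F' := by
    intro Ω' _ S' _ hS' hlt F' hF'
    exact IHn (Nat.card S') hlt Ω' S' hS' rfl F' hF'
  have hone := step_one W hW1 hW2 hT n IH
  intro Ω _ S _ hS hn F hF
  apply ctrl_of_normalizers W hW1 hW2 hS F hF
  intro R hR hfn E hE
  have hRS : R ≤ S := hfn.1
  have hEsat := Cfsg.Agent.S5098.result p hS F hF R hfn E hE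
  have hNS : normalizerIn S R ≤ S := inf_le_left
  have hfinN : Finite ↥(normalizerIn S R) := finite_of_le hNS
  have hNp : IsPGroup p ↥(normalizerIn S R) := hS.to_le hNS
  have hcardN : Nat.card ↥(normalizerIn S R) ≤ Nat.card S :=
    Nat.card_le_card_of_injective (Subgroup.inclusion hNS) (Subgroup.inclusion_injective hNS)
  by_cases hlt : Nat.card ↥(normalizerIn S R) < n
  · exact IH Ω (normalizerIn S R) hNp hlt E hEsat
  · have hcard : Nat.card ↥(normalizerIn S R) = n := by omega
    have hRcore : R ≤ E.core := le_sSup (isNormal_normalizerSystem F hRS E hE)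
    have hEne : E.core ≠ ⊥ := by
      intro h
      apply hR
      rw [eq_bot_iff, ← h]
      exact hRcore
    exact hone (n - Nat.card E.core) Ω (normalizerIn S R) hNp hcard E hEsat hEne rfl

end Cfsg.Agent.Helper88.Ctrl
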