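import Cfsg.Agent.Helper88.CtrlBase
import Cfsg.Agent.S5090
set_option autoImplicit false

/-! # Control of transfer: the constrained case, through a model and the focal subgroup theorem -/

namespace Cfsg.Agent.Helper88.Ctrl

universe u

open Cfsg Cfsg.FusionSystem Cfsg.Agent.Helper87 Cfsg.Agent.Helper51.FusWC

open scoped commutatorElement

variable {Ω : Type u} [Group Ω] {S : Subgroup Ω} (W : ∀ (Q : Type u) [Group Q], Subgroup Q) {p : ℕ}
  (hW2 : ∀ (Q R : Type u) [Group Q] [Group R] [Finite Q], IsPGroup p Q → ∀ φ : Q ≃* R,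
    (W Q).map φ.toMonoidHom = W R)

/-- A subgroup normal in the system is its only conjugate. -/
theorem eq_of_isConj_of_isNormal [Finite S] (F : FusionSystem S) {V Q : Subgroup Ω} (hV : F.IsNormal V)
    (hQ : F.IsConj V Q) : Q = V := by
  obtain ⟨φ, hφ, hrange⟩ := hQ
  have hsc := stronglyClosed_of_isNormal F hV
  have hfinV : Finite V := finite_of_le hV.1
  have hle : Q ≤ V := by
    rw [← hrange]
    rintro _ ⟨x, rfl⟩
    exact hsc.2 V le_rfl φ hφ x
  have hcard : Nat.card V = Nat.card Q := by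
    rw [← hrange]
    exact Nat.card_congr (MonoidHom.ofInjective (F.injective_of_mem hφ)).toEquiv
  exact Subgroup.eq_of_le_of_card_ge hle (le_of_eq hcard)

theorem isCentric_of_isNormal [Finite S] (F : FusionSystem S) {V : Subgroup Ω} (hV : F.IsNormal V)
    (hVc : centralizerIn S V ≤ V) : F.IsCentric V := by
  refine ⟨hV.1, fun Q hQ => ?_⟩
  rw [eq_of_isConj_of_isNormal F hV hQ]
  exact hVc

include hW2 in
/-- In a model `G` of `F`, the focal subgroup of the Sylow subgroup in `N_G(W(S))` pulls back into `Kf W F`. -/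
theorem focal_normalizer_model [Finite S] [Fact p.Prime] (hS : IsPGroup p S) (F : FusionSystem S)
    {G : Type u} [Group G] [Finite G] (ι : S →* G) (hinj : Function.Injective ι)
    (hreal : ∀ (P : Subgroup Ω) (hP : P ≤ S) (φ : P →* Ω) (hφ : ∀ x : P, φ x ∈ S),
      φ ∈ F.Hom P ↔ ∃ g : G, ∀ x : P, ι ⟨φ x, hφ x⟩ = g * ι ⟨x, hP x.2⟩ * g⁻¹)
    (T : Sylow p G) (hT : (T : Subgroup G) = ι.range)
    (N : Subgroup G) (hNdef : N = Subgroup.normalizer ((Wf W (T : Subgroup G) : Subgroup G) : Set G))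
    (n : ↥N) (hn : n ∈ commutator ↥N)
    (y : S) (hy : (n : G) = ι y) : (y : Ω) ∈ Kf W F := by
  have hTN : (T : Subgroup G) ≤ N := by
    rw [hNdef]
    exact Subgroup.le_normalizer.trans (normalizer_le_normalizer_Wf W hW2 (T : Subgroup G) T.2)
  let TN : Sylow p ↥N := T.subtype hTN
  have hWeq : Wf W (T : Subgroup G) = ((Wf W S).subgroupOf S).map ι := by
    rw [hT]; exact Wf_range W hW2 S hS ι hinj
  -- the subgroup of `N` of the elements coming from `Kf W F`
  let KN : Subgroup ↥N := (((Kf W F).subgroupOf S).map ι).comap N.subtype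
  have hnT : n ∈ (TN : Subgroup ↥N) := by
    show n ∈ (T : Subgroup G).subgroupOf N
    rw [Subgroup.mem_subgroupOf, hT, hy]
    exact ⟨y, rfl⟩
  have hfoc : n ∈ (TN : Subgroup ↥N).focalSubgroup := by
    rw [← Subgroup.commutator_inf_eq_focalSubgroup TN]
    exact ⟨hn, hnT⟩
  have hle : (TN : Subgroup ↥N).focalSubgroup ≤ KN := by
    rw [Subgroup.focalSubgroup_def, Subgroup.closure_le]
    rintro g' ⟨hg'T, x', hx'T, u, hg'⟩
    -- read everything through `ι`
    have hx'T' : (x' : G) ∈ ι.range := by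
      rw [← hT]; exact Subgroup.mem_subgroupOf.mp hx'T
    have hg'T' : (g' : G) ∈ ι.range := by
      rw [← hT]; exact Subgroup.mem_subgroupOf.mp hg'T
    obtain ⟨a, ha⟩ := hx'T'
    obtain ⟨b, hb⟩ := hg'T'
    have hcomm : (g' : G) = (x' : G) * (u : G) * (x' : G)⁻¹ * (u : G)⁻¹ := by
      rw [hg']
      rfl
    -- the subgroup `A = ⟨a⁻¹⟩ W(S)`
    set A : Subgroup Ω := Subgroup.zpowers ((a⁻¹ : S) : Ω) ⊔ Wf W S with hA
    have hAS : A ≤ S := sup_le (by rw [Subgroup.zpowers_le]; exact (a⁻¹ : S).2) (Wf_le W S)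
    have huN : (u : G) ∈ Subgroup.normalizer ((Wf W (T : Subgroup G) : Subgroup G) : Set G) := by
      rw [← hNdef]; exact u.2
    have huW : ∀ w : G, w ∈ Wf W (T : Subgroup G) → (u : G) * w * (u : G)⁻¹ ∈ Wf W (T : Subgroup G) :=
      fun w hw => (Subgroup.mem_normalizer_iff.mp huN w).mp hw
    have huW' : ∀ w : G, w ∈ Wf W (T : Subgroup G) → (u : G)⁻¹ * w * (u : G) ∈ Wf W (T : Subgroup G) := by
      intro w hw
      have := (Subgroup.mem_normalizer_iff.mp (Subgroup.inv_mem _ huN) w).mp hw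
      rwa [inv_inv] at this
    have hWT : Wf W (T : Subgroup G) ≤ ι.range := by
      rw [← hT]; exact Wf_le W _
    have hιW : ∀ (w : Ω) (hw : w ∈ Wf W S), ι ⟨w, Wf_le W S hw⟩ ∈ Wf W (T : Subgroup G) := by
      intro w hw
      rw [hWeq]
      exact ⟨⟨w, Wf_le W S hw⟩, Subgroup.mem_subgroupOf.mpr hw, rfl⟩
    have hmemM : A ≤ ((ι.range.comap (MulAut.conj (u : G)).toMonoidHom).comap ι).map S.subtype := by
      rw [hA]
      apply sup_le
      · rw [Subgroup.zpowers_le]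
        refine ⟨a⁻¹, ?_, rfl⟩
        show (u : G) * ι a⁻¹ * (u : G)⁻¹ ∈ ι.range
        have e : (u : G) * ι a⁻¹ * (u : G)⁻¹ = (ι a)⁻¹ * ι b := by
          rw [hb, hcomm, ← ha, map_inv]
          group
        rw [e]
        exact ι.range.mul_mem (ι.range.inv_mem ⟨a, rfl⟩) ⟨b, rfl⟩
      · intro w hw
        refine ⟨⟨w, Wf_le W S hw⟩, ?_, rfl⟩
        show (u : G) * ι ⟨w, Wf_le W S hw⟩ * (u : G)⁻¹ ∈ ι.range
        exact hWT (huW _ (hιW w hw))
    have hmem : ∀ z : A, (u : G) * ι ⟨z, hAS z.2⟩ * (u : G)⁻¹ ∈ ι.range := by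
      intro z
      obtain ⟨s, hs, hsz⟩ := hmemM z.2
      have e : (⟨z, hAS z.2⟩ : S) = s := Subtype.ext hsz.symm
      rw [e]
      exact hs
    obtain ⟨ψ, hψS, hιψ⟩ := exists_hom_of_conj ι hinj hAS (u : G) hmem
    have hψF : ψ ∈ F.Hom A := by
      rw [hreal A hAS ψ hψS]
      exact ⟨u, hιψ⟩
    have hWA : Wf W S ≤ A := le_sup_right
    have hψW : ((Wf W S).subgroupOf A).map ψ = Wf W S := by
      rw [Helper85.map_subgroupOf_eq_iff]
      constructor
      · intro z hz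
        have h1 : ι ⟨ψ z, hψS z⟩ ∈ Wf W (T : Subgroup G) := by
          rw [hιψ z]
          exact huW _ (hιW z hz)
        rw [hWeq] at h1
        obtain ⟨w, hw, hwz⟩ := h1
        have : w = ⟨ψ z, hψS z⟩ := hinj hwz
        have hw' : (w : Ω) ∈ Wf W S := Subgroup.mem_subgroupOf.mp hw
        rw [this] at hw'
        exact hw'
      · intro w hw
        have h1 : (u : G)⁻¹ * ι ⟨w, Wf_le W S hw⟩ * (u : G) ∈ Wf W (T : Subgroup G) := huW' _ (hιW w hw)
        rw [hWeq] at h1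
        obtain ⟨w₀, hw₀, hw₀w⟩ := h1
        have hw₀' : (w₀ : Ω) ∈ Wf W S := Subgroup.mem_subgroupOf.mp hw₀
        refine ⟨⟨w₀, hWA hw₀'⟩, hw₀', ?_⟩
        have h2 := hιψ ⟨w₀, hWA hw₀'⟩
        have h3 : ι ⟨ψ ⟨w₀, hWA hw₀'⟩, hψS _⟩ = ι ⟨w, Wf_le W S hw⟩ := by
          rw [h2]
          show (u : G) * ι w₀ * (u : G)⁻¹ = _
          rw [hw₀w]
          group
        exact congrArg Subtype.val (hinj h3)
    have hAN : A ≤ normalizerIn S (Wf W S) := hAS.trans (le_normalizerIn_Wf W hW2 hS)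
    have hψN := mem_normalizerHom_of_le F hWA hAN hψF hψW
    have haA : ((a⁻¹ : S) : Ω) ∈ A := Subgroup.mem_sup_left (Subgroup.mem_zpowers _)
    have hK := mem_Kf W F hψN ⟨_, haA⟩
    -- identify with `b`
    have hbeq : (b : Ω) = (((a⁻¹ : S) : Ω))⁻¹ * ψ ⟨_, haA⟩ := by
      have h4 : ι b = ι ((a⁻¹)⁻¹ * ⟨ψ ⟨_, haA⟩, hψS _⟩) := by
        rw [map_mul, map_inv, hιψ ⟨_, haA⟩, hb, hcomm, ← ha]
        show _ = (ι a⁻¹)⁻¹ * ((u : G) * ι a⁻¹ * (u : G)⁻¹)
        rw [map_inv]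
        group
      have := hinj h4
      rw [this]
      rfl
    show (g' : G) ∈ ((Kf W F).subgroupOf S).map ι
    refine ⟨b, ?_, hb⟩
    show (b : Ω) ∈ Kf W F
    rw [hbeq]
    exact hK
  have h5 := hle hfoc
  obtain ⟨k, hk, hkn⟩ := h5
  have hkn' : ι k = ι y := by rw [← hy]; exact hkn
  have := hinj hkn'
  rw [← this]
  exact Subgroup.mem_subgroupOf.mp hk

include hW2 in
/-- **The constrained case.** If `V` is normal in `F` and contains its centralizer in `S`, then every automorphism of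
`V` in the system is good, by the local hypothesis on the functor applied in a model. -/
theorem good_of_constrained [Finite S] [Fact p.Prime] (hS : IsPGroup p S) (F : FusionSystem S)
    (hF : F.IsSaturated p)
    (hT : ∀ (G : Type u) [Group G] [Finite G] (P : Sylow p G),
      Subgroup.centralizer ((Cfsg.pCore p G : Subgroup G) : Set G) ≤ Cfsg.pCore p G →
      Cfsg.pCore p G ⊓ commutator G = Cfsg.pCore p G ⊓
        (commutator ↥(Subgroup.normalizer (((W ↥(P : Subgroup G)).map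
          (P : Subgroup G).subtype : Subgroup G) : Set G))).map
          (Subgroup.normalizer (((W ↥(P : Subgroup G)).map (P : Subgroup G).subtype : Subgroup G) : Set G)).subtype)
    {V : Subgroup Ω} (hV : F.IsNormal V) (hVc : centralizerIn S V ≤ V)
    (α : V →* Ω) (hα : α ∈ F.Hom V) : Good (Kf W F) α := by
  have hcon : F.IsConstrained p := ⟨hF, V, hV, isCentric_of_isNormal F hV hVc⟩
  obtain ⟨G, hG, ι, hmodel⟩ := Cfsg.Agent.S5090.result p hS F hcon
  have hVn := normal_map_of_isNormal p F ι hmodel hV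
  obtain ⟨hfin, ⟨hinj, hreal⟩, ⟨T, hTr⟩, hCG⟩ := hmodel
  have hVS : V ≤ S := hV.1
  have hsc := stronglyClosed_of_isNormal F hV
  have hVp : IsPGroup p ↥((V.subgroupOf S).map ι) := (hS.to_subgroup _).map ι
  have hVcore : (V.subgroupOf S).map ι ≤ Cfsg.pCore p G := Cfsg.Agent.Lib.le_pCore hVn hVp
  have hloc := hT G T hCG
  have hαS : ∀ x : V, α x ∈ S := (F.le_of_mem hα).2
  obtain ⟨g, hg⟩ := (hreal V hVS α hαS).mp hα
  intro x
  have hαV : α x ∈ V := hsc.2 V le_rfl α hα x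
  have hyV : (x : Ω)⁻¹ * α x ∈ V := V.mul_mem (V.inv_mem x.2) hαV
  set y : S := ⟨(x : Ω)⁻¹ * α x, hVS hyV⟩ with hy
  have hy1 : ι y ∈ Cfsg.pCore p G := hVcore ⟨y, Subgroup.mem_subgroupOf.mpr hyV, rfl⟩
  have hy2 : ι y ∈ commutator G := by
    have e : ι y = ⁅(ι ⟨x, hVS x.2⟩)⁻¹, g⁆ := by
      have e1 : y = (⟨x, hVS x.2⟩ : S)⁻¹ * ⟨α x, hαS x⟩ := Subtype.ext rfl
      rw [e1, map_mul, map_inv, hg x, commutatorElement_def, inv_inv]
      group
    rw [e, commutator_def]
    exact Subgroup.commutator_mem_commutator (Subgroup.mem_top _) (Subgroup.mem_top _)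
  have hy3 : ι y ∈ Cfsg.pCore p G ⊓ commutator G := ⟨hy1, hy2⟩
  rw [hloc] at hy3
  obtain ⟨n, hn, hny⟩ := hy3.2
  exact focal_normalizer_model W hW2 hS F ι hinj hreal T hTr _ rfl n hn y hny

end Cfsg.Agent.Helper88.Ctrl
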