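import Cfsg.Agent.Helper88.CtrlChain
import Cfsg.Agent.S5132
import Cfsg.Agent.S5133
import Cfsg.Agent.S5134
import Cfsg.Agent.Helper85.Factor
set_option autoImplicit false

/-! # Control of transfer: the quotient step

For `V` normal in `F`, control of transfer in the factor system `F/V` and in the normalizer system of the preimage of
`W(S/V)` gives `foc(F) ≤ Kf W F · V`. -/

namespace Cfsg.Agent.Helper88.Ctrl

universe u

open Cfsg Cfsg.FusionSystem Cfsg.Agent.Helper87 Cfsg.Agent.Helper51.FusWC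

variable {Ω : Type u} [Group Ω] {S : Subgroup Ω} (W : ∀ (Q : Type u) [Group Q], Subgroup Q) {p : ℕ}
  (hW1 : ∀ (Q : Type u) [Group Q] [Finite Q], IsPGroup p Q → Nontrivial Q → W Q ≠ ⊥)
  (hW2 : ∀ (Q R : Type u) [Group Q] [Group R] [Finite Q], IsPGroup p Q → ∀ φ : Q ≃* R,
    (W Q).map φ.toMonoidHom = W R)

theorem normal_subgroupOf_of_le_normalizer {V : Subgroup Ω} (h : S ≤ Subgroup.normalizer (V : Set Ω)) :
    (V.subgroupOf S).Normal := by
  refine ⟨fun n hn g => ?_⟩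
  rw [Subgroup.mem_subgroupOf] at hn ⊢
  exact (Subgroup.mem_normalizer_iff.mp (h g.2) _).mp hn

include hW1 hW2 in
/-- **The quotient step.** -/
theorem quot_step [Finite S] [Fact p.Prime] (hS : IsPGroup p S) (F : FusionSystem S) (hF : F.IsSaturated p)
    {V : Subgroup Ω} (hV : F.IsNormal V) (hVne : V ≠ ⊥) (hVlt : V < S)
    (IH1 : ∀ (Ω' : Type u) [Group Ω'] (S' : Subgroup Ω') [Finite S'], IsPGroup p S' →
      Nat.card S' < Nat.card S → ∀ F' : FusionSystem S', F'.IsSaturated p → IsCtrl W F')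
    (hbig : ∀ Q : Subgroup Ω, Q ≤ S → S ≤ Subgroup.normalizer (Q : Set Ω) → Nat.card V < Nat.card Q →
      ∀ (A : Subgroup Ω) (ψ : A →* Ω), ψ ∈ F.Hom A → Q ≤ A → (Q.subgroupOf A).map ψ = Q →
        Good (Kf W F) ψ)
    (P : Subgroup Ω) (φ : P →* Ω) (hφ : φ ∈ F.Hom P) (x : P) :
    ∃ k ∈ Kf W F, ∃ v ∈ V, (x : Ω)⁻¹ * φ x = k * v := by
  have hsc := stronglyClosed_of_isNormal F hV
  have hVS : V ≤ S := hV.1
  have hSV : S ≤ Subgroup.normalizer (V : Set Ω) := le_normalizer_of_stronglyClosed F hsc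
  have hVn : (V.subgroupOf S).Normal := normal_subgroupOf_of_le_normalizer hSV
  obtain ⟨E, hE⟩ := Cfsg.Agent.S5132.result p hS F V hsc
  have hsurj := Cfsg.Agent.S5134.result p hS F hF V hsc _ E hE
  have hEsat := Cfsg.Agent.S5133.result p hS F hF E _ hsurj
  set θ : S →* S ⧸ V.subgroupOf S := QuotientGroup.mk' (V.subgroupOf S) with hθ
  have hθsurj : Function.Surjective θ := QuotientGroup.mk'_surjective _
  obtain ⟨-, hker, -, hhom⟩ := hE
  obtain ⟨hmor, -, -⟩ := hsurj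
  have hQp : IsPGroup p (S ⧸ V.subgroupOf S) := hS.to_quotient _
  have hTp : IsPGroup p ↥(⊤ : Subgroup (S ⧸ V.subgroupOf S)) := hQp.to_subgroup _
  have hfinV : Finite V := finite_of_le hVS
  have hcardV : Nat.card (V.subgroupOf S) = Nat.card V :=
    Nat.card_congr (Subgroup.subgroupOfEquivOfLe hVS).toEquiv
  have hcard : Nat.card ↥(⊤ : Subgroup (S ⧸ V.subgroupOf S)) < Nat.card S := by
    rw [Subgroup.card_top]
    have h1 := Subgroup.card_eq_card_quotient_mul_card_subgroup (V.subgroupOf S)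
    rw [hcardV] at h1
    have h2 : 1 < Nat.card V := (Subgroup.one_lt_card_iff_ne_bot V).mpr hVne
    have h3 : 0 < Nat.card (S ⧸ V.subgroupOf S) := Nat.card_pos
    rw [h1]
    nlinarith
  have hctrlE : IsCtrl W E := IH1 _ ⊤ hTp hcard E hEsat
  -- the top subgroup of the quotient is nontrivial
  have hTne : (⊤ : Subgroup (S ⧸ V.subgroupOf S)) ≠ ⊥ := by
    intro h
    obtain ⟨s, hsS, hsV⟩ := SetLike.exists_of_lt hVlt
    apply hsV
    have h1 : θ ⟨s, hsS⟩ ∈ (⊤ : Subgroup (S ⧸ V.subgroupOf S)) := Subgroup.mem_top _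
    rw [h, Subgroup.mem_bot] at h1
    exact (hker _).mp h1
  have hWne : Wf W (⊤ : Subgroup (S ⧸ V.subgroupOf S)) ≠ ⊥ := Wf_ne_bot W hW1 hTp hTne
  -- the preimage `L` of `W(S/V)`
  set L : Subgroup Ω := preimageAlong θ (Wf W (⊤ : Subgroup (S ⧸ V.subgroupOf S))) with hL
  have hLS : L ≤ S := Helper85.preimageAlong_le θ _
  have hmemL : ∀ (y : Ω) (hy : y ∈ S), y ∈ L ↔ θ ⟨y, hy⟩ ∈ Wf W (⊤ : Subgroup (S ⧸ V.subgroupOf S)) := by
    intro y hy
    rw [hL, Helper85.mem_preimageAlong]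
    exact ⟨fun ⟨_, h⟩ => h, fun h => ⟨hy, h⟩⟩
  have hWnorm : ∀ (q w : S ⧸ V.subgroupOf S), w ∈ Wf W (⊤ : Subgroup (S ⧸ V.subgroupOf S)) →
      q * w * q⁻¹ ∈ Wf W (⊤ : Subgroup (S ⧸ V.subgroupOf S)) := by
    intro q w hw
    have hq : q ∈ Subgroup.normalizer ((⊤ : Subgroup (S ⧸ V.subgroupOf S)) : Set (S ⧸ V.subgroupOf S)) := by
      rw [Subgroup.normalizer_eq_top]
      exact Subgroup.mem_top _
    exact conj_mem_Wf W hW2 ⊤ hTp hq hw
  have hSL : S ≤ Subgroup.normalizer (L : Set Ω) := by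
    apply le_normalizer_of_forall_conj_mem
    intro s hs y hy
    have hyS : y ∈ S := hLS hy
    have hcS : s * y * s⁻¹ ∈ S := S.mul_mem (S.mul_mem hs hyS) (S.inv_mem hs)
    rw [hmemL _ hcS]
    have e : (⟨s * y * s⁻¹, hcS⟩ : S) = ⟨s, hs⟩ * ⟨y, hyS⟩ * ⟨s, hs⟩⁻¹ := Subtype.ext rfl
    rw [e, map_mul, map_mul, map_inv]
    exact hWnorm _ _ ((hmemL y hyS).mp hy)
  have hVL : V ≤ L := by
    intro v hv
    rw [hmemL v (hVS hv), (hker ⟨v, hVS hv⟩).mpr hv]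
    exact Subgroup.one_mem _
  have hfinL : Finite L := finite_of_le hLS
  have hcardL : Nat.card V < Nat.card L := by
    apply card_lt_card_of_lt
    refine lt_of_le_of_ne hVL ?_
    intro heq
    apply hWne
    rw [eq_bot_iff]
    intro w hw
    obtain ⟨s, rfl⟩ := hθsurj w
    have hsL : (s : Ω) ∈ L := (hmemL s s.2).mpr (by rw [Subtype.coe_eta]; exact hw)
    rw [← heq] at hsL
    rw [Subgroup.mem_bot]
    exact (hker s).mpr hsL
  -- the key inclusion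
  have key : Kf W E ≤ ((Kf W F).subgroupOf S).map θ := by
    unfold Kf
    rw [Subgroup.closure_le]
    rintro _ ⟨B', θ', z', hθ', rfl⟩
    obtain ⟨-, -, -, ψ', hψ', hψ'θ', hψ'Q⟩ := hθ'
    have hh := (hhom _ ψ').mp hψ'
    set A : Subgroup Ω := preimageAlong θ (B' ⊔ Wf W (⊤ : Subgroup (S ⧸ V.subgroupOf S))) with hA
    obtain ⟨-, ψ, hψ, hAS, hψS, hA', hind⟩ := hh
    have hmemA : ∀ (y : Ω) (hy : y ∈ S), y ∈ A ↔
        θ ⟨y, hy⟩ ∈ B' ⊔ Wf W (⊤ : Subgroup (S ⧸ V.subgroupOf S)) := by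
      intro y hy
      rw [hA, Helper85.mem_preimageAlong]
      exact ⟨fun ⟨_, h⟩ => h, fun h => ⟨hy, h⟩⟩
    have hLA : L ≤ A := by
      intro y hy
      rw [hmemA y (hLS hy)]
      exact Subgroup.mem_sup_right ((hmemL y (hLS hy)).mp hy)
    have hψ'QQ := (Helper85.map_subgroupOf_eq_iff ψ').mp hψ'Q
    have hψinj := F.injective_of_mem hψ
    -- `ψ` carries `L` onto `L`
    have hψL : (L.subgroupOf A).map ψ = L := by
      have hle : (L.subgroupOf A).map ψ ≤ L := by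
        rintro _ ⟨a, ha, rfl⟩
        have haL : (a : Ω) ∈ L := Subgroup.mem_subgroupOf.mp ha
        rw [hmemL _ (hψS a), ← hind a]
        exact hψ'QQ.1 _ ((hmemL _ (hAS a.2)).mp haL)
      apply Subgroup.eq_of_le_of_card_ge hle
      rw [Subgroup.card_map_of_injective hψinj]
      exact le_of_eq (Nat.card_congr (Subgroup.subgroupOfEquivOfLe hLA).toEquiv).symm
    have hgood := hbig L hLS hSL hcardL A ψ hψ hLA hψL
    -- lift `z'`
    obtain ⟨a, ha⟩ := hθsurj (z' : S ⧸ V.subgroupOf S)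
    have haA : (a : Ω) ∈ A := by
      rw [hmemA a a.2, Subtype.coe_eta, ha]
      exact Subgroup.mem_sup_left z'.2
    have hg := hgood ⟨a, haA⟩
    have hgS : ((a : Ω))⁻¹ * ψ ⟨a, haA⟩ ∈ S := Kf_le W F hg
    refine ⟨⟨_, hgS⟩, Subgroup.mem_subgroupOf.mpr hg, ?_⟩
    have e1 : (⟨((a : Ω))⁻¹ * ψ ⟨a, haA⟩, hgS⟩ : S) = a⁻¹ * ⟨ψ ⟨a, haA⟩, hψS _⟩ := Subtype.ext rfl
    rw [e1, map_mul, map_inv, ha]
    congr 1
    have h2 := hind ⟨a, haA⟩
    rw [← h2, ← hψ'θ' z']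
    congr 1
    apply Subtype.ext
    show θ ⟨(a : Ω), _⟩ = (z' : S ⧸ V.subgroupOf S)
    rw [Subtype.coe_eta, ha]
  -- apply to `φ`
  obtain ⟨φ', hφ', hPS, hφS, hP', hindφ⟩ := hmor.2 P φ hφ
  have h1 := hctrlE _ φ' hφ' ⟨θ ⟨x, hPS x.2⟩, hP' x⟩
  rw [hindφ x] at h1
  have h2 := key h1
  obtain ⟨k, hk, hkeq⟩ := h2
  have hkK : (k : Ω) ∈ Kf W F := Subgroup.mem_subgroupOf.mp hk
  have h3 : θ (k⁻¹ * ((⟨x, hPS x.2⟩ : S)⁻¹ * ⟨φ x, hφS x⟩)) = 1 := by
    rw [map_mul, map_inv, hkeq, map_mul, map_inv]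
    exact inv_mul_cancel _
  have h4 := (hker _).mp h3
  refine ⟨k, hkK, _, h4, ?_⟩
  show (x : Ω)⁻¹ * φ x = (k : Ω) * ((k : Ω)⁻¹ * ((x : Ω)⁻¹ * φ x))
  group

end Cfsg.Agent.Helper88.Ctrl
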