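import Cfsg.Agent.Helper88.TateOne
set_option autoImplicit false

/-! # The transfer of a characteristic biset on a strongly closed subgroup

If a homomorphism `θ` of `S` to an abelian group is constant on the classes of the system inside a subgroup `V`
normalized by `S`, then the transfer of a multiset of twisted diagonals is the power map by the index on `V`. -/

namespace Cfsg.Agent.Helper88.Biset

universe u

open Cfsg Cfsg.FusionSystem Cfsg.Agent.Helper87 Cfsg.Agent.Helper88.Marks Cfsg.Agent.Helper88.TransferCount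

/-- Two homomorphisms agreeing on the part of `H` inside a normal subgroup `N` have the same transfer on `N`. -/
theorem transfer_congr_of_normal {G : Type*} [Group G] {A : Type*} [CommGroup A] (H : Subgroup G)
    [H.FiniteIndex] (ν ν' : H →* A) (N : Subgroup G) [hN : N.Normal]
    (hagree : ∀ h : H, (h : G) ∈ N → ν h = ν' h) (g : G) (hg : g ∈ N) :
    MonoidHom.transfer ν g = MonoidHom.transfer ν' g := by
  classical
  let _ := Fintype.ofFinite (Quotient (MulAction.orbitRel (Subgroup.zpowers g) (G ⧸ H)))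
  rw [MonoidHom.transfer_eq_prod_quotient_orbitRel_zpowers_quot,
    MonoidHom.transfer_eq_prod_quotient_orbitRel_zpowers_quot]
  apply Finset.prod_congr rfl
  intro q _
  apply hagree
  show q.out.out⁻¹ * g ^ Function.minimalPeriod (g • ·) q.out * q.out.out ∈ N
  have h1 : g ^ Function.minimalPeriod (g • ·) q.out ∈ N := N.pow_mem hg _
  have h2 := hN.conj_mem _ h1 (q.out.out⁻¹)
  rwa [inv_inv] at h2

variable {Ω : Type u} [Group Ω] {S : Subgroup Ω}

/-- The value of `homOf θ D` on an element of the first projection of a twisted diagonal on which `θ` is stable. -/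
theorem homOf_apply_of_stable_on (F : FusionSystem S) {A : Type*} [CommGroup A] (θ : ↥S →* A) (V : Subgroup Ω)
    (hθ : ∀ (P : Subgroup Ω) (φ : P →* Ω) (hφ : φ ∈ F.Hom P) (x : P), (x : Ω) ∈ V →
      θ ⟨φ x, (F.le_of_mem hφ).2 x⟩ = θ ⟨x, (F.le_of_mem hφ).1 x.2⟩)
    {D : Subgroup (↥S × ↥S)} (hD : TD F D) (a : fstG D) (ha : ((a : ↥S) : Ω) ∈ V) :
    homOf θ D a = θ (a : ↥S) := by
  have hfun := hD.isFunctional
  rw [homOf_eq θ hfun]
  show θ (sndHom D hfun a) = θ (a : ↥S)
  obtain ⟨a, ha'⟩ := a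
  obtain ⟨w, hw, hw1⟩ := Subgroup.mem_map.mp ha'
  have hw1' : w.1 = a := hw1
  have h3 := sndHom_apply hfun hw (fst_mem_fstG hw)
  have e : (⟨a, ha'⟩ : fstG D) = ⟨w.1, fst_mem_fstG hw⟩ := Subtype.ext hw1'.symm
  rw [e, h3]
  show θ w.2 = θ w.1
  obtain ⟨P, Q, e', he', hDeq⟩ := hD
  rw [hDeq] at hw
  obtain ⟨a', ha1, ha2⟩ := hw
  have haV : ((a' : P) : Ω) ∈ V := by
    rw [← ha1, hw1']
    exact ha
  have h4 := hθ P _ he' a' haV
  have h5 : w.2 = ⟨(Q.subtype.comp e'.toMonoidHom) a', (F.le_of_mem he').2 a'⟩ := Subtype.ext ha2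
  have h6 : w.1 = ⟨a', (F.le_of_mem he').1 a'.2⟩ := Subtype.ext ha1
  rw [h5, h6]
  exact h4

/-- On a subgroup `V` normalized by `S` on which `θ` is stable, the transfer of a multiset of twisted diagonals is the
power map by the index. -/
theorem bisetTransfer_of_stable_on [Finite S] {A : Type*} [CommGroup A] (F : FusionSystem S)
    (m : Subgroup (↥S × ↥S) →₀ ℕ) (hsupp : ∀ D ∈ m.support, TD F D)
    (θ : ↥S →* A) (V : Subgroup Ω) (hVn : S ≤ Subgroup.normalizer (V : Set Ω))
    (hθ : ∀ (P : Subgroup Ω) (φ : P →* Ω) (hφ : φ ∈ F.Hom P) (x : P), (x : Ω) ∈ V →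
      θ ⟨φ x, (F.le_of_mem hφ).2 x⟩ = θ ⟨x, (F.le_of_mem hφ).1 x.2⟩)
    (x : ↥S) (hx : (x : Ω) ∈ V) :
    bisetTransfer m θ x = θ x ^ idx m := by
  have hN : (V.subgroupOf S).Normal := by
    refine ⟨fun n hn g => ?_⟩
    rw [Subgroup.mem_subgroupOf] at hn ⊢
    exact (Subgroup.mem_normalizer_iff.mp (hVn g.2) _).mp hn
  rw [bisetTransfer_apply]
  unfold idx Finsupp.sum
  rw [← Finset.prod_pow_eq_pow_sum]
  apply Finset.prod_congr rfl
  intro D hD
  have hTD := hsupp D hD
  have hfun := hTD.isFunctional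
  have h1 : MonoidHom.transfer (homOf θ D) x = MonoidHom.transfer (θ.comp (fstG D).subtype) x := by
    apply transfer_congr_of_normal (fstG D) _ _ (V.subgroupOf S) _ x (Subgroup.mem_subgroupOf.mpr hx)
    intro h hh
    exact homOf_apply_of_stable_on F θ V hθ hTD h (Subgroup.mem_subgroupOf.mp hh)
  rw [h1, transfer_restrict]
  have hidx : (fstG D).index = Nat.card S / Nat.card D := by
    have h1 := Subgroup.card_mul_index (fstG D)
    rw [card_fstG hfun] at h1
    rw [← h1, Nat.mul_div_cancel_left _ Nat.card_pos]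
  rw [hidx, ← pow_mul, mul_comm]

end Cfsg.Agent.Helper88.Biset
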