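import Cfsg.Agent.Helper88.CtrlQuot
import Cfsg.Agent.Helper88.CtrlModel
import Cfsg.Agent.Helper88.CtrlTransfer
import Cfsg.Agent.S5098
import Cfsg.Agent.S5145
set_option autoImplicit false

/-! # Control of transfer: systems with a nontrivial normal subgroup, and the main theorem -/

namespace Cfsg.Agent.Helper88.Ctrl

universe u

open Cfsg Cfsg.FusionSystem Cfsg.Agent.Helper87 Cfsg.Agent.Helper51.FusWC Cfsg.Agent.Helper88.Biset

open scoped commutatorElement

variable {Ω : Type u} [Group Ω] {S : Subgroup Ω} (W : ∀ (Q : Type u) [Group Q], Subgroup Q) {p : ℕ}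
  (hW1 : ∀ (Q : Type u) [Group Q] [Finite Q], IsPGroup p Q → Nontrivial Q → W Q ≠ ⊥)
  (hW2 : ∀ (Q R : Type u) [Group Q] [Group R] [Finite Q], IsPGroup p Q → ∀ φ : Q ≃* R,
    (W Q).map φ.toMonoidHom = W R)

/-- **The non-constrained case.** If `V` is normal in `F` and `C_S(V) ≰ V`, then every automorphism of `V` in the system
extends to `V C_S(V)`, a larger subgroup normalized by `S`. -/
theorem good_of_not_constrained [Finite S] [Fact p.Prime] (hS : IsPGroup p S) (F : FusionSystem S)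
    (hF : F.IsSaturated p) {V : Subgroup Ω} (hV : F.IsNormal V) (hVnc : ¬ centralizerIn S V ≤ V)
    (hbig : ∀ Q : Subgroup Ω, Q ≤ S → S ≤ Subgroup.normalizer (Q : Set Ω) → Nat.card V < Nat.card Q →
      ∀ (A : Subgroup Ω) (ψ : A →* Ω), ψ ∈ F.Hom A → Q ≤ A → (Q.subgroupOf A).map ψ = Q →
        Good (Kf W F) ψ)
    (α : V →* Ω) (hα : α ∈ F.Hom V) : Good (Kf W F) α := by
  have hsc := stronglyClosed_of_isNormal F hV
  have hVS : V ≤ S := hV.1
  have hSV : S ≤ Subgroup.normalizer (V : Set Ω) := le_normalizer_of_stronglyClosed F hsc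
  have hCS : centralizerIn S V ≤ S := inf_le_left
  have hD0S : V ⊔ centralizerIn S V ≤ S := sup_le hVS hCS
  have hfinD : Finite ↥(V ⊔ centralizerIn S V) := finite_of_le hD0S
  have hlt : V < V ⊔ centralizerIn S V := by
    refine lt_of_le_of_ne le_sup_left ?_
    intro h
    apply hVnc
    exact le_sup_right.trans (le_of_eq h.symm)
  have hcard : Nat.card V < Nat.card ↥(V ⊔ centralizerIn S V) := card_lt_card_of_lt hlt
  have hSD : S ≤ Subgroup.normalizer ((V ⊔ centralizerIn S V : Subgroup Ω) : Set Ω) := by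
    intro s hs
    have h1 : s ∈ normalizerIn S V := ⟨hs, hSV hs⟩
    exact (normalizerIn_le_normalizerIn_sup_centralizerIn V h1).2
  have hrange : α.range = V := eq_of_isConj_of_isNormal F hV ⟨α, hα, rfl⟩
  have hfn := isFullyNormalized_of_le_normalizer F hVS hSV
  obtain ⟨hfc, hfa⟩ := fullyAutomized_fullyCentralized_of_fullyNormalized hS F hF hfn
  have hrec := receptive_of_fullyCentralized hS F hF hfc
  obtain ⟨ψ, hψ, hψα⟩ := hrec.2 V α hα hrange
  have hDext : V ⊔ centralizerIn S V ≤ extender S V α :=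
    sup_le (le_extender_of_mem F hα) (centralizerIn_le_extender V α)
  have hψ₀ : ψ.comp (Subgroup.inclusion hDext) ∈ F.Hom (V ⊔ centralizerIn S V) := restrict_mem F hψ hDext
  have hψ₀S : ∀ d, (ψ.comp (Subgroup.inclusion hDext)) d ∈ S := (F.le_of_mem hψ₀).2
  have hψ₀V : ∀ (v : Ω) (hv : v ∈ V),
      (ψ.comp (Subgroup.inclusion hDext)) ⟨v, le_sup_left (b := centralizerIn S V) hv⟩ = α ⟨v, hv⟩ :=
    fun v hv => hψα v hv _
  have hαV : ∀ v : V, α v ∈ V := fun v => hsc.2 V le_rfl α hα v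
  -- `ψ₀` maps `D₀` into `D₀`
  have hmem : ∀ d : ↥(V ⊔ centralizerIn S V),
      d ∈ (V ⊔ centralizerIn S V).comap (ψ.comp (Subgroup.inclusion hDext)) := by
    apply Helper85.forall_mem_of_sup
    · intro v
      show (ψ.comp (Subgroup.inclusion hDext)) ⟨v, _⟩ ∈ V ⊔ centralizerIn S V
      rw [hψ₀V v v.2]
      exact Subgroup.mem_sup_left (hαV v)
    · intro c
      show (ψ.comp (Subgroup.inclusion hDext)) ⟨c, _⟩ ∈ V ⊔ centralizerIn S V
      apply Subgroup.mem_sup_right
      refine ⟨hψ₀S _, Subgroup.mem_centralizer_iff.mpr ?_⟩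
      intro v hv
      have hv' : v ∈ α.range := by rw [hrange]; exact hv
      obtain ⟨v₀, rfl⟩ := hv'
      rw [← hψ₀V v₀ v₀.2, ← map_mul, ← map_mul]
      congr 1
      apply Subtype.ext
      show (v₀ : Ω) * c = c * v₀
      exact Subgroup.mem_centralizer_iff.mp c.2.2 v₀ v₀.2
  have hinj := F.injective_of_mem hψ₀
  have hψ₀D : ((V ⊔ centralizerIn S V).subgroupOf (V ⊔ centralizerIn S V)).map
      (ψ.comp (Subgroup.inclusion hDext)) = V ⊔ centralizerIn S V := by
    have hle : ((V ⊔ centralizerIn S V).subgroupOf (V ⊔ centralizerIn S V)).map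
        (ψ.comp (Subgroup.inclusion hDext)) ≤ V ⊔ centralizerIn S V := by
      rintro _ ⟨d, -, rfl⟩
      exact hmem d
    apply Subgroup.eq_of_le_of_card_ge hle
    rw [Subgroup.card_map_of_injective hinj]
    exact le_of_eq (Nat.card_congr (Subgroup.subgroupOfEquivOfLe (le_refl _)).toEquiv).symm
  have hgood := hbig _ hD0S hSD hcard _ _ hψ₀ le_rfl hψ₀D
  exact hgood.of_restrict le_sup_left (fun x => (hψ₀V x x.2).symm)

include hW1 hW2 in
/-- **Systems with a nontrivial normal subgroup**, given control of transfer on smaller groups and in the systems over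
`S` normalizing a larger subgroup. -/
theorem step_one_core [Finite S] [hp : Fact p.Prime] (hS : IsPGroup p S) (F : FusionSystem S)
    (hF : F.IsSaturated p)
    (hT : ∀ (G : Type u) [Group G] [Finite G] (P : Sylow p G),
      Subgroup.centralizer ((Cfsg.pCore p G : Subgroup G) : Set G) ≤ Cfsg.pCore p G →
      Cfsg.pCore p G ⊓ commutator G = Cfsg.pCore p G ⊓
        (commutator ↥(Subgroup.normalizer (((W ↥(P : Subgroup G)).map
          (P : Subgroup G).subtype : Subgroup G) : Set G))).map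
          (Subgroup.normalizer (((W ↥(P : Subgroup G)).map (P : Subgroup G).subtype : Subgroup G) : Set G)).subtype)
    {V : Subgroup Ω} (hV : F.IsNormal V) (hVne : V ≠ ⊥)
    (IH1 : ∀ (Ω' : Type u) [Group Ω'] (S' : Subgroup Ω') [Finite S'], IsPGroup p S' →
      Nat.card S' < Nat.card S → ∀ F' : FusionSystem S', F'.IsSaturated p → IsCtrl W F')
    (hbig : ∀ Q : Subgroup Ω, Q ≤ S → S ≤ Subgroup.normalizer (Q : Set Ω) → Nat.card V < Nat.card Q →
      ∀ (A : Subgroup Ω) (ψ : A →* Ω), ψ ∈ F.Hom A → Q ≤ A → (Q.subgroupOf A).map ψ = Q →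
        Good (Kf W F) ψ) : IsCtrl W F := by
  have hsc := stronglyClosed_of_isNormal F hV
  have hVS : V ≤ S := hV.1
  have hSV : S ≤ Subgroup.normalizer (V : Set Ω) := le_normalizer_of_stronglyClosed F hsc
  by_cases hVeq : V = S
  · -- every map extends to `S`
    intro P φ hφ
    obtain ⟨ψ, hψ, hψφ, -⟩ := hV.2 P φ hφ
    have hle : S ≤ P ⊔ V := by rw [hVeq]; exact le_sup_right
    have hPS : P ≤ S := (F.le_of_mem hφ).1
    have hψS : ψ.comp (Subgroup.inclusion hle) ∈ F.Hom S := restrict_mem F hψ hle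
    have hgood := good_of_mem_top W hW2 hS F hψS
    refine hgood.of_restrict hPS (fun x => ?_)
    rw [← hψφ x]
    rfl
  · have hVlt : V < S := lt_of_le_of_ne hVS hVeq
    -- automorphisms of `V` are good
    have hαgood : ∀ (α : V →* Ω), α ∈ F.Hom V → Good (Kf W F) α := by
      intro α hα
      by_cases hc : centralizerIn S V ≤ V
      · exact good_of_constrained W hW2 hS F hF hT hV hc α hα
      · exact good_of_not_constrained W hS F hF hV hc hbig α hα
    -- every map is good on `V`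
    have hVgood : ∀ (P : Subgroup Ω) (φ : P →* Ω), φ ∈ F.Hom P → ∀ x : P, (x : Ω) ∈ V →
        (x : Ω)⁻¹ * φ x ∈ Kf W F := by
      intro P φ hφ x hxV
      obtain ⟨ψ, hψ, hψφ, -⟩ := hV.2 P φ hφ
      have hψV : ψ.comp (Subgroup.inclusion (le_sup_right : V ≤ P ⊔ V)) ∈ F.Hom V :=
        restrict_mem F hψ le_sup_right
      have h1 := hαgood _ hψV ⟨x, hxV⟩
      rw [← hψφ x]
      exact h1
    -- the transfer
    set K' : Subgroup ↥S := (Kf W F).subgroupOf S with hK'
    have hK1 : commutator ↥S ≤ K' := by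
      rw [commutator_def, Subgroup.commutator_le]
      intro a _ b _
      rw [hK', Subgroup.mem_subgroupOf]
      have h1 := conj_mem_Kf W hW2 hS F (b : Ω) b.2 ((a : Ω)⁻¹) (S.inv_mem a.2)
      have e : ((⁅a, b⁆ : ↥S) : Ω) = ((a : Ω)⁻¹)⁻¹ * ((b : Ω) * (a : Ω)⁻¹ * (b : Ω)⁻¹) := by
        rw [commutatorElement_def]
        simp only [Subgroup.coe_mul, Subgroup.coe_inv]
        group
      rw [e]
      exact h1
    set q : ↥S →* (Abelianization ↥S ⧸ K'.map Abelianization.of) :=
      (QuotientGroup.mk' (K'.map Abelianization.of)).comp Abelianization.of with hq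
    have hq1 : ∀ x : ↥S, q x = 1 ↔ x ∈ K' := quot_of_eq_one_iff K' hK1
    have hqs : Function.Surjective q := quot_of_surjective K'
    have hBp : IsPGroup p (Abelianization ↥S ⧸ K'.map Abelianization.of) := hS.of_surjective q hqs
    obtain ⟨m, hsupp, hstab, hidx⟩ := exists_char_biset hS F hF
    have hθ : ∀ (P : Subgroup Ω) (φ : P →* Ω) (hφ : φ ∈ F.Hom P) (x : P), (x : Ω) ∈ V →
        q ⟨φ x, (F.le_of_mem hφ).2 x⟩ = q ⟨x, (F.le_of_mem hφ).1 x.2⟩ := by
      intro P φ hφ x hxV
      have h1 := hVgood P φ hφ x hxV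
      have h2 : (⟨x, (F.le_of_mem hφ).1 x.2⟩ : ↥S)⁻¹ * ⟨φ x, (F.le_of_mem hφ).2 x⟩ ∈ K' := by
        rw [hK', Subgroup.mem_subgroupOf]
        exact h1
      have h3 := (hq1 _).mpr h2
      rw [map_mul, map_inv, inv_mul_eq_one] at h3
      exact h3.symm
    obtain ⟨e, he⟩ := IsPGroup.iff_card.mp hBp
    have hcop : (Nat.card (Abelianization ↥S ⧸ K'.map Abelianization.of)).Coprime (idx m) := by
      rw [he]
      exact Nat.Coprime.pow_left _ ((Nat.Prime.coprime_iff_not_dvd hp.1).mpr hidx)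
    have hpowinj : ∀ a : Abelianization ↥S ⧸ K'.map Abelianization.of, a ^ idx m = 1 → a = 1 := by
      intro a ha
      apply (powCoprime hcop).injective
      show a ^ idx m = 1 ^ idx m
      rw [ha, one_pow]
    have hVfoc : ∀ v : Ω, v ∈ V → v ∈ F.focalSubgroup → v ∈ Kf W F := by
      intro v hv hvf
      have h1 := bisetTransfer_focal F m hsupp hstab q v hvf
      have h2 := bisetTransfer_of_stable_on F m hsupp q V hSV hθ ⟨v, focalSubgroup_le F hvf⟩ hv
      rw [h1] at h2
      have h3 := hpowinj _ h2.symm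
      exact Subgroup.mem_subgroupOf.mp ((hq1 _).mp h3)
    -- conclude
    intro P φ hφ x
    obtain ⟨k, hk, v, hv, hxk⟩ := quot_step W hW1 hW2 hS F hF hV hVne hVlt IH1 hbig P φ hφ x
    have hfoc : (x : Ω)⁻¹ * φ x ∈ F.focalSubgroup := Subgroup.subset_closure ⟨P, φ, x, hφ, rfl⟩
    have hvf : v ∈ F.focalSubgroup := by
      have e : v = k⁻¹ * ((x : Ω)⁻¹ * φ x) := by rw [hxk]; group
      rw [e]
      exact Subgroup.mul_mem _ (Subgroup.inv_mem _ (Kf_le_focal W F hk)) hfoc
    rw [hxk]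
    exact Subgroup.mul_mem _ hk (hVfoc v hv hvf)

end Cfsg.Agent.Helper88.Ctrl
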