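import Mathlib

set_option autoImplicit false

/-! # Products over the cycles of a permutation

If the product of `f` along every closed walk `q₀, π q₀, …, π ^ (k - 1) q₀` (with `π ^ k q₀ = q₀`) of a permutation `π` of a finite
set lies in a subgroup `J` of a commutative group, then so does the product of `f` over the whole set.
-/

namespace Cfsg.Agent.Helper88.CycleProd

theorem prod_mem_of_cycles {Q M : Type*} [Fintype Q] [CommGroup M] (π : Equiv.Perm Q) (f : Q → M)
    (J : Subgroup M)
    (hcyc : ∀ (q₀ : Q) (k : ℕ), 0 < k → (π ^ k) q₀ = q₀ → ∏ i ∈ Finset.range k, f ((π ^ i) q₀) ∈ J) :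
    ∏ q, f q ∈ J := by
  classical
  have key : ∀ (n : ℕ) (Z : Finset Q), Z.card = n → (∀ q ∈ Z, π q ∈ Z) → ∏ q ∈ Z, f q ∈ J := by
    intro n
    induction n using Nat.strong_induction_on with
    | _ n ih =>
      intro Z hZn hZ
      rcases Z.eq_empty_or_nonempty with rfl | ⟨q₀, hq₀⟩
      · rw [Finset.prod_empty]
        exact J.one_mem
      · have hper : ∃ k, 0 < k ∧ (π ^ k) q₀ = q₀ :=
          ⟨orderOf π, orderOf_pos π, by rw [pow_orderOf_eq_one]; rfl⟩
        have hk := Nat.find_spec hper
        have hmin : ∀ i, 0 < i → i < Nat.find hper → (π ^ i) q₀ ≠ q₀ :=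
          fun i hi hik h => Nat.find_min hper hik ⟨hi, h⟩
        set k := Nat.find hper with hkdef
        have hne : ∀ i j, i < j → j < k → (π ^ i) q₀ ≠ (π ^ j) q₀ := by
          intro i j hij hjk h
          have e : j = i + (j - i) := by omega
          rw [e, pow_add, Equiv.Perm.mul_apply] at h
          have h2 := (π ^ i).injective h
          exact hmin (j - i) (by omega) (by omega) h2.symm
        have hinj : Set.InjOn (fun i => (π ^ i) q₀) (Finset.range k : Set ℕ) := by
          intro i hi j hj hij
          have hi' : i < k := Finset.mem_range.mp hi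
          have hj' : j < k := Finset.mem_range.mp hj
          by_contra hne'
          rcases Nat.lt_or_gt_of_ne hne' with h | h
          · exact hne i j h hj' hij
          · exact hne j i h hi' hij.symm
        have hZpow : ∀ i : ℕ, (π ^ i) q₀ ∈ Z := by
          intro i
          induction i with
          | zero => simpa using hq₀
          | succ i ih' =>
            rw [pow_succ', Equiv.Perm.mul_apply]
            exact hZ _ ih'
        set O : Finset Q := (Finset.range k).image (fun i => (π ^ i) q₀) with hO
        have hOZ : O ⊆ Z := by
          intro q hq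
          obtain ⟨i, -, rfl⟩ := Finset.mem_image.mp hq
          exact hZpow i
        have hq₀O : q₀ ∈ O := by
          apply Finset.mem_image.mpr
          exact ⟨0, Finset.mem_range.mpr hk.1, by simp⟩
        have hOpre : ∀ q, π q ∈ O → q ∈ O := by
          intro q hq
          obtain ⟨i, hi, hiq⟩ := Finset.mem_image.mp hq
          have hi' : i < k := Finset.mem_range.mp hi
          apply Finset.mem_image.mpr
          rcases Nat.eq_zero_or_pos i with h0 | h0
          · subst h0
            refine ⟨k - 1, Finset.mem_range.mpr (by omega), ?_⟩
            apply π.injective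
            have e : k = (k - 1) + 1 := by omega
            have h3 : π ((π ^ (k - 1)) q₀) = (π ^ k) q₀ := by
              conv_rhs => rw [e, pow_succ', Equiv.Perm.mul_apply]
            rw [h3, hk.2]
            simpa using hiq
          · refine ⟨i - 1, Finset.mem_range.mpr (by omega), ?_⟩
            apply π.injective
            have e : i = (i - 1) + 1 := by omega
            have h3 : π ((π ^ (i - 1)) q₀) = (π ^ i) q₀ := by
              conv_rhs => rw [e, pow_succ', Equiv.Perm.mul_apply]
            rw [h3]
            exact hiq
        have hsd : ∀ q ∈ Z \ O, π q ∈ Z \ O := by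
          intro q hq
          rw [Finset.mem_sdiff] at hq ⊢
          exact ⟨hZ q hq.1, fun h => hq.2 (hOpre q h)⟩
        have hcard : (Z \ O).card < n := by
          rw [← hZn]
          apply Finset.card_lt_card
          refine ⟨Finset.sdiff_subset, fun h => ?_⟩
          have := h hq₀
          rw [Finset.mem_sdiff] at this
          exact this.2 hq₀O
        have h1 : ∏ q ∈ Z \ O, f q ∈ J := ih _ hcard (Z \ O) rfl hsd
        have h2 : ∏ q ∈ O, f q ∈ J := by
          rw [hO, Finset.prod_image hinj]
          exact hcyc q₀ k hk.1 hk.2
        rw [← Finset.prod_sdiff hOZ]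
        exact J.mul_mem h1 h2
  exact key _ Finset.univ rfl (fun q _ => Finset.mem_univ _)

end Cfsg.Agent.Helper88.CycleProd
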