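import Mathlib

/-!
# S0679 piece (DA) for helper54: a group of even permutations of 11 points has order dividing `11!/2`
-/

set_option autoImplicit false

namespace Cfsg.Agent.Helper88.D11

open Equiv MulAction

variable {α : Type*} [Fintype α] [DecidableEq α]

/-- (DA) -/
theorem card_dvd_of_even (hα : Fintype.card α = 11) (G : Subgroup (Perm α))
    (hev : ∀ g ∈ G, Perm.sign g = 1) : Nat.card G ∣ 19958400 := by
  have hle : G ≤ alternatingGroup α := by
    intro g hg
    rw [Perm.mem_alternatingGroup]
    exact hev g hg
  have hnt : Nontrivial α := by
    rw [← Fintype.one_lt_card_iff_nontrivial, hα]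
    norm_num
  have hcard : Nat.card (alternatingGroup α) = 19958400 := by
    have h2 := two_mul_card_alternatingGroup (α := α)
    rw [Fintype.card_perm, hα] at h2
    rw [Nat.card_eq_fintype_card]
    have h11 : Nat.factorial 11 = 39916800 := by decide
    rw [h11] at h2
    omega
  rw [← hcard]
  exact Subgroup.card_dvd_of_le hle

end Cfsg.Agent.Helper88.D11
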