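import Cfsg.Agent.Helper88.Marks
set_option autoImplicit false
set_option linter.style.haveILetI false

/-! # Counting lemmas relating the transfer into an abelian group with fixed points of cyclic subgroups -/

namespace Cfsg.Agent.Helper88.TransferCount

open MulAction Subgroup Cfsg.Agent.Helper88.Marks

variable {Γ : Type*} [Group Γ]

/-- Elements satisfying a right-invariant predicate are counted by the cosets whose representative satisfies it. -/
theorem card_subtype_eq_card_mul_card_quotient [Finite Γ] (H : Subgroup Γ) (Pr : Γ → Prop)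
    (hPr : ∀ (g : Γ) (h : Γ), h ∈ H → (Pr (g * h) ↔ Pr g)) :
    Nat.card {g : Γ // Pr g} = Nat.card H * Nat.card {t : Γ ⧸ H // Pr t.out} := by
  have hmem : ∀ g : Γ, ((g : Γ ⧸ H)).out⁻¹ * g ∈ H := by
    intro g
    apply QuotientGroup.eq.mp
    exact QuotientGroup.out_eq' _
  have hPr' : ∀ g : Γ, Pr ((g : Γ ⧸ H)).out ↔ Pr g := by
    intro g
    obtain ⟨h, hh⟩ := QuotientGroup.mk_out_eq_mul H g
    rw [hh]
    exact hPr g h h.2
  rw [mul_comm, ← Nat.card_prod]
  refine Nat.card_congr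
    { toFun := fun g => (⟨(g.1 : Γ ⧸ H), (hPr' g.1).mpr g.2⟩, ⟨((g.1 : Γ ⧸ H)).out⁻¹ * g.1, hmem g.1⟩)
      invFun := fun th => ⟨th.1.1.out * th.2.1, (hPr _ _ th.2.2).mpr th.1.2⟩
      left_inv := ?_
      right_inv := ?_ }
  · intro g
    apply Subtype.ext
    show ((g.1 : Γ ⧸ H)).out * (((g.1 : Γ ⧸ H)).out⁻¹ * g.1) = g.1
    group
  · rintro ⟨⟨t, ht⟩, ⟨h, hh⟩⟩
    have e1 : ((t.out * h : Γ) : Γ ⧸ H) = t := by
      rw [QuotientGroup.mk_mul_of_mem _ hh, QuotientGroup.out_eq']
    apply Prod.ext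
    · apply Subtype.ext
      exact e1
    · apply Subtype.ext
      show ((t.out * h : Γ) : Γ ⧸ H).out⁻¹ * (t.out * h) = h
      rw [e1]
      group

theorem conj_mul_right_mem_iff (H : Subgroup Γ) (c g h : Γ) (hh : h ∈ H) :
    (g * h)⁻¹ * c * (g * h) ∈ H ↔ g⁻¹ * c * g ∈ H := by
  have e : (g * h)⁻¹ * c * (g * h) = h⁻¹ * (g⁻¹ * c * g) * h := by group
  rw [e]
  constructor
  · intro h1
    have := H.mul_mem (H.mul_mem hh h1) (H.inv_mem hh)
    convert this using 1; group
  · intro h1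
    exact H.mul_mem (H.mul_mem (H.inv_mem hh) h1) hh

/-- The number of fixed points of a cyclic subgroup on a coset space, counted through group elements. -/
theorem card_mul_fixCard_zpowers [Finite Γ] (H : Subgroup Γ) (c : Γ) :
    Nat.card H * fixCard (Γ ⧸ H) (zpowers c) = Nat.card {g : Γ // g⁻¹ * c * g ∈ H} := by
  rw [card_subtype_eq_card_mul_card_quotient H (fun g => g⁻¹ * c * g ∈ H)
    (fun g h hh => conj_mul_right_mem_iff H c g h hh)]
  congr 1
  unfold fixCard
  apply Nat.card_congr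
  apply Equiv.subtypeEquivRight
  intro t
  have h1 := mk_mem_fixedPoints_iff H (zpowers c) t.out
  rw [QuotientGroup.out_eq'] at h1
  refine h1.trans ?_
  constructor
  · intro h
    exact h c (mem_zpowers c)
  · intro h k hk
    obtain ⟨n, rfl⟩ := mem_zpowers_iff.mp hk
    have e : t.out⁻¹ * c ^ n * t.out = (t.out⁻¹ * c * t.out) ^ n := by
      have := conj_zpow (a := t.out⁻¹) (b := c) (i := n)
      rw [inv_inv] at this
      exact this.symm
    rw [e]
    exact H.zpow_mem h n

section Orbits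

variable (H : Subgroup Γ) {A : Type*} [CommGroup A] (ϕ : H →* A) (g : Γ)

/-- The period of an orbit of `⟨g⟩` on the cosets of `H`. -/
noncomputable def per (q : orbitRel.Quotient (zpowers g) (Γ ⧸ H)) : ℕ :=
  Function.minimalPeriod (g • ·) q.out

/-- The label of an orbit: the value of `ϕ` at the conjugate of the power of `g` returning to the coset. -/
noncomputable def lab (q : orbitRel.Quotient (zpowers g) (Γ ⧸ H)) : A :=
  ϕ ⟨q.out.out⁻¹ * g ^ per H g q * q.out.out, QuotientGroup.out_conj_pow_minimalPeriod_mem H g q.out⟩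

/-- The number of orbits with a given period and label. -/
noncomputable def orbCount (d : ℕ) (β : A) : ℕ :=
  Nat.card {q : orbitRel.Quotient (zpowers g) (Γ ⧸ H) // per H g q = d ∧ lab H ϕ g q = β}

theorem out_conj_pow_mem_iff (t : Γ ⧸ H) (k : ℕ) :
    t.out⁻¹ * g ^ k * t.out ∈ H ↔ Function.minimalPeriod (g • ·) t ∣ k := by
  rw [mul_assoc, ← QuotientGroup.eq, QuotientGroup.out_eq', ← smul_eq_mul, MulAction.Quotient.mk_smul_out,
    eq_comm, pow_smul_eq_iff_minimalPeriod_dvd]

/-- The predicate on elements: the conjugate of `g ^ k` lies in `H` and has value `α`. -/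
def PrU (α : A) (u : Γ) : Prop := ∃ h : u ∈ H, ϕ ⟨u, h⟩ = α

theorem PrU_conj (α : A) (u h : Γ) (hh : h ∈ H) : PrU H ϕ α (h⁻¹ * u * h) ↔ PrU H ϕ α u := by
  constructor
  · rintro ⟨h1, h2⟩
    have hu : u ∈ H := by
      have := H.mul_mem (H.mul_mem hh h1) (H.inv_mem hh)
      convert this using 1; group
    refine ⟨hu, ?_⟩
    rw [← h2]
    have e : (⟨h⁻¹ * u * h, h1⟩ : H) = (⟨h, hh⟩ : H)⁻¹ * ⟨u, hu⟩ * ⟨h, hh⟩ := Subtype.ext rfl
    rw [e, map_mul, map_mul, map_inv]
    exact (inv_mul_cancel_comm _ _).symm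
  · rintro ⟨hu, h2⟩
    refine ⟨H.mul_mem (H.mul_mem (H.inv_mem hh) hu) hh, ?_⟩
    rw [← h2]
    have e : (⟨h⁻¹ * u * h, H.mul_mem (H.mul_mem (H.inv_mem hh) hu) hh⟩ : H) =
        (⟨h, hh⟩ : H)⁻¹ * ⟨u, hu⟩ * ⟨h, hh⟩ := Subtype.ext rfl
    rw [e, map_mul, map_mul, map_inv]
    exact inv_mul_cancel_comm _ _

/-- The predicate is invariant under the double coset of `⟨g⟩` and `H`. -/
theorem PrU_double_coset (α : A) (k : ℕ) (i : ℤ) (z h : Γ) (hh : h ∈ H) :
    PrU H ϕ α ((g ^ i * z * h)⁻¹ * g ^ k * (g ^ i * z * h)) ↔ PrU H ϕ α (z⁻¹ * g ^ k * z) := by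
  have e : (g ^ i * z * h)⁻¹ * g ^ k * (g ^ i * z * h) = h⁻¹ * (z⁻¹ * g ^ k * z) * h := by
    have hc : (g ^ i)⁻¹ * g ^ k * g ^ i = g ^ k := by
      rw [← zpow_natCast g k, ← zpow_neg, ← zpow_add, ← zpow_add]
      congr 1; ring
    calc (g ^ i * z * h)⁻¹ * g ^ k * (g ^ i * z * h)
        = h⁻¹ * (z⁻¹ * ((g ^ i)⁻¹ * g ^ k * g ^ i) * z) * h := by group
      _ = h⁻¹ * (z⁻¹ * g ^ k * z) * h := by rw [hc]
  rw [e]
  exact PrU_conj H ϕ α _ h hh

end Orbits

section Orbits2

variable (H : Subgroup Γ) {A : Type*} [CommGroup A] (ϕ : H →* A) (g : Γ)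

theorem exists_out_eq_of_mk_eq (t : Γ ⧸ H) (q : orbitRel.Quotient (zpowers g) (Γ ⧸ H))
    (hq : (Quotient.mk'' t : orbitRel.Quotient (zpowers g) (Γ ⧸ H)) = q) :
    ∃ (i : ℤ) (h : Γ), h ∈ H ∧ t.out = g ^ i * q.out.out * h := by
  have h1 : (Quotient.mk'' t : orbitRel.Quotient (zpowers g) (Γ ⧸ H)) = Quotient.mk'' q.out := by
    rw [hq, Quotient.out_eq']
  have h2 : t ∈ orbit (zpowers g) q.out := (orbitRel_apply).mp (Quotient.exact' h1)
  obtain ⟨ζ, hζ⟩ := h2
  obtain ⟨i, hi⟩ := mem_zpowers_iff.mp ζ.2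
  have h3 : t = ((g ^ i * q.out.out : Γ) : Γ ⧸ H) := by
    rw [← hζ]
    show (ζ : Γ) • q.out = _
    rw [← hi]
    conv_lhs => rw [← QuotientGroup.out_eq' q.out]
    rfl
  obtain ⟨h, hh⟩ := QuotientGroup.mk_out_eq_mul H (g ^ i * q.out.out)
  refine ⟨i, h, h.2, ?_⟩
  rw [h3]
  exact hh

theorem PrU_out_iff (α : A) (k : ℕ) (t : Γ ⧸ H) (q : orbitRel.Quotient (zpowers g) (Γ ⧸ H))
    (hq : (Quotient.mk'' t : orbitRel.Quotient (zpowers g) (Γ ⧸ H)) = q) :
    PrU H ϕ α (t.out⁻¹ * g ^ k * t.out) ↔ PrU H ϕ α (q.out.out⁻¹ * g ^ k * q.out.out) := by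
  obtain ⟨i, h, hh, ht⟩ := exists_out_eq_of_mk_eq H g t q hq
  rw [ht]
  exact PrU_double_coset H ϕ g α k i _ h hh

theorem PrU_out_out_iff (α : A) (k : ℕ) (hk : 0 < k) (q : orbitRel.Quotient (zpowers g) (Γ ⧸ H)) :
    PrU H ϕ α (q.out.out⁻¹ * g ^ k * q.out.out) ↔ per H g q ∣ k ∧ lab H ϕ g q ^ (k / per H g q) = α := by
  have key : ∀ j : ℕ, ∀ hmem : q.out.out⁻¹ * g ^ (per H g q * j) * q.out.out ∈ H,
      ϕ ⟨_, hmem⟩ = lab H ϕ g q ^ j := by
    intro j hmem
    unfold lab
    rw [← map_pow]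
    congr 1
    apply Subtype.ext
    show q.out.out⁻¹ * g ^ (per H g q * j) * q.out.out = (q.out.out⁻¹ * g ^ per H g q * q.out.out) ^ j
    have := conj_pow (a := q.out.out⁻¹) (b := g ^ per H g q) (i := j)
    rw [inv_inv] at this
    rw [this, pow_mul]
  constructor
  · rintro ⟨h1, h2⟩
    have hdvd : per H g q ∣ k := (out_conj_pow_mem_iff H g q.out k).mp h1
    refine ⟨hdvd, ?_⟩
    obtain ⟨j, rfl⟩ := hdvd
    have hpos : 0 < per H g q := Nat.pos_of_mul_pos_right hk
    rw [Nat.mul_div_cancel_left _ hpos, ← key j h1]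
    exact h2
  · rintro ⟨hdvd, h2⟩
    have h1 : q.out.out⁻¹ * g ^ k * q.out.out ∈ H := (out_conj_pow_mem_iff H g q.out k).mpr hdvd
    refine ⟨h1, ?_⟩
    obtain ⟨j, rfl⟩ := hdvd
    have hpos : 0 < per H g q := Nat.pos_of_mul_pos_right hk
    rw [Nat.mul_div_cancel_left _ hpos] at h2
    rw [key j h1]
    exact h2

end Orbits2

section Count

variable [Finite Γ] (H : Subgroup Γ) {A : Type*} [CommGroup A] (ϕ : H →* A) (g : Γ)

theorem card_fiber_eq_per (q : orbitRel.Quotient (zpowers g) (Γ ⧸ H)) :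
    Nat.card {t : Γ ⧸ H // (Quotient.mk'' t : orbitRel.Quotient (zpowers g) (Γ ⧸ H)) = q} = per H g q := by
  have hper := @minimalPeriod_eq_card _ _ _ g _ q.out (Fintype.ofFinite _)
  unfold per
  rw [hper, Fintype.card_eq_nat_card]
  apply Nat.card_congr
  apply Equiv.subtypeEquivRight
  intro t
  constructor
  · intro hq
    have h1 : (Quotient.mk'' t : orbitRel.Quotient (zpowers g) (Γ ⧸ H)) = Quotient.mk'' q.out := by
      rw [hq, Quotient.out_eq']
    exact (orbitRel_apply).mp (Quotient.exact' h1)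
  · intro ht
    have h1 : (Quotient.mk'' t : orbitRel.Quotient (zpowers g) (Γ ⧸ H)) = Quotient.mk'' q.out :=
      Quotient.sound' ((orbitRel_apply).mpr ht)
    rw [h1, Quotient.out_eq']

open Classical in
theorem card_quotient_PrU [Fintype (orbitRel.Quotient (zpowers g) (Γ ⧸ H))] (α : A) (k : ℕ) (hk : 0 < k) :
    Nat.card {t : Γ ⧸ H // PrU H ϕ α (t.out⁻¹ * g ^ k * t.out)} =
      ∑ q : orbitRel.Quotient (zpowers g) (Γ ⧸ H),
        if per H g q ∣ k ∧ lab H ϕ g q ^ (k / per H g q) = α then per H g q else 0 := by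
  haveI : Fintype (Γ ⧸ H) := Fintype.ofFinite _
  rw [Nat.card_eq_fintype_card, Fintype.card_subtype]
  rw [Finset.card_eq_sum_card_fiberwise (f := fun t => (Quotient.mk'' t : orbitRel.Quotient (zpowers g) (Γ ⧸ H)))
    (t := Finset.univ) (fun t _ => Finset.mem_coe.mpr (Finset.mem_univ _))]
  apply Finset.sum_congr rfl
  intro q _
  by_cases hP : per H g q ∣ k ∧ lab H ϕ g q ^ (k / per H g q) = α
  · rw [if_pos hP]
    have hfil : (Finset.univ.filter (fun t : Γ ⧸ H => PrU H ϕ α (t.out⁻¹ * g ^ k * t.out))).filter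
        (fun t => (Quotient.mk'' t : orbitRel.Quotient (zpowers g) (Γ ⧸ H)) = q) =
        Finset.univ.filter (fun t => (Quotient.mk'' t : orbitRel.Quotient (zpowers g) (Γ ⧸ H)) = q) := by
      ext t
      simp only [Finset.mem_filter, Finset.mem_univ, true_and]
      constructor
      · exact fun h => h.2
      · intro hq
        exact ⟨(PrU_out_iff H ϕ g α k t q hq).mpr ((PrU_out_out_iff H ϕ g α k hk q).mpr hP), hq⟩
    rw [hfil, ← Fintype.card_subtype, ← Nat.card_eq_fintype_card, card_fiber_eq_per]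
  · rw [if_neg hP, Finset.card_eq_zero, Finset.filter_eq_empty_iff]
    intro t ht hq
    rw [Finset.mem_filter] at ht
    exact hP ((PrU_out_out_iff H ϕ g α k hk q).mp ((PrU_out_iff H ϕ g α k t q hq).mp ht.2))

end Count

section Regroup

variable [Finite Γ] (H : Subgroup Γ) {A : Type*} [CommGroup A] [Fintype A] (ϕ : H →* A) (g : Γ)
  [Fintype (orbitRel.Quotient (zpowers g) (Γ ⧸ H))]

open Classical in
theorem orbCount_eq_card_filter (d : ℕ) (β : A) :
    orbCount H ϕ g d β = (Finset.univ.filter (fun q : orbitRel.Quotient (zpowers g) (Γ ⧸ H) =>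
      per H g q = d ∧ lab H ϕ g q = β)).card := by
  unfold orbCount
  rw [Nat.card_eq_fintype_card, Fintype.card_subtype]

open Classical in
theorem sum_orbits_eq_sum_divisors (α : A) (k : ℕ) (hk : 0 < k) :
    (∑ q : orbitRel.Quotient (zpowers g) (Γ ⧸ H),
        if per H g q ∣ k ∧ lab H ϕ g q ^ (k / per H g q) = α then per H g q else 0) =
      ∑ d ∈ k.divisors, ∑ β : A, if β ^ (k / d) = α then d * orbCount H ϕ g d β else 0 := by
  have hterm : ∀ q : orbitRel.Quotient (zpowers g) (Γ ⧸ H),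
      (if per H g q ∣ k ∧ lab H ϕ g q ^ (k / per H g q) = α then per H g q else 0) =
      ∑ d ∈ k.divisors, ∑ β : A,
        if β ^ (k / d) = α then (if per H g q = d ∧ lab H ϕ g q = β then d else 0) else 0 := by
    intro q
    by_cases hd : per H g q ∣ k
    · rw [Finset.sum_eq_single (per H g q)]
      · rw [Finset.sum_eq_single (lab H ϕ g q)]
        · simp [hd]
        · intro β _ hβ
          rw [if_neg (fun h : per H g q = per H g q ∧ lab H ϕ g q = β => hβ h.2.symm)]
          simp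
        · intro h; exact absurd (Finset.mem_univ _) h
      · intro d _ hne
        apply Finset.sum_eq_zero
        intro β _
        rw [if_neg (fun h : per H g q = d ∧ lab H ϕ g q = β => hne h.1.symm)]
        simp
      · intro h
        exact absurd (Nat.mem_divisors.mpr ⟨hd, hk.ne'⟩) h
    · rw [if_neg (fun h => hd h.1)]
      symm
      apply Finset.sum_eq_zero
      intro d hd'
      apply Finset.sum_eq_zero
      intro β _
      have : ¬ (per H g q = d ∧ lab H ϕ g q = β) := fun h => hd (h.1 ▸ (Nat.mem_divisors.mp hd').1)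
      rw [if_neg this]
      simp
  rw [Finset.sum_congr rfl (fun q _ => hterm q), Finset.sum_comm]
  apply Finset.sum_congr rfl
  intro d _
  rw [Finset.sum_comm]
  apply Finset.sum_congr rfl
  intro β _
  by_cases hβ : β ^ (k / d) = α
  · simp only [if_pos hβ]
    rw [orbCount_eq_card_filter, Finset.card_filter, Finset.mul_sum]
    apply Finset.sum_congr rfl
    intro q _
    by_cases hq : per H g q = d ∧ lab H ϕ g q = β
    · rw [if_pos hq, if_pos hq, mul_one]
    · rw [if_neg hq, if_neg hq, mul_zero]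
  · simp only [if_neg hβ]
    exact Finset.sum_const_zero

open Classical in
/-- The transfer as a product over periods and labels. -/
theorem transfer_eq_prod_orbCount (B : ℕ) (hB : ∀ q : orbitRel.Quotient (zpowers g) (Γ ⧸ H), per H g q ≤ B) :
    MonoidHom.transfer ϕ g = ∏ d ∈ Finset.range (B + 1), ∏ β : A, β ^ orbCount H ϕ g d β := by
  rw [MonoidHom.transfer_eq_prod_quotient_orbitRel_zpowers_quot]
  have hterm : ∀ q : orbitRel.Quotient (zpowers g) (Γ ⧸ H),
      lab H ϕ g q = ∏ d ∈ Finset.range (B + 1), ∏ β : A,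
        if per H g q = d ∧ lab H ϕ g q = β then β else 1 := by
    intro q
    rw [Finset.prod_eq_single (per H g q)]
    · rw [Finset.prod_eq_single (lab H ϕ g q)]
      · simp
      · intro β _ hβ
        rw [if_neg (fun h : per H g q = per H g q ∧ lab H ϕ g q = β => hβ h.2.symm)]
      · intro h; exact absurd (Finset.mem_univ _) h
    · intro d _ hne
      apply Finset.prod_eq_one
      intro β _
      rw [if_neg (fun h : per H g q = d ∧ lab H ϕ g q = β => hne h.1.symm)]
    · intro h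
      exact absurd (Finset.mem_range.mpr (Nat.lt_succ_of_le (hB q))) h
  have h0 : ∀ q : orbitRel.Quotient (zpowers g) (Γ ⧸ H),
      ϕ ⟨q.out.out⁻¹ * g ^ Function.minimalPeriod (g • ·) q.out * q.out.out,
        QuotientGroup.out_conj_pow_minimalPeriod_mem H g q.out⟩ = lab H ϕ g q := fun q => rfl
  rw [Finset.prod_congr rfl (fun q _ => (h0 q).trans (hterm q)), Finset.prod_comm]
  apply Finset.prod_congr rfl
  intro d _
  rw [Finset.prod_comm]
  apply Finset.prod_congr rfl
  intro β _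
  rw [orbCount_eq_card_filter, Finset.prod_ite, Finset.prod_const_one, mul_one, Finset.prod_const]

end Regroup

section Main

variable [Finite Γ] (H : Subgroup Γ) {A : Type*} [CommGroup A] [Fintype A] (ϕ : H →* A) (g : Γ)
  [Fintype (orbitRel.Quotient (zpowers g) (Γ ⧸ H))]

open Classical in
/-- The number of elements conjugating `g ^ k` into `H` with value `α`, through periods and labels of orbits. -/
theorem card_PrU_eq (α : A) (k : ℕ) (hk : 0 < k) :
    Nat.card {x : Γ // PrU H ϕ α (x⁻¹ * g ^ k * x)} =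
      Nat.card H * ∑ d ∈ k.divisors, ∑ β : A, if β ^ (k / d) = α then d * orbCount H ϕ g d β else 0 := by
  rw [card_subtype_eq_card_mul_card_quotient H (fun x => PrU H ϕ α (x⁻¹ * g ^ k * x)), card_quotient_PrU H ϕ g α k hk,
    sum_orbits_eq_sum_divisors H ϕ g α k hk]
  intro x h hh
  have e : (x * h)⁻¹ * g ^ k * (x * h) = h⁻¹ * (x⁻¹ * g ^ k * x) * h := by group
  rw [e]
  exact PrU_conj H ϕ α _ h hh

theorem per_le_card (q : orbitRel.Quotient (zpowers g) (Γ ⧸ H)) : per H g q ≤ Nat.card Γ := by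
  unfold per
  have h1 : Function.IsPeriodicPt (g • ·) (orderOf g) q.out := by
    show (g • ·)^[orderOf g] q.out = q.out
    rw [smul_iterate, pow_orderOf_eq_one]
    exact one_smul _ _
  exact (h1.minimalPeriod_le (orderOf_pos g)).trans (orderOf_le_card)

theorem per_pos (q : orbitRel.Quotient (zpowers g) (Γ ⧸ H)) : 0 < per H g q := by
  unfold per
  have h1 : Function.IsPeriodicPt (g • ·) (orderOf g) q.out := by
    show (g • ·)^[orderOf g] q.out = q.out
    rw [smul_iterate, pow_orderOf_eq_one]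
    exact one_smul _ _
  exact h1.minimalPeriod_pos (orderOf_pos g)

theorem orbCount_zero (β : A) : orbCount H ϕ g 0 β = 0 := by
  unfold orbCount
  rw [Nat.card_eq_zero]
  left
  constructor
  rintro ⟨q, h, -⟩
  exact (per_pos H g q).ne' h

end Main

/-- **Inversion.** Counts weighted over divisors determine the counts. -/
theorem counts_eq_of_divisor_sums_eq {A : Type*} [CommGroup A] [Fintype A] [DecidableEq A] (N N' : ℕ → A → ℕ)
    (h : ∀ k, 0 < k → ∀ α : A,
      (∑ d ∈ k.divisors, ∑ β : A, if β ^ (k / d) = α then d * N d β else 0) =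
        ∑ d ∈ k.divisors, ∑ β : A, if β ^ (k / d) = α then d * N' d β else 0) :
    ∀ k, 0 < k → ∀ α : A, N k α = N' k α := by
  intro k
  induction k using Nat.strong_induction_on with
  | _ k ih =>
    intro hk α
    have h1 := h k hk α
    rw [← Nat.insert_self_properDivisors hk.ne', Finset.sum_insert (Nat.self_notMem_properDivisors),
      Finset.sum_insert (Nat.self_notMem_properDivisors)] at h1
    have h2 : (∑ d ∈ k.properDivisors, ∑ β : A, if β ^ (k / d) = α then d * N d β else 0) =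
        ∑ d ∈ k.properDivisors, ∑ β : A, if β ^ (k / d) = α then d * N' d β else 0 := by
      apply Finset.sum_congr rfl
      intro d hd
      apply Finset.sum_congr rfl
      intro β _
      rw [ih d (Nat.mem_properDivisors.mp hd).2 (Nat.pos_of_mem_properDivisors hd) β]
    rw [h2] at h1
    have h3 := Nat.add_right_cancel h1
    rw [Nat.div_self hk] at h3
    simp only [pow_one, Finset.sum_ite_eq', Finset.mem_univ, if_true] at h3
    exact Nat.eq_of_mul_eq_mul_left hk h3

end Cfsg.Agent.Helper88.TransferCount
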