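import Cfsg.Agent.Helper88.CharBiset
import Cfsg.Agent.Helper88.TransferCount
set_option autoImplicit false
set_option linter.style.haveILetI false

/-! # The transfer into an abelian group defined by a multiset of twisted diagonals, and its stability -/

namespace Cfsg.Agent.Helper88.Biset

open Cfsg Cfsg.FusionSystem Cfsg.Agent.Helper87 Cfsg.Agent.Helper88.Marks Cfsg.Agent.Helper88.TransferCount

variable {Ω : Type*} [Group Ω] {S : Subgroup Ω}

/-- The first projection of a subgroup of `S × S`, as a subgroup of `S`. -/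
def fstG (D : Subgroup (↥S × ↥S)) : Subgroup ↥S := D.map (MonoidHom.fst ↥S ↥S)

/-- The subgroup is the graph of a function of the first coordinate. -/
def IsFunctional (D : Subgroup (↥S × ↥S)) : Prop := ∀ z ∈ D, z.1 = 1 → z.2 = 1

theorem IsFunctional.eq_of_fst_eq {D : Subgroup (↥S × ↥S)} (hD : IsFunctional D) {z w : ↥S × ↥S} (hz : z ∈ D)
    (hw : w ∈ D) (h : z.1 = w.1) : z.2 = w.2 := by
  have h1 : z⁻¹ * w ∈ D := D.mul_mem (D.inv_mem hz) hw
  have h2 : (z⁻¹ * w).1 = 1 := by
    show z.1⁻¹ * w.1 = 1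
    rw [h, inv_mul_cancel]
  have h3 : z.2⁻¹ * w.2 = 1 := hD _ h1 h2
  exact (inv_mul_eq_one.mp h3)

/-- The second coordinate as a homomorphism of the first, for a functional subgroup. -/
noncomputable def sndHom (D : Subgroup (↥S × ↥S)) (hD : IsFunctional D) : ↥(fstG D) →* ↥S where
  toFun a := (Classical.choose (Subgroup.mem_map.mp a.2)).2
  map_one' := by
    have h := Classical.choose_spec (Subgroup.mem_map.mp (1 : ↥(fstG D)).2)
    exact hD _ h.1 h.2
  map_mul' a b := by
    have ha := Classical.choose_spec (Subgroup.mem_map.mp a.2)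
    have hb := Classical.choose_spec (Subgroup.mem_map.mp b.2)
    have hab := Classical.choose_spec (Subgroup.mem_map.mp (a * b).2)
    have h1 := D.mul_mem ha.1 hb.1
    have h2 : (Classical.choose (Subgroup.mem_map.mp (a * b).2)).1 =
        (Classical.choose (Subgroup.mem_map.mp a.2) * Classical.choose (Subgroup.mem_map.mp b.2)).1 := by
      have e1 : (Classical.choose (Subgroup.mem_map.mp (a * b).2)).1 = ((a * b : ↥(fstG D)) : ↥S) := hab.2
      have e2 : (Classical.choose (Subgroup.mem_map.mp a.2)).1 = (a : ↥S) := ha.2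
      have e3 : (Classical.choose (Subgroup.mem_map.mp b.2)).1 = (b : ↥S) := hb.2
      rw [e1]
      show _ = (Classical.choose (Subgroup.mem_map.mp a.2)).1 * (Classical.choose (Subgroup.mem_map.mp b.2)).1
      rw [e2, e3]
      rfl
    exact hD.eq_of_fst_eq hab.1 h1 h2

theorem sndHom_apply {D : Subgroup (↥S × ↥S)} (hD : IsFunctional D) {z : ↥S × ↥S} (hz : z ∈ D)
    (h : z.1 ∈ fstG D) : sndHom D hD ⟨z.1, h⟩ = z.2 := by
  have hc := Classical.choose_spec (Subgroup.mem_map.mp h)
  exact hD.eq_of_fst_eq hc.1 hz hc.2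

theorem fst_mem_fstG {D : Subgroup (↥S × ↥S)} {z : ↥S × ↥S} (hz : z ∈ D) : z.1 ∈ fstG D :=
  Subgroup.mem_map.mpr ⟨z, hz, rfl⟩

theorem mem_iff_sndHom {D : Subgroup (↥S × ↥S)} (hD : IsFunctional D) (a b : ↥S) :
    (a, b) ∈ D ↔ ∃ h : a ∈ fstG D, sndHom D hD ⟨a, h⟩ = b := by
  constructor
  · intro hz
    exact ⟨fst_mem_fstG hz, sndHom_apply hD hz _⟩
  · rintro ⟨h, rfl⟩
    obtain ⟨z, hz, hz1⟩ := Subgroup.mem_map.mp h
    have hz1' : z.1 = a := hz1
    have := sndHom_apply hD hz (fst_mem_fstG hz)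
    have e : (a, sndHom D hD ⟨a, h⟩) = z := by
      apply Prod.ext
      · exact hz1'.symm
      · show sndHom D hD ⟨a, h⟩ = z.2
        rw [← this]
        congr 1
        exact Subtype.ext hz1'.symm
    rw [e]; exact hz

theorem card_fstG [Finite S] {D : Subgroup (↥S × ↥S)} (hD : IsFunctional D) : Nat.card (fstG D) = Nat.card D := by
  symm
  refine Nat.card_congr (Equiv.ofBijective (fun z : D => (⟨z.1.1, fst_mem_fstG z.2⟩ : fstG D)) ⟨?_, ?_⟩)
  · intro z w h
    have h1 : z.1.1 = w.1.1 := congrArg Subtype.val h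
    apply Subtype.ext
    exact Prod.ext h1 (hD.eq_of_fst_eq z.2 w.2 h1)
  · rintro ⟨a, ha⟩
    obtain ⟨z, hz, hz1⟩ := Subgroup.mem_map.mp ha
    exact ⟨⟨z, hz⟩, Subtype.ext hz1⟩

theorem TD.isFunctional {F : FusionSystem S} {D : Subgroup (↥S × ↥S)} (hD : TD F D) : IsFunctional D := by
  obtain ⟨P, Q, e, -, rfl⟩ := hD
  rintro z ⟨a, ha1, ha2⟩ hz1
  have : a = 1 := by
    apply Subtype.ext
    rw [← ha1, hz1]; rfl
  apply Subtype.ext
  rw [ha2, this, map_one]; rfl

theorem map_conj_eq {A : Type*} [CommGroup A] (lam : ↥S →* A) (s v : ↥S) : lam (s * v * s⁻¹) = lam v := by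
  rw [map_mul, map_mul, map_inv, mul_comm (lam s), mul_assoc, mul_inv_cancel, mul_one]

theorem map_conj_eq' {A : Type*} [CommGroup A] (lam : ↥S →* A) (s v : ↥S) : lam (s⁻¹ * v * s) = lam v := by
  have := map_conj_eq lam s⁻¹ v
  rwa [inv_inv] at this

open Classical in
/-- Fixed points of the cyclic subgroups `⟨(u, w)⟩` on `(S × S) ⧸ D`, summed over the `w` with a given value, count the
elements conjugating `u` into the first projection of `D` with that value. -/
theorem sum_fixCard_eq [Finite S] [Fintype ↥S] {A : Type*} [CommGroup A] (lam : ↥S →* A)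
    {D : Subgroup (↥S × ↥S)} (hD : IsFunctional D) (u : ↥S) (α : A) :
    (∑ w : ↥S, if lam w = α then
        Nat.card D * fixCard ((↥S × ↥S) ⧸ D) (Subgroup.zpowers ((u, w) : ↥S × ↥S)) else 0) =
      Nat.card S * Nat.card {x : ↥S // PrU (fstG D) (lam.comp (sndHom D hD)) α (x⁻¹ * u * x)} := by
  have h1 : ∀ w : ↥S, Nat.card D * fixCard ((↥S × ↥S) ⧸ D) (Subgroup.zpowers ((u, w) : ↥S × ↥S)) =
      ∑ x : ↥S, ∑ s : ↥S, if ((x⁻¹ * u * x, s⁻¹ * w * s) : ↥S × ↥S) ∈ D then 1 else 0 := by
    intro w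
    rw [card_mul_fixCard_zpowers, Nat.card_eq_fintype_card, Fintype.card_subtype, Finset.card_filter,
      Fintype.sum_prod_type]
    rfl
  have h2 : Nat.card {x : ↥S // PrU (fstG D) (lam.comp (sndHom D hD)) α (x⁻¹ * u * x)} =
      ∑ x : ↥S, if PrU (fstG D) (lam.comp (sndHom D hD)) α (x⁻¹ * u * x) then 1 else 0 := by
    rw [Nat.card_eq_fintype_card, Fintype.card_subtype, Finset.card_filter]
  have key : ∀ x s : ↥S, (∑ w : ↥S, if lam w = α ∧ ((x⁻¹ * u * x, s⁻¹ * w * s) : ↥S × ↥S) ∈ D then 1 else 0) =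
      if PrU (fstG D) (lam.comp (sndHom D hD)) α (x⁻¹ * u * x) then 1 else 0 := by
    intro x s
    by_cases hP : PrU (fstG D) (lam.comp (sndHom D hD)) α (x⁻¹ * u * x)
    · rw [if_pos hP]
      obtain ⟨h, hα⟩ := hP
      rw [Finset.sum_eq_single (s * sndHom D hD ⟨x⁻¹ * u * x, h⟩ * s⁻¹)]
      · rw [if_pos]
        refine ⟨?_, ?_⟩
        · rw [map_conj_eq]; exact hα
        · rw [mem_iff_sndHom hD]
          refine ⟨h, ?_⟩
          group
      · intro w _ hw
        rw [if_neg]
        rintro ⟨-, hmem⟩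
        obtain ⟨h', hh'⟩ := (mem_iff_sndHom hD _ _).mp hmem
        apply hw
        rw [hh']
        group
      · intro hn; exact absurd (Finset.mem_univ _) hn
    · rw [if_neg hP]
      apply Finset.sum_eq_zero
      intro w _
      rw [if_neg]
      rintro ⟨hw, hmem⟩
      obtain ⟨h', hh'⟩ := (mem_iff_sndHom hD _ _).mp hmem
      apply hP
      refine ⟨h', ?_⟩
      show lam (sndHom D hD ⟨x⁻¹ * u * x, h'⟩) = α
      rw [hh', map_conj_eq']
      exact hw
  calc (∑ w : ↥S, if lam w = α then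
        Nat.card D * fixCard ((↥S × ↥S) ⧸ D) (Subgroup.zpowers ((u, w) : ↥S × ↥S)) else 0)
      = ∑ w : ↥S, ∑ x : ↥S, ∑ s : ↥S,
          if lam w = α ∧ ((x⁻¹ * u * x, s⁻¹ * w * s) : ↥S × ↥S) ∈ D then 1 else 0 := by
        apply Finset.sum_congr rfl
        intro w _
        by_cases hw : lam w = α
        · rw [if_pos hw, h1 w]
          apply Finset.sum_congr rfl; intro x _
          apply Finset.sum_congr rfl; intro s _
          simp [hw]
        · rw [if_neg hw]
          symm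
          apply Finset.sum_eq_zero; intro x _
          apply Finset.sum_eq_zero; intro s _
          simp [hw]
    _ = ∑ x : ↥S, ∑ s : ↥S, ∑ w : ↥S,
          if lam w = α ∧ ((x⁻¹ * u * x, s⁻¹ * w * s) : ↥S × ↥S) ∈ D then 1 else 0 := by
        rw [Finset.sum_comm]
        apply Finset.sum_congr rfl; intro x _
        rw [Finset.sum_comm]
    _ = ∑ x : ↥S, ∑ _s : ↥S, if PrU (fstG D) (lam.comp (sndHom D hD)) α (x⁻¹ * u * x) then 1 else 0 := by
        apply Finset.sum_congr rfl; intro x _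
        apply Finset.sum_congr rfl; intro s _
        exact key x s
    _ = Nat.card S * Nat.card {x : ↥S // PrU (fstG D) (lam.comp (sndHom D hD)) α (x⁻¹ * u * x)} := by
        rw [h2, Finset.mul_sum]
        apply Finset.sum_congr rfl; intro x _
        rw [Finset.sum_const, Finset.card_univ, smul_eq_mul, Nat.card_eq_fintype_card]

/-- Marks at the cyclic subgroups `⟨(y ^ k, w)⟩` do not change when `y` is replaced by its image under a map of the
system. -/
theorem mark_zpowers_eq (F : FusionSystem S) (m : Subgroup (↥S × ↥S) →₀ ℕ) (hsupp : ∀ D ∈ m.support, TD F D)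
    (hstab : StableFrom F m 0) {P : Subgroup Ω} {φ : P →* Ω} (hφ : φ ∈ F.Hom P) (x : P) (k : ℕ) (w : ↥S) :
    mark m (Subgroup.zpowers (((⟨x, (F.le_of_mem hφ).1 x.2⟩ : ↥S) ^ k, w) : ↥S × ↥S)) =
      mark m (Subgroup.zpowers (((⟨φ x, (F.le_of_mem hφ).2 x⟩ : ↥S) ^ k, w) : ↥S × ↥S)) := by
  obtain ⟨y, hy⟩ : ∃ y : ↥S, y = ⟨x, (F.le_of_mem hφ).1 x.2⟩ := ⟨_, rfl⟩
  obtain ⟨y', hy'⟩ : ∃ y' : ↥S, y' = ⟨φ x, (F.le_of_mem hφ).2 x⟩ := ⟨_, rfl⟩
  rw [← hy, ← hy']
  have hfst : ∀ (c : ↥S × ↥S) (n : ℤ), (c ^ n).1 = c.1 ^ n := fun c n => (MonoidHom.fst ↥S ↥S).map_zpow c n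
  have hsnd : ∀ (c : ↥S × ↥S) (n : ℤ), (c ^ n).2 = c.2 ^ n := fun c n => (MonoidHom.snd ↥S ↥S).map_zpow c n
  have hcoe : ∀ n : ℤ, ((((y ^ k) ^ n : ↥S)) : Ω) = (((x ^ k) ^ n : P) : Ω) := by
    intro n
    rw [hy]
    simp
  have hcoe' : ∀ n : ℤ, ((((y' ^ k) ^ n : ↥S)) : Ω) = φ ((x ^ k) ^ n) := by
    intro n
    rw [hy', map_zpow, map_pow]
    simp
  have hKA : ∀ z ∈ Subgroup.zpowers ((y ^ k, w) : ↥S × ↥S), ((z.1 : ↥S) : Ω) ∈ P := by
    intro z hz
    obtain ⟨n, rfl⟩ := Subgroup.mem_zpowers_iff.mp hz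
    rw [hfst, hcoe]
    exact ((x ^ k) ^ n).2
  have hKB : ∀ z ∈ Subgroup.zpowers ((y ^ k, w) : ↥S × ↥S), ((z.2 : ↥S) : Ω) ∈ S := fun z _ => z.2.2
  have hK' : ∀ z' : ↥S × ↥S, z' ∈ Subgroup.zpowers ((y' ^ k, w) : ↥S × ↥S) ↔
      ∃ z, ∃ hz : z ∈ Subgroup.zpowers ((y ^ k, w) : ↥S × ↥S),
        ((z'.1 : ↥S) : Ω) = φ ⟨z.1, hKA z hz⟩ ∧ ((z'.2 : ↥S) : Ω) = S.subtype ⟨z.2, hKB z hz⟩ := by
    intro z'
    constructor
    · intro hz'
      obtain ⟨n, rfl⟩ := Subgroup.mem_zpowers_iff.mp hz'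
      refine ⟨(y ^ k, w) ^ n, Subgroup.zpow_mem_zpowers _ n, ?_, ?_⟩
      · rw [hfst, hcoe']
        congr 1
        apply Subtype.ext
        show (((x ^ k) ^ n : P) : Ω) = ((((y ^ k, w) : ↥S × ↥S) ^ n).1 : ↥S)
        rw [hfst, hcoe]
      · show ((((y' ^ k, w) : ↥S × ↥S) ^ n).2 : Ω) = ((((y ^ k, w) : ↥S × ↥S) ^ n).2 : Ω)
        rw [hsnd, hsnd]
    · rintro ⟨z, hz, hz1, hz2⟩
      obtain ⟨n, rfl⟩ := Subgroup.mem_zpowers_iff.mp hz
      have : z' = ((y' ^ k, w) : ↥S × ↥S) ^ n := by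
        apply Prod.ext
        · apply Subtype.ext
          rw [hz1, hfst ((y' ^ k, w) : ↥S × ↥S) n, hcoe']
          congr 1
          apply Subtype.ext
          show ((((y ^ k, w) : ↥S × ↥S) ^ n).1 : Ω) = (((x ^ k) ^ n : P) : Ω)
          rw [hfst, hcoe]
        · apply Subtype.ext
          rw [hz2, hsnd ((y' ^ k, w) : ↥S × ↥S) n]
          show ((((y ^ k, w) : ↥S × ↥S) ^ n).2 : Ω) = _
          rw [hsnd]
      rw [this]
      exact Subgroup.zpow_mem_zpowers _ n
  by_cases hTD : TD F (Subgroup.zpowers ((y ^ k, w) : ↥S × ↥S))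
  · obtain ⟨hTD', hcj⟩ := TD.transport hφ (subtype_mem F le_rfl) hKA hKB hK' hTD
    exact hstab _ _ hTD hTD' hcj (Nat.zero_le _)
  · have h1 : mark m (Subgroup.zpowers ((y ^ k, w) : ↥S × ↥S)) = 0 := by
      by_contra h
      exact hTD (TD.of_mark_ne_zero m hsupp _ h)
    have h2 : mark m (Subgroup.zpowers ((y' ^ k, w) : ↥S × ↥S)) = 0 := by
      by_contra h
      exact hTD (TD.transport_symm hφ (subtype_mem F le_rfl) hKA hKB hK' (TD.of_mark_ne_zero m hsupp _ h))
    rw [h1, h2]

open Classical in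
/-- The homomorphism on the first projection of `D` given by `lam` on the second coordinate. -/
noncomputable def homOf {A : Type*} [CommGroup A] (lam : ↥S →* A) (D : Subgroup (↥S × ↥S)) : ↥(fstG D) →* A :=
  if h : IsFunctional D then lam.comp (sndHom D h) else 1

theorem homOf_eq {A : Type*} [CommGroup A] (lam : ↥S →* A) {D : Subgroup (↥S × ↥S)} (hD : IsFunctional D) :
    homOf lam D = lam.comp (sndHom D hD) := by
  unfold homOf
  rw [dif_pos hD]

/-- The transfer defined by a multiset of subgroups of `S × S`. -/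
noncomputable def bisetTransfer [Finite S] {A : Type*} [CommGroup A] (m : Subgroup (↥S × ↥S) →₀ ℕ) (lam : ↥S →* A) :
    ↥S →* A :=
  ∏ D ∈ m.support, (MonoidHom.transfer (homOf lam D)) ^ (m D)

theorem bisetTransfer_apply [Finite S] {A : Type*} [CommGroup A] (m : Subgroup (↥S × ↥S) →₀ ℕ) (lam : ↥S →* A)
    (z : ↥S) : bisetTransfer m lam z = ∏ D ∈ m.support, (MonoidHom.transfer (homOf lam D) z) ^ (m D) := by
  unfold bisetTransfer
  rw [MonoidHom.finset_prod_apply]
  rfl

open Classical in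
/-- Fixed points of `⟨(y ^ k, w)⟩` on `(S × S) ⧸ D` through the orbits of `⟨y⟩` on the cosets of the first projection. -/
theorem sum_fixCard_eq_divisors [Finite S] [Fintype ↥S] {A : Type*} [CommGroup A] [Fintype A] (lam : ↥S →* A)
    {D : Subgroup (↥S × ↥S)} (hD : IsFunctional D) (y : ↥S) (α : A) (k : ℕ) (hk : 0 < k) :
    (∑ w : ↥S, if lam w = α then fixCard ((↥S × ↥S) ⧸ D) (Subgroup.zpowers ((y ^ k, w) : ↥S × ↥S)) else 0) =
      Nat.card S * ∑ d ∈ k.divisors, ∑ β : A,
        if β ^ (k / d) = α then d * orbCount (fstG D) (homOf lam D) y d β else 0 := by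
  haveI : Fintype (MulAction.orbitRel.Quotient (Subgroup.zpowers y) (↥S ⧸ fstG D)) := Fintype.ofFinite _
  have h1 := sum_fixCard_eq lam hD (y ^ k) α
  rw [card_PrU_eq (fstG D) (lam.comp (sndHom D hD)) y α k hk, card_fstG hD, ← homOf_eq lam hD] at h1
  have hpos : 0 < Nat.card D := Nat.card_pos
  apply Nat.eq_of_mul_eq_mul_left hpos
  rw [Finset.mul_sum]
  rw [show Nat.card D * (Nat.card S * ∑ d ∈ k.divisors, ∑ β : A,
        if β ^ (k / d) = α then d * orbCount (fstG D) (homOf lam D) y d β else 0) =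
      Nat.card S * (Nat.card D * ∑ d ∈ k.divisors, ∑ β : A,
        if β ^ (k / d) = α then d * orbCount (fstG D) (homOf lam D) y d β else 0) by ring]
  rw [← h1]
  apply Finset.sum_congr rfl
  intro w _
  by_cases hw : lam w = α
  · rw [if_pos hw, if_pos hw]
  · rw [if_neg hw, if_neg hw, mul_zero]

open Classical in
/-- **Stability of the transfer.** If the marks of the multiset are stable under the fusion system, the transfer it defines
takes the same value at an element and at its image under any map of the system. -/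
theorem bisetTransfer_stable [Finite S] {A : Type*} [CommGroup A] [Finite A] (F : FusionSystem S)
    (m : Subgroup (↥S × ↥S) →₀ ℕ) (hsupp : ∀ D ∈ m.support, TD F D) (hstab : StableFrom F m 0)
    (lam : ↥S →* A) {P : Subgroup Ω} {φ : P →* Ω} (hφ : φ ∈ F.Hom P) (x : P) :
    bisetTransfer m lam ⟨φ x, (F.le_of_mem hφ).2 x⟩ = bisetTransfer m lam ⟨x, (F.le_of_mem hφ).1 x.2⟩ := by
  haveI : Fintype ↥S := Fintype.ofFinite _
  haveI : Fintype A := Fintype.ofFinite _
  obtain ⟨N, hN⟩ : ∃ N : ↥S → ℕ → A → ℕ, N = fun z d β =>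
      ∑ D ∈ m.support, m D * orbCount (fstG D) (homOf lam D) z d β := ⟨_, rfl⟩
  have hNapp : ∀ z d β, N z d β = ∑ D ∈ m.support, m D * orbCount (fstG D) (homOf lam D) z d β := by
    intro z d β; rw [hN]
  have hsum : ∀ (z : ↥S) (k : ℕ), 0 < k → ∀ α : A,
      (∑ w : ↥S, if lam w = α then mark m (Subgroup.zpowers ((z ^ k, w) : ↥S × ↥S)) else 0) =
        Nat.card S * ∑ d ∈ k.divisors, ∑ β : A, if β ^ (k / d) = α then d * N z d β else 0 := by
    intro z k hk α
    have hmark : ∀ K : Subgroup (↥S × ↥S), mark m K = ∑ D ∈ m.support, m D * fixCard ((↥S × ↥S) ⧸ D) K :=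
      fun K => rfl
    have hterm : ∀ d (β : A), (if β ^ (k / d) = α then d * N z d β else 0) =
        ∑ D ∈ m.support, m D * (if β ^ (k / d) = α then d * orbCount (fstG D) (homOf lam D) z d β else 0) := by
      intro d β
      by_cases h : β ^ (k / d) = α
      · simp only [if_pos h]
        rw [hNapp, Finset.mul_sum]
        apply Finset.sum_congr rfl
        intro D _
        ring
      · simp only [if_neg h, mul_zero, Finset.sum_const_zero]
    calc (∑ w : ↥S, if lam w = α then mark m (Subgroup.zpowers ((z ^ k, w) : ↥S × ↥S)) else 0)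
        = ∑ w : ↥S, ∑ D ∈ m.support, m D *
            (if lam w = α then fixCard ((↥S × ↥S) ⧸ D) (Subgroup.zpowers ((z ^ k, w) : ↥S × ↥S)) else 0) := by
          apply Finset.sum_congr rfl
          intro w _
          by_cases hw : lam w = α
          · simp only [if_pos hw]
            rw [hmark]
          · simp only [if_neg hw, mul_zero, Finset.sum_const_zero]
      _ = ∑ D ∈ m.support, m D * ∑ w : ↥S,
            (if lam w = α then fixCard ((↥S × ↥S) ⧸ D) (Subgroup.zpowers ((z ^ k, w) : ↥S × ↥S)) else 0) := by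
          rw [Finset.sum_comm]
          apply Finset.sum_congr rfl
          intro D _
          rw [Finset.mul_sum]
      _ = ∑ D ∈ m.support, m D * (Nat.card S * ∑ d ∈ k.divisors, ∑ β : A,
            if β ^ (k / d) = α then d * orbCount (fstG D) (homOf lam D) z d β else 0) := by
          apply Finset.sum_congr rfl
          intro D hD
          rw [sum_fixCard_eq_divisors lam (hsupp D hD).isFunctional z α k hk]
      _ = Nat.card S * ∑ D ∈ m.support, ∑ d ∈ k.divisors, ∑ β : A, m D *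
            (if β ^ (k / d) = α then d * orbCount (fstG D) (homOf lam D) z d β else 0) := by
          rw [Finset.mul_sum]
          apply Finset.sum_congr rfl
          intro D _
          rw [Finset.mul_sum, Finset.mul_sum, Finset.mul_sum]
          apply Finset.sum_congr rfl
          intro d _
          rw [Finset.mul_sum, Finset.mul_sum, Finset.mul_sum]
          apply Finset.sum_congr rfl
          intro β _
          ring
      _ = Nat.card S * ∑ d ∈ k.divisors, ∑ β : A, if β ^ (k / d) = α then d * N z d β else 0 := by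
          congr 1
          rw [Finset.sum_comm]
          apply Finset.sum_congr rfl
          intro d _
          rw [Finset.sum_comm]
          apply Finset.sum_congr rfl
          intro β _
          rw [hterm]
  have hNeq : ∀ d, 0 < d → ∀ β : A, N ⟨x, (F.le_of_mem hφ).1 x.2⟩ d β = N ⟨φ x, (F.le_of_mem hφ).2 x⟩ d β := by
    apply counts_eq_of_divisor_sums_eq
    intro k hk α
    have e1 := hsum ⟨x, (F.le_of_mem hφ).1 x.2⟩ k hk α
    have e2 := hsum ⟨φ x, (F.le_of_mem hφ).2 x⟩ k hk α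
    have e3 : (∑ w : ↥S, if lam w = α then
          mark m (Subgroup.zpowers (((⟨x, (F.le_of_mem hφ).1 x.2⟩ : ↥S) ^ k, w) : ↥S × ↥S)) else 0) =
        ∑ w : ↥S, if lam w = α then
          mark m (Subgroup.zpowers (((⟨φ x, (F.le_of_mem hφ).2 x⟩ : ↥S) ^ k, w) : ↥S × ↥S)) else 0 := by
      apply Finset.sum_congr rfl
      intro w _
      rw [mark_zpowers_eq F m hsupp hstab hφ x k w]
    rw [e1, e2] at e3
    exact Nat.eq_of_mul_eq_mul_left Nat.card_pos e3
  have htr : ∀ z : ↥S, bisetTransfer m lam z = ∏ d ∈ Finset.range (Nat.card S + 1), ∏ β : A, β ^ N z d β := by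
    intro z
    rw [bisetTransfer_apply]
    have hD : ∀ D ∈ m.support, (MonoidHom.transfer (homOf lam D) z) ^ (m D) =
        ∏ d ∈ Finset.range (Nat.card S + 1), ∏ β : A, β ^ (m D * orbCount (fstG D) (homOf lam D) z d β) := by
      intro D _
      haveI : Fintype (MulAction.orbitRel.Quotient (Subgroup.zpowers z) (↥S ⧸ fstG D)) := Fintype.ofFinite _
      rw [transfer_eq_prod_orbCount (fstG D) (homOf lam D) z (Nat.card S) (fun q => per_le_card _ _ q)]
      rw [← Finset.prod_pow]
      apply Finset.prod_congr rfl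
      intro d _
      rw [← Finset.prod_pow]
      apply Finset.prod_congr rfl
      intro β _
      rw [← pow_mul, mul_comm]
    rw [Finset.prod_congr rfl hD, Finset.prod_comm]
    apply Finset.prod_congr rfl
    intro d _
    rw [Finset.prod_comm]
    apply Finset.prod_congr rfl
    intro β _
    rw [Finset.prod_pow_eq_pow_sum, hNapp]
  rw [htr, htr]
  apply Finset.prod_congr rfl
  intro d _
  apply Finset.prod_congr rfl
  intro β _
  rcases Nat.eq_zero_or_pos d with h0 | h0
  · subst h0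
    rw [hNapp, hNapp]
    congr 1
    apply Finset.sum_congr rfl
    intro D _
    haveI : Fintype (MulAction.orbitRel.Quotient (Subgroup.zpowers (⟨φ x, (F.le_of_mem hφ).2 x⟩ : ↥S))
      (↥S ⧸ fstG D)) := Fintype.ofFinite _
    haveI : Fintype (MulAction.orbitRel.Quotient (Subgroup.zpowers (⟨x, (F.le_of_mem hφ).1 x.2⟩ : ↥S))
      (↥S ⧸ fstG D)) := Fintype.ofFinite _
    rw [orbCount_zero, orbCount_zero]
  · rw [hNeq d h0 β]

end Cfsg.Agent.Helper88.Biset
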