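import Cfsg.Agent.Helper88.FusionBasic

set_option autoImplicit false

namespace Cfsg.Agent.Helper88

open Cfsg Cfsg.FusionSystem

variable {Ω : Type*} [Group Ω] {S : Subgroup Ω}

/-- Over an abelian `S`, the extender of any homomorphism defined on a subgroup of `S` is all of `S`. -/
theorem extender_eq_of_abelian (hab : ∀ x ∈ S, ∀ y ∈ S, x * y = y * x) {P : Subgroup Ω} (hP : P ≤ S)
    (θ : P →* Ω) : extender S P θ = S := by
  apply le_antisymm
  · apply (Subgroup.closure_le S).mpr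
    intro g hg
    exact hg.1
  · intro g hg
    apply Subgroup.subset_closure
    have hconj : ∀ x ∈ S, g * x * g⁻¹ = x := by
      intro x hx
      rw [hab g hg x hx, mul_inv_cancel_right]
    refine ⟨hg, ?_, 1, S.one_mem, ?_⟩
    · rw [Subgroup.mem_set_normalizer_iff]
      intro h
      constructor
      · intro hh
        have : g * h * g⁻¹ = h := hconj h (hP hh)
        rw [this]; exact hh
      · intro hh
        have h1 : g * h * g⁻¹ ∈ S := hP hh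
        have h2 : h ∈ S := by
          have : h = g⁻¹ * (g * h * g⁻¹) * g := by group
          rw [this]
          exact S.mul_mem (S.mul_mem (S.inv_mem hg) h1) hg
        have : g * h * g⁻¹ = h := hconj h h2
        rw [this] at hh; exact hh
    · intro x hx
      have : (⟨g * (x : Ω) * g⁻¹, hx⟩ : P) = x := Subtype.ext (hconj x (hP x.2))
      rw [this]
      simp

/-- Over an abelian `S`, every map of a saturated fusion system extends to a map defined on all of `S`. -/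
theorem exists_extension_of_abelian [Finite S] (F : FusionSystem S) (p : ℕ) (hF : F.IsSaturated p)
    (hab : ∀ x ∈ S, ∀ y ∈ S, x * y = y * x) {P : Subgroup Ω} {φ : P →* Ω} (hφ : φ ∈ F.Hom P) :
    ∃ ψ ∈ F.Hom S, ∀ (x : Ω) (hx : x ∈ P) (hxS : x ∈ S), ψ ⟨x, hxS⟩ = φ ⟨x, hx⟩ := by
  obtain ⟨hP, hφS⟩ := F.le_of_mem hφ
  have hP' : φ.range ≤ S := by
    rintro _ ⟨x, rfl⟩
    exact hφS x
  obtain ⟨Q, ⟨χ, hχ, hχQ⟩, -, hrec⟩ := hF φ.range hP'
  -- the composite `θ = χ ∘ φ : P → Q`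
  have hθ := F.comp_mem hφ hχ (fun x => ⟨x, rfl⟩)
  set θ : P →* Ω := χ.comp (φ.codRestrict φ.range fun x => ⟨x, rfl⟩) with hθdef
  have hθQ : θ.range = Q := by
    rw [← hχQ]
    ext y
    constructor
    · rintro ⟨x, rfl⟩
      exact ⟨_, rfl⟩
    · rintro ⟨⟨_, x, rfl⟩, rfl⟩
      exact ⟨x, rfl⟩
  obtain ⟨θ', hθ', hθ'ext⟩ := hrec.2 P θ hθ hθQ
  obtain ⟨χ', hχ', hχ'ext⟩ := hrec.2 φ.range χ hχ hχQ
  have e1 : S = extender S P θ := (extender_eq_of_abelian hab hP θ).symm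
  have e2 : S = extender S φ.range χ := (extender_eq_of_abelian hab hP' χ).symm
  have hθ'' := cast_mem F e1 hθ'
  have hχ'' := cast_mem F e2 hχ'
  set θ'' : S →* Ω := θ'.comp (Subgroup.inclusion (le_of_eq e1)) with hθ''def
  set χ'' : S →* Ω := χ'.comp (Subgroup.inclusion (le_of_eq e2)) with hχ''def
  -- `χ''` is a bijection of `S`
  have hχinj : Function.Injective (χ''.codRestrict S (F.le_of_mem hχ'').2) := by
    intro a b hab'
    exact F.injective_of_mem hχ'' (congrArg Subtype.val hab')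
  have hχsurj : Function.Surjective (χ''.codRestrict S (F.le_of_mem hχ'').2) :=
    Finite.injective_iff_surjective.mp hχinj
  have hrange : ∀ x : S, θ'' x ∈ χ''.range := by
    intro x
    obtain ⟨t, ht⟩ := hχsurj ⟨θ'' x, (F.le_of_mem hθ'').2 x⟩
    exact ⟨t, congrArg Subtype.val ht⟩
  obtain ⟨ψ', hψ', hψ'inv⟩ := F.inv_mem hχ''
  refine ⟨_, F.comp_mem hθ'' hψ' hrange, ?_⟩
  intro x hx hxS
  show ψ' ⟨θ'' ⟨x, hxS⟩, hrange ⟨x, hxS⟩⟩ = φ ⟨x, hx⟩
  have h1 : θ'' ⟨x, hxS⟩ = θ ⟨x, hx⟩ := hθ'ext x hx (e1 ▸ hxS)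
  have h2 : θ ⟨x, hx⟩ = χ ⟨φ ⟨x, hx⟩, ⟨_, rfl⟩⟩ := rfl
  have h3 : χ'' ⟨φ ⟨x, hx⟩, hφS _⟩ = χ ⟨φ ⟨x, hx⟩, ⟨_, rfl⟩⟩ :=
    hχ'ext (φ ⟨x, hx⟩) ⟨_, rfl⟩ (e2 ▸ hφS _)
  have h4 : (⟨θ'' ⟨x, hxS⟩, hrange ⟨x, hxS⟩⟩ : χ''.range) =
      ⟨χ'' ⟨φ ⟨x, hx⟩, hφS _⟩, ⟨_, rfl⟩⟩ := by
    apply Subtype.ext
    show θ'' ⟨x, hxS⟩ = χ'' ⟨φ ⟨x, hx⟩, hφS _⟩
    rw [h1, h2, h3]
  rw [h4, hψ'inv]

theorem autInducedBy_eq_bot_of_abelian (hab : ∀ x ∈ S, ∀ y ∈ S, x * y = y * x) :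
    autInducedBy S S = ⊥ := by
  unfold autInducedBy
  rw [Subgroup.closure_eq_bot_iff]
  rintro α ⟨g, hg, hα⟩
  rw [Set.mem_singleton_iff]
  ext x
  rw [hα x, hab g hg x x.2, mul_inv_cancel_right]
  rfl

/-- Over an abelian `S`, the automorphism group of `S` in a saturated fusion system has order prime to `p`. -/
theorem autGroup_card_coprime_of_abelian [Finite S] (F : FusionSystem S) (p : ℕ) [Fact p.Prime]
    (hF : F.IsSaturated p) (hab : ∀ x ∈ S, ∀ y ∈ S, x * y = y * x) :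
    (Nat.card (F.autGroup S)).Coprime p := by
  obtain ⟨Q, ⟨φ, hφ, hφQ⟩, ⟨hQS, R, hR⟩, -⟩ := hF S le_rfl
  have hQ : Q = S := by
    refine Subgroup.eq_of_le_of_card_ge hQS ?_
    rw [← hφQ]
    exact le_of_eq (Nat.card_congr (MonoidHom.ofInjective (F.injective_of_mem hφ)).toEquiv)
  subst hQ
  rw [autInducedBy_eq_bot_of_abelian hab, Subgroup.bot_subgroupOf] at hR
  have hcard : Nat.card (R : Subgroup (F.autGroup Q)) = 1 := by rw [hR]; exact Subgroup.card_bot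
  have h1 := R.card_eq_multiplicity
  rw [hcard] at h1
  have hp : p.Prime := Fact.out
  have h2 : (Nat.card (F.autGroup Q)).factorization p = 0 := by
    by_contra h
    have : 1 < p ^ (Nat.card (F.autGroup Q)).factorization p := Nat.one_lt_pow h hp.one_lt
    omega
  rw [Nat.factorization_eq_zero_iff] at h2
  rcases h2 with h2 | h2 | h2
  · exact absurd hp h2
  · exact ((Nat.Prime.coprime_iff_not_dvd hp).mpr h2).symm
  · exact absurd h2 Nat.card_pos.ne'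

end Cfsg.Agent.Helper88
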