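import Cfsg.Agent.Helper88.FusionCentric

set_option autoImplicit false

namespace Cfsg.Agent.Helper88.FS

open Cfsg Cfsg.FusionSystem Cfsg.Agent.Helper87

variable {Ω : Type*} [Group Ω] {S : Subgroup Ω}

/-- A subgroup centric in `F` is centric in every subsystem over the same `S`. -/
theorem isCentric_of_le_system {F F' : FusionSystem S} (hle : F' ≤ F) {T : Subgroup Ω} (hT : F.IsCentric T) :
    F'.IsCentric T := by
  refine ⟨hT.1, fun Q hQ => hT.2 Q ?_⟩
  obtain ⟨φ, hφ, hφQ⟩ := hQ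
  exact ⟨φ, hle _ hφ, hφQ⟩

/-- One step: if `ψ ∈ Hom_F(R, S)` restricts on the centric subgroup `T ≤ R` to a map of the saturated subsystem `F'`, then the
restriction of `ψ` to `N_R(T)` is a map of `F'`. -/
theorem restrict_normalizer_mem_of_restrict_mem [Finite S] {p : ℕ} [Fact p.Prime] (hS : IsPGroup p S)
    (F : FusionSystem S) (hF : F.IsSaturated p) (F' : FusionSystem S) (hF' : F'.IsSaturated p) (hle : F' ≤ F)
    {T R : Subgroup Ω} (hTR : T ≤ R) (hT : F.IsCentric T) {ψ : R →* Ω} (hψ : ψ ∈ F.Hom R)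
    (hψT : ψ.comp (Subgroup.inclusion hTR) ∈ F'.Hom T) :
    ψ.comp (Subgroup.inclusion (inf_le_left : normalizerIn R T ≤ R)) ∈ F'.Hom (normalizerIn R T) := by
  have hRS : R ≤ S := (F.le_of_mem hψ).1
  set χ : T →* Ω := ψ.comp (Subgroup.inclusion hTR) with hχdef
  -- the image of `T` is centric in `F'`, hence receptive
  have hχF : χ ∈ F.Hom T := hle _ hψT
  have hT₂ : F.IsCentric χ.range := isCentric_of_isConj F hT ⟨χ, hχF, rfl⟩
  have hT₂' : F'.IsCentric χ.range := isCentric_of_le_system hle hT₂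
  have hrec : F'.IsReceptive χ.range := isReceptive_of_isCentric hS F' hF' hT₂'
  obtain ⟨χ', hχ', hχ'ext⟩ := hrec.2 T χ hψT rfl
  set N := normalizerIn R T with hNdef
  have hNR : N ≤ R := inf_le_left
  have hTN : T ≤ N := le_normalizerIn hTR
  have hNext : N ≤ extender S T χ := by
    intro g hg
    rw [mem_extender_iff]
    refine ⟨hRS hg.1, hg.2, ψ ⟨g, hg.1⟩, (F.le_of_mem hψ).2 _, fun x hx => ?_⟩
    show ψ ⟨g * (x : Ω) * g⁻¹, hTR hx⟩ = ψ ⟨g, hg.1⟩ * ψ ⟨x, hTR x.2⟩ * (ψ ⟨g, hg.1⟩)⁻¹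
    rw [← map_inv, ← map_mul, ← map_mul]
    rfl
  have hχ₁ := restrict_mem F' hχ' hNext
  have hψN := restrict_mem F hψ hNR
  have hagree : ∀ x : N, (x : Ω) ∈ T →
      (χ'.comp (Subgroup.inclusion hNext)) x = (ψ.comp (Subgroup.inclusion hNR)) x := by
    intro x hx
    exact hχ'ext x hx (hNext x.2)
  have hNS : N ≤ normalizerIn S T := inf_le_inf_right _ hRS
  obtain ⟨z, -, -, hz⟩ := exists_central_conj_of_agree_normal hS F hF hTN hNS hT (hle _ hχ₁) hψN hagree
  exact mem_of_eq F' (comp_conj_mem F' hχ₁ z) (fun y => hz y)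

/-- If `ψ ∈ Hom_F(R, S)` restricts on an `F`-centric subgroup `T ≤ R` to a map of the saturated subsystem `F' ≤ F`, then `ψ` is a
map of `F'`. -/
theorem mem_of_restrict_mem_centric [Finite S] {p : ℕ} [Fact p.Prime] (hS : IsPGroup p S)
    (F : FusionSystem S) (hF : F.IsSaturated p) (F' : FusionSystem S) (hF' : F'.IsSaturated p) (hle : F' ≤ F)
    {R : Subgroup Ω} {ψ : R →* Ω} (hψ : ψ ∈ F.Hom R) :
    ∀ (n : ℕ) (T : Subgroup Ω) (hTR : T ≤ R), Nat.card R - Nat.card T = n → F.IsCentric T →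
      ψ.comp (Subgroup.inclusion hTR) ∈ F'.Hom T → ψ ∈ F'.Hom R := by
  have hRS : R ≤ S := (F.le_of_mem hψ).1
  have hRfin : Finite R := finite_of_le hRS
  have hRp : IsPGroup p R := hS.to_le hRS
  intro n
  induction n using Nat.strong_induction_on with
  | _ n ih =>
    intro T hTR hn hT hψT
    by_cases hTeq : T = R
    · subst hTeq
      exact mem_of_eq F' hψT (fun x => rfl)
    · have hTlt : T < R := lt_of_le_of_ne hTR hTeq
      have hTN : T < normalizerIn R T := lt_normalizerIn hRp hTlt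
      have hNR : normalizerIn R T ≤ R := inf_le_left
      have hstep := restrict_normalizer_mem_of_restrict_mem hS F hF F' hF' hle hTR hT hψ hψT
      have hNcen : F.IsCentric (normalizerIn R T) := isCentric_of_le F hT hTN.le (hNR.trans hRS)
      have hNfin : Finite (normalizerIn R T) := finite_of_le (hNR.trans hRS)
      have hcard1 : Nat.card T < Nat.card (normalizerIn R T) := card_lt_card_of_lt hTN
      have hcard2 : Nat.card (normalizerIn R T) ≤ Nat.card R := Subgroup.card_le_of_le hNR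
      exact ih (Nat.card R - Nat.card (normalizerIn R T)) (by omega) (normalizerIn R T) hNR rfl hNcen hstep

end Cfsg.Agent.Helper88.FS
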