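import Cfsg.Agent.Helper88.Constrained
import Cfsg.Agent.Helper85.Realize
import Cfsg.Agent.Helper87.SylowNormal
import Cfsg.Agent.S5076
import Mathlib.GroupTheory.IsSubnormal
set_option autoImplicit false

/-!
The fusion system of a subgroup `H` of `G` on `T ≤ H`, inside `G` and inside `H`; subnormal subgroups.
-/

namespace Cfsg.Agent.Helper88.FS

open Cfsg Cfsg.FusionSystem Cfsg.Agent.Helper87 Cfsg.Agent.Helper88 Cfsg.Agent.Helper85

variable {G : Type*} [Group G]

/-- A Sylow subgroup meets a subnormal subgroup in a subgroup of index prime to `p`. -/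
theorem not_dvd_relIndex_of_isSubnormal [Finite G] {p : ℕ} [Fact p.Prime] (S : Sylow p G) {H : Subgroup G}
    (hH : H.IsSubnormal) : ¬ p ∣ (S : Subgroup G).relIndex H := by
  induction hH with
  | top =>
    rw [Subgroup.relIndex_top_right]
    exact S.not_dvd_index
  | step H K h_le hSubn hN ih =>
    have hp : IsPGroup p ((S : Subgroup G).subgroupOf K) :=
      S.2.comap_of_injective K.subtype K.subtype_injective
    have ih' : ¬ p ∣ ((S : Subgroup G).subgroupOf K).index := ih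
    obtain ⟨P', hP'⟩ := exists_sylow_subgroupOf_normal (hp.toSylow ih') (H.subgroupOf K)
    have h1 := P'.not_dvd_index
    rw [hP', IsPGroup.toSylow_coe] at h1
    have h2 : (((S : Subgroup G).subgroupOf K).subgroupOf (H.subgroupOf K)).index =
        ((S : Subgroup G).subgroupOf K).relIndex (H.subgroupOf K) := rfl
    rw [h2, Subgroup.relIndex_subgroupOf h_le] at h1
    exact h1

/-- The fusion system of `H` on `T`, inside `G`, is realized by the inclusion of `T` in `H`. -/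
theorem isRealizedBy_inclusion (H T : Subgroup G) (hTH : T ≤ H) :
    (fusionSystemOfSubgroup H T hTH).IsRealizedBy (Subgroup.inclusion hTH) := by
  refine ⟨Subgroup.inclusion_injective hTH, fun P hP φ hφ => ?_⟩
  constructor
  · rintro ⟨-, -, g, hg, hgx⟩
    exact ⟨⟨g, hg⟩, fun x => Subtype.ext (hgx x)⟩
  · rintro ⟨g, hg⟩
    exact ⟨hP, hφ, g, g.2, fun x => congrArg Subtype.val (hg x)⟩

/-- The fusion system of `H` on `T`, inside `G`, is saturated when `T` is a Sylow subgroup of `H`. -/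
theorem isSaturated_fusionSystemOfSubgroup [Finite G] {p : ℕ} [Fact p.Prime] (H T : Subgroup G) (hTH : T ≤ H)
    (hT : IsPGroup p T) (hidx : ¬ p ∣ T.relIndex H) : (fusionSystemOfSubgroup H T hTH).IsSaturated p := by
  have hp : IsPGroup p (T.subgroupOf H) := hT.comap_of_injective H.subtype H.subtype_injective
  have hidx' : ¬ p ∣ (T.subgroupOf H).index := hidx
  refine isSaturated_of_isRealizedBy _ (Subgroup.inclusion hTH) (isRealizedBy_inclusion H T hTH)
    (hp.toSylow hidx') ?_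
  rw [IsPGroup.toSylow_coe, Subgroup.inclusion_range]

theorem fusionSystemOfSubgroup_top (S : Subgroup G) :
    fusionSystemOfSubgroup ⊤ S le_top = groupFusionSystem S := by
  apply fusionSystem_ext
  intro P
  ext φ
  constructor
  · rintro ⟨h1, h2, g, -, hg⟩
    exact ⟨h1, h2, g, hg⟩
  · rintro ⟨h1, h2, g, hg⟩
    exact ⟨h1, h2, g, Subgroup.mem_top g, hg⟩

/-- One normal step. -/
theorem isConstrained_fusionSystemOfSubgroup_step [Finite G] {p : ℕ} [Fact p.Prime] {H K : Subgroup G} (hHK : H ≤ K)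
    (hN : (H.subgroupOf K).Normal) (TK TH : Subgroup G) (hTK : TK ≤ K) (hTH : TH ≤ H) (hT : TH = TK ⊓ H)
    (hTKp : IsPGroup p TK) (hsat : (fusionSystemOfSubgroup H TH hTH).IsSaturated p)
    (hK : (fusionSystemOfSubgroup K TK hTK).IsConstrained p) :
    (fusionSystemOfSubgroup H TH hTH).IsConstrained p := by
  have hle : TH ≤ TK := hT ▸ inf_le_left
  refine isConstrained_of_subsystem hTKp _ hK _ hsat ?_ ⟨hle, ?_⟩
  · rintro P φ ⟨h1, h2, g, hg, hgx⟩
    exact ⟨h1.trans hle, fun x => hle (h2 x), g, hHK hg, hgx⟩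
  · rintro R hR φ ⟨h1, h2, g, hg, hgx⟩ x
    rw [hT]
    refine ⟨h2 x, ?_⟩
    rw [hgx]
    have := hN.conj_mem ⟨x, hHK (hTH (hR x.2))⟩ (Subgroup.mem_subgroupOf.mpr (hTH (hR x.2))) ⟨g, hg⟩
    exact Subgroup.mem_subgroupOf.mp this

/-- The fusion system of a subnormal subgroup `H` on `S ∩ H`, inside `G`, is constrained when that of `G` is. -/
theorem isConstrained_fusionSystemOfSubgroup_of_isSubnormal [Finite G] {p : ℕ} [Fact p.Prime] (S : Sylow p G)
    (hF : (groupFusionSystem (S : Subgroup G)).IsConstrained p) {H : Subgroup G} (hH : H.IsSubnormal) :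
    ∀ (T : Subgroup G) (hTH : T ≤ H), T = (S : Subgroup G) ⊓ H → (fusionSystemOfSubgroup H T hTH).IsConstrained p := by
  induction hH with
  | top =>
    intro T hTH hT
    rw [inf_top_eq] at hT
    subst hT
    rw [fusionSystemOfSubgroup_top]
    exact hF
  | step H K h_le hSubn hN ih =>
    intro T hTH hT
    have hSp : IsPGroup p ↥(S : Subgroup G) := S.2
    refine isConstrained_fusionSystemOfSubgroup_step h_le hN ((S : Subgroup G) ⊓ K) T inf_le_right hTH ?_
      (hSp.to_le inf_le_left) ?_ (ih _ inf_le_right rfl)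
    · rw [hT, inf_assoc, inf_eq_right.mpr h_le]
    · refine isSaturated_fusionSystemOfSubgroup H T hTH (hT ▸ hSp.to_le inf_le_left) ?_
      rw [hT, Subgroup.inf_relIndex_right]
      exact not_dvd_relIndex_of_isSubnormal S (Subgroup.IsSubnormal.step H K h_le hSubn hN)


/-- Normal subgroups of the fusion system of `H` on `T`: from inside `G` to inside `H`. -/
theorem isNormal_groupFusionSystem_subgroupOf (H T : Subgroup G) (hTH : T ≤ H) {Q : Subgroup G}
    (hQ : (fusionSystemOfSubgroup H T hTH).IsNormal Q) :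
    (groupFusionSystem (T.subgroupOf H)).IsNormal (Q.subgroupOf H) := by
  have hQT : Q ≤ T := hQ.1
  refine ⟨fun x hx => hQT hx, fun P' φ' hφ' => ?_⟩
  obtain ⟨hP'T, hφ'T, h, hh⟩ := hφ'
  have hPT : P'.map H.subtype ≤ T := by
    rintro _ ⟨x, hx, rfl⟩
    exact hP'T hx
  have hφ : conjHom (P'.map H.subtype) (h : G) ∈ (fusionSystemOfSubgroup H T hTH).Hom (P'.map H.subtype) := by
    refine ⟨hPT, ?_, h, h.2, fun x => rfl⟩
    rintro ⟨_, x, hx, rfl⟩
    have := hφ'T ⟨x, hx⟩
    rw [hh] at this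
    exact this
  obtain ⟨ψ, ⟨hψ1, hψ2, g, hgH, hgx⟩, hψx, hψQ⟩ := hQ.2 _ _ hφ
  rw [map_subgroupOf_eq_iff] at hψQ
  have hmem : ∀ y : ↥(P' ⊔ Q.subgroupOf H), ((y : H) : G) ∈ P'.map H.subtype ⊔ Q := by
    intro y
    have h1 : (P' ⊔ Q.subgroupOf H).map H.subtype ≤ P'.map H.subtype ⊔ Q := by
      rw [Subgroup.map_sup]
      refine sup_le_sup le_rfl ?_
      rintro _ ⟨x, hx, rfl⟩
      exact hx
    exact h1 ⟨y, y.2, rfl⟩
  refine ⟨conjHom (P' ⊔ Q.subgroupOf H) ⟨g, hgH⟩, ⟨?_, ?_, ⟨g, hgH⟩, fun x => rfl⟩, ?_, ?_⟩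
  · exact sup_le hP'T (fun x hx => hQT hx)
  · intro y
    have := hψ2 ⟨_, hmem y⟩
    rw [hgx] at this
    exact this
  · intro x
    apply Subtype.ext
    rw [hh]
    have := hψx ⟨_, x, x.2, rfl⟩
    rw [hgx] at this
    exact this
  · rw [map_subgroupOf_eq_iff]
    refine ⟨fun y hy => ?_, fun z hz => ?_⟩
    · have := hψQ.1 ⟨_, hmem y⟩ hy
      rw [hgx] at this
      exact this
    · obtain ⟨y, hy, hyz⟩ := hψQ.2 z hz
      refine ⟨⟨⟨y, hTH (hQT hy)⟩, Subgroup.mem_sup_right hy⟩, hy, Subtype.ext ?_⟩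
      rw [hgx] at hyz
      exact hyz

/-- Centric subgroups of the fusion system of `H` on `T`: from inside `G` to inside `H`. -/
theorem isCentric_groupFusionSystem_subgroupOf (H T : Subgroup G) (hTH : T ≤ H) {Q : Subgroup G}
    (hQ : (fusionSystemOfSubgroup H T hTH).IsCentric Q) :
    (groupFusionSystem (T.subgroupOf H)).IsCentric (Q.subgroupOf H) := by
  have hQT : Q ≤ T := hQ.1
  refine ⟨fun x hx => hQT hx, ?_⟩
  rintro R' ⟨φ', ⟨-, hφ'T, h, hh⟩, hr⟩
  have hφ : conjHom Q (h : G) ∈ (fusionSystemOfSubgroup H T hTH).Hom Q := by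
    refine ⟨hQT, fun x => ?_, h, h.2, fun x => rfl⟩
    have := hφ'T ⟨⟨x, hTH (hQT x.2)⟩, x.2⟩
    rw [hh] at this
    exact this
  have hcen := hQ.2 _ ⟨conjHom Q (h : G), hφ, rfl⟩
  rintro c ⟨hcT, hcC⟩
  have hc : (c : G) ∈ centralizerIn T (conjHom Q (h : G)).range := by
    refine ⟨hcT, ?_⟩
    show (c : G) ∈ Subgroup.centralizer _
    rw [Subgroup.mem_centralizer_iff]
    rintro _ ⟨x, rfl⟩
    have hxR : φ' ⟨⟨x, hTH (hQT x.2)⟩, x.2⟩ ∈ R' := hr ▸ ⟨_, rfl⟩
    have := (Subgroup.mem_centralizer_iff.mp hcC) _ hxR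
    rw [hh] at this
    exact congrArg Subtype.val this
  obtain ⟨x, hx⟩ := hcen hc
  rw [← hr]
  refine ⟨⟨⟨x, hTH (hQT x.2)⟩, x.2⟩, ?_⟩
  rw [hh]
  exact Subtype.ext hx

/-- Constrained: from inside `G` to inside `H`. -/
theorem isConstrained_groupFusionSystem_subgroupOf [Finite G] {p : ℕ} [Fact p.Prime] (H T : Subgroup G) (hTH : T ≤ H)
    (hT : IsPGroup p T) (hidx : ¬ p ∣ T.relIndex H) (hE : (fusionSystemOfSubgroup H T hTH).IsConstrained p) :
    (groupFusionSystem (T.subgroupOf H)).IsConstrained p := by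
  obtain ⟨-, Q, hQn, hQc⟩ := hE
  have hp : IsPGroup p (T.subgroupOf H) := hT.comap_of_injective H.subtype H.subtype_injective
  have hidx' : ¬ p ∣ (T.subgroupOf H).index := hidx
  have hsat := Cfsg.Agent.S5076.result p (hp.toSylow hidx')
  rw [IsPGroup.toSylow_coe] at hsat
  exact ⟨hsat, Q.subgroupOf H, isNormal_groupFusionSystem_subgroupOf H T hTH hQn,
    isCentric_groupFusionSystem_subgroupOf H T hTH hQc⟩

end Cfsg.Agent.Helper88.FS
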