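import Cfsg.Agent.Helper88.FusionStrongInv
import Cfsg.Agent.Helper88.FusionInvariant
set_option autoImplicit false

/-!
Transport of maps along automorphisms of `S`, and the largest subsystem of a system `E` over `S` that is invariant
under the automorphisms of `S` in a second system `F`.
-/

namespace Cfsg.Agent.Helper88.FS

open Cfsg Cfsg.FusionSystem Cfsg.Agent.Helper87

variable {Ω : Type*} [Group Ω] {S : Subgroup Ω}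

/-- `χ` is the transport of `φ` along the automorphism `α` of `S`. -/
def IsTr (α : MulAut S) {P P' : Subgroup Ω} (φ : P →* Ω) (χ : P' →* Ω) : Prop :=
  (∀ y : Ω, y ∈ P' ↔ ∃ x : S, (x : Ω) ∈ P ∧ ((α x : S) : Ω) = y) ∧
  ∀ (x : S) (hx : (x : Ω) ∈ P) (hx' : ((α x : S) : Ω) ∈ P') (hφ : φ ⟨x, hx⟩ ∈ S),
    χ ⟨α x, hx'⟩ = ((α ⟨φ ⟨x, hx⟩, hφ⟩ : S) : Ω)

theorem IsTr.le {α : MulAut S} {P P' : Subgroup Ω} {φ : P →* Ω} {χ : P' →* Ω} (h : IsTr α φ χ) : P' ≤ S := by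
  intro y hy
  obtain ⟨x, -, rfl⟩ := (h.1 y).mp hy
  exact (α x).2

/-- Every element of the source of the transport is the image of an element of the source. -/
theorem IsTr.exists_eq {α : MulAut S} {P P' : Subgroup Ω} {φ : P →* Ω} {χ : P' →* Ω} (h : IsTr α φ χ) (y : P') :
    ∃ (x : S) (hx : (x : Ω) ∈ P) (hx' : ((α x : S) : Ω) ∈ P'), y = ⟨α x, hx'⟩ := by
  obtain ⟨x, hx₀, hxy⟩ := (h.1 y).mp y.2
  exact ⟨x, hx₀, by rw [hxy]; exact y.2, Subtype.ext hxy.symm⟩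

/-- The transport exists. -/
theorem exists_isTr (α : MulAut S) {P P' : Subgroup Ω} (φ : P →* Ω) (hφS : ∀ x, φ x ∈ S)
    (hP' : ∀ y : Ω, y ∈ P' ↔ ∃ x : S, (x : Ω) ∈ P ∧ ((α x : S) : Ω) = y) : ∃ χ : P' →* Ω, IsTr α φ χ := by
  have hP'S : P' ≤ S := by
    intro y hy
    obtain ⟨x, -, rfl⟩ := (hP' y).mp hy
    exact (α x).2
  have hback : ∀ y : P', ((S.subtype.comp (α⁻¹ : MulAut S).toMonoidHom).comp (Subgroup.inclusion hP'S)) y ∈ P := by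
    intro y
    obtain ⟨x, hx, hxy⟩ := (hP' y).mp y.2
    show ((α⁻¹ ⟨y, hP'S y.2⟩ : S) : Ω) ∈ P
    have : (⟨y, hP'S y.2⟩ : S) = α x := Subtype.ext hxy.symm
    rw [this, MulAut.inv_apply_self]
    exact hx
  refine ⟨(S.subtype.comp α.toMonoidHom).comp ((φ.codRestrict S hφS).comp
    (((S.subtype.comp (α⁻¹ : MulAut S).toMonoidHom).comp (Subgroup.inclusion hP'S)).codRestrict P hback)), hP',
    fun x hx hx' hφ => ?_⟩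
  have e : (((S.subtype.comp (α⁻¹ : MulAut S).toMonoidHom).comp (Subgroup.inclusion hP'S)).codRestrict P hback)
      ⟨α x, hx'⟩ = ⟨x, hx⟩ := by
    apply Subtype.ext
    show ((α⁻¹ ⟨((α x : S) : Ω), hP'S hx'⟩ : S) : Ω) = x
    have : (⟨((α x : S) : Ω), hP'S hx'⟩ : S) = α x := Subtype.ext rfl
    rw [this, MulAut.inv_apply_self]
  show ((α ⟨φ ((((S.subtype.comp (α⁻¹ : MulAut S).toMonoidHom).comp (Subgroup.inclusion hP'S)).codRestrict P hback)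
      ⟨α x, hx'⟩), _⟩ : S) : Ω) = _
  congr 2
  apply Subtype.ext
  show φ _ = φ _
  rw [e]

/-- Transport along a composite. -/
theorem IsTr.trans {α β : MulAut S} {P P' P'' : Subgroup Ω} {φ : P →* Ω} {χ : P' →* Ω} {χ' : P'' →* Ω}
    (h1 : IsTr α φ χ) (h2 : IsTr β χ χ') : IsTr (β * α) φ χ' := by
  refine ⟨fun y => ?_, fun x hx hx' hφ => ?_⟩
  · rw [h2.1 y]
    constructor
    · rintro ⟨z, hz, rfl⟩
      obtain ⟨x, hx, hxz⟩ := (h1.1 z).mp hz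
      refine ⟨x, hx, ?_⟩
      rw [MulAut.mul_apply]
      congr 2
      exact Subtype.ext hxz
    · rintro ⟨x, hx, rfl⟩
      exact ⟨α x, (h1.1 _).mpr ⟨x, hx, rfl⟩, rfl⟩
  · have hαx : ((α x : S) : Ω) ∈ P' := (h1.1 _).mpr ⟨x, hx, rfl⟩
    have e1 := h1.2 x hx hαx hφ
    have hχS : χ ⟨α x, hαx⟩ ∈ S := by rw [e1]; exact (α _).2
    have e2 := h2.2 (α x) hαx hx' hχS
    refine e2.trans ?_
    show ((β ⟨χ ⟨α x, hαx⟩, hχS⟩ : S) : Ω) = ((β (α ⟨φ ⟨x, hx⟩, hφ⟩) : S) : Ω)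
    congr 2
    exact Subtype.ext e1


/-- The largest subsystem of `E` invariant under the automorphisms of `S` in `F`: the maps of `E` all of whose
transports along automorphisms of `S` in `F` are maps of `E`. -/
def invCore (E F : FusionSystem S) : FusionSystem S where
  Hom P := {φ | φ ∈ E.Hom P ∧ ∀ α ∈ F.autGroup S, ∀ (P' : Subgroup Ω) (χ : P' →* Ω), IsTr α φ χ → χ ∈ E.Hom P'}
  le_of_mem := fun h => E.le_of_mem h.1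
  injective_of_mem := fun h => E.injective_of_mem h.1
  conj_mem := by
    intro P g hP hg
    refine ⟨E.conj_mem hP hg, fun α _ P' χ hχ => ?_⟩
    have hP'S : P' ≤ S := hχ.le
    refine mem_of_eq E (E.conj_mem hP'S (α ⟨g, hg⟩).2) (fun y => ?_)
    obtain ⟨x, hx, hx', rfl⟩ := hχ.exists_eq y
    have hφ : conjHom P g ⟨x, hx⟩ ∈ S := S.mul_mem (S.mul_mem hg x.2) (S.inv_mem hg)
    rw [hχ.2 x hx hx' hφ]
    have e : (⟨conjHom P g ⟨x, hx⟩, hφ⟩ : S) = ⟨g, hg⟩ * x * ⟨g, hg⟩⁻¹ := Subtype.ext rfl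
    rw [e, map_mul, map_mul, map_inv]
    rfl
  comp_mem := by
    rintro P Q φ ψ ⟨hφ, hφ'⟩ ⟨hψ, hψ'⟩ h
    refine ⟨E.comp_mem hφ hψ h, fun α hα P' χ hχ => ?_⟩
    have hφS : ∀ x, φ x ∈ S := (E.le_of_mem hφ).2
    have hψS : ∀ x, ψ x ∈ S := (E.le_of_mem hψ).2
    have hQS : Q ≤ S := (E.le_of_mem hψ).1
    obtain ⟨φ₁, hφ₁⟩ := exists_isTr α φ hφS hχ.1
    have hφ₁E := hφ' α hα P' φ₁ hφ₁
    obtain ⟨ψ₁, hψ₁⟩ := exists_isTr α (P' := imgT α Q) ψ hψS (fun y => mem_imgT_iff α Q y)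
    have hψ₁E := hψ' α hα _ ψ₁ hψ₁
    have hval : ∀ y : P', φ₁ y ∈ imgT α Q := by
      intro y
      obtain ⟨x, hx, hx', rfl⟩ := hφ₁.exists_eq y
      rw [hφ₁.2 x hx hx' (hφS _)]
      exact apply_mem_imgT α _ (h _)
    refine mem_of_eq E (E.comp_mem hφ₁E hψ₁E hval) (fun y => ?_)
    obtain ⟨x, hx, hx', rfl⟩ := hχ.exists_eq y
    have h1 : (ψ.comp (φ.codRestrict Q h)) ⟨x, hx⟩ ∈ S := hψS _
    rw [hχ.2 x hx hx' h1]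
    show _ = ψ₁ ⟨φ₁ ⟨α x, hx'⟩, hval _⟩
    have e1 := hφ₁.2 x hx hx' (hφS _)
    have hm : ((α ⟨φ ⟨x, hx⟩, hφS _⟩ : S) : Ω) ∈ imgT α Q := apply_mem_imgT α _ (h _)
    have e2 : (⟨φ₁ ⟨α x, hx'⟩, hval _⟩ : imgT α Q) = ⟨((α ⟨φ ⟨x, hx⟩, hφS _⟩ : S) : Ω), hm⟩ := Subtype.ext e1
    rw [e2, hψ₁.2 ⟨φ ⟨x, hx⟩, hφS _⟩ (h _) hm (hψS _)]
    rfl
  inv_mem := by
    rintro P φ ⟨hφ, hφ'⟩
    have hPS : P ≤ S := (E.le_of_mem hφ).1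
    have hφS : ∀ x, φ x ∈ S := (E.le_of_mem hφ).2
    obtain ⟨ρ, hρ, hρx⟩ := E.inv_mem hφ
    refine ⟨ρ, ⟨hρ, fun α hα P'' χ hχ => ?_⟩, hρx⟩
    obtain ⟨φ₁, hφ₁⟩ := exists_isTr α (P' := imgT α P) φ hφS (fun y => mem_imgT_iff α P y)
    have hφ₁E := hφ' α hα _ φ₁ hφ₁
    obtain ⟨ρ₁, hρ₁, hρ₁x⟩ := E.inv_mem hφ₁E
    have hEq : φ₁.range = P'' := by
      ext y
      rw [hχ.1 y]
      constructor
      · rintro ⟨z, rfl⟩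
        obtain ⟨x, hx, hx', rfl⟩ := hφ₁.exists_eq z
        exact ⟨⟨φ ⟨x, hx⟩, hφS _⟩, ⟨⟨x, hx⟩, rfl⟩, (hφ₁.2 x hx hx' (hφS _)).symm⟩
      · rintro ⟨z, ⟨x, hxz⟩, rfl⟩
        have hx' : ((α ⟨x, hPS x.2⟩ : S) : Ω) ∈ imgT α P := apply_mem_imgT α _ x.2
        refine ⟨⟨α ⟨x, hPS x.2⟩, hx'⟩, ?_⟩
        rw [hφ₁.2 ⟨x, hPS x.2⟩ x.2 hx' (hφS _)]
        congr 2
        exact Subtype.ext hxz
    obtain ⟨ρ₂, hρ₂, hρ₂x⟩ := exists_hom_of_eq E hEq hρ₁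
    refine mem_of_eq E hρ₂ (fun y => ?_)
    obtain ⟨z, ⟨x, hxz⟩, hz', rfl⟩ := hχ.exists_eq y
    have hρS : ρ ⟨z, ⟨x, hxz⟩⟩ ∈ S := (E.le_of_mem hρ).2 _
    rw [hχ.2 z ⟨x, hxz⟩ hz' hρS]
    have hx' : ((α ⟨x, hPS x.2⟩ : S) : Ω) ∈ imgT α P := apply_mem_imgT α _ x.2
    have e1 : ((α z : S) : Ω) = φ₁ ⟨α ⟨x, hPS x.2⟩, hx'⟩ := by
      rw [hφ₁.2 ⟨x, hPS x.2⟩ x.2 hx' (hφS _)]
      congr 2
      exact Subtype.ext hxz.symm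
    have hA : ((α z : S) : Ω) ∈ φ₁.range := by rw [e1]; exact ⟨_, rfl⟩
    rw [hρ₂x _ hA hz']
    have e2 : (⟨((α z : S) : Ω), hA⟩ : φ₁.range) = ⟨φ₁ ⟨α ⟨x, hPS x.2⟩, hx'⟩, ⟨_, rfl⟩⟩ := Subtype.ext e1
    rw [e2, hρ₁x]
    show ((α ⟨ρ ⟨z, ⟨x, hxz⟩⟩, hρS⟩ : S) : Ω) = ((α ⟨x, hPS x.2⟩ : S) : Ω)
    congr 2
    apply Subtype.ext
    show ρ ⟨z, ⟨x, hxz⟩⟩ = x
    have e3 : (⟨(z : Ω), ⟨x, hxz⟩⟩ : φ.range) = ⟨φ x, ⟨x, rfl⟩⟩ := Subtype.ext hxz.symm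
    rw [e3, hρx]

end Cfsg.Agent.Helper88.FS
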