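import Cfsg.Agent.Helper88.CtrlMain
import Cfsg.Agent.Helper33.KInfChar
import Cfsg.Agent.Helper33.KInfUpperTransferSylow
import Cfsg.Agent.Helper87.FusionNormal
set_option autoImplicit false

/-! # For `p ≥ 5`, a saturated fusion system whose automizer of `S` is a `p`-group has a proper focal subgroup

The upper K-infinity functor controls transfer (S5197 with Glauberman's theorem S1993 as the local hypothesis); an
induction on `|S|` through the factor system modulo `K^∞(S)` then gives `foc(F) < S`. -/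

namespace Cfsg.Agent.Helper88.Ctrl

universe u

open Cfsg Cfsg.FusionSystem Cfsg.Agent.Helper87 Cfsg.Agent.Helper51.FusWC

open scoped commutatorElement

section cast

variable {Ω : Type*} [Group Ω]

theorem castSystem_isSaturated {S S' : Subgroup Ω} (h : S' = S) (E : FusionSystem S') (p : ℕ) :
    (castSystem h E).IsSaturated p ↔ E.IsSaturated p := by
  subst h
  rfl

theorem castSystem_focalSubgroup {S S' : Subgroup Ω} (h : S' = S) (E : FusionSystem S') :
    (castSystem h E).focalSubgroup = E.focalSubgroup := by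
  subst h
  rfl

theorem castSystem_isNormal {S S' : Subgroup Ω} (h : S' = S) (E : FusionSystem S') (Q : Subgroup Ω) :
    (castSystem h E).IsNormal Q ↔ E.IsNormal Q := by
  subst h
  rfl

end cast

section lemmas

variable {Ω : Type u} [Group Ω] {S : Subgroup Ω} {p : ℕ}

/-- If `S` itself is normal in the system and `Aut_F(S)` is a `p`-group, the focal subgroup is proper. -/
theorem focal_lt_of_top_normal [Finite S] [Fact p.Prime] (hS : IsPGroup p S) (F : FusionSystem S)
    (hF : F.IsSaturated p) (hSn : F.IsNormal S) (hS1 : S ≠ ⊥) (haut : IsPGroup p ↥(F.autGroup S)) :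
    ¬ S ≤ F.focalSubgroup := by
  obtain ⟨-, hfa⟩ := fullyAutomized_fullyCentralized_of_fullyNormalized hS F hF (isFullyNormalized_self F)
  have hle : F.focalSubgroup ≤ (commutator ↥S).map S.subtype := by
    unfold focalSubgroup
    rw [Subgroup.closure_le]
    rintro y ⟨P, φ, x, hφ, rfl⟩
    obtain ⟨ψ, hψ, hψφ, -⟩ := hSn.2 P φ hφ
    have hPS : P ≤ S := (F.le_of_mem hφ).1
    have hle : S ≤ P ⊔ S := le_sup_right
    have hψS : ψ.comp (Subgroup.inclusion hle) ∈ F.Hom S := restrict_mem F hψ hle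
    have hval : ∀ s : S, (ψ.comp (Subgroup.inclusion hle)) s ∈ S := (F.le_of_mem hψS).2
    have hinj : Function.Injective ((ψ.comp (Subgroup.inclusion hle)).codRestrict S hval) := by
      intro a b hab
      exact F.injective_of_mem hψS (congrArg Subtype.val hab)
    let α : MulAut S := MulEquiv.ofBijective ((ψ.comp (Subgroup.inclusion hle)).codRestrict S hval)
      ⟨hinj, Finite.injective_iff_surjective.mp hinj⟩
    have hα : α ∈ F.autGroup S := by
      rw [mem_autGroup_iff F le_rfl]
      exact mem_of_eq F hψS (fun x => rfl)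
    obtain ⟨g, hg, hgx⟩ := exists_conj_of_fullyAutomized_of_isPGroup F hfa haut α hα
    have h1 : φ x = g * x * g⁻¹ := by
      rw [← hψφ x]
      exact hgx ⟨x, hPS x.2⟩
    rw [h1]
    refine ⟨⁅(⟨x, hPS x.2⟩ : S)⁻¹, ⟨g, hg⟩⁆, ?_, ?_⟩
    · rw [SetLike.mem_coe, commutator_def]
      exact Subgroup.commutator_mem_commutator (Subgroup.mem_top _) (Subgroup.mem_top _)
    · rw [commutatorElement_def]
      simp only [Subgroup.subtype_apply, Subgroup.coe_mul, Subgroup.coe_inv, inv_inv]
      group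
  intro hSf
  have hnt : Nontrivial ↥S := (Subgroup.nontrivial_iff_ne_bot S).mpr hS1
  have hnil : Group.IsNilpotent ↥S := hS.isNilpotent
  have hlt : commutator ↥S < ⊤ := Group.IsSolvable.commutator_lt_top_of_nontrivial ↥S
  apply hlt.ne
  rw [eq_top_iff]
  intro s _
  obtain ⟨c, hc, hcs⟩ := hle (hSf s.2)
  have : c = s := Subtype.ext hcs
  rw [← this]
  exact hc

/-- The induction step through the factor system modulo a normal subgroup `K`. -/
theorem focal_lt_of_normal_lt [Finite S] [Fact p.Prime] (hS : IsPGroup p S) (F : FusionSystem S)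
    (hF : F.IsSaturated p) {K : Subgroup Ω} (hK : F.IsNormal K) (hKne : K ≠ ⊥) (hKlt : K < S)
    (haut : IsPGroup p ↥(F.autGroup S))
    (IH : ∀ (Ω' : Type u) [Group Ω'] (S' : Subgroup Ω') [Finite S'], IsPGroup p S' →
      Nat.card S' < Nat.card S → ∀ F' : FusionSystem S', F'.IsSaturated p → S' ≠ ⊥ →
      IsPGroup p ↥(F'.autGroup S') → ¬ S' ≤ F'.focalSubgroup) :
    ¬ S ≤ F.focalSubgroup := by
  have hsc := stronglyClosed_of_isNormal F hK
  have hKS : K ≤ S := hK.1
  have hSK : S ≤ Subgroup.normalizer (K : Set Ω) := le_normalizer_of_stronglyClosed F hsc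
  have hKn : (K.subgroupOf S).Normal := normal_subgroupOf_of_le_normalizer hSK
  obtain ⟨E, hE⟩ := Cfsg.Agent.S5132.result p hS F K hsc
  have hsurj := Cfsg.Agent.S5134.result p hS F hF K hsc _ E hE
  have hEsat := Cfsg.Agent.S5133.result p hS F hF E _ hsurj
  set θ : S →* S ⧸ K.subgroupOf S := QuotientGroup.mk' (K.subgroupOf S) with hθ
  have hθsurj : Function.Surjective θ := QuotientGroup.mk'_surjective _
  obtain ⟨-, hker, -, hhom⟩ := hE
  obtain ⟨hmor, -, -⟩ := hsurj
  have hQp : IsPGroup p (S ⧸ K.subgroupOf S) := hS.to_quotient _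
  have hTp : IsPGroup p ↥(⊤ : Subgroup (S ⧸ K.subgroupOf S)) := hQp.to_subgroup _
  have hfinK : Finite K := finite_of_le hKS
  have hcardK : Nat.card (K.subgroupOf S) = Nat.card K :=
    Nat.card_congr (Subgroup.subgroupOfEquivOfLe hKS).toEquiv
  have hcard : Nat.card ↥(⊤ : Subgroup (S ⧸ K.subgroupOf S)) < Nat.card S := by
    rw [Subgroup.card_top]
    have h1 := Subgroup.card_eq_card_quotient_mul_card_subgroup (K.subgroupOf S)
    rw [hcardK] at h1
    have h2 : 1 < Nat.card K := (Subgroup.one_lt_card_iff_ne_bot K).mpr hKne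
    have h3 : 0 < Nat.card (S ⧸ K.subgroupOf S) := Nat.card_pos
    rw [h1]
    nlinarith
  have hTne : (⊤ : Subgroup (S ⧸ K.subgroupOf S)) ≠ ⊥ := by
    intro h
    obtain ⟨s, hsS, hsK⟩ := SetLike.exists_of_lt hKlt
    apply hsK
    have h1 : θ ⟨s, hsS⟩ ∈ (⊤ : Subgroup (S ⧸ K.subgroupOf S)) := Subgroup.mem_top _
    rw [h, Subgroup.mem_bot] at h1
    exact (hker _).mp h1
  -- the automizer of the quotient is a `p`-group
  have hautE : IsPGroup p ↥(E.autGroup (⊤ : Subgroup (S ⧸ K.subgroupOf S))) := by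
    intro β
    have hβ := (mem_autGroup_iff E le_rfl _).mp β.2
    obtain ⟨-, φ, hφ, hPS, hφS, hP', hind⟩ := (hhom _ _).mp hβ
    have hle : S ≤ preimageAlong θ (⊤ : Subgroup (S ⧸ K.subgroupOf S)) := by
      intro s hs
      rw [Helper85.mem_preimageAlong]
      exact ⟨hs, Subgroup.mem_top _⟩
    have hφ' : φ.comp (Subgroup.inclusion hle) ∈ F.Hom S := restrict_mem F hφ hle
    have hval : ∀ s : S, (φ.comp (Subgroup.inclusion hle)) s ∈ S := (F.le_of_mem hφ').2
    have hinj : Function.Injective ((φ.comp (Subgroup.inclusion hle)).codRestrict S hval) := by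
      intro a b hab
      exact F.injective_of_mem hφ' (congrArg Subtype.val hab)
    let α : MulAut S := MulEquiv.ofBijective ((φ.comp (Subgroup.inclusion hle)).codRestrict S hval)
      ⟨hinj, Finite.injective_iff_surjective.mp hinj⟩
    have hα : α ∈ F.autGroup S := by
      rw [mem_autGroup_iff F le_rfl]
      exact mem_of_eq F hφ' (fun x => rfl)
    obtain ⟨k, hk⟩ := haut ⟨α, hα⟩
    have hk' : α ^ p ^ k = 1 := by
      have := congrArg Subtype.val hk
      rwa [Subgroup.coe_pow] at this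
    -- `β` is induced by `α`
    have hβα : ∀ s : S, ((β : MulAut ↥(⊤ : Subgroup (S ⧸ K.subgroupOf S))) ⟨θ s, Subgroup.mem_top _⟩ :
        S ⧸ K.subgroupOf S) = θ (α s) := by
      intro s
      have := hind ⟨s, hle s.2⟩
      exact this
    have hpow : ∀ (m : ℕ) (s : S),
        (((β : MulAut ↥(⊤ : Subgroup (S ⧸ K.subgroupOf S))) ^ m) ⟨θ s, Subgroup.mem_top _⟩ :
          S ⧸ K.subgroupOf S) = θ ((α ^ m) s) := by
      intro m
      induction m with
      | zero => intro s; rfl
      | succ m ih =>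
        intro s
        rw [pow_succ', pow_succ', MulAut.mul_apply, MulAut.mul_apply]
        have e : ((β : MulAut ↥(⊤ : Subgroup (S ⧸ K.subgroupOf S))) ^ m) ⟨θ s, Subgroup.mem_top _⟩ =
            ⟨θ ((α ^ m) s), Subgroup.mem_top _⟩ := Subtype.ext (ih s)
        rw [e]
        exact hβα _
    refine ⟨k, ?_⟩
    apply Subtype.ext
    rw [Subgroup.coe_pow]
    ext ⟨y, hy⟩
    obtain ⟨s, rfl⟩ := hθsurj y
    rw [hpow (p ^ k) s, hk']
    rfl
  have hnot := IH _ ⊤ hTp hcard E hEsat hTne hautE
  intro hSf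
  apply hnot
  -- the image of the focal subgroup lies in the focal subgroup of the quotient
  have hfoc : F.focalSubgroup ≤ preimageAlong θ E.focalSubgroup := by
    unfold focalSubgroup
    rw [Subgroup.closure_le]
    rintro y ⟨P, φ, x, hφ, rfl⟩
    obtain ⟨φ', hφ', hPS, hφS, hP', hindφ⟩ := hmor.2 P φ hφ
    rw [SetLike.mem_coe, Helper85.mem_preimageAlong]
    refine ⟨S.mul_mem (S.inv_mem (hPS x.2)) (hφS x), ?_⟩
    have e1 : (⟨(x : Ω)⁻¹ * φ x, S.mul_mem (S.inv_mem (hPS x.2)) (hφS x)⟩ : S) =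
        (⟨x, hPS x.2⟩ : S)⁻¹ * ⟨φ x, hφS x⟩ := Subtype.ext rfl
    rw [e1, map_mul, map_inv, ← hindφ x]
    exact Subgroup.subset_closure ⟨_, φ', ⟨θ ⟨x, hPS x.2⟩, hP' x⟩, hφ', rfl⟩
  intro y _
  obtain ⟨s, rfl⟩ := hθsurj y
  have h1 := hfoc (hSf s.2)
  rw [Helper85.mem_preimageAlong] at h1
  obtain ⟨_, h2⟩ := h1
  exact h2

end lemmas

section main

variable {p : ℕ}

/-- The local hypothesis of S5197 for the upper K-infinity functor, from Glauberman's theorem (S1993). -/
theorem kInfUpper_local [Fact p.Prime] (hp5 : 5 ≤ p) (G : Type u) [Group G] [Finite G] (P : Sylow p G) :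
    Cfsg.pCore p G ⊓ commutator G = Cfsg.pCore p G ⊓
      (commutator ↥(Subgroup.normalizer (((Cfsg.kInfUpper ↥(P : Subgroup G)).map
        (P : Subgroup G).subtype : Subgroup G) : Set G))).map
        (Subgroup.normalizer (((Cfsg.kInfUpper ↥(P : Subgroup G)).map
          (P : Subgroup G).subtype : Subgroup G) : Set G)).subtype := by
  have h := Cfsg.Agent.Helper33.kInfUpper_transfer_sylow hp5 P
  rw [Subgroup.map_subtype_commutator]
  have hle : Cfsg.pCore p G ≤ (P : Subgroup G) := Cfsg.Agent.Lib.pCore_le_sylow P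
  have e1 : Cfsg.pCore p G ⊓ commutator G = Cfsg.pCore p G ⊓ ((P : Subgroup G) ⊓ commutator G) := by
    rw [← inf_assoc, inf_eq_left.mpr hle]
  rw [e1, h, ← inf_assoc, inf_eq_left.mpr hle]
  rfl

/-- **`p ≥ 5`, `Aut_F(S)` a `p`-group: the focal subgroup is proper.** -/
theorem focal_lt_main [Fact p.Prime] (hp5 : 5 ≤ p) :
    ∀ (n : ℕ) (Ω : Type u) [Group Ω] (S : Subgroup Ω) [Finite S], IsPGroup p S → Nat.card S = n →
      ∀ F : FusionSystem S, F.IsSaturated p → S ≠ ⊥ → IsPGroup p ↥(F.autGroup S) →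
        ¬ S ≤ F.focalSubgroup := by
  intro n
  induction n using Nat.strong_induction_on with
  | _ n IHn =>
  intro Ω _ S _ hS hn F hF hS1 haut
  obtain ⟨hW1, hW2⟩ := Cfsg.Agent.Helper33.isCharPFunctor_kInfUpper.{u} p
  have hT : ∀ (G : Type u) [Group G] [Finite G] (P : Sylow p G),
      Subgroup.centralizer ((Cfsg.pCore p G : Subgroup G) : Set G) ≤ Cfsg.pCore p G →
      Cfsg.pCore p G ⊓ commutator G = Cfsg.pCore p G ⊓
        (commutator ↥(Subgroup.normalizer (((Cfsg.kInfUpper ↥(P : Subgroup G)).map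
          (P : Subgroup G).subtype : Subgroup G) : Set G))).map
          (Subgroup.normalizer (((Cfsg.kInfUpper ↥(P : Subgroup G)).map
            (P : Subgroup G).subtype : Subgroup G) : Set G)).subtype :=
    fun G _ _ P _ => kInfUpper_local hp5 G P
  set W : ∀ (Q : Type u) [Group Q], Subgroup Q := fun Q _ => Cfsg.kInfUpper Q with hW
  have hctrl := ctrl_main W hW1 hW2 hT (Nat.card S) Ω S hS rfl F hF
  have hKS : Wf W S ≤ S := Wf_le W S
  have hSK : S ≤ Subgroup.normalizer ((Wf W S : Subgroup Ω) : Set Ω) :=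
    Subgroup.le_normalizer.trans (normalizer_le_normalizer_Wf W hW2 S hS)
  have hKne : Wf W S ≠ ⊥ := Wf_ne_bot W hW1 hS hS1
  obtain ⟨E, hE⟩ := Cfsg.Agent.S5096.result F (Wf W S) hKS
  have hfoc : E.focalSubgroup = F.focalSubgroup := focal_eq_of_ctrl W F hctrl E hE
  have hfn := isFullyNormalized_of_le_normalizer F hKS hSK
  have hEsat := Cfsg.Agent.S5098.result p hS F hF _ hfn E hE
  have hN : normalizerIn S (Wf W S) = S := normalizerIn_eq_of_le_normalizer hSK
  have hEn : E.IsNormal (Wf W S) := isNormal_normalizerSystem F hKS E hE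
  -- cast to a system over `S`
  have hE'sat : (castSystem hN E).IsSaturated p := (castSystem_isSaturated hN E p).mpr hEsat
  have hE'n : (castSystem hN E).IsNormal (Wf W S) := (castSystem_isNormal hN E _).mpr hEn
  have hE'foc : (castSystem hN E).focalSubgroup = F.focalSubgroup := by
    rw [castSystem_focalSubgroup, hfoc]
  have hE'aut : IsPGroup p ↥((castSystem hN E).autGroup S) := by
    have hle : (castSystem hN E).autGroup S ≤ F.autGroup S := by
      unfold autGroup
      apply Subgroup.closure_mono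
      intro α hα
      have hα' : S.subtype.comp α.toMonoidHom ∈ (castSystem hN E).Hom S := hα
      rw [castSystem_hom, hE S] at hα'
      exact hα'.1
    exact haut.to_le hle
  rw [← hE'foc]
  by_cases hKeq : Wf W S = S
  · have aux : ∀ Q : Subgroup Ω, Q = S → (castSystem hN E).IsNormal Q → (castSystem hN E).IsNormal S :=
      fun Q hQ h => hQ ▸ h
    exact focal_lt_of_top_normal hS _ hE'sat (aux _ hKeq hE'n) hS1 hE'aut
  · have hKlt : Wf W S < S := lt_of_le_of_ne hKS hKeq
    refine focal_lt_of_normal_lt hS _ hE'sat hE'n hKne hKlt hE'aut ?_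
    intro Ω' _ S' _ hS' hlt F' hF' hS'1 haut'
    exact IHn (Nat.card S') (by omega) Ω' S' hS' rfl F' hF' hS'1 haut'

end main

end Cfsg.Agent.Helper88.Ctrl
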