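import Cfsg.Agent.Helper88.Marks
set_option autoImplicit false
set_option linter.style.haveILetI false

/-! # Marks of a multiset of orbit types, the congruence lemma and the abstract induction step -/

namespace Cfsg.Agent.Helper88.Marks

open MulAction

variable {G : Type*} [Group G]

/-- The mark at `K` of the `G`-set with `m D` orbits of type `G ⧸ D`. -/
noncomputable def mark (m : Subgroup G →₀ ℕ) (K : Subgroup G) : ℕ :=
  m.sum (fun D c => c * fixCard (G ⧸ D) K)

theorem mark_zero (K : Subgroup G) : mark (0 : Subgroup G →₀ ℕ) K = 0 := by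
  unfold mark; simp

theorem mark_add (m m' : Subgroup G →₀ ℕ) (K : Subgroup G) : mark (m + m') K = mark m K + mark m' K := by
  unfold mark
  apply Finsupp.sum_add_index'
  · intro D; simp
  · intro D a b; ring

theorem mark_single (D : Subgroup G) (c : ℕ) (K : Subgroup G) :
    mark (Finsupp.single D c) K = c * fixCard (G ⧸ D) K := by
  unfold mark
  rw [Finsupp.sum_single_index]
  simp

theorem mark_finset_sum {ι : Type*} (s : Finset ι) (f : ι → (Subgroup G →₀ ℕ)) (K : Subgroup G) :
    mark (∑ i ∈ s, f i) K = ∑ i ∈ s, mark (f i) K := by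
  classical
  induction s using Finset.induction_on with
  | empty => simp [mark_zero]
  | insert a s ha ih => rw [Finset.sum_insert ha, Finset.sum_insert ha, mark_add, ih]

theorem mark_cj (m : Subgroup G →₀ ℕ) (g : G) (K : Subgroup G) : mark m (cj g K) = mark m K := by
  unfold mark
  apply Finsupp.sum_congr
  intro D _
  rw [fixCard_cj]

/-- A nonzero mark at `K` forces `K` to be subconjugate to a member of the support. -/
theorem exists_le_cj_of_mark_ne_zero (m : Subgroup G →₀ ℕ) (K : Subgroup G) (h : mark m K ≠ 0) :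
    ∃ D ∈ m.support, ∃ g : G, K ≤ cj g D := by
  by_contra hcon
  have hcon : ∀ D ∈ m.support, ∀ g : G, ¬ K ≤ cj g D := by
    intro D hD g hle
    exact hcon ⟨D, hD, g, hle⟩
  apply h
  unfold mark
  apply Finset.sum_eq_zero
  intro D hD
  have : fixCard (G ⧸ D) K = 0 := fixCard_quotient_eq_zero_of_not_le D K (fun g => hcon D hD g)
  show m D * fixCard (G ⧸ D) K = 0
  rw [this, mul_zero]

/-- Orbit counting divisibility for marks. -/
theorem card_dvd_sum_mark [Finite G] {N : Type*} [Group N] [Fintype N] (θ : N →* G) (m : Subgroup G →₀ ℕ)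
    (D : Subgroup G) (hθ : ∀ n, θ n ∈ Subgroup.normalizer (D : Set G)) :
    Fintype.card N ∣ ∑ n : N, mark m (D ⊔ Subgroup.zpowers (θ n)) := by
  unfold mark Finsupp.sum
  rw [Finset.sum_comm]
  apply Finset.dvd_sum
  intro D' _
  rw [← Finset.mul_sum]
  exact Dvd.dvd.mul_left (card_dvd_sum_fixCard θ (G ⧸ D') D hθ) _

/-- **Congruence lemma.** Two subgroups `D₁, D₂` normalized by the images of `N` under `θ₁, θ₂`, with the same
preimage `E` in `N`, and with equal marks at `⟨D₁, θ₁ n⟩` and `⟨D₂, θ₂ n⟩` for all `n ∉ E`, have marks congruent modulo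
`|N : E|`. -/
theorem mark_modEq [Finite G] {N : Type*} [Group N] [Fintype N] (θ₁ θ₂ : N →* G) (m : Subgroup G →₀ ℕ)
    (D₁ D₂ : Subgroup G) (hθ₁ : ∀ n, θ₁ n ∈ Subgroup.normalizer (D₁ : Set G))
    (hθ₂ : ∀ n, θ₂ n ∈ Subgroup.normalizer (D₂ : Set G))
    (E : Subgroup N) (hE₁ : ∀ n, θ₁ n ∈ D₁ ↔ n ∈ E) (hE₂ : ∀ n, θ₂ n ∈ D₂ ↔ n ∈ E)
    (hm : ∀ n, n ∉ E → mark m (D₁ ⊔ Subgroup.zpowers (θ₁ n)) = mark m (D₂ ⊔ Subgroup.zpowers (θ₂ n))) :
    mark m D₁ ≡ mark m D₂ [MOD (Fintype.card N / Nat.card E)] := by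
  classical
  have h1 := card_dvd_sum_mark θ₁ m D₁ hθ₁
  have h2 := card_dvd_sum_mark θ₂ m D₂ hθ₂
  have hsplit : ∀ (θ : N →* G) (D : Subgroup G), (∀ n, θ n ∈ D ↔ n ∈ E) →
      ∑ n : N, mark m (D ⊔ Subgroup.zpowers (θ n)) =
        Nat.card E * mark m D + ∑ n ∈ Finset.univ.filter (fun n : N => n ∉ E),
          mark m (D ⊔ Subgroup.zpowers (θ n)) := by
    intro θ D hE
    rw [← Finset.sum_filter_add_sum_filter_not Finset.univ (fun n : N => n ∈ E)]
    congr 1
    have : ∀ n ∈ Finset.univ.filter (fun n : N => n ∈ E), mark m (D ⊔ Subgroup.zpowers (θ n)) = mark m D := by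
      intro n hn
      rw [Finset.mem_filter] at hn
      have hmem : θ n ∈ D := (hE n).mpr hn.2
      have : D ⊔ Subgroup.zpowers (θ n) = D := by
        rw [sup_eq_left, Subgroup.zpowers_le]; exact hmem
      rw [this]
    rw [Finset.sum_congr rfl this, Finset.sum_const, smul_eq_mul]
    congr 1
    rw [Nat.card_eq_fintype_card, Fintype.card_subtype]
  rw [hsplit θ₁ D₁ hE₁] at h1
  rw [hsplit θ₂ D₂ hE₂] at h2
  have hR : ∑ n ∈ Finset.univ.filter (fun n : N => n ∉ E), mark m (D₁ ⊔ Subgroup.zpowers (θ₁ n)) =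
      ∑ n ∈ Finset.univ.filter (fun n : N => n ∉ E), mark m (D₂ ⊔ Subgroup.zpowers (θ₂ n)) := by
    apply Finset.sum_congr rfl
    intro n hn
    rw [Finset.mem_filter] at hn
    exact hm n hn.2
  rw [hR] at h1
  set R := ∑ n ∈ Finset.univ.filter (fun n : N => n ∉ E), mark m (D₂ ⊔ Subgroup.zpowers (θ₂ n))
  -- `|N|` divides `|E| (a - b)`
  have hEN : Nat.card E ∣ Fintype.card N := by
    rw [← Nat.card_eq_fintype_card]; exact Subgroup.card_subgroup_dvd_card E
  obtain ⟨q, hq⟩ := hEN
  have hEpos : 0 < Nat.card E := Nat.card_pos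
  have hdiv : Fintype.card N / Nat.card E = q := by
    rw [hq, Nat.mul_div_cancel_left _ hEpos]
  rw [hdiv]
  have hmod : (Nat.card E * mark m D₁ + R) ≡ (Nat.card E * mark m D₂ + R) [MOD Fintype.card N] := by
    have e1 : (Nat.card E * mark m D₁ + R) ≡ 0 [MOD Fintype.card N] := (Nat.modEq_zero_iff_dvd).mpr h1
    have e2 : (Nat.card E * mark m D₂ + R) ≡ 0 [MOD Fintype.card N] := (Nat.modEq_zero_iff_dvd).mpr h2
    exact e1.trans e2.symm
  have hmod2 : Nat.card E * mark m D₁ ≡ Nat.card E * mark m D₂ [MOD Fintype.card N] :=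
    Nat.ModEq.add_right_cancel' R hmod
  rw [hq] at hmod2
  exact Nat.ModEq.mul_left_cancel' hEpos.ne' hmod2


section Step

variable [Finite G]

theorem fixCard_le (X : Type*) [MulAction G X] [Finite X] (K : Subgroup G) : fixCard X K ≤ Nat.card X :=
  Nat.card_le_card_of_injective Subtype.val Subtype.val_injective

/-- The total number of points. -/
noncomputable def total (m : Subgroup G →₀ ℕ) : ℕ := m.sum (fun D c => c * Nat.card (G ⧸ D))

theorem mark_le_total (m : Subgroup G →₀ ℕ) (K : Subgroup G) : mark m K ≤ total m := by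
  unfold mark total Finsupp.sum
  apply Finset.sum_le_sum
  intro D _
  exact Nat.mul_le_mul_left _ (fixCard_le _ K)

theorem mark_eq_zero_of_card_lt (m : Subgroup G →₀ ℕ) (K : Subgroup G)
    (h : ∀ D ∈ m.support, Nat.card D < Nat.card K) : mark m K = 0 := by
  unfold mark Finsupp.sum
  apply Finset.sum_eq_zero
  intro D hD
  show m D * fixCard (G ⧸ D) K = 0
  rw [fixCard_quotient_eq_zero_of_card_lt D K (h D hD), mul_zero]

/-- The conjugacy class of a subgroup. -/
def cls (D : Subgroup G) : Set (Subgroup G) := {D' | ∃ g : G, D' = cj g D}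

theorem cls_cj (g : G) (D : Subgroup G) : cls (cj g D) = cls D := by
  ext D'
  constructor
  · rintro ⟨h, rfl⟩
    exact ⟨h * g, (cj_mul h g D).symm⟩
  · rintro ⟨h, rfl⟩
    refine ⟨h * g⁻¹, ?_⟩
    rw [cj_mul, cj_inv_cj]

/-- A chosen representative of the conjugacy class. -/
noncomputable def rep (D : Subgroup G) : Subgroup G :=
  Set.Nonempty.some (show (cls D).Nonempty from ⟨D, 1, (cj_one D).symm⟩)

theorem rep_mem_cls (D : Subgroup G) : rep D ∈ cls D := Set.Nonempty.some_mem _

theorem rep_cj (g : G) (D : Subgroup G) : rep (cj g D) = rep D := by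
  have key : ∀ (s t : Set (Subgroup G)) (hs : s.Nonempty) (ht : t.Nonempty), s = t → hs.some = ht.some := by
    intro s t hs ht h; subst h; rfl
  exact key _ _ _ _ (cls_cj g D)

theorem rep_rep (D : Subgroup G) : rep (rep D) = rep D := by
  obtain ⟨g, hg⟩ := rep_mem_cls D
  have := rep_cj g D
  rw [← hg] at this
  exact this

open Classical in
/-- **Abstract induction step.** -/
theorem exists_step (k : ℕ) (T : Set (Subgroup G)) (hTk : ∀ D ∈ T, Nat.card D = k)
    (hTcj : ∀ D ∈ T, ∀ g : G, cj g D ∈ T)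
    (star : Subgroup G → Subgroup G) (hstar_cj : ∀ D ∈ T, ∀ g : G, star (cj g D) = star D)
    (m : Subgroup G →₀ ℕ) (hdvd : ∀ D ∈ T, wt D ∣ wt (star D))
    (hcong : ∀ D ∈ T, mark m D ≡ mark m (star D) [MOD wt D]) :
    ∃ a : Subgroup G →₀ ℕ,
      (∀ R : Subgroup G, a R = if R ∈ T ∧ rep R = R then
        (mark m (star R) + wt (star R) * (total m + 1) - mark m R) / wt R else 0) ∧
      (∀ D ∈ T, mark (m + a) D = mark m (star D) + wt (star D) * (total m + 1)) := by
  classical
  haveI : Fintype (Subgroup G) := Fintype.ofFinite _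
  set gval : Subgroup G → ℕ := fun D => mark m (star D) + wt (star D) * (total m + 1) with hgval
  set c : Subgroup G → ℕ := fun D => (gval D - mark m D) / wt D with hc
  have hle : ∀ D ∈ T, mark m D ≤ gval D := by
    intro D _
    have h1 : mark m D ≤ total m := mark_le_total m D
    have h2 : 1 ≤ wt (star D) := wt_pos _
    have h3 : total m + 1 ≤ wt (star D) * (total m + 1) := Nat.le_mul_of_pos_left _ h2
    simp only [hgval]
    omega
  have hmul : ∀ D ∈ T, c D * wt D = gval D - mark m D := by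
    intro D hD
    apply Nat.div_mul_cancel
    have h1 : gval D ≡ mark m (star D) [MOD wt D] := by
      have : wt (star D) * (total m + 1) ≡ 0 [MOD wt D] :=
        (Nat.modEq_zero_iff_dvd).mpr (Dvd.dvd.mul_right (hdvd D hD) _)
      have h2 := Nat.ModEq.add_left (mark m (star D)) this
      simpa [hgval] using h2
    have h2 : mark m D ≡ gval D [MOD wt D] := (hcong D hD).trans h1.symm
    exact (Nat.modEq_iff_dvd' (hle D hD)).mp h2
  set reps : Finset (Subgroup G) := Finset.univ.filter (fun R => R ∈ T ∧ rep R = R) with hreps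
  refine ⟨∑ R ∈ reps, Finsupp.single R (c R), ?_, ?_⟩
  · intro R
    rw [Finsupp.finsetSum_apply]
    simp only [Finsupp.single_apply]
    rw [Finset.sum_ite_eq']
    by_cases hR : R ∈ T ∧ rep R = R
    · rw [if_pos hR, if_pos (by rw [hreps, Finset.mem_filter]; exact ⟨Finset.mem_univ _, hR⟩)]
    · rw [if_neg hR, if_neg (by rw [hreps, Finset.mem_filter]; exact fun h => hR h.2)]
  · intro D₁ hD₁
    rw [mark_add, mark_finset_sum]
    simp only [mark_single]
    obtain ⟨g, hg⟩ := rep_mem_cls D₁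
    have hR₁T : rep D₁ ∈ T := hg ▸ hTcj D₁ hD₁ g
    have hR₁ : rep D₁ ∈ reps := by
      rw [hreps, Finset.mem_filter]
      exact ⟨Finset.mem_univ _, hR₁T, rep_rep D₁⟩
    rw [Finset.sum_eq_single_of_mem (rep D₁) hR₁]
    · have hD₁' : D₁ = cj g⁻¹ (rep D₁) := by rw [hg, cj_inv_cj]
      have h1 : fixCard (G ⧸ rep D₁) D₁ = wt (rep D₁) := by
        have h0 := fixCard_quotient_cj (rep D₁) g⁻¹
        rwa [← hD₁'] at h0
      rw [h1, hmul (rep D₁) hR₁T]
      have h2 : gval (rep D₁) = gval D₁ := by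
        simp only [hgval]
        rw [hg, hstar_cj D₁ hD₁ g]
      have h3 : mark m (rep D₁) = mark m D₁ := by rw [hg, mark_cj]
      rw [h2, h3]
      have := hle D₁ hD₁
      show mark m D₁ + (gval D₁ - mark m D₁) = gval D₁
      omega
    · intro R hR hne
      rw [hreps, Finset.mem_filter] at hR
      have h0 : fixCard (G ⧸ R) D₁ = 0 := by
        apply fixCard_quotient_of_card_eq R D₁
        · rw [hTk D₁ hD₁, hTk R hR.2.1]
        · intro g' hcon
          apply hne
          rw [← hR.2.2, hcon, rep_cj]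
      rw [h0, mul_zero]

end Step

end Cfsg.Agent.Helper88.Marks
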