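import Mathlib

set_option autoImplicit false

namespace Cfsg.Agent.Helper88

/-- The set of `2^k`-th powers of a group. -/
def powSet (G : Type*) [Group G] (k : ℕ) : Set G := {z | ∃ w : G, w ^ (2 ^ k) = z}

theorem delta_trivial {G : Type*} [Group G] (α : MulAut G) (m : ℕ) (hm : Odd m) (hαm : α ^ m = 1)
    (x δ : G) (hδ : α δ = δ) (hδ2 : δ ^ 2 = 1) (hx : α x = x * δ) : δ = 1 := by
  have key : ∀ j : ℕ, (α ^ j) x = x * δ ^ j := by
    intro j
    induction j with
    | zero => simp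
    | succ j ih =>
      rw [pow_succ', MulAut.mul_apply, ih, map_mul, map_pow, hδ, hx, mul_assoc, ← pow_succ']
  have h1 := key m
  rw [hαm, MulAut.one_apply] at h1
  have h2 : δ ^ m = 1 := by
    have := mul_left_cancel (a := x) (b := 1) (c := δ ^ m) (by rw [mul_one]; exact h1)
    exact this.symm
  obtain ⟨t, rfl⟩ := hm
  rw [pow_succ, pow_mul, hδ2, one_pow, one_mul] at h2
  exact h2

/-- A finite abelian 2-group whose "layers" `Ω₁ ∩ G^{2^k} / Ω₁ ∩ G^{2^{k+1}}` all have order at most 2 has no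
nontrivial automorphism of odd order. -/
theorem odd_aut_trivial {G : Type*} [Group G] (hc : ∀ a b : G, a * b = b * a)
    (K : ℕ) (hK : ∀ g : G, g ^ (2 ^ K) = 1)
    (hD : ∀ k : ℕ, ∀ x y : G, x ^ 2 = 1 → y ^ 2 = 1 → x ∈ powSet G k → y ∈ powSet G k →
      x ∉ powSet G (k + 1) → y ∉ powSet G (k + 1) → x * y⁻¹ ∈ powSet G (k + 1))
    (α : MulAut G) (m : ℕ) (hm : Odd m) (hαm : α ^ m = 1) : ∀ g, α g = g := by
  let _ : CommGroup G := { (inferInstance : Group G) with mul_comm := hc }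
  have hpres : ∀ k x, x ∈ powSet G k → α x ∈ powSet G k := by
    rintro k _ ⟨w, rfl⟩
    exact ⟨α w, by rw [map_pow]⟩
  -- downward induction
  have main : ∀ d : ℕ, ∀ x ∈ powSet G (K - d), α x = x := by
    intro d
    induction d with
    | zero =>
      rintro _ ⟨w, rfl⟩
      rw [Nat.sub_zero, hK, map_one]
    | succ d ih =>
      by_cases hd : K ≤ d
      · have : K - (d + 1) = K - d := by omega
        rw [this]; exact ih
      · have hk : K - d = (K - (d + 1)) + 1 := by omega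
        set k := K - (d + 1) with hkdef
        rw [hk] at ih
        -- step 1: elements of order ≤ 2
        have step1 : ∀ x ∈ powSet G k, x ^ 2 = 1 → α x = x := by
          intro x hx hx2
          by_cases hx1 : x ∈ powSet G (k + 1)
          · exact ih x hx1
          · have hαx1 : α x ∉ powSet G (k + 1) := by
              intro h
              have := ih _ h
              exact hx1 (by rw [α.injective this] at h; exact h)
            have hαx2 : (α x) ^ 2 = 1 := by rw [← map_pow, hx2, map_one]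
            have hδmem := hD k (α x) x hαx2 hx2 (hpres k x hx) hx hαx1 hx1
            have hδ := ih _ hδmem
            have hδ2 : (α x * x⁻¹) ^ 2 = 1 := by rw [mul_pow, hαx2, inv_pow, hx2, inv_one, mul_one]
            have hxδ : α x = x * (α x * x⁻¹) := by rw [mul_comm (α x), mul_inv_cancel_left]
            have := delta_trivial α m hm hαm x _ hδ hδ2 hxδ
            rw [this, mul_one] at hxδ
            exact hxδ
        -- step 2
        intro x hx
        obtain ⟨w, rfl⟩ := hx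
        have hx2 : (w ^ 2 ^ k) ^ 2 ∈ powSet G (k + 1) := ⟨w, by rw [pow_succ, pow_mul]⟩
        have hfix2 := ih _ hx2
        have hδ2 : (α (w ^ 2 ^ k) * (w ^ 2 ^ k)⁻¹) ^ 2 = 1 := by
          rw [mul_pow, ← map_pow, hfix2, inv_pow, mul_inv_cancel]
        have hδk : α (w ^ 2 ^ k) * (w ^ 2 ^ k)⁻¹ ∈ powSet G k :=
          ⟨α w * w⁻¹, by rw [mul_pow, map_pow, inv_pow]⟩
        have hδ := step1 _ hδk hδ2
        have hxδ : α (w ^ 2 ^ k) = w ^ 2 ^ k * (α (w ^ 2 ^ k) * (w ^ 2 ^ k)⁻¹) := by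
          rw [mul_comm (α _), mul_inv_cancel_left]
        have := delta_trivial α m hm hαm _ _ hδ hδ2 hxδ
        rw [this, mul_one] at hxδ
        exact hxδ
  intro g
  have := main K g ⟨g, by simp⟩
  exact this

theorem zmod_layer_lift (a k : ℕ) (hak : a ≠ k + 1) (t w : ZMod (2 ^ a)) (h2 : t + t = 0)
    (hw : (2 ^ k) • w = t) : ∃ w' : ZMod (2 ^ a), (2 ^ (k + 1)) • w' = t := by
  have : NeZero (2 ^ a) := ⟨by positivity⟩
  rcases Nat.lt_or_ge k a with hlt | hge
  · -- a ≥ k + 2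
    have ha : k + 2 ≤ a := by omega
    obtain ⟨v, hv⟩ : ∃ v : ℕ, (v : ZMod (2 ^ a)) = w := ⟨w.val, ZMod.natCast_zmod_val w⟩
    have hw' : ((2 ^ k * v : ℕ) : ZMod (2 ^ a)) = t := by
      rw [← hw, Nat.cast_mul, hv, nsmul_eq_mul]
    have h3 : ((2 ^ (k + 1) * v : ℕ) : ZMod (2 ^ a)) = 0 := by
      have : (2 ^ (k + 1) * v : ℕ) = 2 ^ k * v + 2 ^ k * v := by ring
      rw [this, Nat.cast_add, hw', h2]
    rw [ZMod.natCast_eq_zero_iff] at h3
    have h4 : 2 ^ a = 2 ^ (k + 1) * 2 ^ (a - (k + 1)) := by rw [← pow_add]; congr 1; omega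
    rw [h4] at h3
    have h5 : 2 ^ (a - (k + 1)) ∣ v := Nat.dvd_of_mul_dvd_mul_left (by positivity) h3
    have h6 : 2 ∣ v := dvd_trans (dvd_pow_self 2 (by omega)) h5
    obtain ⟨u, hu⟩ := h6
    refine ⟨(u : ZMod (2 ^ a)), ?_⟩
    rw [← hw', hu, nsmul_eq_mul]
    push_cast
    ring
  · -- a ≤ k
    refine ⟨0, ?_⟩
    rw [smul_zero, ← hw, nsmul_eq_mul]
    have : ((2 ^ k : ℕ) : ZMod (2 ^ a)) = 0 := by
      rw [ZMod.natCast_eq_zero_iff]
      exact pow_dvd_pow 2 hge
    rw [this, zero_mul]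

theorem zmod_layer_unique (a k : ℕ) (hak : a = k + 1) (t t' : ZMod (2 ^ a)) (h2 : t + t = 0) (h2' : t' + t' = 0)
    (ht : t ≠ 0) (ht' : t' ≠ 0) : t = t' := by
  subst hak
  have : NeZero (2 ^ (k + 1)) := ⟨by positivity⟩
  have key : ∀ s : ZMod (2 ^ (k + 1)), s + s = 0 → s ≠ 0 → s.val = 2 ^ k := by
    intro s hs hs0
    have h3 : ((2 * s.val : ℕ) : ZMod (2 ^ (k + 1))) = 0 := by
      rw [two_mul, Nat.cast_add, ZMod.natCast_zmod_val, hs]
    rw [ZMod.natCast_eq_zero_iff] at h3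
    have h3' : 2 ^ k * 2 ∣ s.val * 2 := by
      have e : (2 : ℕ) ^ (k + 1) = 2 ^ k * 2 := pow_succ 2 k
      have e' : 2 * s.val = s.val * 2 := mul_comm _ _
      exact e ▸ e' ▸ h3
    have h4 : 2 ^ k ∣ s.val := Nat.dvd_of_mul_dvd_mul_right (by norm_num) h3'
    obtain ⟨u, hu⟩ := h4
    have h5 : s.val < 2 ^ (k + 1) := ZMod.val_lt s
    have h6 : s.val ≠ 0 := by
      intro h
      exact hs0 ((ZMod.val_eq_zero s).mp h)
    have h7 : u < 2 := by
      by_contra h
      have h : 2 ≤ u := by omega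
      have : 2 ^ k * 2 ≤ 2 ^ k * u := Nat.mul_le_mul_left _ h
      have e : (2 : ℕ) ^ (k + 1) = 2 ^ k * 2 := pow_succ 2 k
      omega
    have h8 : u ≠ 0 := by
      rintro rfl
      exact h6 (by rw [hu, mul_zero])
    have : u = 1 := by omega
    rw [hu, this, mul_one]
  apply ZMod.val_injective
  rw [key t h2 ht, key t' h2' ht']


theorem mem_powSet_pi (n : ℕ) (a : Fin n → ℕ) (k : ℕ) (x : Multiplicative ((i : Fin n) → ZMod (2 ^ a i))) :
    x ∈ powSet (Multiplicative ((i : Fin n) → ZMod (2 ^ a i))) k ↔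
      ∀ i, ∃ w : ZMod (2 ^ a i), (2 ^ k) • w = Multiplicative.toAdd x i := by
  constructor
  · rintro ⟨w, rfl⟩ i
    exact ⟨Multiplicative.toAdd w i, by rw [toAdd_pow, Pi.smul_apply]⟩
  · intro h
    choose w hw using h
    refine ⟨Multiplicative.ofAdd w, ?_⟩
    apply Multiplicative.toAdd.injective
    rw [toAdd_pow]
    funext i
    rw [Pi.smul_apply]
    exact hw i

theorem prod_zmod_odd_aut_trivial (n : ℕ) (a : Fin n → ℕ) (ha : StrictMono a)
    (α : MulAut (Multiplicative ((i : Fin n) → ZMod (2 ^ a i)))) (m : ℕ) (hm : Odd m) (hαm : α ^ m = 1) :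
    ∀ g, α g = g := by
  apply odd_aut_trivial (fun x y => mul_comm x y) (∑ i, a i) _ _ α m hm hαm
  · intro g
    apply Multiplicative.toAdd.injective
    rw [toAdd_pow, toAdd_one]
    funext i
    rw [Pi.smul_apply, Pi.zero_apply, nsmul_eq_mul]
    have : ((2 ^ (∑ i, a i) : ℕ) : ZMod (2 ^ a i)) = 0 := by
      rw [ZMod.natCast_eq_zero_iff]
      exact pow_dvd_pow 2 (Finset.single_le_sum (f := a) (fun _ _ => Nat.zero_le _) (Finset.mem_univ i))
    rw [this, zero_mul]
  · intro k x y hx2 hy2 hxk hyk hx1 hy1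
    rw [mem_powSet_pi] at hxk hyk hx1 hy1 ⊢
    have hx2' : ∀ i, Multiplicative.toAdd x i + Multiplicative.toAdd x i = 0 := by
      intro i
      have := congrArg (fun z : Multiplicative ((i : Fin n) → ZMod (2 ^ a i)) => Multiplicative.toAdd z i) hx2
      rw [← two_mul]
      simpa [toAdd_pow] using this
    have hy2' : ∀ i, Multiplicative.toAdd y i + Multiplicative.toAdd y i = 0 := by
      intro i
      have := congrArg (fun z : Multiplicative ((i : Fin n) → ZMod (2 ^ a i)) => Multiplicative.toAdd z i) hy2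
      rw [← two_mul]
      simpa [toAdd_pow] using this
    push Not at hx1 hy1
    obtain ⟨i₁, hi₁⟩ := hx1
    obtain ⟨i₂, hi₂⟩ := hy1
    have ha1 : a i₁ = k + 1 := by
      by_contra hne
      obtain ⟨w, hw⟩ := hxk i₁
      obtain ⟨w', hw'⟩ := zmod_layer_lift (a i₁) k hne _ w (hx2' i₁) hw
      exact hi₁ w' hw'
    have ha2 : a i₂ = k + 1 := by
      by_contra hne
      obtain ⟨w, hw⟩ := hyk i₂
      obtain ⟨w', hw'⟩ := zmod_layer_lift (a i₂) k hne _ w (hy2' i₂) hw
      exact hi₂ w' hw'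
    have h12 : i₁ = i₂ := ha.injective (ha1.trans ha2.symm)
    intro i
    have hsub : Multiplicative.toAdd (x * y⁻¹) i = Multiplicative.toAdd x i - Multiplicative.toAdd y i := by
      rw [toAdd_mul, toAdd_inv, Pi.add_apply, Pi.neg_apply, sub_eq_add_neg]
    rw [hsub]
    by_cases hi : a i = k + 1
    · have hii : i = i₁ := ha.injective (hi.trans ha1.symm)
      have hx0 : Multiplicative.toAdd x i ≠ 0 := by
        intro h0
        rw [hii] at h0
        exact hi₁ 0 (by rw [smul_zero, h0])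
      have hy0 : Multiplicative.toAdd y i ≠ 0 := by
        intro h0
        rw [hii, h12] at h0
        exact hi₂ 0 (by rw [smul_zero, h0])
      have := zmod_layer_unique (a i) k hi _ _ (hx2' i) (hy2' i) hx0 hy0
      exact ⟨0, by rw [smul_zero, this, sub_self]⟩
    · obtain ⟨w, hw⟩ := hxk i
      obtain ⟨w₁, hw₁⟩ := zmod_layer_lift (a i) k hi _ w (hx2' i) hw
      obtain ⟨v, hv⟩ := hyk i
      obtain ⟨v₁, hv₁⟩ := zmod_layer_lift (a i) k hi _ v (hy2' i) hv
      exact ⟨w₁ - v₁, by rw [smul_sub, hw₁, hv₁]⟩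

end Cfsg.Agent.Helper88
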