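-- Reduction for S5318 (helper88): for a Sylow 2-subgroup `P` of `GL₂(F)` with the three properties of `Good`, the image
-- of `P` in `SL₃(F)` satisfies `SelfNorm` and `NoStrClosed`.
import Cfsg.Agent.Helper88.PSL3Fus
import Cfsg.Agent.Helper85.CentralQuot

set_option autoImplicit false

namespace Cfsg.Agent.Helper88.PSL3F

open Matrix Cfsg.Agent.Helper37.PSL3Inv Cfsg.Agent.Helper37.SU3Inv Cfsg.Agent.Helper37.GL2S2
  Cfsg.Agent.Helper85

variable {F : Type*} [Field F]

theorem blkSL_injective : Function.Injective (blkSL : GL (Fin 2) F →* Matrix.SpecialLinearGroup (Fin 3) F) := by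
  intro A B h
  have h1 : (blkSL A).1 = (blkSL B).1 := congrArg Subtype.val h
  rw [blkSL_val, blkSL_val] at h1
  exact Units.ext (blk_inj h1).1

theorem neg_one_mem_center : (-1 : GL (Fin 2) F) ∈ Subgroup.center (GL (Fin 2) F) := by
  rw [Subgroup.mem_center_iff]
  intro g
  apply Units.ext
  simp

theorem neg_one_mul_neg_one : (-1 : GL (Fin 2) F) * (-1) = 1 := by
  apply Units.ext
  simp

theorem neg_one_mem_sylow [Finite F] (P : Sylow 2 (GL (Fin 2) F)) : (-1 : GL (Fin 2) F) ∈ (P : Subgroup (GL (Fin 2) F)) := by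
  have : Finite (GL (Fin 2) F) := inferInstance
  apply mem_sylow_of_mem_center P neg_one_mem_center
  rintro ⟨g, hg⟩
  refine ⟨1, Subtype.ext ?_⟩
  obtain ⟨i, rfl⟩ := Subgroup.mem_zpowers_iff.1 hg
  show ((-1 : GL (Fin 2) F) ^ i) ^ 2 ^ 1 = 1
  rw [pow_one, ← zpow_natCast, ← _root_.zpow_mul, mul_comm, _root_.zpow_mul, zpow_natCast, pow_two,
    neg_one_mul_neg_one, _root_.one_zpow]

theorem neg_one_ne_one (h2 : (2 : F) ≠ 0) : (-1 : GL (Fin 2) F) ≠ 1 := by
  intro h
  have h1 := congrArg (fun g : GL (Fin 2) F => g.1 0 0) h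
  simp at h1
  apply h2
  have : (2 : F) = 1 - (-1) := by ring
  rw [this, h1]
  ring

theorem zSL_mul_zSL : zSL F * zSL F = 1 := by
  unfold zSL
  rw [← map_mul, neg_one_mul_neg_one, map_one]

theorem zSL_ne_one (h2 : (2 : F) ≠ 0) : zSL F ≠ 1 := by
  unfold zSL
  intro h
  rw [← map_one blkSL] at h
  exact neg_one_ne_one h2 (blkSL_injective h)

/-- `N(blkSL P) = blkSL P · C(blkSL P)`. -/
theorem selfNorm_map_blkSL [Finite F] (h2 : (2 : F) ≠ 0) (P : Sylow 2 (GL (Fin 2) F))
    (hP : Good (P : Subgroup (GL (Fin 2) F)))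
    (hQ4 : ∀ g : Matrix.SpecialLinearGroup (Fin 3) F, g * zSL F = zSL F * g → ∃ A : GL (Fin 2) F, blkSL A = g) :
    SelfNorm ((P : Subgroup (GL (Fin 2) F)).map blkSL) := by
  intro g hg
  rw [Subgroup.mem_normalizer_iff] at hg
  have hzP : (-1 : GL (Fin 2) F) ∈ (P : Subgroup (GL (Fin 2) F)) := neg_one_mem_sylow P
  have hzS : zSL F ∈ (P : Subgroup (GL (Fin 2) F)).map blkSL := ⟨-1, hzP, rfl⟩
  -- `g` fixes `zSL`
  obtain ⟨z, hz, hzg⟩ := (hg (zSL F)).1 hzS
  have hzcen : ∀ x ∈ (P : Subgroup (GL (Fin 2) F)), z * x = x * z := by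
    intro x hx
    obtain ⟨x', hx', hxx'⟩ := (hg (g⁻¹ * blkSL x * g)).2 (by
      have : g * (g⁻¹ * blkSL x * g) * g⁻¹ = blkSL x := by group
      rw [this]
      exact ⟨x, hx, rfl⟩)
    apply blkSL_injective
    rw [map_mul, map_mul, hzg]
    have hcomm : zSL F * blkSL x' = blkSL x' * zSL F := by
      unfold zSL
      rw [← map_mul, ← map_mul]
      congr 1
      exact (Subgroup.mem_center_iff.1 neg_one_mem_center x').symm
    have e1 : blkSL x = g * blkSL x' * g⁻¹ := by rw [hxx']; group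
    rw [e1]
    calc g * zSL F * g⁻¹ * (g * blkSL x' * g⁻¹) = g * (zSL F * blkSL x') * g⁻¹ := by group
      _ = g * (blkSL x' * zSL F) * g⁻¹ := by rw [hcomm]
      _ = g * blkSL x' * g⁻¹ * (g * zSL F * g⁻¹) := by group
  have hzz : z * z = 1 := by
    apply blkSL_injective
    rw [map_mul, hzg, map_one]
    calc g * zSL F * g⁻¹ * (g * zSL F * g⁻¹) = g * (zSL F * zSL F) * g⁻¹ := by group
      _ = 1 := by rw [zSL_mul_zSL]; group
  have hz1 : z ≠ 1 := by
    rintro rfl
    rw [map_one] at hzg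
    apply zSL_ne_one h2
    have : zSL F = g⁻¹ * (g * zSL F * g⁻¹) * g := by group
    rw [this, ← hzg]
    group
  have hzneg : z = -1 := (hP.cen z hz hzcen hzz).resolve_left hz1
  have hgz : g * zSL F = zSL F * g := by
    have : g * zSL F * g⁻¹ = zSL F := by rw [← hzg, hzneg]; rfl
    calc g * zSL F = g * zSL F * g⁻¹ * g := by group
      _ = zSL F * g := by rw [this]
  obtain ⟨A, rfl⟩ := hQ4 g hgz
  have hA : A ∈ Subgroup.normalizer ((P : Subgroup (GL (Fin 2) F)) : Set (GL (Fin 2) F)) := by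
    rw [Subgroup.mem_normalizer_iff]
    intro x
    constructor
    · intro hx
      obtain ⟨x', hx', hxx'⟩ := (hg (blkSL x)).1 ⟨x, hx, rfl⟩
      have : x' = A * x * A⁻¹ := by
        apply blkSL_injective
        rw [hxx', map_mul, map_mul, map_inv]
      rw [← this]
      exact hx'
    · intro hx
      obtain ⟨x', hx', hxx'⟩ := (hg (blkSL x)).2 (by
        rw [← map_inv, ← map_mul, ← map_mul]
        exact ⟨_, hx, rfl⟩)
      have : x' = x := blkSL_injective hxx'
      rw [← this]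
      exact hx'
  obtain ⟨s, hs, hsx⟩ := hP.selfNorm A hA
  refine ⟨blkSL s, ⟨s, hs, rfl⟩, ?_⟩
  rintro _ ⟨x, hx, rfl⟩
  rw [← map_inv, ← map_mul, ← map_mul, hsx x hx, map_mul, map_mul, map_inv]

/-- no proper nontrivial subgroup of `blkSL P` is strongly closed in `SL₃(F)`. -/
theorem noStrClosed_map_blkSL [Finite F] (P : Sylow 2 (GL (Fin 2) F))
    (hP : Good (P : Subgroup (GL (Fin 2) F)))
    (hQ3 : ∀ g : Matrix.SpecialLinearGroup (Fin 3) F, g * g = 1 → g ≠ 1 →
      ∃ k : Matrix.SpecialLinearGroup (Fin 3) F, k * zSL F * k⁻¹ = g) :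
    NoStrClosed ((P : Subgroup (GL (Fin 2) F)).map blkSL) := by
  intro T hT hcl
  by_cases hbot : T = ⊥
  · exact Or.inl hbot
  right
  have : Finite (Matrix.SpecialLinearGroup (Fin 3) F) := inferInstance
  have hzP : (-1 : GL (Fin 2) F) ∈ (P : Subgroup (GL (Fin 2) F)) := neg_one_mem_sylow P
  have hzS : zSL F ∈ (P : Subgroup (GL (Fin 2) F)).map blkSL := ⟨-1, hzP, rfl⟩
  -- `T` is a nontrivial 2-group, so it contains an involution
  have hT2 : IsPGroup 2 T := by
    have hS2 : IsPGroup 2 ((P : Subgroup (GL (Fin 2) F)).map blkSL) := P.2.map _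
    exact hS2.to_le hT
  have hTnt : Nontrivial T := (Subgroup.nontrivial_iff_ne_bot T).2 hbot
  obtain ⟨n, hn⟩ := hT2.exists_card_eq
  have hn0 : n ≠ 0 := by
    rintro rfl
    rw [pow_zero] at hn
    have := (Nat.card_eq_one_iff_unique.1 hn).1
    exact not_subsingleton T this
  have hdvd : 2 ∣ Nat.card T := by rw [hn]; exact dvd_pow_self 2 hn0
  obtain ⟨t, ht⟩ := exists_prime_orderOf_dvd_card' 2 hdvd
  have htt : (t : Matrix.SpecialLinearGroup (Fin 3) F) * t = 1 := by
    have := pow_orderOf_eq_one t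
    rw [ht, pow_two] at this
    exact congrArg Subtype.val this
  have ht1 : (t : Matrix.SpecialLinearGroup (Fin 3) F) ≠ 1 := by
    intro h
    have : t = 1 := Subtype.ext h
    rw [this, orderOf_one] at ht
    omega
  -- so `zSL ∈ T`
  obtain ⟨k, hk⟩ := hQ3 t htt ht1
  have hzT : zSL F ∈ T := by
    have h1 := hcl t t.2 k⁻¹ (by
      have : k⁻¹ * (t : Matrix.SpecialLinearGroup (Fin 3) F) * k⁻¹⁻¹ = zSL F := by rw [← hk]; group
      rw [this]
      exact hzS)
    have : k⁻¹ * (t : Matrix.SpecialLinearGroup (Fin 3) F) * k⁻¹⁻¹ = zSL F := by rw [← hk]; group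
    rw [this] at h1
    exact h1
  -- all involutions of `blkSL P` are in `T`
  have hinv : ∀ s ∈ (P : Subgroup (GL (Fin 2) F)), s * s = 1 → blkSL s ∈ T := by
    intro s hs hss
    by_cases hs1 : s = 1
    · rw [hs1, map_one]
      exact T.one_mem
    obtain ⟨k', hk'⟩ := hQ3 (blkSL s) (by rw [← map_mul, hss, map_one]) (by
      intro h
      rw [← map_one blkSL] at h
      exact hs1 (blkSL_injective h))
    have := hcl (zSL F) hzT k' (by rw [hk']; exact ⟨s, hs, rfl⟩)
    rw [hk'] at this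
    exact this
  -- apply `fus`
  have hfus := hP.fus ((T.comap blkSL) ⊓ (P : Subgroup (GL (Fin 2) F))) inf_le_right
    (fun t ht htt => ⟨hinv t ht htt, ht⟩)
    (fun t ht g s hs hgs => by
      refine ⟨?_, hs⟩
      show blkSL s ∈ T
      rw [← hgs]
      apply hcl _ ht.1 g
      rw [hgs]
      exact ⟨s, hs, rfl⟩)
  apply le_antisymm hT
  rintro _ ⟨x, hx, rfl⟩
  have : x ∈ (T.comap blkSL) ⊓ (P : Subgroup (GL (Fin 2) F)) := by rw [hfus]; exact hx
  exact this.1

end Cfsg.Agent.Helper88.PSL3F
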