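-- Assembly for S5318 (helper88): a Sylow 2-subgroup of `SL₃(F)`, `F` finite of odd order, with `SelfNorm` and
-- `NoStrClosed`. Pieces by helper29 (S1), helper32 (S4), helper37 (W1, W3), helper44 (Q3, Q4, Q5), helper50 (W2, W4),
-- helper65 (S2, S3).
import Cfsg.Agent.Helper88.PSL3Red
import Cfsg.Agent.Helper44.PSL3Q3
import Cfsg.Agent.Helper44.PSL3Q4
import Cfsg.Agent.Helper44.PSL3Q5
import Cfsg.Agent.Helper50.PSL3W2
import Cfsg.Agent.Helper50.PSL3W4
import Cfsg.Agent.Helper37.PSL3W1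
import Cfsg.Agent.Helper37.PSL3W3
import Cfsg.Agent.Helper29.PSL3S1
import Cfsg.Agent.Helper65.PSL3S2
import Cfsg.Agent.Helper65.PSL3S3
import Cfsg.Agent.Helper32.PSL3S4

set_option autoImplicit false

namespace Cfsg.Agent.Helper88.PSL3F

open Matrix Cfsg.Agent.Helper37.PSL3Inv Cfsg.Agent.Helper37.SU3Inv Cfsg.Agent.Helper37.GL2S2
  Cfsg.Agent.Helper85

variable {F : Type*} [Field F] [Fintype F]

theorem good_main (hodd : Fintype.card F % 2 = 1) :
    ∃ P : Sylow 2 (GL (Fin 2) F), Good (P : Subgroup (GL (Fin 2) F)) := by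
  have h4 : Fintype.card F % 4 = 1 ∨ Fintype.card F % 4 = 3 := by omega
  rcases h4 with h1 | h3
  · obtain ⟨P, ζ, a, h⟩ := Cfsg.Agent.Helper37.PSL3W.exists_wrData h1
    exact ⟨P, Cfsg.Agent.Helper50.PSL3W.wr_cen h, Cfsg.Agent.Helper37.PSL3W.wr_selfNorm h,
      Cfsg.Agent.Helper50.PSL3W.wr_fus h⟩
  · obtain ⟨P, x, y, b, h⟩ := Cfsg.Agent.Helper29.PSL3S.exists_sdData h3
    exact ⟨P, Cfsg.Agent.Helper65.PSL3S.sd_cen h, Cfsg.Agent.Helper65.PSL3S.sd_selfNorm h,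
      Cfsg.Agent.Helper32.PSL3S.sd_fus h3 h⟩

/-- A Sylow 2-subgroup of `SL₃(F)` which is nontrivial, with `N(S) = S C(S)` and without proper nontrivial strongly closed
subgroups. -/
theorem exists_sylow_SL3 (hodd : Fintype.card F % 2 = 1) :
    ∃ S₀ : Sylow 2 (Matrix.SpecialLinearGroup (Fin 3) F),
      (S₀ : Subgroup (Matrix.SpecialLinearGroup (Fin 3) F)) ≠ ⊥ ∧
      SelfNorm (S₀ : Subgroup (Matrix.SpecialLinearGroup (Fin 3) F)) ∧
      NoStrClosed (S₀ : Subgroup (Matrix.SpecialLinearGroup (Fin 3) F)) := by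
  have h2 : (2 : F) ≠ 0 := Cfsg.Agent.Helper44.PSL3Q.two_ne_zero_of_card_odd hodd
  obtain ⟨P, hP⟩ := good_main hodd
  have hN := selfNorm_map_blkSL h2 P hP (Cfsg.Agent.Helper44.PSL3Q.exists_blkSL_of_comm hodd)
  have hT := noStrClosed_map_blkSL P hP (Cfsg.Agent.Helper44.PSL3Q.exists_conj_zSL hodd)
  refine ⟨Sylow.ofCard ((P : Subgroup (GL (Fin 2) F)).map blkSL)
    (Cfsg.Agent.Helper44.PSL3Q.card_map_blkSL hodd P), ?_, hN, hT⟩
  intro h
  have hz : zSL F ∈ (P : Subgroup (GL (Fin 2) F)).map blkSL := ⟨-1, neg_one_mem_sylow P, rfl⟩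
  have h' : (P : Subgroup (GL (Fin 2) F)).map blkSL = ⊥ := h
  rw [h', Subgroup.mem_bot] at hz
  exact zSL_ne_one h2 hz

/-- the centre of `SL₃(F)` has odd order -/
theorem card_center_SL3_coprime :
    (Nat.card (Subgroup.center (Matrix.SpecialLinearGroup (Fin 3) F))).Coprime 2 := by
  rw [Nat.coprime_two_right, ← Nat.not_even_iff_odd, even_iff_two_dvd]
  intro hdvd
  obtain ⟨z, hz⟩ := exists_prime_orderOf_dvd_card' 2 hdvd
  have h3 : z ^ 3 = 1 := Subtype.ext (by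
    have := center_pow_three (z : Matrix.SpecialLinearGroup (Fin 3) F) z.2
    simpa using this)
  have h2' : z ^ 2 = 1 := by rw [← hz]; exact pow_orderOf_eq_one z
  have : z = 1 := by
    calc z = z ^ 3 * (z ^ 2)⁻¹ := by group
      _ = 1 := by rw [h3, h2']; simp
  rw [this, orderOf_one] at hz
  omega

end Cfsg.Agent.Helper88.PSL3F
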