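-- (Q1) for S5318 (helper88): `SelfNorm` and `NoStrClosed` of a Sylow `p`-subgroup pass to the quotient by a central
-- subgroup of order prime to `p` (using helper84's PSUGen lemmas).
import Cfsg.Agent.Helper84.PSUGen

set_option autoImplicit false

namespace Cfsg.Agent.Helper88.PSL3F

open Cfsg.Agent.Helper85

theorem quotient_selfNorm_noStrClosed {H : Type*} [Group H] [Finite H] (p : ℕ) [Fact p.Prime]
    (Z : Subgroup H) [Z.Normal] (hZ : Z ≤ Subgroup.center H) (hpZ : (Nat.card Z).Coprime p) (S : Sylow p H)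
    (h0 : (S : Subgroup H) ≠ ⊥) (h1 : SelfNorm (S : Subgroup H)) (h2 : NoStrClosed (S : Subgroup H)) :
    ∃ S' : Sylow p (H ⧸ Z), (S' : Subgroup (H ⧸ Z)) ≠ ⊥ ∧ SelfNorm (S' : Subgroup (H ⧸ Z)) ∧
      NoStrClosed (S' : Subgroup (H ⧸ Z)) := by
  have hker : ∀ z ∈ (QuotientGroup.mk' Z).ker, ∀ g : H, g * z = z * g := by
    intro z hz g
    rw [QuotientGroup.ker_mk'] at hz
    exact Subgroup.mem_center_iff.1 (hZ hz) g
  have hp' : ∀ z ∈ (QuotientGroup.mk' Z).ker, ∀ a : ℕ, z ^ (p ^ a) = 1 → z = 1 := by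
    intro z hz a hza
    rw [QuotientGroup.ker_mk'] at hz
    have h3 : orderOf z ∣ p ^ a := orderOf_dvd_of_pow_eq_one hza
    have h4 : orderOf z ∣ Nat.card Z := by
      have : orderOf (⟨z, hz⟩ : Z) ∣ Nat.card Z := orderOf_dvd_natCard _
      rwa [Subgroup.orderOf_mk] at this
    have h5 : orderOf z ∣ Nat.gcd (Nat.card Z) (p ^ a) := Nat.dvd_gcd h4 h3
    rw [Nat.Coprime.pow_right a hpZ] at h5
    exact orderOf_eq_one_iff.1 (Nat.dvd_one.1 h5)
  have hS : ∀ s ∈ (S : Subgroup H), ∃ a : ℕ, s ^ (p ^ a) = 1 := by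
    intro s hs
    obtain ⟨a, ha⟩ := S.2 ⟨s, hs⟩
    exact ⟨a, by simpa using congrArg Subtype.val ha⟩
  refine ⟨S.mapSurjective (QuotientGroup.mk'_surjective Z), ?_, ?_, ?_⟩
  · rw [Sylow.coe_mapSurjective]
    intro h
    apply h0
    rw [eq_bot_iff]
    intro s hs
    have h3 : QuotientGroup.mk' Z s ∈ (S : Subgroup H).map (QuotientGroup.mk' Z) :=
      Subgroup.mem_map_of_mem _ hs
    rw [h, Subgroup.mem_bot] at h3
    obtain ⟨a, ha⟩ := hS s hs
    rw [Subgroup.mem_bot]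
    exact hp' s (MonoidHom.mem_ker.2 h3) a ha
  · rw [Sylow.coe_mapSurjective]
    intro gb hgb
    obtain ⟨g, rfl⟩ := QuotientGroup.mk'_surjective Z gb
    have hgN := Cfsg.Agent.Helper84.PSU.mem_normalizer_of_map p (QuotientGroup.mk' Z) hker hp'
      (S : Subgroup H) hS hgb
    obtain ⟨s, hs, hsx⟩ := h1 g hgN
    refine ⟨QuotientGroup.mk' Z s, Subgroup.mem_map_of_mem _ hs, ?_⟩
    rintro _ ⟨x, hx, rfl⟩
    rw [← map_inv, ← map_mul, ← map_mul, hsx x hx, map_mul, map_mul, map_inv]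
  · rw [Sylow.coe_mapSurjective]
    exact Cfsg.Agent.Helper84.PSU.noStrClosed_map (QuotientGroup.mk' Z) (S : Subgroup H) h2

end Cfsg.Agent.Helper88.PSL3F
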