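-- Assembly for S5320 (helper88): local generation and absence of strongly closed subgroups, modulo the centre, for the Sylow
-- 2-subgroup `Q ≀ 2` of `Sp₄(F)`, `F` finite of odd order, and the simplicity of the 2-fusion system of `PSp₄(F)`.
-- Pieces by helper32 (E2, F2), helper33 (T1, T2, P1), helper38 (Qc, Qe1, E1), helper41 (G3, G4a), helper50 (Qb, Qd, Qe3),
-- helper65 (F1), helper67 (Qe2, E4), helper68 (L1, L2), helper89 (G4b, G5), helper91 (D), helper97 (E3).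
import Cfsg.Agent.Helper88.PSp4Hyp
import Cfsg.Agent.Helper85.CentralQuot
import Cfsg.Agent.Helper33.PSp4T1
import Cfsg.Agent.Helper33.PSp4T2
import Cfsg.Agent.Helper91.PSp4D
import Cfsg.Agent.Helper41.PSp4G3
import Cfsg.Agent.Helper41.PSp4G4a
import Cfsg.Agent.Helper89.PSp4G4b
import Cfsg.Agent.Helper89.PSp4G5
import Cfsg.Agent.Helper50.PSp4Qb
import Cfsg.Agent.Helper50.PSp4Qd
import Cfsg.Agent.Helper50.PSp4Qe3
import Cfsg.Agent.Helper38.PSp4Qc
import Cfsg.Agent.Helper38.PSp4Qe1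
import Cfsg.Agent.Helper67.PSp4Qe2
import Cfsg.Agent.Helper67.PSp4E4
import Cfsg.Agent.Helper65.PSp4F1
import Cfsg.Agent.Helper32.PSp4E2
import Cfsg.Agent.Helper32.PSp4F2
import Cfsg.Agent.Helper97.PSp4E3
import Cfsg.Agent.Helper68.PSp4L2
import Cfsg.Prelude.Def_FusionComponents

set_option autoImplicit false

namespace Cfsg.Agent.Helper88.PSp4F

open Matrix Equiv Cfsg.Agent.Helper42 Cfsg.Agent.Helper85 Cfsg.Agent.Helper84

variable {F : Type*} [Field F]


theorem hG4 [Fintype F] (hF : Fintype.card F % 2 = 1) (h2 : (2 : F) ≠ 0) : HG4 F := by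
  intro g h hg hh
  obtain ⟨k, c₁, c₂, hc₁, hc₂, hk⟩ := Cfsg.Agent.Helper41.PSp4G.exists_conj_io_of_sq h2 g hg
  obtain ⟨k', c₁', c₂', hc₁', hc₂', hk'⟩ := Cfsg.Agent.Helper41.PSp4G.exists_conj_io_of_sq h2 h hh
  obtain ⟨m₁, hm₁⟩ := Cfsg.Agent.Helper89.PSp4G4b.exists_conj_SL2_of_sq hF c₁ c₁' hc₁ hc₁'
  obtain ⟨m₂, hm₂⟩ := Cfsg.Agent.Helper89.PSp4G4b.exists_conj_SL2_of_sq hF c₂ c₂' hc₂ hc₂'
  refine ⟨k' * io m₁ m₂ * k⁻¹, ?_⟩
  rw [← hk, ← hk', ← hm₁, ← hm₂]
  have : io (m₁ * c₁ * m₁⁻¹) (m₂ * c₂ * m₂⁻¹) = io m₁ m₂ * io c₁ c₂ * (io m₁ m₂)⁻¹ := by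
    rw [io_inv, io_mul, io_mul]
  rw [this]
  group

theorem io_mem_normalizer_SQ {Q : Subgroup (SL2 F)} {a b : SL2 F}
    (ha : a ∈ Subgroup.normalizer (Q : Set (SL2 F))) (hb : b ∈ Subgroup.normalizer (Q : Set (SL2 F)))
    (hab : a * b⁻¹ ∈ Q) : io a b ∈ Subgroup.normalizer ((SQ Q : Subgroup (Sp4 F)) : Set (Sp4 F)) := by
  have key : ∀ a b : SL2 F, a ∈ Subgroup.normalizer (Q : Set (SL2 F)) → b ∈ Subgroup.normalizer (Q : Set (SL2 F)) →
      a * b⁻¹ ∈ Q → ∀ s ∈ SQ Q, io a b * s * (io a b)⁻¹ ∈ SQ Q := by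
    intro a b ha hb hab s hs
    rw [Subgroup.mem_normalizer_iff] at ha hb
    obtain ⟨c, hc, d, hd, h | h⟩ := mem_SQ.1 hs
    · rw [h, io_inv, io_mul, io_mul]
      exact io_mem_SQ ((ha c).1 hc) ((hb d).1 hd)
    · rw [h, io_inv]
      have e1 : io a b * (io c d * tw) * io a⁻¹ b⁻¹ = io (a * c * b⁻¹) (b * d * a⁻¹) * tw := by
        calc io a b * (io c d * tw) * io a⁻¹ b⁻¹ = io a b * io c d * (tw * io a⁻¹ b⁻¹) := by group
          _ = io a b * io c d * (io b⁻¹ a⁻¹ * tw) := by rw [tw_io]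
          _ = io (a * c * b⁻¹) (b * d * a⁻¹) * tw := by rw [← mul_assoc, io_mul, io_mul]
      rw [e1]
      refine Subgroup.mul_mem _ (io_mem_SQ ?_ ?_) (tw_mem_SQ Q)
      · have : a * c * b⁻¹ = (a * c * a⁻¹) * (a * b⁻¹) := by group
        rw [this]
        exact Q.mul_mem ((ha c).1 hc) hab
      · have : b * d * a⁻¹ = (b * d * b⁻¹) * (a * b⁻¹)⁻¹ := by group
        rw [this]
        exact Q.mul_mem ((hb d).1 hd) (Q.inv_mem hab)
  rw [Subgroup.mem_normalizer_iff]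
  intro s
  constructor
  · exact key a b ha hb hab s
  · intro hs
    have h1 := key a⁻¹ b⁻¹ (Subgroup.inv_mem _ ha) (Subgroup.inv_mem _ hb) (by
      rw [inv_inv]
      rw [Subgroup.mem_normalizer_iff] at ha
      have h3 := (ha (b⁻¹ * a)).2 (by
        have : a * (b⁻¹ * a) * a⁻¹ = a * b⁻¹ := by group
        rw [this]; exact hab)
      have : a⁻¹ * b = (b⁻¹ * a)⁻¹ := by group
      rw [this]
      exact Q.inv_mem h3) _ hs
    rw [← io_inv, inv_inv] at h1
    have : (io a b)⁻¹ * (io a b * s * (io a b)⁻¹) * io a b = s := by group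
    rw [this] at h1
    exact h1

/-- local generation modulo the centre -/
theorem locGenMod_SQ [Fintype F] (hF : Odd (Fintype.card F)) (h2 : (2 : F) ≠ 0) (Q : Sylow 2 (SL2 F))
    (S₀ : Sylow 2 (Sp4 F)) (hS₀ : (S₀ : Subgroup (Sp4 F)) = SQ (Q : Subgroup (SL2 F)))
    (hneg : negOneSL F ∈ (Q : Subgroup (SL2 F))) :
    LocGenMod 2 (Subgroup.center (Sp4 F)) (SQ (Q : Subgroup (SL2 F))) := by
  have hb := Cfsg.Agent.Helper50.PSp4Q.hQb hF Q
  have hc := Cfsg.Agent.Helper38.PSp4.hQc hF Q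
  have hf := Cfsg.Agent.Helper65.PSp4.hF1 h2 (Q : Subgroup (SL2 F)) hneg hb hc.1
  have h5 : HG5 F := Cfsg.Agent.Helper89.PSp4G5.hG5 h2
  have hSK : SQ (Q : Subgroup (SL2 F)) ≤
      Subgroup.closure (LocSetMod 2 (Subgroup.center (Sp4 F)) (SQ (Q : Subgroup (SL2 F)))) := by
    intro s hs
    exact Subgroup.subset_closure ⟨Subgroup.le_normalizer hs, Or.inl hs⟩
  unfold LocGenMod
  rw [← hS₀]
  apply Cfsg.Agent.Helper91.PSp4D.normalizer_le_of_coprime 2 S₀
  · rw [hS₀]; exact hSK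
  intro g hg hcop
  rw [hS₀] at hg ⊢
  have hodd : Odd (orderOf g) := by
    rw [← Nat.coprime_two_right]
    exact hcop
  obtain ⟨a, b, rfl, ha, hb', hoa, hob, hab⟩ :=
    Cfsg.Agent.Helper68.PSp4L.odd_normalizer_SQ h2 (Q : Subgroup (SL2 F)) hneg hf h5 g hg hodd
  by_cases h16 : 16 ∣ Nat.card (Q : Subgroup (SL2 F))
  · rw [Cfsg.Agent.Helper50.PSp4Q.odd_normalizer_sylow_SL2 hF Q h16 a ha hoa, Cfsg.Agent.Helper50.PSp4Q.odd_normalizer_sylow_SL2 hF Q h16 b hb' hob, io_one]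
    exact Subgroup.one_mem _
  · obtain ⟨x, y, hxy⟩ := Cfsg.Agent.Helper38.PSp4.exists_q8Data hF Q h16
    obtain ⟨w, hw, hwN⟩ := Cfsg.Agent.Helper67.PSp4.exists_omData h2 hxy
    obtain ⟨c, hc', j, rfl⟩ := Cfsg.Agent.Helper50.PSp4Q.normalizer_q8 h2 hxy hw a ha hoa
    obtain ⟨c', hc'', j', rfl⟩ := Cfsg.Agent.Helper50.PSp4Q.normalizer_q8 h2 hxy hw b hb' hob
    -- `io w w` is of local origin
    have hww : io w w ∈ LocSetMod 2 (Subgroup.center (Sp4 F)) (SQ (Q : Subgroup (SL2 F))) := by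
      refine ⟨io_mem_normalizer_SQ hwN hwN (by rw [mul_inv_cancel]; exact Subgroup.one_mem _), Or.inr ?_⟩
      obtain ⟨hE1, hE2, hE3⟩ := Cfsg.Agent.Helper32.PSp4.EQ_facts h2 hxy
      refine ⟨EQ (Q : Subgroup (SL2 F)), hE1, hE2, hE3, ?_, ?_⟩
      · intro g hg
        exact Cfsg.Agent.Helper97.PSp4E3.EQ_self_centralizing h2 hxy h5 g hg
      · obtain ⟨u₁, u₂, hu₁, hu₂, hu₁4, hu₂4, hu⟩ := Cfsg.Agent.Helper67.PSp4.exists_u h2 hxy hw
        have hpow : ∀ u : Sp4 F, u ^ 4 = 1 → ∃ k : ℕ, orderOf u = 2 ^ k := by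
          intro u hu4
          have : orderOf u ∣ 2 ^ 2 := orderOf_dvd_of_pow_eq_one (by norm_num; exact hu4)
          obtain ⟨k, -, hk⟩ := (Nat.dvd_prime_pow Nat.prime_two).1 this
          exact ⟨k, hk⟩
        have hft : t0 F * tw ∈ EQ (Q : Subgroup (SL2 F)) := by
          unfold EQ
          apply Subgroup.mem_sup_right
          exact Subgroup.mul_mem _ (Subgroup.subset_closure (by simp)) (Subgroup.subset_closure (by simp))
        have hft4 : (t0 F * tw) ^ 4 = 1 := by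
          have e1 : (t0 F * tw) * (t0 F * tw) = nI F := by
            have : (t0 F * tw) * (t0 F * tw) = t0 F * (tw * t0 F * tw⁻¹) * (tw * tw) := by group
            rw [this, tw_t0_tw, tw_mul_tw, mul_one, ← mul_assoc]
            have hcomm : t0 F * nI F = nI F * t0 F :=
              (Subgroup.mem_center_iff.1 Cfsg.Agent.S0246.negOne_mem_center (t0 F))
            rw [hcomm, mul_assoc, t0_mul_t0, mul_one]
          have e2 : nI F * nI F = 1 := by
            rw [← io_neg_neg, io_mul, negOneSL_mul_self, io_one]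
          calc (t0 F * tw) ^ 4 = ((t0 F * tw) * (t0 F * tw)) * ((t0 F * tw) * (t0 F * tw)) := by
                rw [pow_succ, pow_succ, pow_succ, pow_one]
                simp only [mul_assoc]
            _ = 1 := by rw [e1, e2]
        have e : io w w = u₁ * u₂ * (t0 F * tw)⁻¹ := by rw [hu]; group
        rw [e]
        refine Subgroup.mul_mem _ (Subgroup.mul_mem _ ?_ ?_) (Subgroup.inv_mem _ ?_)
        · exact Subgroup.subset_closure ⟨hu₁, hpow u₁ hu₁4⟩
        · exact Subgroup.subset_closure ⟨hu₂, hpow u₂ hu₂4⟩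
        · exact Subgroup.subset_closure ⟨Subgroup.le_normalizer hft, hpow _ hft4⟩
    -- decompose
    have hq : w ^ j * (w ^ j')⁻¹ ∈ (Q : Subgroup (SL2 F)) := by
      have : w ^ j * (w ^ j')⁻¹ = c⁻¹ * (c * w ^ j * (c' * w ^ j')⁻¹) * c' := by group
      rw [this]
      exact Subgroup.mul_mem _ (Subgroup.mul_mem _ (Subgroup.inv_mem _ hc') hab) hc''
    have e : io (c * w ^ j) (c' * w ^ j') = io c (c' * (w ^ j * (w ^ j')⁻¹)⁻¹) * (io w w) ^ j := by
      have hpow : ∀ n : ℕ, (io w w) ^ n = io (w ^ n) (w ^ n) := by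
        intro n
        induction n with
        | zero => rw [pow_zero, pow_zero, io_one]
        | succ n ih => rw [pow_succ, ih, io_mul, ← pow_succ]
      rw [hpow, io_mul]
      congr 1
      group
    rw [e]
    exact Subgroup.mul_mem _ (hSK (io_mem_SQ hc' (Subgroup.mul_mem _ hc'' (Subgroup.inv_mem _ hq))))
      (Subgroup.pow_mem _ (Subgroup.subset_closure hww) j)

theorem two_ne_zero_of_card' [Fintype F] (hodd : Fintype.card F % 2 = 1) : (2 : F) ≠ 0 := by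
  intro h
  obtain ⟨p, hp⟩ := CharP.exists F
  have hpp : Fact p.Prime := ⟨CharP.char_is_prime F p⟩
  have h2 : ((2 : ℕ) : F) = 0 := by exact_mod_cast h
  have hdvd : p ∣ 2 := (CharP.cast_eq_zero_iff F p 2).1 h2
  have hp2 : p = 2 := (Nat.prime_dvd_prime_iff_eq hpp.out Nat.prime_two).1 hdvd
  subst hp2
  obtain ⟨n, -, hn⟩ := FiniteField.card F 2
  rw [hn] at hodd
  have : 2 ∣ 2 ^ (n : ℕ) := dvd_pow_self 2 n.ne_zero
  omega

theorem psp4_main [Fintype F] (hodd : Fintype.card F % 2 = 1) (S : Sylow 2 (Cfsg.PSp 2 F)) :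
    (Cfsg.groupFusionSystem (S : Subgroup (Cfsg.PSp 2 F))).IsSimple 2 := by
  have h2 := two_ne_zero_of_card' hodd
  have hF : Odd (Fintype.card F) := Nat.odd_iff.2 hodd
  have : Finite (Sp4 F) := inferInstance
  let Q : Sylow 2 (SL2 F) := default
  -- the Sylow 2-subgroup of `Perm (Fin 2)` is everything
  have hcardT : Nat.card (⊤ : Subgroup (Perm (Fin 2))) = 2 ^ (Nat.card (Perm (Fin 2))).factorization 2 := by
    rw [Subgroup.card_top, Nat.card_perm, Nat.card_fin]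
    have : (Nat.factorial 2) = 2 := rfl
    rw [this, Nat.Prime.factorization_self Nat.prime_two, pow_one]
  let T : Sylow 2 (Perm (Fin 2)) := Sylow.ofCard ⊤ hcardT
  let S₀ : Sylow 2 (Sp4 F) := spSylow hF 2 Q T
  have hS₀ : (S₀ : Subgroup (Sp4 F)) = SQ (Q : Subgroup (SL2 F)) := rfl
  -- `-1 ∈ Q`
  have hneg : negOneSL F ∈ (Q : Subgroup (SL2 F)) := by
    apply Cfsg.Agent.Helper85.mem_sylow_of_mem_center Q negOneSL_mem_center
    rintro ⟨g, hg⟩
    refine ⟨1, Subtype.ext ?_⟩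
    obtain ⟨i, rfl⟩ := Subgroup.mem_zpowers_iff.1 hg
    show ((negOneSL F) ^ i) ^ 2 ^ 1 = 1
    rw [pow_one, ← zpow_natCast, ← _root_.zpow_mul, mul_comm, _root_.zpow_mul, zpow_natCast, pow_two,
      negOneSL_mul_self, _root_.one_zpow]
  have hb := Cfsg.Agent.Helper50.PSp4Q.hQb hF Q
  have hc := Cfsg.Agent.Helper38.PSp4.hQc hF Q
  have hf := Cfsg.Agent.Helper65.PSp4.hF1 h2 (Q : Subgroup (SL2 F)) hneg hb hc.1
  have h3 : HG3 F := Cfsg.Agent.Helper41.PSp4G.hG3 h2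
  have h4 : HG4 F := hG4 hodd h2
  -- the two conditions modulo the centre
  have hNS : NoStrClosedMod (Subgroup.center (Sp4 F)) (SQ (Q : Subgroup (SL2 F))) :=
    Cfsg.Agent.Helper32.PSp4F2.noStrClosedMod_SQ h2 (Q : Subgroup (SL2 F)) Q.2 hneg h3 h4 hc hf
  have hLG : LocGenMod 2 (Subgroup.center (Sp4 F)) (SQ (Q : Subgroup (SL2 F))) :=
    locGenMod_SQ hF h2 Q S₀ hS₀ hneg
  have hZS : Subgroup.center (Sp4 F) ≤ SQ (Q : Subgroup (SL2 F)) := by
    intro z hz
    rcases (Cfsg.Agent.S0246.mem_center_iff (le_of_lt (by norm_num : 1 < 2)) z).1 hz with rfl | rfl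
    · exact Subgroup.one_mem _
    · have e : Cfsg.Agent.S0246.negOne 2 F = io (negOneSL F) (negOneSL F) := io_neg_neg.symm
      rw [e]
      exact io_mem_SQ hneg hneg
  -- pass to the quotient
  let S' : Sylow 2 (Cfsg.PSp 2 F) :=
    S₀.mapSurjective (QuotientGroup.mk'_surjective (Subgroup.center (Sp4 F)))
  have hS' : (S' : Subgroup (Cfsg.PSp 2 F)) =
      (SQ (Q : Subgroup (SL2 F))).map (QuotientGroup.mk' (Subgroup.center (Sp4 F))) := by
    rw [Sylow.coe_mapSurjective, hS₀]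
  have h0 : (S' : Subgroup (Cfsg.PSp 2 F)) ≠ ⊥ := by
    rw [hS']
    intro h
    have ht : QuotientGroup.mk' (Subgroup.center (Sp4 F)) (t0 F) ∈
        (SQ (Q : Subgroup (SL2 F))).map (QuotientGroup.mk' (Subgroup.center (Sp4 F))) :=
      Subgroup.mem_map_of_mem _ (io_mem_SQ hneg (Subgroup.one_mem _))
    rw [h, Subgroup.mem_bot] at ht
    have ht' : t0 F ∈ Subgroup.center (Sp4 F) := by
      rw [← QuotientGroup.ker_mk' (Subgroup.center (Sp4 F))]
      exact ht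
    rcases (Cfsg.Agent.S0246.mem_center_iff (le_of_lt (by norm_num : 1 < 2)) (t0 F)).1 ht' with h1 | h1
    · unfold t0 at h1
      rw [← io_one] at h1
      exact negOneSL_ne_one h2 (io_injective h1).1
    · unfold t0 at h1
      have e : Cfsg.Agent.S0246.negOne 2 F = io (negOneSL F) (negOneSL F) := io_neg_neg.symm
      rw [e] at h1
      exact negOneSL_ne_one h2 (io_injective h1).2.symm
  have hN : LocGen 2 (S' : Subgroup (Cfsg.PSp 2 F)) := by
    rw [hS']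
    exact Cfsg.Agent.Helper33.PSp4.locGen_map_of_mod 2 _ _ hZS hLG
  have hT : NoStrClosed (S' : Subgroup (Cfsg.PSp 2 F)) := by
    rw [hS']
    exact Cfsg.Agent.Helper33.PSp4.noStrClosed_map_of_mod _ _ hZS hNS
  exact isSimple_of_locGen_conj 2 S' h0 hN hT S

end Cfsg.Agent.Helper88.PSp4F
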