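import Cfsg.Agent.Helper86.PPHom

set_option autoImplicit false

/-! # Sections of the right orbits of a biset and the monomial cocycle of its automorphisms

For an `S × S`-set `X` whose right action (`b ↦ (1, b) • ·`) is free, a section `t` of the projection onto the set of right orbits
attaches to every automorphism `σ` of the right `S`-set `X` a function `hOf σ : RQ → S` with
`σ (t q) = (1, (hOf σ q)⁻¹) • t (σ • q)`, and `hOf (σ τ) q = hOf σ (τ • q) * hOf τ q`.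
-/

namespace Cfsg.Agent.Helper88.ParkSec

open Cfsg Cfsg.Agent.Helper86.Park Cfsg.Agent.Helper86.PP MulAction

variable {Ω : Type*} [Group Ω] {S : Subgroup Ω} {X : Type*} [MulAction (↥S × ↥S) X]

/-- A section of the projection onto the right orbits. -/
def IsSec (t : RQ S X → X) : Prop := ∀ q, rmk (t q) = q

/-- The right action is free. -/
def RightFree (S : Subgroup Ω) (X : Type*) [MulAction (↥S × ↥S) X] : Prop :=
  ∀ (b : ↥S) (x : X), (((1 : ↥S), b) : ↥S × ↥S) • x = x → b = 1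

theorem exists_c {t : RQ S X → X} (ht : IsSec t) (σ : ↥(AutR S X)) (q : RQ S X) :
    ∃ c : ↥S, (((1 : ↥S), c) : ↥S × ↥S) • t (σ • q) = (σ : Equiv.Perm X) (t q) := by
  have h1 : (rmk (t (σ • q)) : RQ S X) = rmk ((σ : Equiv.Perm X) (t q)) := by
    rw [ht, ← smul_rmk, ht]
  exact (rmk_eq_iff _ _).mp h1

/-- The monomial cocycle, inverted. -/
noncomputable def cOf {t : RQ S X → X} (ht : IsSec t) (σ : ↥(AutR S X)) (q : RQ S X) : ↥S :=
  Classical.choose (exists_c ht σ q)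

theorem cOf_spec {t : RQ S X → X} (ht : IsSec t) (σ : ↥(AutR S X)) (q : RQ S X) :
    (((1 : ↥S), cOf ht σ q) : ↥S × ↥S) • t (σ • q) = (σ : Equiv.Perm X) (t q) :=
  Classical.choose_spec (exists_c ht σ q)

theorem eq_of_smul_eq (hfree : RightFree S X) {b c : ↥S} {x : X}
    (h : (((1 : ↥S), b) : ↥S × ↥S) • x = (((1 : ↥S), c) : ↥S × ↥S) • x) : b = c := by
  have h1 : (((1 : ↥S), c⁻¹ * b) : ↥S × ↥S) • x = x := by
    have : (((1 : ↥S), c⁻¹ * b) : ↥S × ↥S) = (((1 : ↥S), c⁻¹) : ↥S × ↥S) * (((1 : ↥S), b) : ↥S × ↥S) := by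
      ext <;> simp
    rw [this, ← smul_smul, h, smul_smul]
    have : (((1 : ↥S), c⁻¹) : ↥S × ↥S) * (((1 : ↥S), c) : ↥S × ↥S) = 1 := by
      ext <;> simp
    rw [this, one_smul]
  have h2 := hfree _ _ h1
  exact (inv_mul_eq_one.mp h2).symm

theorem cOf_unique (hfree : RightFree S X) {t : RQ S X → X} (ht : IsSec t) (σ : ↥(AutR S X)) (q : RQ S X)
    (c : ↥S) (hc : (((1 : ↥S), c) : ↥S × ↥S) • t (σ • q) = (σ : Equiv.Perm X) (t q)) : cOf ht σ q = c :=
  eq_of_smul_eq hfree ((cOf_spec ht σ q).trans hc.symm)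

theorem cOf_mul (hfree : RightFree S X) {t : RQ S X → X} (ht : IsSec t) (σ τ : ↥(AutR S X)) (q : RQ S X) :
    cOf ht (σ * τ) q = cOf ht τ q * cOf ht σ (τ • q) := by
  apply cOf_unique hfree
  have h1 : ((σ * τ : ↥(AutR S X)) : Equiv.Perm X) (t q) = (σ : Equiv.Perm X) ((τ : Equiv.Perm X) (t q)) := rfl
  rw [h1, ← cOf_spec ht τ q, AutR_apply_smul, ← cOf_spec ht σ (τ • q), smul_smul, mul_smul]
  congr 1
  ext <;> simp

/-- The monomial cocycle. -/
noncomputable def hOf {t : RQ S X → X} (ht : IsSec t) (σ : ↥(AutR S X)) (q : RQ S X) : ↥S := (cOf ht σ q)⁻¹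

theorem hOf_mul (hfree : RightFree S X) {t : RQ S X → X} (ht : IsSec t) (σ τ : ↥(AutR S X)) (q : RQ S X) :
    hOf ht (σ * τ) q = hOf ht σ (τ • q) * hOf ht τ q := by
  unfold hOf
  rw [cOf_mul hfree, mul_inv_rev]

theorem hOf_spec {t : RQ S X → X} (ht : IsSec t) (σ : ↥(AutR S X)) (q : RQ S X) :
    (((1 : ↥S), (hOf ht σ q)⁻¹) : ↥S × ↥S) • t (σ • q) = (σ : Equiv.Perm X) (t q) := by
  unfold hOf
  rw [inv_inv]
  exact cOf_spec ht σ q

theorem hOf_unique (hfree : RightFree S X) {t : RQ S X → X} (ht : IsSec t) (σ : ↥(AutR S X)) (q : RQ S X)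
    (c : ↥S) (hc : (((1 : ↥S), c⁻¹) : ↥S × ↥S) • t (σ • q) = (σ : Equiv.Perm X) (t q)) : hOf ht σ q = c := by
  unfold hOf
  rw [cOf_unique hfree ht σ q c⁻¹ hc, inv_inv]

/-- The intertwining relation. -/
theorem hOf_intertwine (hfree : RightFree S X) {t : RQ S X → X} (ht : IsSec t) {σ α β : ↥(AutR S X)}
    (h : σ * α = β * σ) (q : RQ S X) :
    hOf ht β (σ • q) * hOf ht σ q = hOf ht σ (α • q) * hOf ht α q := by
  rw [← hOf_mul hfree, ← hOf_mul hfree, h]

/-! ### Augmentations -/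

section aug

variable {A : Type*} [CommGroup A] (lam : ↥S →* A) (ε : X → A)

/-- An augmentation (degree function) of the biset over `lam`. -/
def IsAug : Prop := ∀ (a b : ↥S) (x : X), ε (((a, b) : ↥S × ↥S) • x) = lam a * (lam b)⁻¹ * ε x

variable {lam ε}

theorem exists_sec (hε : IsAug lam ε) (hlam : Function.Surjective lam) :
    ∃ t : RQ S X → X, IsSec t ∧ ∀ q, ε (t q) = 1 := by
  have key : ∀ q : RQ S X, ∃ x : X, rmk x = q ∧ ε x = 1 := by
    intro q
    induction q using RQ.ind with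
    | h x =>
      obtain ⟨b, hb⟩ := hlam (ε x)
      refine ⟨(((1 : ↥S), b) : ↥S × ↥S) • x, ?_, ?_⟩
      · rw [rmk_eq_iff]
        exact ⟨b⁻¹, by
          rw [smul_smul]
          have : (((1 : ↥S), b⁻¹) : ↥S × ↥S) * (((1 : ↥S), b) : ↥S × ↥S) = 1 := by
            ext <;> simp
          rw [this, one_smul]⟩
      · rw [hε, map_one, one_mul, hb, inv_mul_cancel]
  choose t ht1 ht2 using key
  exact ⟨t, ht1, ht2⟩

theorem lam_hOf (hε : IsAug lam ε) {t : RQ S X → X} (ht : IsSec t) (ht1 : ∀ q, ε (t q) = 1) (σ : ↥(AutR S X))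
    (q : RQ S X) : lam (hOf ht σ q) = ε ((σ : Equiv.Perm X) (t q)) := by
  rw [← hOf_spec ht σ q, hε, ht1, map_one, one_mul, mul_one, map_inv, inv_inv]

theorem lam_hOf_iota (hε : IsAug lam ε) {t : RQ S X → X} (ht : IsSec t) (ht1 : ∀ q, ε (t q) = 1) (s : ↥S)
    (q : RQ S X) : lam (hOf ht (iotaHom S X s) q) = lam s := by
  rw [lam_hOf hε ht ht1, iotaHom_apply, hε, ht1, map_one, mul_one, inv_one, mul_one]

/-- The value of any degree function on the cocycle. -/
theorem deg_hOf {B : Type*} [CommGroup B] {μ : ↥S →* B} {Dμ : X → B} (hDμ : IsAug μ Dμ) {t : RQ S X → X}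
    (ht : IsSec t) (σ : ↥(AutR S X)) (q : RQ S X) :
    μ (hOf ht σ q) = Dμ ((σ : Equiv.Perm X) (t q)) / Dμ (t (σ • q)) := by
  rw [← hOf_spec ht σ q, hDμ, map_one, one_mul, map_inv, inv_inv, mul_div_cancel_right]

end aug

end Cfsg.Agent.Helper88.ParkSec
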