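import Cfsg.Agent.Helper86.PPKey
import Cfsg.Agent.Helper88.ParkSec

set_option autoImplicit false

/-! # A coherent augmentation of a stable biset

For a stable biset `X` of a fusion system `F` over `S` realized by the automorphism group `AutR S X` of the right `S`-set `X`, and
a degree function `D` over `lam : S → A` (`A` abelian of exponent `p`), the transfer-type homomorphism `Theta lam D` is trivial
on the centralizer of (the left action of) every element `v` "of the second type": no conjugate of `v` under `AutR S X` commutes with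
an element of `S` outside the kernel of `lam`.  We construct a degree function `eps` over `lam` which is coherent with `Theta`:
whenever `(v, c)` fixes a point `x`, `v` is of the second type and `τ ∈ AutR S X` conjugates (the left action of) `v` to that of `c`,
then `eps x = (Theta τ ^ k)⁻¹`, where `k` inverts the number of right orbits modulo `p`.
-/

namespace Cfsg.Agent.Helper88.ParkCoh

open Cfsg Cfsg.FusionSystem Cfsg.Agent.Helper87 Cfsg.Agent.Helper88.Biset Cfsg.Agent.Helper86.Park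
  Cfsg.Agent.Helper86.PP Cfsg.Agent.Helper88.ParkSec MulAction

variable {Ω : Type*} [Group Ω] {S : Subgroup Ω} (X : Type*) [MulAction (↥S × ↥S) X]
  {A : Type*} [CommGroup A]

/-- An element of `S` of the first type: some conjugate of it, under the automorphism group of the right `S`-set, commutes with an
element of `S` outside the kernel of `lam`. -/
def TypeI (lam : ↥S →* A) (c : ↥S) : Prop :=
  ∃ (τ : ↥(AutR S X)) (c' z : ↥S), τ * iotaHom S X c = iotaHom S X c' * τ ∧ z * c' = c' * z ∧ lam z ≠ 1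

variable {X}

theorem TypeI.of_conj {lam : ↥S →* A} {c d : ↥S} (τ : ↥(AutR S X)) (h : τ * iotaHom S X c = iotaHom S X d * τ)
    (hd : TypeI X lam d) : TypeI X lam c := by
  obtain ⟨τ', c', z, h1, h2, h3⟩ := hd
  refine ⟨τ' * τ, c', z, ?_, h2, h3⟩
  rw [mul_assoc, h, ← mul_assoc, h1, mul_assoc]

theorem TypeI.of_conj' {lam : ↥S →* A} {c d : ↥S} (τ : ↥(AutR S X)) (h : τ * iotaHom S X c = iotaHom S X d * τ)
    (hc : TypeI X lam c) : TypeI X lam d := by
  apply TypeI.of_conj τ⁻¹ _ hc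
  calc τ⁻¹ * iotaHom S X d = τ⁻¹ * (iotaHom S X d * τ) * τ⁻¹ := by group
    _ = τ⁻¹ * (τ * iotaHom S X c) * τ⁻¹ := by rw [h]
    _ = iotaHom S X c * τ⁻¹ := by group

section key

variable [Finite S] {p : ℕ} [Fact p.Prime] (hS : IsPGroup p S) (F : FusionSystem S) [Finite X]
  (hX : ∀ x : X, TD F (stabilizer (↥S × ↥S) x)) (hι : F.IsRealizedBy (iotaHom S X))
  (hA : ∀ a : A, a ^ p = 1) (lam : ↥S →* A) (D : X → A)
  (hD : ∀ (a b : ↥S) (x : X), D (((a, b) : ↥S × ↥S) • x) = lam a * (lam b)⁻¹ * D x)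

include hS hX hι hA in
/-- **The transfer-type homomorphism kills the centralizer of an element of the second type.** -/
theorem Theta_eq_one_of_comm {v : ↥S} (hv : ¬ TypeI X lam v) (g : ↥(AutR S X))
    (hg : g * iotaHom S X v = iotaHom S X v * g) : Theta lam D hD g = 1 := by
  have hQS : Subgroup.zpowers (v : Ω) ≤ S := by
    rw [Subgroup.zpowers_le]
    exact v.2
  have hvQ : (v : Ω) ∈ Subgroup.zpowers (v : Ω) := Subgroup.mem_zpowers _
  have hcomm : ∀ q : Subgroup.zpowers (v : Ω),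
      g * iotaHom S X ⟨q, hQS q.2⟩ = iotaHom S X ⟨q, hQS q.2⟩ * g := by
    rintro ⟨q, hq⟩
    obtain ⟨i, rfl⟩ := Subgroup.mem_zpowers_iff.mp hq
    have e : (⟨(v : Ω) ^ i, hQS hq⟩ : ↥S) = v ^ i := Subtype.ext (by simp)
    show g * iotaHom S X ⟨(v : Ω) ^ i, hQS hq⟩ = iotaHom S X ⟨(v : Ω) ^ i, hQS hq⟩ * g
    rw [e, map_zpow]
    have hc : Commute g (iotaHom S X v) := hg
    exact hc.zpow_right i
  have hmem := Theta_mem_of_comm hS F hX hA lam D hD hQS ?_ g hcomm
  · obtain ⟨w, hw, hwc⟩ := hmem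
    by_contra hne
    apply hv
    refine ⟨1, v, w, by rw [one_mul, mul_one], ?_, ?_⟩
    · have hw' : (w : Ω) ∈ centralizerIn S (Subgroup.zpowers (v : Ω)) := Subgroup.mem_subgroupOf.mp hw
      have h2 : (w : Ω) ∈ Subgroup.centralizer ((Subgroup.zpowers (v : Ω) : Subgroup Ω) : Set Ω) := hw'.2
      rw [Subgroup.mem_centralizer_iff] at h2
      have h1 := h2 (v : Ω) hvQ
      exact Subtype.ext h1.symm
    · rw [hwc]
      exact hne
  · intro ψ hψ z hz
    refine ⟨1, ⟨S.one_mem, Subgroup.one_mem _⟩, ?_⟩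
    have hψS : ∀ x : Subgroup.zpowers (v : Ω), ψ x ∈ S := (F.le_of_mem hψ).2
    obtain ⟨τ, hτ⟩ := (hι.2 _ hQS ψ hψS).mp hψ
    by_contra hne
    apply hv
    refine ⟨τ, ⟨ψ ⟨v, hvQ⟩, hψS _⟩, ⟨z, hz.1⟩, ?_, ?_, ?_⟩
    · have h1 := hτ ⟨v, hvQ⟩
      have h2 : iotaHom S X ⟨ψ ⟨v, hvQ⟩, hψS _⟩ = τ * iotaHom S X v * τ⁻¹ := h1
      rw [h2]
      group
    · have h2 : z ∈ Subgroup.centralizer ((ψ.range : Subgroup Ω) : Set Ω) := hz.2
      rw [Subgroup.mem_centralizer_iff] at h2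
      have h3 := h2 (ψ ⟨v, hvQ⟩) ⟨_, rfl⟩
      exact Subtype.ext h3.symm
    · intro h
      apply hne
      rw [h]
      exact map_one lam

omit [Finite ↥S] [Finite X] in
include hX hι in
/-- Every point stabilizer is realized by an element of the automorphism group. -/
theorem exists_real (x : X) :
    ∃ τ : ↥(AutR S X), ∀ a b : ↥S, ((a, b) : ↥S × ↥S) • x = x → τ * iotaHom S X a = iotaHom S X b * τ := by
  obtain ⟨P, P', e, he, hst⟩ := hX x
  have hP : P ≤ S := he.le_left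
  have hφS : ∀ y : P, (P'.subtype.comp e.toMonoidHom) y ∈ S := (F.le_of_mem he).2
  obtain ⟨g, hg⟩ := (hι.2 P hP _ hφS).mp he
  refine ⟨g, fun a b hab => ?_⟩
  have hmem : ((a, b) : ↥S × ↥S) ∈ stabilizer (↥S × ↥S) x := hab
  rw [hst] at hmem
  obtain ⟨a', ha1, ha2⟩ := (mem_graph e _).mp hmem
  have h1 := hg a'
  have e1 : (⟨(a' : Ω), hP a'.2⟩ : ↥S) = a := Subtype.ext ha1.symm
  have e2 : (⟨(P'.subtype.comp e.toMonoidHom) a', hφS a'⟩ : ↥S) = b := Subtype.ext ha2.symm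
  rw [e1, e2] at h1
  rw [h1]
  group

/-- A chosen element realizing the stabilizer of a point. -/
noncomputable def tauOf (x : X) : ↥(AutR S X) := Classical.choose (exists_real F hX hι x)

theorem tauOf_spec (x : X) (a b : ↥S) (hab : ((a, b) : ↥S × ↥S) • x = x) :
    tauOf F hX hι x * iotaHom S X a = iotaHom S X b * tauOf F hX hι x :=
  Classical.choose_spec (exists_real F hX hι x) a b hab

end key

/-- The base point of the orbit of a point. -/
noncomputable def baseOf (S : Subgroup Ω) {X : Type*} [MulAction (↥S × ↥S) X] (x : X) : X :=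
  (Quotient.mk (orbitRel (↥S × ↥S) X) x).out

theorem baseOf_smul (g : ↥S × ↥S) (x : X) : baseOf S (g • x) = baseOf S x := by
  unfold baseOf
  congr 1
  apply Quotient.sound
  show (orbitRel (↥S × ↥S) X).r (g • x) x
  rw [orbitRel_apply]
  exact ⟨g, rfl⟩

theorem exists_smul_baseOf (x : X) : ∃ a b : ↥S, ((a, b) : ↥S × ↥S) • baseOf S x = x := by
  have h1 : Quotient.mk (orbitRel (↥S × ↥S) X) (baseOf S x) = Quotient.mk (orbitRel (↥S × ↥S) X) x :=
    Quotient.out_eq _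
  have h2 : (orbitRel (↥S × ↥S) X).r (baseOf S x) x := Quotient.exact h1
  rw [orbitRel_apply] at h2
  obtain ⟨g, hg⟩ := h2
  refine ⟨g⁻¹.1, g⁻¹.2, ?_⟩
  show g⁻¹ • baseOf S x = x
  rw [← hg, inv_smul_smul]

section eps

variable [Finite S] {p : ℕ} [Fact p.Prime] (hS : IsPGroup p S) (F : FusionSystem S) [Finite X]
  (hX : ∀ x : X, TD F (stabilizer (↥S × ↥S) x)) (hι : F.IsRealizedBy (iotaHom S X))
  (hA : ∀ a : A, a ^ p = 1) (lam : ↥S →* A) (D : X → A)
  (hD : ∀ (a b : ↥S) (x : X), D (((a, b) : ↥S × ↥S) • x) = lam a * (lam b)⁻¹ * D x) (k : ℕ)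

/-- The coherent augmentation. -/
noncomputable def eps (x : X) : A :=
  D x * ((D (baseOf S x))⁻¹ * ((Theta lam D hD (tauOf F hX hι (baseOf S x))) ^ k)⁻¹)

theorem isAug_eps : IsAug lam (eps F hX hι lam D hD k) := by
  intro a b x
  unfold eps
  rw [baseOf_smul, hD, mul_assoc]

include hS hA in
/-- **Coherence.** -/
theorem eps_coh (hk : Fintype.card (RQ S X) * k % p = 1) (x : X) (v c : ↥S)
    (hvc : ((v, c) : ↥S × ↥S) • x = x) (hv : ¬ TypeI X lam v) (τ : ↥(AutR S X))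
    (hτ : τ * iotaHom S X v = iotaHom S X c * τ) :
    eps F hX hι lam D hD k x = ((Theta lam D hD τ) ^ k)⁻¹ := by
  obtain ⟨a, b, hab⟩ := exists_smul_baseOf (S := S) x
  have hstab : ((a⁻¹ * v * a, b⁻¹ * c * b) : ↥S × ↥S) • baseOf S x = baseOf S x := by
    have e : ((a⁻¹ * v * a, b⁻¹ * c * b) : ↥S × ↥S) = ((a, b) : ↥S × ↥S)⁻¹ * ((v, c) : ↥S × ↥S) * ((a, b) : ↥S × ↥S) := by
      ext <;> simp
    rw [e, mul_smul, mul_smul, hab, hvc, inv_smul_eq_iff]
    exact hab.symm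
  have h0 := tauOf_spec F hX hι (baseOf S x) _ _ hstab
  rw [map_mul, map_mul, map_inv, map_mul, map_mul, map_inv] at h0
  set τ₀ := tauOf F hX hι (baseOf S x) with hτ₀
  set τ2 : ↥(AutR S X) := iotaHom S X b * τ₀ * (iotaHom S X a)⁻¹ with hτ2
  have h1 : τ2 * iotaHom S X v = iotaHom S X c * τ2 := by
    calc τ2 * iotaHom S X v
        = iotaHom S X b * (τ₀ * ((iotaHom S X a)⁻¹ * iotaHom S X v * iotaHom S X a)) * (iotaHom S X a)⁻¹ := by
          rw [hτ2]; group
      _ = iotaHom S X b * ((iotaHom S X b)⁻¹ * iotaHom S X c * iotaHom S X b * τ₀) * (iotaHom S X a)⁻¹ := by rw [h0]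
      _ = iotaHom S X c * τ2 := by rw [hτ2]; group
  have hg : (τ⁻¹ * τ2) * iotaHom S X v = iotaHom S X v * (τ⁻¹ * τ2) := by
    calc τ⁻¹ * τ2 * iotaHom S X v = τ⁻¹ * (τ2 * iotaHom S X v) := mul_assoc _ _ _
      _ = τ⁻¹ * (iotaHom S X c * τ2) := by rw [h1]
      _ = τ⁻¹ * (iotaHom S X c * τ) * (τ⁻¹ * τ2) := by group
      _ = τ⁻¹ * (τ * iotaHom S X v) * (τ⁻¹ * τ2) := by rw [hτ]
      _ = iotaHom S X v * (τ⁻¹ * τ2) := by group
  have hΘ := Theta_eq_one_of_comm hS F hX hι hA lam D hD hv (τ⁻¹ * τ2) hg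
  rw [map_mul, map_inv, inv_mul_eq_one] at hΘ
  have hpow : ∀ (a : A) (i : ℕ), i % p = 1 → a ^ i = a := by
    intro a i hi
    rw [← Nat.div_add_mod i p, hi, pow_add, pow_mul, hA, one_pow, one_mul, pow_one]
  have hΘk : (Theta lam D hD τ) ^ k = lam b * (Theta lam D hD τ₀) ^ k * (lam a)⁻¹ := by
    rw [hΘ, hτ2, map_mul, map_mul, map_inv, Theta_iotaHom, Theta_iotaHom, mul_pow, mul_pow, inv_pow, ← pow_mul,
      ← pow_mul, hpow _ _ hk, hpow _ _ hk]
  have hDx : D x = lam a * (lam b)⁻¹ * D (baseOf S x) := by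
    conv_lhs => rw [← hab]
    exact hD a b _
  unfold eps
  rw [hΘk, ← hτ₀, hDx, mul_inv_rev, mul_inv_rev, inv_inv]
  calc lam a * (lam b)⁻¹ * D (baseOf S x) * ((D (baseOf S x))⁻¹ * ((Theta lam D hD τ₀) ^ k)⁻¹)
      = lam a * (lam b)⁻¹ * ((Theta lam D hD τ₀) ^ k)⁻¹ := by
        rw [← mul_assoc, mul_inv_cancel_right]
    _ = lam a * (((Theta lam D hD τ₀) ^ k)⁻¹ * (lam b)⁻¹) := by
        rw [mul_assoc, mul_comm (lam b)⁻¹]

end eps

end Cfsg.Agent.Helper88.ParkCoh
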