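import Cfsg.Agent.Helper88.ParkTwist

set_option autoImplicit false

/-! # The focal subgroup of the kernel of the transfer-type homomorphism

`focK` is the subgroup of `ker lam` generated by the quotients `u⁻¹ u'` of elements of `ker lam` whose left actions are conjugate
under an element of the kernel of `Theta lam D`.  The main theorem `focK_le_ker` bounds it: it lies in the kernel of every
`S`-equivariant quotient `qT : ker lam → M` onto an abelian group of exponent `p` satisfying the two Frattini-type conditions of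
the statement.
-/

namespace Cfsg.Agent.Helper88.ParkCrux

open Cfsg Cfsg.FusionSystem Cfsg.Agent.Helper87 Cfsg.Agent.Helper88.Biset Cfsg.Agent.Helper86.Park
  Cfsg.Agent.Helper86.PP Cfsg.Agent.Helper88.ParkSec Cfsg.Agent.Helper88.BaryPark Cfsg.Agent.Helper88.ParkCoh
  Cfsg.Agent.Helper88.ParkTwist MulAction

open scoped commutatorElement

/-- In a nilpotent group, a subgroup contained in its commutator with the whole group is trivial. -/
theorem eq_bot_of_le_commutator_top {G : Type*} [Group G] [Group.IsNilpotent G] (Y : Subgroup G)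
    (h : Y ≤ ⁅(⊤ : Subgroup G), Y⁆) : Y = ⊥ := by
  have key : ∀ n : ℕ, Y ≤ Subgroup.lowerCentralSeries (⊤ : Subgroup G) n := by
    intro n
    induction n with
    | zero => exact le_top
    | succ n ih =>
      rw [Subgroup.lowerCentralSeries_succ]
      refine h.trans ?_
      rw [Subgroup.commutator_comm]
      exact Subgroup.commutator_mono ih le_rfl
  obtain ⟨n, hn⟩ := Subgroup.nilpotent_iff_lowerCentralSeries.mp (inferInstance : Group.IsNilpotent G)
  have := key n
  rw [hn] at this
  exact le_bot_iff.mp this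

variable {Ω : Type*} [Group Ω] {S : Subgroup Ω} {X : Type*} [MulAction (↥S × ↥S) X] [Finite X]
  {A : Type*} [CommGroup A] (lam : ↥S →* A) (D : X → A)
  (hD : ∀ (a b : ↥S) (x : X), D (((a, b) : ↥S × ↥S) • x) = lam a * (lam b)⁻¹ * D x)

/-- The generators of `focK`. -/
def focKSet : Set lam.ker :=
  {y | ∃ (u u' : lam.ker) (σ : ↥(AutR S X)), Theta lam D hD σ = 1 ∧
    σ * iotaHom S X (u : ↥S) = iotaHom S X (u' : ↥S) * σ ∧ y = u⁻¹ * u'}

/-- The focal subgroup of the kernel of `Theta`, inside `ker lam`. -/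
def focK : Subgroup lam.ker := Subgroup.closure (focKSet lam D hD)

/-- Conjugation by an element of `S`, as an endomorphism of `ker lam`. -/
def conjKHom (s : ↥S) : lam.ker →* lam.ker where
  toFun v := conjK s v
  map_one' := by
    apply Subtype.ext
    show s * ((1 : lam.ker) : ↥S) * s⁻¹ = 1
    simp
  map_mul' v w := by
    apply Subtype.ext
    show s * ((v * w : lam.ker) : ↥S) * s⁻¹ = (s * (v : ↥S) * s⁻¹) * (s * (w : ↥S) * s⁻¹)
    rw [Subgroup.coe_mul]
    group

theorem conjKHom_apply (s : ↥S) (v : lam.ker) : conjKHom lam s v = conjK s v := rfl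

theorem conjK_mem_focK (s : ↥S) (v : lam.ker) (hv : v ∈ focK lam D hD) : conjK s v ∈ focK lam D hD := by
  have h1 : (focK lam D hD).map (conjKHom lam s) ≤ focK lam D hD := by
    unfold focK
    rw [Subgroup.map_le_iff_le_comap, Subgroup.closure_le]
    rintro _ ⟨u, u', σ, hσ1, hσ2, rfl⟩
    rw [SetLike.mem_coe, Subgroup.mem_comap, map_mul, map_inv]
    apply Subgroup.subset_closure
    refine ⟨conjK s u, conjK s u', iotaHom S X s * σ * (iotaHom S X s)⁻¹, ?_, ?_, rfl⟩
    · rw [map_mul, map_mul, map_inv, mul_comm, ← mul_assoc, inv_mul_cancel, one_mul, hσ1]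
    · show iotaHom S X s * σ * (iotaHom S X s)⁻¹ * iotaHom S X (s * (u : ↥S) * s⁻¹) =
        iotaHom S X (s * (u' : ↥S) * s⁻¹) * (iotaHom S X s * σ * (iotaHom S X s)⁻¹)
      rw [map_mul, map_mul, map_inv, map_mul, map_mul, map_inv]
      calc iotaHom S X s * σ * (iotaHom S X s)⁻¹ * (iotaHom S X s * iotaHom S X (u : ↥S) * (iotaHom S X s)⁻¹)
          = iotaHom S X s * (σ * iotaHom S X (u : ↥S)) * (iotaHom S X s)⁻¹ := by group
        _ = iotaHom S X s * (iotaHom S X (u' : ↥S) * σ) * (iotaHom S X s)⁻¹ := by rw [hσ2]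
        _ = _ := by group
  exact h1 ⟨v, hv, rfl⟩

section main

variable [Finite S] {p : ℕ} [Fact p.Prime] (hS : IsPGroup p S) (F : FusionSystem S)
  (hX : ∀ x : X, TD F (stabilizer (↥S × ↥S) x)) (hι : F.IsRealizedBy (iotaHom S X))
  (hAcard : Nat.card A = p) (hlams : Function.Surjective lam)
  (hn : Nat.Coprime (Fintype.card (RQ S X)) p)
  {M : Type*} [CommGroup M] (hM : ∀ m : M, m ^ p = 1) (qT : lam.ker →* M) (act : ↥S →* MulAut M)
  (hactT : ∀ (s : ↥S) (v : lam.ker), act s (qT v) = qT (conjK s v))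

/-- The subgroup generated by the commutators of `S` with the image of `focK`. -/
def commY : Subgroup M :=
  Subgroup.closure {m | ∃ (s : ↥S) (y : M), y ∈ (focK lam D hD).map qT ∧ m = act s y / y}

include hAcard hn hactT in
/-- The commutators of the first type are commutators with the image of `focK`. -/
theorem Jsub_le_commY : Jsub X qT act ≤ commY lam D hD qT act := by
  classical
  have hpp : p.Prime := Fact.out
  have hA : ∀ a : A, a ^ p = 1 := by
    intro a
    rw [← hAcard]
    exact pow_card_eq_one'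
  obtain ⟨k, -, hk⟩ := Nat.exists_mul_mod_eq_one_of_coprime hn hpp.one_lt
  have hpow : ∀ (a : A) (i : ℕ), i % p = 1 → a ^ i = a := by
    intro a i hi
    rw [← Nat.div_add_mod i p, hi, pow_add, pow_mul, hA, one_pow, one_mul, pow_one]
  unfold Jsub
  rw [Subgroup.closure_le]
  rintro _ ⟨s, c, ⟨τ, c', z, hτ, hzc, hz⟩, rfl⟩
  -- `c'` lies in the kernel of `lam`
  have hΘ := congrArg (Theta lam D hD) hτ
  rw [map_mul, map_mul, Theta_iotaHom, Theta_iotaHom, mul_comm, mul_left_inj] at hΘ
  have hc1 : lam (c : ↥S) = 1 := c.2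
  have hc' : lam c' = 1 := by
    rw [hc1, one_pow] at hΘ
    have h1 : (lam c' ^ Fintype.card (RQ S X)) ^ k = lam c' := by rw [← pow_mul]; exact hpow _ _ hk
    rw [← h1, ← hΘ, one_pow]
  -- `lam z` generates `A`
  have htop : Subgroup.zpowers (lam z) = ⊤ := zpowers_eq_top_of_prime_card hAcard hz
  have hgen : ∀ a : A, ∃ i : ℤ, lam (z ^ i) = a := by
    intro a
    have h1 : a ∈ Subgroup.zpowers (lam z) := by rw [htop]; exact Subgroup.mem_top _
    obtain ⟨i, hi⟩ := Subgroup.mem_zpowers_iff.mp h1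
    exact ⟨i, by rw [map_zpow]; exact hi⟩
  have hzi : ∀ i : ℤ, z ^ i * c' = c' * z ^ i := by
    intro i
    have h1 : Commute z c' := hzc
    exact h1.zpow_left i
  -- an element of the kernel of `Theta` conjugating `c` to `c'`
  obtain ⟨i, hi⟩ := hgen (((Theta lam D hD τ)⁻¹) ^ k)
  set σ : ↥(AutR S X) := iotaHom S X (z ^ i) * τ with hσ
  have hσ1 : Theta lam D hD σ = 1 := by
    rw [hσ, map_mul, Theta_iotaHom, hi, ← pow_mul, mul_comm k, hpow _ _ hk, inv_mul_cancel]
  have hσ2 : σ * iotaHom S X (c : ↥S) = iotaHom S X c' * σ := by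
    rw [hσ, mul_assoc, hτ, ← mul_assoc, ← map_mul, hzi, map_mul, mul_assoc]
  set cK : lam.ker := ⟨c', hc'⟩ with hcK
  have hmem : c⁻¹ * cK ∈ focK lam D hD := Subgroup.subset_closure ⟨c, cK, σ, hσ1, hσ2, rfl⟩
  -- `S` acts trivially on the class of `c'`
  have hact1 : ∀ s : ↥S, act s (qT cK) = qT cK := by
    intro s
    obtain ⟨i', hi'⟩ := hgen (lam s)
    have hv : lam ((z ^ i')⁻¹ * s) = 1 := by rw [map_mul, map_inv, hi', inv_mul_cancel]
    have e : s = z ^ i' * ((z ^ i')⁻¹ * s) := by group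
    rw [e, map_mul, MulAut.mul_apply, act_ker qT act hactT _ hv, hactT]
    congr 1
    apply Subtype.ext
    show z ^ i' * c' * (z ^ i')⁻¹ = c'
    rw [hzi, mul_inv_cancel_right]
  -- conclusion
  set y : M := (qT cK)⁻¹ * qT c with hy
  have hyY : y ∈ (focK lam D hD).map qT := by
    have h1 : y = qT ((c⁻¹ * cK)⁻¹) := by
      rw [hy, map_inv, map_mul, map_inv, mul_inv_rev, inv_inv]
    rw [h1]
    exact ⟨_, (focK lam D hD).inv_mem hmem, rfl⟩
  have hqc : qT c = qT cK * y := by rw [hy, mul_inv_cancel_left]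
  apply Subgroup.subset_closure
  refine ⟨s, y, hyY, ?_⟩
  rw [hqc, map_mul, hact1, mul_div_mul_left_eq_div]

include hactT in
theorem commY_le : commY lam D hD qT act ≤ (focK lam D hD).map qT := by
  unfold commY
  rw [Subgroup.closure_le]
  rintro _ ⟨s, y, hy, rfl⟩
  obtain ⟨v, hv, rfl⟩ := hy
  refine Subgroup.div_mem _ ?_ ⟨v, hv, rfl⟩
  rw [hactT]
  exact ⟨_, conjK_mem_focK lam D hD s v hv, rfl⟩

variable {Gt : Type*} [Group Gt] [Finite Gt] (qt : ↥S →* Gt) (j : M →* Gt)
  (hj : Function.Injective j) (hqT : ∀ v : lam.ker, j (qT v) = qt v)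
  (hact : ∀ (s : ↥S) (m : M), j (act s m) = qt s * j m * (qt s)⁻¹)
  (hqt : Function.Surjective qt) (hker : ∀ (u : ↥S) (m : M), qt u = j m → lam u = 1)
  {B : Type*} [CommGroup B] (μ' : Gt →* B) (hμ' : ∀ g : Gt, μ' g = 1 → g ∈ frattini Gt)
  (hμst : IsStableHom F (μ'.comp qt))
  (hlamst : IsStableHom F lam)

include hS hX hι hAcard hlams hn hM hj hqT hact hqt hker hμ' hμst in
/-- **The bound for the focal subgroup of the kernel of `Theta`.** -/
theorem focK_le_ker [Finite M]
    (hXle : ∀ f : lam.ker →* M, qT.ker ≤ f.ker ⊔ focK lam D hD) :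
    focK lam D hD ≤ qT.ker := by
  classical
  have hpp : p.Prime := Fact.out
  have hA : ∀ a : A, a ^ p = 1 := by
    intro a
    rw [← hAcard]
    exact pow_card_eq_one'
  have hfree : RightFree S X := right_free F hX
  obtain ⟨k, -, hk⟩ := Nat.exists_mul_mod_eq_one_of_coprime hn hpp.one_lt
  have hactT : ∀ (s : ↥S) (v : lam.ker), act s (qT v) = qT (conjK s v) := by
    intro s v
    apply hj
    rw [hact, hqT, hqT]
    show qt s * qt (v : ↥S) * (qt s)⁻¹ = qt (s * (v : ↥S) * s⁻¹)
    rw [map_mul, map_mul, map_inv]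
  have hε : IsAug lam (eps F hX hι lam D hD k) := isAug_eps F hX hι lam D hD k
  obtain ⟨t, ht, ht1⟩ := exists_sec hε hlams
  obtain ⟨Dμ, hDμ⟩ := exists_degree F hX (μ'.comp qt) hμst
  have hwsurj : Function.Surjective (wK qT hfree hε ht ht1) :=
    wK_surjective qT qt j act hj hqT hact hfree hε ht ht1 hM k hk hqt hker μ' hμ' Dμ hDμ
  set w := wK qT hfree hε ht ht1 with hw
  -- the twist
  have htw : ∀ y ∈ focK lam D hD, w y ∈ Jsub X qT act := by
    intro y hy
    unfold focK at hy
    induction hy using Subgroup.closure_induction with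
    | mem y hy =>
      obtain ⟨u, u', σ, hσ1, hσ2, rfl⟩ := hy
      rw [map_mul, map_inv, mul_comm, ← div_eq_mul_inv]
      exact wK_twist_mem qT act hactT hfree hε ht ht1 (Function.surjInv hlams) (Function.surjInv_eq hlams) D hD k
        (exists_real F hX hι) (eps_coh hS F hX hι hA lam D hD k hk) σ hσ1 u u' hσ2
    | one => rw [map_one]; exact Subgroup.one_mem _
    | mul a b _ _ ha hb => rw [map_mul]; exact Subgroup.mul_mem _ ha hb
    | inv a _ ha => rw [map_inv]; exact Subgroup.inv_mem _ ha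
  set J := Jsub X qT act with hJ
  set Ybar : Subgroup M := (focK lam D hD).map qT with hYbar
  have hJc : J ≤ commY lam D hD qT act := Jsub_le_commY lam D hD hAcard hn qT act hactT
  have hcY : commY lam D hD qT act ≤ Ybar := commY_le lam D hD qT act hactT
  -- the index computation
  have hqTsurj : Function.Surjective qT := by
    intro m
    obtain ⟨u, hu⟩ := hqt (j m)
    have hul := hker u m hu
    refine ⟨⟨u, hul⟩, ?_⟩
    apply hj
    rw [hqT, hu]
  have hfocC : focK lam D hD ≤ J.comap w := fun y hy => htw y hy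
  have hkerC : qT.ker ≤ J.comap w := by
    refine (hXle w).trans (sup_le ?_ hfocC)
    intro v hv
    rw [Subgroup.mem_comap, MonoidHom.mem_ker.mp hv]
    exact Subgroup.one_mem _
  have hle : Ybar.comap qT ≤ J.comap w := by
    rw [hYbar, Subgroup.comap_map_eq]
    exact sup_le hfocC hkerC
  have hd1 : J.index ∣ Ybar.index := by
    have h1 := Subgroup.index_dvd_of_le hle
    rwa [Subgroup.index_comap_of_surjective _ hwsurj, Subgroup.index_comap_of_surjective _ hqTsurj] at h1
  have hJY : J ≤ Ybar := hJc.trans hcY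
  have hYJ : Ybar ≤ J := by
    rw [← Subgroup.relIndex_eq_one]
    have h1 := Subgroup.relIndex_mul_index hJY
    obtain ⟨e, he⟩ := hd1
    have hY0 : Ybar.index ≠ 0 := Subgroup.index_ne_zero_of_finite
    have hJ0 : J.index ≠ 0 := Subgroup.index_ne_zero_of_finite
    rw [he] at h1
    have h3 : J.index * (J.relIndex Ybar * e) = J.index * 1 := by
      rw [mul_one]
      calc J.index * (J.relIndex Ybar * e) = J.relIndex Ybar * (J.index * e) := by ring
        _ = J.index := h1
    have h4 := Nat.eq_of_mul_eq_mul_left (Nat.pos_of_ne_zero hJ0) h3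
    exact Nat.eq_one_of_mul_eq_one_right h4
  -- nilpotency
  have hGtp : IsPGroup p Gt := hS.of_surjective qt hqt
  have : Group.IsNilpotent Gt := hGtp.isNilpotent
  have hY' : Ybar.map j ≤ ⁅(⊤ : Subgroup Gt), Ybar.map j⁆ := by
    have h1 : Ybar ≤ commY lam D hD qT act := hYJ.trans hJc
    refine (Subgroup.map_mono h1).trans ?_
    unfold commY
    rw [Subgroup.map_le_iff_le_comap, Subgroup.closure_le]
    rintro _ ⟨s, y, hy, rfl⟩
    rw [SetLike.mem_coe, Subgroup.mem_comap, map_div, hact]
    have h2 : qt s * j y * (qt s)⁻¹ / j y = ⁅qt s, j y⁆ := by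
      rw [commutatorElement_def, div_eq_mul_inv]
    rw [h2]
    exact Subgroup.commutator_mem_commutator (Subgroup.mem_top _) (Subgroup.mem_map_of_mem j hy)
  have hbot := eq_bot_of_le_commutator_top _ hY'
  rw [(Subgroup.map_eq_bot_iff_of_injective _ hj)] at hbot
  intro v hv
  rw [MonoidHom.mem_ker]
  have h1 : qT v ∈ Ybar := ⟨v, hv, rfl⟩
  rw [hbot, Subgroup.mem_bot] at h1
  exact h1

end main

end Cfsg.Agent.Helper88.ParkCrux
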