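import Cfsg.Agent.Helper86.PPMain
import Cfsg.Agent.Helper88.ParkCrux

set_option autoImplicit false

/-! # The explicit subsystem of `p`-power index cut out by the kernel of the transfer-type homomorphism

A variant of `Helper86.PP.exists_pPowerIndex_of_hom` exposing the construction: the biset, and the subsystem as the pull-back of the
kernel of `Theta lam D`.
-/

namespace Cfsg.Agent.Helper88.ParkPull

open Cfsg Cfsg.FusionSystem Cfsg.Agent.Helper87 Cfsg.Agent.Helper88.Marks Cfsg.Agent.Helper88.Biset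
  Cfsg.Agent.Helper88.PN Cfsg.Agent.Helper86.Park Cfsg.Agent.Helper86.PP MulAction

variable {Ω : Type*} [Group Ω] {S : Subgroup Ω}

/-- A stable biset realizing the system, with a number of right orbits prime to `p`. -/
theorem exists_biset_data [Finite S] {p : ℕ} [Fact p.Prime] (hS : IsPGroup p S) (F : FusionSystem S)
    (hF : F.IsSaturated p) :
    ∃ M : Subgroup (↥S × ↥S) →₀ ℕ, (∀ x : BX M, TD F (stabilizer (↥S × ↥S) x)) ∧
      F.IsRealizedBy (iotaHom S (BX M)) ∧ Nat.Coprime (Fintype.card (RQ S (BX M))) p := by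
  classical
  have hpp : p.Prime := Fact.out
  obtain ⟨m, hm1, hm2, hm3⟩ := exists_char_biset hS F hF
  obtain ⟨m', hm'1, hm'2, hm'3⟩ := exists_stable_biset F
  have hsupp : ∀ D ∈ (m + p • m').support, TD F D := by
    intro D hD
    rcases Finset.mem_union.mp (Finsupp.support_add hD) with h | h
    · exact hm1 D h
    · exact hm'1 D (Finsupp.support_smul h)
  have hstab : StableFrom F (m + p • m') 0 := by
    intro K K' hK hK' hc h0
    rw [mark_add, mark_add, mark_nsmul, mark_nsmul, hm2 K K' hK hK' hc h0, hm'2 K K' hK hK' hc h0]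
  have hdiag : mark (m + p • m') (diag S : Subgroup (↥S × ↥S)) ≠ 0 := by
    rw [mark_add, mark_nsmul]
    have : 0 < p * mark m' (diag S : Subgroup (↥S × ↥S)) := Nat.mul_pos hpp.pos (Nat.pos_of_ne_zero hm'3)
    omega
  have hidx : ¬ p ∣ idx (m + p • m') := by
    rw [idx_add, idx_nsmul]
    intro h
    exact hm3 ((Nat.dvd_add_left (Dvd.intro _ rfl)).mp h)
  have hX1 : ∀ K : Subgroup (↥S × ↥S), fixCard (BX (m + p • m')) K ≠ 0 → TD F K := by
    intro K hK
    rw [fixCard_BX] at hK
    exact TD.of_mark_ne_zero _ hsupp K hK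
  have hXst : ∀ x : BX (m + p • m'), TD F (stabilizer (↥S × ↥S) x) := by
    intro x
    apply hX1
    exact fixCard_ne_zero_of_fixed x (fun k hk => hk)
  have hι : F.IsRealizedBy (iotaHom S (BX (m + p • m'))) := by
    apply isRealizedBy_iotaHom F (BX (m + p • m')) hX1
    · intro K K' hK hK' hc
      rw [fixCard_BX, fixCard_BX]
      exact hstab K K' hK hK' hc (Nat.zero_le _)
    · rw [fixCard_BX]
      exact hdiag
  have hcard := card_eq_card_mul_card_RQ (S := S) (X := BX (m + p • m')) (right_free F hXst)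
  rw [card_BX_eq F _ hsupp] at hcard
  have hn : idx (m + p • m') = Fintype.card (RQ S (BX (m + p • m'))) :=
    Nat.eq_of_mul_eq_mul_left Nat.card_pos hcard
  rw [hn] at hidx
  exact ⟨m + p • m', hXst, hι, ((Nat.Prime.coprime_iff_not_dvd hpp).mpr hidx).symm⟩

section pull

variable [Finite S] {p : ℕ} [Fact p.Prime] (hS : IsPGroup p S) (F : FusionSystem S) (hF : F.IsSaturated p)
  {X : Type*} [MulAction (↥S × ↥S) X] [Finite X]
  (hXst : ∀ x : X, TD F (stabilizer (↥S × ↥S) x)) (hι : F.IsRealizedBy (iotaHom S X))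
  (hcop : Nat.Coprime (Fintype.card (RQ S X)) p)
  {A : Type*} [CommGroup A] (hA : ∀ a : A, a ^ p = 1) (lam : ↥S →* A) (hlams : Function.Surjective lam)
  (hlamst : IsStableHom F lam) (D : X → A)
  (hD : ∀ (a b : ↥S) (x : X), D (((a, b) : ↥S × ↥S) • x) = lam a * (lam b)⁻¹ * D x)

include hcop hA in
theorem preimage_ker_Theta :
    preimageAlong (iotaHom S X) (Theta lam D hD).ker = (lam.ker).map S.subtype := by
  have hpp : p.Prime := Fact.out
  obtain ⟨k, -, hk⟩ := Nat.exists_mul_mod_eq_one_of_coprime hcop hpp.one_lt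
  have hpow : ∀ (a : A) (j : ℕ), j % p = 1 → a ^ j = a := by
    intro a j hj
    rw [← Nat.div_add_mod j p, hj, pow_add, pow_mul, hA, one_pow, one_mul, pow_one]
  have hiff : ∀ s : ↥S, Theta lam D hD (iotaHom S X s) = 1 ↔ lam s = 1 := by
    intro s
    rw [Theta_iotaHom]
    constructor
    · intro h
      rw [← hpow (lam s) _ hk, pow_mul, h, one_pow]
    · intro h
      rw [h, one_pow]
  ext x
  rw [Cfsg.Agent.Helper85.mem_preimageAlong]
  constructor
  · rintro ⟨h, hx⟩
    refine ⟨⟨x, h⟩, ?_, rfl⟩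
    rw [MonoidHom.mem_ker] at hx
    exact (hiff _).mp hx
  · rintro ⟨w, hw, rfl⟩
    refine ⟨w.2, ?_⟩
    rw [MonoidHom.mem_ker]
    exact (hiff _).mpr hw

include hS hF hXst hcop hA hlams hlamst in
/-- **The explicit subsystem of `p`-power index.** -/
theorem pull_saturated_pPower (hhyp : F.hyperfocalSubgroup p ≤ (lam.ker).map S.subtype) :
    (pullSystem (iotaHom S X) hι.1 (Theta lam D hD).ker).IsSaturated p ∧
      (pullSystem (iotaHom S X) hι.1 (Theta lam D hD).ker).HasPPowerIndexIn F p := by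
  classical
  have hpp : p.Prime := Fact.out
  obtain ⟨k, -, hk⟩ := Nat.exists_mul_mod_eq_one_of_coprime hcop hpp.one_lt
  have hpow : ∀ (a : A) (j : ℕ), j % p = 1 → a ^ j = a := by
    intro a j hj
    rw [← Nat.div_add_mod j p, hj, pow_add, pow_mul, hA, one_pow, one_mul, pow_one]
  have hTeq := preimage_ker_Theta (X := X) hcop hA lam D hD
  have hΘpow : ∀ s : ↥S, Theta lam D hD (iotaHom S X (s ^ k)) = lam s := by
    intro s
    rw [Theta_iotaHom, map_pow, ← pow_mul, mul_comm]
    exact hpow _ _ hk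
  constructor
  · apply pull_isSaturated_of_centralizers F _ hι _ hS hF
    · intro g
      obtain ⟨s, hs⟩ := hlams (Theta lam D hD g)
      refine ⟨(s ^ k : ↥S), (s ^ k).2, (jj (iotaHom S X) ((s ^ k : ↥S) : Ω))⁻¹ * g, ?_, by group⟩
      rw [MonoidHom.mem_ker, map_mul, map_inv, jj_eq _ (s ^ k).2, hΘpow, hs, inv_mul_cancel]
    · intro Q hQa hQr c hc
      have hQS : Q ≤ S := hQa.1
      have hc' : ∀ q : Q, c * iotaHom S X ⟨q, hQS q.2⟩ = iotaHom S X ⟨q, hQS q.2⟩ * c := by
        intro q
        have := hc q q.2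
        rwa [jj_eq _ (hQS q.2)] at this
      have hmem := Theta_mem_of_comm hS F hXst hA lam D hD hQS
        (fun ψ hψ z hz => exists_centralizer_theta_eq hS F lam hlamst hQa hQr hψ hz) c hc'
      obtain ⟨w, hw, hwc⟩ := hmem
      have hw' : (w : Ω) ∈ centralizerIn S Q := Subgroup.mem_subgroupOf.mp hw
      refine ⟨((w ^ k : ↥S) : Ω), ?_, ?_⟩
      · rw [Subgroup.coe_pow]
        exact Subgroup.pow_mem _ hw' k
      · rw [MonoidHom.mem_ker, map_mul, map_inv, jj_eq _ (w ^ k).2, hΘpow, hwc, inv_mul_cancel]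
  · apply pull_hasPPowerIndexIn F _ hι
    · rw [hTeq]
      exact hhyp
    · intro g
      rw [MonoidHom.mem_ker, map_pow]
      exact hA _

end pull

end Cfsg.Agent.Helper88.ParkPull
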