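import Cfsg.Agent.Helper88.ParkCrux
import Cfsg.Agent.Helper90.ExtraCrit

set_option autoImplicit false
set_option linter.style.haveILetI false

/-! # The bound for `focK`, for a normal subgroup of `S` inside `ker lam`

`focK_le_of_subgroup`: if `XK ≤ ker lam` is normalized by `S`, contains the `p`-th powers and the commutators of `ker lam`, lies in
their product with `focK`, and if the focal subgroup of `F` lies in `XK S'`, then `focK ≤ XK`.
-/

namespace Cfsg.Agent.Helper88.ParkStep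

open Cfsg Cfsg.FusionSystem Cfsg.Agent.Helper87 Cfsg.Agent.Helper88.Biset Cfsg.Agent.Helper86.Park
  Cfsg.Agent.Helper86.PP Cfsg.Agent.Helper88.ParkSec Cfsg.Agent.Helper88.ParkTwist Cfsg.Agent.Helper88.ParkCrux MulAction

open scoped commutatorElement

variable {Ω : Type*} [Group Ω] {S : Subgroup Ω} {A : Type*} [CommGroup A]

/-- The subgroup of `ker lam` generated by the `p`-th powers and the commutators. -/
def PhiK (p : ℕ) (lam : ↥S →* A) : Subgroup lam.ker :=
  Subgroup.closure ({y | ∃ v : lam.ker, y = v ^ p} ∪ {y | ∃ v w : lam.ker, y = ⁅v, w⁆})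

theorem PhiK_le_ker (p : ℕ) (lam : ↥S →* A) {M : Type*} [CommGroup M] (hM : ∀ m : M, m ^ p = 1)
    (f : lam.ker →* M) : PhiK p lam ≤ f.ker := by
  unfold PhiK
  rw [Subgroup.closure_le]
  rintro y (⟨v, rfl⟩ | ⟨v, w, rfl⟩)
  · rw [SetLike.mem_coe, MonoidHom.mem_ker, map_pow, hM]
  · rw [SetLike.mem_coe, MonoidHom.mem_ker, commutatorElement_def, map_mul, map_mul, map_mul, map_inv, map_inv,
      mul_comm (f v), mul_inv_cancel_right, mul_inv_cancel]

variable {X : Type*} [MulAction (↥S × ↥S) X] [Finite X]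

theorem focK_le_of_subgroup [Finite S] {p : ℕ} [Fact p.Prime] (hS : IsPGroup p S) (F : FusionSystem S)
    (hX : ∀ x : X, TD F (stabilizer (↥S × ↥S) x)) (hι : F.IsRealizedBy (iotaHom S X))
    (hAcard : Nat.card A = p) (lam : ↥S →* A) (hlams : Function.Surjective lam)
    (hn : Nat.Coprime (Fintype.card (RQ S X)) p) (D : X → A)
    (hD : ∀ (a b : ↥S) (x : X), D (((a, b) : ↥S × ↥S) • x) = lam a * (lam b)⁻¹ * D x)
    (XK : Subgroup lam.ker)
    (hinv : ∀ (s : ↥S) (v : lam.ker), v ∈ XK → conjK s v ∈ XK)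
    (hPhi : PhiK p lam ≤ XK)
    (hXKle : XK ≤ PhiK p lam ⊔ focK lam D hD)
    (hfocF : F.focalSubgroup.subgroupOf S ≤ XK.map (lam.ker).subtype ⊔ commutator ↥S) :
    focK lam D hD ≤ XK := by
  classical
  set XS : Subgroup ↥S := XK.map (lam.ker).subtype with hXS
  have hXSmem : ∀ v : lam.ker, (v : ↥S) ∈ XS ↔ v ∈ XK := by
    intro v
    constructor
    · rintro ⟨w, hw, hwv⟩
      have : w = v := Subtype.ext hwv
      rwa [← this]
    · intro hv
      exact ⟨v, hv, rfl⟩
  have hXSker : ∀ s ∈ XS, lam s = 1 := by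
    rintro _ ⟨w, -, rfl⟩
    exact w.2
  haveI hXSn : XS.Normal := ⟨fun x hx s => by
    obtain ⟨v, hv, rfl⟩ := hx
    exact ⟨conjK s v, hinv s v hv, rfl⟩⟩
  let qt : ↥S →* ↥S ⧸ XS := QuotientGroup.mk' XS
  have hqt : Function.Surjective qt := QuotientGroup.mk'_surjective XS
  have hqt1 : ∀ s : ↥S, qt s = 1 ↔ s ∈ XS := fun s => QuotientGroup.eq_one_iff s
  let MT : Subgroup (↥S ⧸ XS) := (lam.ker).map qt
  haveI hMTn : MT.Normal := (MonoidHom.normal_ker lam).map qt hqt
  have hcomm : ∀ a b : ↥MT, a * b = b * a := by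
    rintro ⟨_, v, hv, rfl⟩ ⟨_, w, hw, rfl⟩
    apply Subtype.ext
    show qt v * qt w = qt w * qt v
    have h1 : (⁅(⟨v, hv⟩ : lam.ker), ⟨w, hw⟩⁆ : lam.ker) ∈ XK :=
      hPhi (Subgroup.subset_closure (Or.inr ⟨_, _, rfl⟩))
    have h2 : ⁅v, w⁆ ∈ XS := (hXSmem _).mpr h1
    have h3 : qt ⁅v, w⁆ = 1 := (hqt1 _).mpr h2
    rw [commutatorElement_def, map_mul, map_mul, map_mul, map_inv, map_inv] at h3
    calc qt v * qt w = (qt v * qt w * (qt v)⁻¹ * (qt w)⁻¹) * (qt w * qt v) := by group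
      _ = qt w * qt v := by rw [h3, one_mul]
  letI cM : CommGroup ↥MT := { (inferInstance : Group ↥MT) with mul_comm := hcomm }
  have hM : ∀ m : ↥MT, m ^ p = 1 := by
    rintro ⟨_, v, hv, rfl⟩
    apply Subtype.ext
    show (qt v) ^ p = 1
    have h1 : ((⟨v, hv⟩ : lam.ker) ^ p : lam.ker) ∈ XK := hPhi (Subgroup.subset_closure (Or.inl ⟨_, rfl⟩))
    have h2 : v ^ p ∈ XS := (hXSmem _).mpr h1
    rw [← map_pow]
    exact (hqt1 _).mpr h2
  let qT : lam.ker →* ↥MT := qt.subgroupMap lam.ker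
  let j : ↥MT →* ↥S ⧸ XS := MT.subtype
  let act : ↥S →* MulAut ↥MT := (MulAut.conjNormal (H := MT)).comp qt
  have hj : Function.Injective j := Subtype.val_injective
  have hqT : ∀ v : lam.ker, j (qT v) = qt v := fun v => rfl
  have hact : ∀ (s : ↥S) (m : ↥MT), j (act s m) = qt s * j m * (qt s)⁻¹ := fun s m => rfl
  have hker : ∀ (u : ↥S) (m : ↥MT), qt u = j m → lam u = 1 := by
    rintro u ⟨_, v, hv, rfl⟩ hu
    have h1 : qt u = qt v := hu
    have h2 : u⁻¹ * v ∈ XS := QuotientGroup.eq.mp h1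
    have h3 := hXSker _ h2
    rw [map_mul, map_inv, MonoidHom.mem_ker.mp hv, mul_one, inv_eq_one] at h3
    exact h3
  have hGtp : IsPGroup p (↥S ⧸ XS) := hS.of_surjective qt hqt
  haveI : Group.IsNilpotent (↥S ⧸ XS) := hGtp.isNilpotent
  let μ' : (↥S ⧸ XS) →* Abelianization (↥S ⧸ XS) := Abelianization.of
  have hμ' : ∀ g : ↥S ⧸ XS, μ' g = 1 → g ∈ frattini (↥S ⧸ XS) := by
    intro g hg
    apply Cfsg.Agent.Helper90.commutator_le_frattini'
    rw [← Abelianization.ker_of]
    exact hg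
  have hμst : IsStableHom F (μ'.comp qt) := by
    apply isStableHom_of_focal_le
    refine hfocF.trans (sup_le ?_ (Abelianization.commutator_subset_ker _))
    intro s hs
    rw [MonoidHom.mem_ker]
    show μ' (qt s) = 1
    rw [(hqt1 s).mpr hs, map_one]
  have hkerqT : qT.ker = XK := by
    ext v
    rw [MonoidHom.mem_ker, ← hXSmem v, ← hqt1]
    constructor
    · intro h
      exact congrArg Subtype.val h
    · intro h
      exact Subtype.ext h
  have hXle : ∀ f : lam.ker →* ↥MT, qT.ker ≤ f.ker ⊔ focK lam D hD := by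
    intro f
    rw [hkerqT]
    exact hXKle.trans (sup_le_sup_right (PhiK_le_ker p lam hM f) _)
  have key := focK_le_ker lam D hD hS F hX hι hAcard hlams hn hM qT act qt j hj hqT hact hqt hker μ' hμ' hμst hXle
  rw [hkerqT] at key
  exact key

end Cfsg.Agent.Helper88.ParkStep
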