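import Cfsg.Agent.Helper88.ThompsonTransfer
set_option autoImplicit false
set_option linter.style.haveILetI false

/-! # Fusion-theoretic input for the Thompson transfer lemma -/

namespace Cfsg.Agent.Helper88.Biset

open Cfsg Cfsg.FusionSystem Cfsg.Agent.Helper87 Cfsg.Agent.Helper88.Marks Cfsg.Agent.Helper88.TransferCount

variable {Ω : Type*} [Group Ω] {S : Subgroup Ω}

theorem hyperfocalSubgroup_le_focalSubgroup (F : FusionSystem S) (p : ℕ) :
    F.hyperfocalSubgroup p ≤ F.focalSubgroup := by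
  unfold hyperfocalSubgroup
  rw [Subgroup.closure_le]
  rintro y ⟨P, α, x, hP, -, rfl⟩
  unfold focalSubgroup
  apply Subgroup.subset_closure
  exact ⟨P, P.subtype.comp (α : MulAut P).toMonoidHom, x, (mem_autGroup_iff F hP _).mp α.2, rfl⟩

/-- If the cyclic subgroup `⟨(u, w)⟩` is a twisted diagonal then `u` and `w` are conjugate in the system. -/
theorem isConjElt_of_TD_zpowers {F : FusionSystem S} {u w : ↥S}
    (h : TD F (Subgroup.zpowers ((u, w) : ↥S × ↥S))) : F.IsConjElt (u : Ω) (w : Ω) := by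
  obtain ⟨P, Q, e, he, hK⟩ := h
  have hmem : ((u, w) : ↥S × ↥S) ∈ (graph e : Subgroup (↥S × ↥S)) := by
    rw [← hK]; exact Subgroup.mem_zpowers _
  obtain ⟨a, ha1, ha2⟩ := hmem
  have hle : Subgroup.zpowers (u : Ω) ≤ P := by
    rw [Subgroup.zpowers_le]
    show (u : Ω) ∈ P
    rw [show ((u : ↥S) : Ω) = a from ha1]; exact a.2
  refine ⟨_, restrict_mem F he hle, ?_⟩
  show ((e ⟨(u : Ω), _⟩ : Q) : Ω) = w
  rw [show ((w : ↥S) : Ω) = e a from ha2]
  congr 2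
  exact Subtype.ext ha1

/-- Marks at `⟨(u, w)⟩` do not change when `w` is replaced by its image under a map of the system. -/
theorem mark_zpowers_eq_snd (F : FusionSystem S) (m : Subgroup (↥S × ↥S) →₀ ℕ) (hsupp : ∀ D ∈ m.support, TD F D)
    (hstab : StableFrom F m 0) {P : Subgroup Ω} {φ : P →* Ω} (hφ : φ ∈ F.Hom P) (x : P) (u : ↥S) :
    mark m (Subgroup.zpowers ((u, (⟨x, (F.le_of_mem hφ).1 x.2⟩ : ↥S)) : ↥S × ↥S)) =
      mark m (Subgroup.zpowers ((u, (⟨φ x, (F.le_of_mem hφ).2 x⟩ : ↥S)) : ↥S × ↥S)) := by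
  obtain ⟨y, hy⟩ : ∃ y : ↥S, y = ⟨x, (F.le_of_mem hφ).1 x.2⟩ := ⟨_, rfl⟩
  obtain ⟨y', hy'⟩ : ∃ y' : ↥S, y' = ⟨φ x, (F.le_of_mem hφ).2 x⟩ := ⟨_, rfl⟩
  rw [← hy, ← hy']
  have hfst : ∀ (c : ↥S × ↥S) (n : ℤ), (c ^ n).1 = c.1 ^ n := fun c n => (MonoidHom.fst ↥S ↥S).map_zpow c n
  have hsnd : ∀ (c : ↥S × ↥S) (n : ℤ), (c ^ n).2 = c.2 ^ n := fun c n => (MonoidHom.snd ↥S ↥S).map_zpow c n
  have hcoe : ∀ n : ℤ, (((y ^ n : ↥S)) : Ω) = ((x ^ n : P) : Ω) := by
    intro n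
    rw [hy]
    simp
  have hcoe' : ∀ n : ℤ, (((y' ^ n : ↥S)) : Ω) = φ (x ^ n) := by
    intro n
    rw [hy', map_zpow]
    simp
  have hKA : ∀ z ∈ Subgroup.zpowers ((u, y) : ↥S × ↥S), ((z.1 : ↥S) : Ω) ∈ S := fun z _ => z.1.2
  have hKB : ∀ z ∈ Subgroup.zpowers ((u, y) : ↥S × ↥S), ((z.2 : ↥S) : Ω) ∈ P := by
    intro z hz
    obtain ⟨n, rfl⟩ := Subgroup.mem_zpowers_iff.mp hz
    rw [hsnd, hcoe]
    exact (x ^ n).2
  have hK' : ∀ z' : ↥S × ↥S, z' ∈ Subgroup.zpowers ((u, y') : ↥S × ↥S) ↔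
      ∃ z, ∃ hz : z ∈ Subgroup.zpowers ((u, y) : ↥S × ↥S),
        ((z'.1 : ↥S) : Ω) = S.subtype ⟨z.1, hKA z hz⟩ ∧ ((z'.2 : ↥S) : Ω) = φ ⟨z.2, hKB z hz⟩ := by
    intro z'
    constructor
    · intro hz'
      obtain ⟨n, rfl⟩ := Subgroup.mem_zpowers_iff.mp hz'
      refine ⟨(u, y) ^ n, Subgroup.zpow_mem_zpowers _ n, ?_, ?_⟩
      · show ((((u, y') : ↥S × ↥S) ^ n).1 : Ω) = ((((u, y) : ↥S × ↥S) ^ n).1 : Ω)
        rw [hfst, hfst]
      · rw [hsnd, hcoe']
        congr 1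
        apply Subtype.ext
        show (((x ^ n : P)) : Ω) = ((((u, y) : ↥S × ↥S) ^ n).2 : ↥S)
        rw [hsnd, hcoe]
    · rintro ⟨z, hz, hz1, hz2⟩
      obtain ⟨n, rfl⟩ := Subgroup.mem_zpowers_iff.mp hz
      have : z' = ((u, y') : ↥S × ↥S) ^ n := by
        apply Prod.ext
        · apply Subtype.ext
          rw [hz1, hfst ((u, y') : ↥S × ↥S) n]
          show ((((u, y) : ↥S × ↥S) ^ n).1 : Ω) = _
          rw [hfst]
        · apply Subtype.ext
          rw [hz2, hsnd ((u, y') : ↥S × ↥S) n, hcoe']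
          congr 1
          apply Subtype.ext
          show ((((u, y) : ↥S × ↥S) ^ n).2 : Ω) = ((x ^ n : P) : Ω)
          rw [hsnd, hcoe]
      rw [this]
      exact Subgroup.zpow_mem_zpowers _ n
  by_cases hTD : TD F (Subgroup.zpowers ((u, y) : ↥S × ↥S))
  · obtain ⟨hTD', hcj⟩ := TD.transport (subtype_mem F le_rfl) hφ hKA hKB hK' hTD
    exact hstab _ _ hTD hTD' hcj (Nat.zero_le _)
  · have h1 : mark m (Subgroup.zpowers ((u, y) : ↥S × ↥S)) = 0 := by
      by_contra h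
      exact hTD (TD.of_mark_ne_zero m hsupp _ h)
    have h2 : mark m (Subgroup.zpowers ((u, y') : ↥S × ↥S)) = 0 := by
      by_contra h
      exact hTD (TD.transport_symm (subtype_mem F le_rfl) hφ hKA hKB hK' (TD.of_mark_ne_zero m hsupp _ h))
    rw [h1, h2]

theorem mem_zpowers_involution {w x : Ω} (hw2 : w ^ 2 = 1) (hx : x ∈ Subgroup.zpowers w) : x = 1 ∨ x = w := by
  obtain ⟨n, rfl⟩ := Subgroup.mem_zpowers_iff.mp hx
  rcases Int.even_or_odd n with ⟨k, rfl⟩ | ⟨k, rfl⟩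
  · left
    rw [← two_mul, zpow_mul, zpow_two, ← pow_two, hw2, one_zpow]
  · right
    rw [zpow_add_one, zpow_mul, zpow_two, ← pow_two, hw2, one_zpow, one_mul]

/-- For an involution `w` of `S`, the normalizer in `S` of `⟨w⟩` has the order of the centralizer of `w`. -/
theorem card_centralizer_eq_card_normalizerIn [Finite S] (w : ↥S) (hw2 : (w : Ω) ^ 2 = 1) (hw1 : (w : Ω) ≠ 1) :
    Nat.card (Subgroup.centralizer ({w} : Set ↥S)) = Nat.card (normalizerIn S (Subgroup.zpowers (w : Ω))) := by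
  refine Nat.card_congr
    { toFun := fun c => ⟨(c.1 : Ω), ⟨c.1.2, ?_⟩⟩
      invFun := fun g => ⟨⟨g.1, g.2.1⟩, ?_⟩
      left_inv := fun c => rfl
      right_inv := fun g => rfl }
  · obtain ⟨c, hc⟩ := c
    have hcw : w * c = c * w := Subgroup.mem_centralizer_iff.mp hc w (Set.mem_singleton w)
    have hcw' : (w : Ω) * (c : Ω) = (c : Ω) * (w : Ω) := congrArg Subtype.val hcw
    have hcomm : ∀ h ∈ Subgroup.zpowers (w : Ω), (c : Ω) * h * (c : Ω)⁻¹ = h := by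
      intro h hh
      rcases mem_zpowers_involution hw2 hh with rfl | rfl
      · group
      · rw [← hcw']; group
    apply mem_normalizer_of_conj_mem_of_inv_conj_mem
    · intro y hy
      rw [hcomm y hy]; exact hy
    · intro y hy
      have := hcomm y hy
      have e : (c : Ω)⁻¹ * y * (c : Ω) = y := by
        calc (c : Ω)⁻¹ * y * (c : Ω) = (c : Ω)⁻¹ * ((c : Ω) * y * (c : Ω)⁻¹) * (c : Ω) := by rw [this]
          _ = y := by group
      rw [e]; exact hy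
  · obtain ⟨g, hgS, hgN⟩ := g
    show (⟨g, hgS⟩ : ↥S) ∈ Subgroup.centralizer ({w} : Set ↥S)
    rw [Subgroup.mem_centralizer_iff]
    intro y hy
    rw [Set.mem_singleton_iff] at hy
    rw [hy]
    have h1 : g * (w : Ω) * g⁻¹ ∈ Subgroup.zpowers (w : Ω) :=
      (Subgroup.mem_normalizer_iff.mp hgN _).mp (Subgroup.mem_zpowers _)
    apply Subtype.ext
    show (w : Ω) * g = g * (w : Ω)
    rcases mem_zpowers_involution hw2 h1 with h2 | h2
    · exfalso
      apply hw1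
      have : (w : Ω) = g⁻¹ * (g * (w : Ω) * g⁻¹) * g := by group
      rw [this, h2]; group
    · calc (w : Ω) * g = (g * (w : Ω) * g⁻¹) * g := by rw [h2]
        _ = g * (w : Ω) := by group

theorem two_mul_dvd_of_lt_of_pow {a b k l : ℕ} (ha : a = 2 ^ k) (hb : b = 2 ^ l) (h : a < b) : 2 * a ∣ b := by
  rw [ha, hb] at h ⊢
  have hkl : k < l := (Nat.pow_lt_pow_iff_right (by norm_num)).mp h
  rw [← pow_succ']
  exact pow_dvd_pow 2 hkl

/-- Maps of the system carry involutions to involutions. -/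
theorem involution_map (F : FusionSystem S) {P : Subgroup Ω} {φ : P →* Ω} (hφ : φ ∈ F.Hom P) (x : P)
    (hx2 : (x : Ω) ^ 2 = 1) (hx1 : (x : Ω) ≠ 1) : (φ x) ^ 2 = 1 ∧ φ x ≠ 1 := by
  constructor
  · rw [← map_pow]
    have : x ^ 2 = 1 := Subtype.ext hx2
    rw [this, map_one]
  · intro h
    apply hx1
    have := F.injective_of_mem hφ (h.trans (map_one φ).symm)
    rw [this]; rfl

end Cfsg.Agent.Helper88.Biset
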