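import Cfsg.Agent.Helper88.ParkPull
import Cfsg.Agent.Helper88.ParkStep
import Cfsg.Agent.Helper88.ThompsonFusion
import Cfsg.Agent.Helper85.HyperfocalNormal
import Cfsg.Agent.Helper85.ResidualLimit
import Cfsg.Agent.S5092
import Cfsg.Agent.S5120

set_option autoImplicit false
set_option linter.style.haveILetI false

/-! # One step of Tate's theorem (second part) for fusion systems

`F ≥ H` saturated over `S` with the same focal subgroup, `lam` a homomorphism of `S` onto a group of order `p` killing the focal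
subgroup, `T` its kernel, `E_F ≥ E_H` the saturated subsystems of `p`-power index of `F` and `H` over `T`: then
`foc(E_F) ≤ T^p [T, T] foc(E_H)`.
-/

namespace Cfsg.Agent.Helper88.ParkTate

open Cfsg Cfsg.FusionSystem Cfsg.Agent.Helper87 Cfsg.Agent.Helper85 Cfsg.Agent.Helper88.Marks Cfsg.Agent.Helper88.Biset
  Cfsg.Agent.Helper88.PN Cfsg.Agent.Helper86.Park Cfsg.Agent.Helper86.PP Cfsg.Agent.Helper88.ParkSec
  Cfsg.Agent.Helper88.ParkTwist Cfsg.Agent.Helper88.ParkCrux Cfsg.Agent.Helper88.ParkStep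
  Cfsg.Agent.Helper88.ParkPull MulAction

open scoped commutatorElement

variable {Ω : Type*} [Group Ω] {S : Subgroup Ω}

/-- The subgroup generated by the `p`-th powers and the commutators of `T`. -/
def PhiSub (p : ℕ) (T : Subgroup Ω) : Subgroup Ω :=
  Subgroup.closure ({y | ∃ a ∈ T, y = a ^ p} ∪ {y | ∃ a ∈ T, ∃ b ∈ T, y = ⁅a, b⁆})

theorem focalSubgroup_mono {T : Subgroup Ω} (E E' : FusionSystem T) (h : ∀ P : Subgroup Ω, E.Hom P ⊆ E'.Hom P) :
    E.focalSubgroup ≤ E'.focalSubgroup := by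
  unfold focalSubgroup
  apply Subgroup.closure_mono
  rintro y ⟨P, φ, x, hφ, rfl⟩
  exact ⟨P, φ, x, h P hφ, rfl⟩

/-- The commutators of `T` lie in the focal subgroup of every system over `T`. -/
theorem commutator_le_focal {T : Subgroup Ω} (E : FusionSystem T) :
    commutator ↥T ≤ E.focalSubgroup.subgroupOf T := by
  rw [commutator_def, Subgroup.commutator_le]
  intro a _ b _
  rw [Subgroup.mem_subgroupOf]
  apply Subgroup.subset_closure
  refine ⟨T, conjHom T (b : Ω), ⟨(a : Ω)⁻¹, T.inv_mem a.2⟩, E.conj_mem le_rfl b.2, ?_⟩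
  show ((⁅a, b⁆ : ↥T) : Ω) = ((a : Ω)⁻¹)⁻¹ * ((b : Ω) * (a : Ω)⁻¹ * (b : Ω)⁻¹)
  rw [commutatorElement_def]
  simp only [Subgroup.coe_mul, Subgroup.coe_inv]
  group

section pull

variable [Finite S] {p : ℕ} [Fact p.Prime]
  {X : Type*} [MulAction (↥S × ↥S) X] [Finite X] {F : FusionSystem S} (hι : F.IsRealizedBy (iotaHom S X))
  (hcop : Nat.Coprime (Fintype.card (RQ S X)) p)
  {A : Type*} [CommGroup A] (hA : ∀ a : A, a ^ p = 1) (lam : ↥S →* A) (D : X → A)
  (hD : ∀ (a b : ↥S) (x : X), D (((a, b) : ↥S × ↥S) • x) = lam a * (lam b)⁻¹ * D x)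

include hcop hA in
/-- The focal generators of the pulled-back system are generators of `focK`. -/
theorem mem_focKSet_of_pull {P : Subgroup Ω} {φ : P →* Ω}
    (hφ : φ ∈ (pullSystem (iotaHom S X) hι.1 (Theta lam D hD).ker).Hom P) (x : P) :
    ∃ y : lam.ker, y ∈ focKSet lam D hD ∧ ((y : ↥S) : Ω) = (x : Ω)⁻¹ * φ x := by
  obtain ⟨hP, hφT, n, hn, hnx⟩ := hφ
  have hTeq := preimage_ker_Theta (X := X) hcop hA lam D hD
  have hx : (x : Ω) ∈ (lam.ker).map S.subtype := by rw [← hTeq]; exact hP x.2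
  have hφx : φ x ∈ (lam.ker).map S.subtype := by rw [← hTeq]; exact hφT x
  obtain ⟨u, hu, hux⟩ := hx
  obtain ⟨u', hu', hux'⟩ := hφx
  have hmem : (⟨u, hu⟩ : lam.ker)⁻¹ * ⟨u', hu'⟩ ∈ focKSet lam D hD := by
    refine ⟨⟨u, hu⟩, ⟨u', hu'⟩, n, MonoidHom.mem_ker.mp hn, ?_, rfl⟩
    have h1 := hnx x
    have e1 : jj (iotaHom S X) (φ x) = iotaHom S X u' := by
      rw [jj_eq _ (show φ x ∈ S from hux' ▸ u'.2)]
      congr 1
      exact Subtype.ext hux'.symm
    have e2 : jj (iotaHom S X) (x : Ω) = iotaHom S X u := by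
      rw [jj_eq _ (show (x : Ω) ∈ S from hux ▸ u.2)]
      congr 1
      exact Subtype.ext hux.symm
    rw [e1, e2] at h1
    show n * iotaHom S X u = iotaHom S X u' * n
    rw [h1]
    group
  refine ⟨_, hmem, ?_⟩
  show ((u⁻¹ * u' : ↥S) : Ω) = (x : Ω)⁻¹ * φ x
  rw [Subgroup.coe_mul, Subgroup.coe_inv]
  have h1 : (u : Ω) = x := hux
  have h2 : (u' : Ω) = φ x := hux'
  rw [h1, h2]

end pull

/-- The focal subgroup of an invariant subsystem over a normal subgroup `T` of `S` is normalized by `S`. -/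
theorem conj_mem_focal {T : Subgroup Ω} (H : FusionSystem S) (E : FusionSystem T) (hEH : E.IsInvariantIn H)
    {s : Ω} (hs : s ∈ S) (hsT : s ∈ Subgroup.normalizer (T : Set Ω)) {y : Ω} (hy : y ∈ E.focalSubgroup) :
    s * y * s⁻¹ ∈ E.focalSubgroup := by
  have hTS : T ≤ S := hEH.2.1.1
  have hα : conjAut T s hsT ∈ H.autGroup T := by
    rw [mem_autGroup_iff H hTS]
    exact isIso_conjAut H hTS hs hsT
  have hle : E.focalSubgroup ≤ E.focalSubgroup.comap (MulAut.conj s).toMonoidHom := by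
    conv_lhs => unfold focalSubgroup
    rw [Subgroup.closure_le]
    rintro _ ⟨P, φ, x, hφ, rfl⟩
    have hPT : P ≤ T := (E.le_of_mem hφ).1
    have hφT : ∀ x : P, φ x ∈ T := (E.le_of_mem hφ).2
    obtain ⟨χ, hχ, hχx⟩ := hEH.2.2.1 P hPT φ hφ _ hα
    have hαx : ((conjAut T s hsT ⟨x, hPT x.2⟩ : T) : Ω) ∈
        (P.subgroupOf T).map (T.subtype.comp (conjAut T s hsT).toMonoidHom) :=
      ⟨⟨x, hPT x.2⟩, Subgroup.mem_subgroupOf.mpr x.2, rfl⟩
    have h1 := hχx x (hφT x) hαx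
    rw [SetLike.mem_coe, Subgroup.mem_comap]
    apply Subgroup.subset_closure
    refine ⟨_, χ, ⟨_, hαx⟩, hχ, ?_⟩
    rw [h1]
    show s * ((x : Ω)⁻¹ * φ x) * s⁻¹ = (s * (x : Ω) * s⁻¹)⁻¹ * (s * φ x * s⁻¹)
    group
  exact hle hy

/-- `O^p(Aut_H(R)) ≤ O^p(Aut_F(R))` for a subsystem `H` of `F`. -/
theorem pResidual_autGroup_le (F H : FusionSystem S) (hHF : H.IsSubsystemOf F) (p : ℕ) {R : Subgroup Ω} (hRS : R ≤ S) :
    (pResidual p (H.autGroup R)).map (H.autGroup R).subtype ≤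
      (pResidual p (F.autGroup R)).map (F.autGroup R).subtype := by
  have hle : H.autGroup R ≤ F.autGroup R := autGroup_le_of_isSubsystemOf F H hHF hRS
  rw [Subgroup.map_le_iff_le_comap]
  unfold pResidual
  rw [Subgroup.closure_le]
  intro α hα
  have hα' : Nat.Coprime (orderOf α) p := hα
  rw [SetLike.mem_coe, Subgroup.mem_comap]
  refine ⟨⟨(α : MulAut R), hle α.2⟩, Subgroup.subset_closure ?_, rfl⟩
  show Nat.Coprime (orderOf (⟨(α : MulAut R), hle α.2⟩ : F.autGroup R)) p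
  rw [← Subgroup.orderOf_coe] at hα' ⊢
  exact hα'

/-- The subsystem of `p`-power index of a subsystem lies in that of the system. -/
theorem hom_subset_of_pPowerIndex [Finite S] {p : ℕ} [Fact p.Prime] (hS : IsPGroup p S) (F H : FusionSystem S)
    (hHF : H.IsSubsystemOf F) {T : Subgroup Ω} (EF EH : FusionSystem T) (hEHs : EH.IsSaturated p)
    (hEH : EH.HasPPowerIndexIn H p) (hEF : EF.HasPPowerIndexIn F p) (P : Subgroup Ω) : EH.Hom P ⊆ EF.Hom P := by
  have hTS : T ≤ S := le_of_isSubsystemOf F EF hEF.1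
  have : Finite T := finite_of_le hTS
  have hT : IsPGroup p T := hS.to_le hTS
  refine hom_subset_of_autGroup_le hT EH EF hEHs (fun R hRa _ _ => ?_) P
  -- `Aut_{EH}(R) = O^p(Aut_H(R)) Aut_T(R)`
  obtain ⟨hRT, Q, hQ⟩ := hRa
  have hRS : R ≤ S := hRT.trans hTS
  have : Finite (MulAut R) := finite_mulAut_of_le hRS
  have hAF : EH.autGroup R ≤ H.autGroup R := autGroup_le_of_isSubsystemOf H EH hEH.1 hRT
  have hN₀E : (pResidual p (H.autGroup R)).map (H.autGroup R).subtype ≤ EH.autGroup R := hEH.2.2 R hRT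
  have hN₀E' : (pResidual p (H.autGroup R)).map (H.autGroup R).subtype ≤ EF.autGroup R :=
    (pResidual_autGroup_le F H hHF p hRS).trans (hEF.2.2 R hRT)
  let N : Subgroup (EH.autGroup R) :=
    ((pResidual p (H.autGroup R)).map (H.autGroup R).subtype).subgroupOf (EH.autGroup R)
  have hNmem : ∀ a : EH.autGroup R, a ∈ N ↔ (⟨(a : MulAut R), hAF a.2⟩ : H.autGroup R) ∈ pResidual p (H.autGroup R) := by
    intro a
    constructor
    · rintro ⟨b, hb, hba⟩
      have : b = ⟨(a : MulAut R), hAF a.2⟩ := Subtype.ext hba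
      rwa [← this]
    · intro h
      exact ⟨_, h, rfl⟩
  have hNn : N.Normal := by
    constructor
    intro n hn a
    rw [hNmem] at hn ⊢
    have := (Cfsg.Agent.Lib.pResidual_normal (G := H.autGroup R) p).conj_mem _ hn ⟨(a : MulAut R), hAF a.2⟩
    exact this
  have hq : IsPGroup p (EH.autGroup R ⧸ N) := by
    intro x
    obtain ⟨a, rfl⟩ := QuotientGroup.mk_surjective x
    obtain ⟨k, hk⟩ := Cfsg.Agent.Lib.isPGroup_quotient_pResidual (G := H.autGroup R) p
      (QuotientGroup.mk (⟨(a : MulAut R), hAF a.2⟩ : H.autGroup R))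
    refine ⟨k, ?_⟩
    rw [← QuotientGroup.mk_pow, QuotientGroup.eq_one_iff] at hk ⊢
    rw [hNmem]
    exact hk
  intro a ha
  obtain ⟨t, ht, n, hn, hatn⟩ := exists_mul_of_sylow_of_isPGroup_quotient N hq Q ⟨a, ha⟩
  have hat : a = (t : MulAut R) * (n : MulAut R) := congrArg Subtype.val hatn
  rw [hat]
  apply Subgroup.mul_mem
  · rw [hQ, Subgroup.mem_subgroupOf] at ht
    exact autInducedBy_le_autGroup EF hRT ht
  · apply hN₀E'
    exact hn

end Cfsg.Agent.Helper88.ParkTate
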