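import Cfsg.Agent.Helper88.ParkTateStep
import Cfsg.Agent.Helper86.PPIndex

set_option autoImplicit false
set_option linter.style.haveILetI false

/-! # Tate's theorem for fusion systems, second part

`F ≥ H` saturated fusion systems over the `p`-group `S` with the same focal subgroup have the same hyperfocal subgroup.
-/

namespace Cfsg.Agent.Helper88.ParkTate

open Cfsg Cfsg.FusionSystem Cfsg.Agent.Helper87 Cfsg.Agent.Helper85 Cfsg.Agent.Helper88.Marks Cfsg.Agent.Helper88.Biset
  Cfsg.Agent.Helper86.PP MulAction

open scoped commutatorElement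

universe u

variable {Ω : Type u} [Group Ω]

/-- If the focal subgroup is all of `S`, so is the hyperfocal subgroup. -/
theorem hyperfocal_eq_of_focal_top {S : Subgroup Ω} [Finite S] {p : ℕ} [Fact p.Prime] (hS : IsPGroup p S)
    (F : FusionSystem S) (hF : F.IsSaturated p) (htop : F.focalSubgroup.subgroupOf S = ⊤) :
    F.hyperfocalSubgroup p = S := by
  have hhypS : F.hyperfocalSubgroup p ≤ S := hyperfocalSubgroup_le F p
  have hcomS : ⁅S, S⁆ ≤ S := by
    rw [← Subgroup.map_subtype_commutator S]
    exact Subgroup.map_subtype_le _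
  rw [Cfsg.Agent.S5092.result p hS F hF, Subgroup.subgroupOf_sup hhypS hcomS] at htop
  have e : (⁅S, S⁆ : Subgroup Ω).subgroupOf S = commutator ↥S := by
    rw [← Subgroup.map_subtype_commutator S]
    exact Subgroup.comap_map_eq_self_of_injective S.subtype_injective _
  rw [e] at htop
  haveI : Group.IsNilpotent ↥S := hS.isNilpotent
  have h1 : (F.hyperfocalSubgroup p).subgroupOf S ⊔ frattini ↥S = ⊤ := by
    rw [eq_top_iff, ← htop]
    exact sup_le_sup_left Cfsg.Agent.Helper90.commutator_le_frattini' _
  have h2 : (F.hyperfocalSubgroup p).subgroupOf S = ⊤ := frattini_nongenerating h1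
  apply le_antisymm hhypS
  intro x hx
  have h3 : (⟨x, hx⟩ : ↥S) ∈ (F.hyperfocalSubgroup p).subgroupOf S := by
    rw [h2]
    exact Subgroup.mem_top _
  exact Subgroup.mem_subgroupOf.mp h3

/-- **Tate's theorem, second part.** -/
theorem tate_two {p : ℕ} [Fact p.Prime] :
    ∀ (n : ℕ) (S : Subgroup Ω) [Finite S], IsPGroup p S → Nat.card S = n →
      ∀ F H : FusionSystem S, F.IsSaturated p → H.IsSaturated p → H.IsSubsystemOf F →
        F.focalSubgroup = H.focalSubgroup → F.hyperfocalSubgroup p = H.hyperfocalSubgroup p := by
  intro n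
  induction n using Nat.strong_induction_on with
  | _ n ih =>
    intro S _ hS hn F H hF hH hHF hfoc
    have hpp : p.Prime := Fact.out
    by_cases htop : F.focalSubgroup.subgroupOf S = ⊤
    · rw [hyperfocal_eq_of_focal_top hS F hF htop, hyperfocal_eq_of_focal_top hS H hH (hfoc ▸ htop)]
    · obtain ⟨K, hKle, hKn, hKidx⟩ := exists_normal_index_p hS (F.focalSubgroup.subgroupOf S) htop
      haveI := hKn
      obtain ⟨A, instA, lam, hlams, hker, hA⟩ := exists_hom_of_normal_index_p K hKidx
      have hAcard : Nat.card A = p := by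
        have h1 := Subgroup.index_ker lam
        rw [hker, hKidx, MonoidHom.range_eq_top.mpr hlams, Subgroup.card_top] at h1
        exact h1.symm
      have hlamfoc : F.focalSubgroup.subgroupOf S ≤ lam.ker := by
        rw [hker]
        exact hKle
      have hTS : (lam.ker).map S.subtype ≤ S := by
        rintro _ ⟨s, -, rfl⟩
        exact s.2
      have hfocT : F.focalSubgroup ≤ (lam.ker).map S.subtype := by
        intro y hy
        have hyS : y ∈ S := focalSubgroup_le F hy
        exact ⟨⟨y, hyS⟩, hlamfoc (Subgroup.mem_subgroupOf.mpr hy), rfl⟩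
      have hTF : F.hyperfocalSubgroup p ≤ (lam.ker).map S.subtype :=
        (hyperfocalSubgroup_le_focalSubgroup F p).trans hfocT
      have hTH : H.hyperfocalSubgroup p ≤ (lam.ker).map S.subtype :=
        (hyperfocalSubgroup_le_focalSubgroup H p).trans (hfoc ▸ hfocT)
      obtain ⟨EF, hEFs, hEFi⟩ := exists_pPowerIndex (p := p) (Nat.card S) S hS F hF _ hTS hTF rfl
      obtain ⟨EH, hEHs, hEHi⟩ := exists_pPowerIndex (p := p) (Nat.card S) S hS H hH _ hTS hTH rfl
      have hstep := focal_le_step hS F H hF hH hHF hfoc hAcard lam hlams hlamfoc EF EH hEFs hEFi hEHs hEHi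
      have hEHF : ∀ P : Subgroup Ω, EH.Hom P ⊆ EF.Hom P :=
        hom_subset_of_pPowerIndex hS F H hHF EF EH hEHs hEHi hEFi
      haveI : Finite ↥((lam.ker).map S.subtype) := finite_of_le hTS
      have hTp : IsPGroup p ↥((lam.ker).map S.subtype) := hS.to_le hTS
      -- the focal subgroups of the two subsystems agree
      have hfocE : EF.focalSubgroup = EH.focalSubgroup := by
        apply le_antisymm _ (focalSubgroup_mono EH EF hEHF)
        by_contra hne
        have hK1 := commutator_le_focal EH
        have hK2 : EH.focalSubgroup.subgroupOf ((lam.ker).map S.subtype) ≤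
            EF.focalSubgroup.subgroupOf ((lam.ker).map S.subtype) := by
          intro y hy
          rw [Subgroup.mem_subgroupOf] at hy ⊢
          exact focalSubgroup_mono EH EF hEHF hy
        have hne' : ¬ EF.focalSubgroup.subgroupOf ((lam.ker).map S.subtype) ≤
            EH.focalSubgroup.subgroupOf ((lam.ker).map S.subtype) := by
          intro hle
          apply hne
          intro y hy
          have hyT : y ∈ (lam.ker).map S.subtype := focalSubgroup_le EF hy
          have := hle (show (⟨y, hyT⟩ : ↥((lam.ker).map S.subtype)) ∈ _ from Subgroup.mem_subgroupOf.mpr hy)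
          exact Subgroup.mem_subgroupOf.mp this
        obtain ⟨A', instA', lam', hA'card, hK'le, y, hy, hly⟩ :=
          exists_hom_of_focal_not_le hTp EF hEFs _ hK1 hK2 hne'
        apply hly
        have hA' : ∀ a : A', a ^ p = 1 := by
          intro a
          rw [← hA'card]
          exact pow_card_eq_one'
        have hle : PhiSub p ((lam.ker).map S.subtype) ⊔ EH.focalSubgroup ≤
            (lam'.ker).map ((lam.ker).map S.subtype).subtype := by
          apply sup_le
          · unfold PhiSub
            rw [Subgroup.closure_le]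
            rintro z (⟨a, ha, rfl⟩ | ⟨a, ha, b, hb, rfl⟩)
            · refine ⟨(⟨a, ha⟩ : ↥((lam.ker).map S.subtype)) ^ p, ?_, rfl⟩
              rw [SetLike.mem_coe, MonoidHom.mem_ker, map_pow, hA']
            · refine ⟨⁅(⟨a, ha⟩ : ↥((lam.ker).map S.subtype)), ⟨b, hb⟩⁆, ?_, rfl⟩
              rw [SetLike.mem_coe, MonoidHom.mem_ker, map_commutatorElement, commutatorElement_def,
                mul_comm (lam' ⟨a, ha⟩), mul_inv_cancel_right, mul_inv_cancel]
          · intro z hz
            have hzT : z ∈ (lam.ker).map S.subtype := focalSubgroup_le EH hz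
            exact ⟨⟨z, hzT⟩, hK'le (Subgroup.mem_subgroupOf.mpr hz), rfl⟩
        have hy' : (y : Ω) ∈ EF.focalSubgroup := Subgroup.mem_subgroupOf.mp hy
        obtain ⟨z, hz, hzy⟩ := hle (hstep hy')
        have : z = y := Subtype.ext hzy
        rw [← this]
        exact hz
      -- induction
      have hcard : Nat.card ↥((lam.ker).map S.subtype) < n := by
        have h1 : Nat.card ↥((lam.ker).map S.subtype) = Nat.card lam.ker :=
          (Nat.card_congr ((lam.ker).equivMapOfInjective S.subtype S.subtype_injective).toEquiv).symm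
        have h2 := Subgroup.index_mul_card lam.ker
        rw [hker, hKidx, ← hker, ← h1, hn] at h2
        have h3 : 0 < Nat.card ↥((lam.ker).map S.subtype) := Nat.card_pos
        have h4 := hpp.two_le
        nlinarith
      have hIH := ih _ hcard _ hTp rfl EF EH hEFs hEHs hEHF hfocE
      -- the hyperfocal subgroups
      have hTn : (((lam.ker).map S.subtype).subgroupOf S).Normal := by
        have e : ((lam.ker).map S.subtype).subgroupOf S = lam.ker :=
          Subgroup.comap_map_eq_self_of_injective S.subtype_injective _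
        rw [e]
        exact MonoidHom.normal_ker lam
      have hEFn : EF.IsNormalIn F p := Cfsg.Agent.S5120.result p hS F hF _ hTS hTn hTF EF hEFs hEFi
      have hEHn : EH.IsNormalIn H p := Cfsg.Agent.S5120.result p hS H hH _ hTS hTn hTH EH hEHs hEHi
      have h1 : F.hyperfocalSubgroup p = EF.hyperfocalSubgroup p :=
        le_antisymm (hyperfocalSubgroup_le_of_isInvariantIn hS F EF hEFs hEFn.1.2.2 hEFi)
          (hyperfocalSubgroup_mono F EF hEFi.1 p)
      have h2 : H.hyperfocalSubgroup p = EH.hyperfocalSubgroup p :=
        le_antisymm (hyperfocalSubgroup_le_of_isInvariantIn hS H EH hEHs hEHn.1.2.2 hEHi)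
          (hyperfocalSubgroup_mono H EH hEHi.1 p)
      rw [h1, h2, hIH]

end Cfsg.Agent.Helper88.ParkTate
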