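import Cfsg.Agent.Helper88.ParkTate

set_option autoImplicit false
set_option linter.style.haveILetI false

/-! # One step of Tate's theorem (second part) for fusion systems: the focal subgroups of the subsystems of `p`-power index -/

namespace Cfsg.Agent.Helper88.ParkTate

open Cfsg Cfsg.FusionSystem Cfsg.Agent.Helper87 Cfsg.Agent.Helper85 Cfsg.Agent.Helper88.Marks Cfsg.Agent.Helper88.Biset
  Cfsg.Agent.Helper88.PN Cfsg.Agent.Helper86.Park Cfsg.Agent.Helper86.PP Cfsg.Agent.Helper88.ParkSec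
  Cfsg.Agent.Helper88.ParkTwist Cfsg.Agent.Helper88.ParkCrux Cfsg.Agent.Helper88.ParkStep
  Cfsg.Agent.Helper88.ParkPull MulAction

open scoped commutatorElement

variable {Ω : Type*} [Group Ω] {S : Subgroup Ω}

theorem mem_map_ker_iff {A : Type*} [Group A] (lam : ↥S →* A) (y : Ω) :
    y ∈ (lam.ker).map S.subtype ↔ ∃ h : y ∈ S, lam ⟨y, h⟩ = 1 := by
  constructor
  · rintro ⟨s, hs, rfl⟩
    exact ⟨s.2, hs⟩
  · rintro ⟨h, hy⟩
    exact ⟨⟨y, h⟩, hy, rfl⟩

theorem mem_normalizer_map_ker {A : Type*} [Group A] (lam : ↥S →* A) {s : Ω} (hs : s ∈ S) :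
    s ∈ Subgroup.normalizer (((lam.ker).map S.subtype : Subgroup Ω) : Set Ω) := by
  rw [Subgroup.mem_normalizer_iff]
  intro y
  rw [mem_map_ker_iff, mem_map_ker_iff]
  constructor
  · rintro ⟨h, hy⟩
    refine ⟨S.mul_mem (S.mul_mem hs h) (S.inv_mem hs), ?_⟩
    have e : (⟨s * y * s⁻¹, S.mul_mem (S.mul_mem hs h) (S.inv_mem hs)⟩ : ↥S) = ⟨s, hs⟩ * ⟨y, h⟩ * ⟨s, hs⟩⁻¹ :=
      Subtype.ext rfl
    rw [e, map_mul, map_mul, map_inv, hy, mul_one, mul_inv_cancel]
  · rintro ⟨h, hy⟩
    have hyS : y ∈ S := by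
      have e : y = s⁻¹ * (s * y * s⁻¹) * s := by group
      rw [e]
      exact S.mul_mem (S.mul_mem (S.inv_mem hs) h) hs
    refine ⟨hyS, ?_⟩
    have e : (⟨s * y * s⁻¹, h⟩ : ↥S) = ⟨s, hs⟩ * ⟨y, hyS⟩ * ⟨s, hs⟩⁻¹ := Subtype.ext rfl
    rw [e, map_mul, map_mul, map_inv] at hy
    have e2 : lam ⟨y, hyS⟩ = (lam ⟨s, hs⟩)⁻¹ * (lam ⟨s, hs⟩ * lam ⟨y, hyS⟩ * (lam ⟨s, hs⟩)⁻¹) * lam ⟨s, hs⟩ := by group
    rw [e2, hy, mul_one, inv_mul_cancel]

/-- **The step.** -/
theorem focal_le_step [Finite S] {p : ℕ} [Fact p.Prime] (hS : IsPGroup p S) (F H : FusionSystem S)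
    (hF : F.IsSaturated p) (hH : H.IsSaturated p) (hHF : H.IsSubsystemOf F)
    (hfoc : F.focalSubgroup = H.focalSubgroup)
    {A : Type*} [CommGroup A] (hAcard : Nat.card A = p) (lam : ↥S →* A) (hlams : Function.Surjective lam)
    (hlamfoc : F.focalSubgroup.subgroupOf S ≤ lam.ker)
    (EF EH : FusionSystem ((lam.ker).map S.subtype)) (hEFs : EF.IsSaturated p) (hEFi : EF.HasPPowerIndexIn F p)
    (hEHs : EH.IsSaturated p) (hEHi : EH.HasPPowerIndexIn H p) :
    EF.focalSubgroup ≤ PhiSub p ((lam.ker).map S.subtype) ⊔ EH.focalSubgroup := by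
  classical
  have hTS : (lam.ker).map S.subtype ≤ S := by
    rintro _ ⟨s, -, rfl⟩
    exact s.2
  have hA : ∀ a : A, a ^ p = 1 := by
    intro a
    rw [← hAcard]
    exact pow_card_eq_one'
  have hlamst : IsStableHom F lam := isStableHom_of_focal_le F lam hlamfoc
  obtain ⟨M, hXst, hι, hcop⟩ := exists_biset_data hS F hF
  obtain ⟨D, hD⟩ := exists_degree F hXst lam hlamst
  have hhyp : F.hyperfocalSubgroup p ≤ (lam.ker).map S.subtype := hEFi.2.1
  obtain ⟨hE0s, hE0i⟩ := pull_saturated_pPower hS F hF hXst hι hcop hA lam hlams hlamst D hD hhyp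
  have hTeq := preimage_ker_Theta (X := BX M) hcop hA lam D hD
  have hHomEq : ∀ P : Subgroup Ω, EF.Hom P = (pullSystem (iotaHom S (BX M)) hι.1 (Theta lam D hD).ker).Hom P :=
    fun P => hom_eq_of_pPowerIndex' hS F hTeq.symm EF _ hEFs hE0s hEFi hE0i P
  have hEHF : ∀ P : Subgroup Ω, EH.Hom P ⊆ EF.Hom P := hom_subset_of_pPowerIndex hS F H hHF EF EH hEHs hEHi hEFi
  -- `EH` is invariant in `H`
  have hTn : (((lam.ker).map S.subtype).subgroupOf S).Normal := by
    have e : ((lam.ker).map S.subtype).subgroupOf S = lam.ker :=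
      Subgroup.comap_map_eq_self_of_injective S.subtype_injective _
    rw [e]
    exact MonoidHom.normal_ker lam
  have hEHn : EH.IsNormalIn H p := Cfsg.Agent.S5120.result p hS H hH _ hTS hTn hEHi.2.1 EH hEHs hEHi
  have hEHinv : EH.IsInvariantIn H := hEHn.1.2.2
  -- the inclusion of `ker lam` in `Ω`
  let incl : lam.ker →* Ω := S.subtype.comp (lam.ker).subtype
  have hincl : Function.Injective incl := fun a b hab => Subtype.ext (Subtype.ext hab)
  have hinclT : ∀ v : lam.ker, incl v ∈ (lam.ker).map S.subtype := fun v => ⟨v, v.2, rfl⟩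
  -- focal generators of `EF` are generators of `focK`
  have hgenF : ∀ (P : Subgroup Ω) (φ : P →* Ω) (x : P), φ ∈ EF.Hom P →
      ∃ y : lam.ker, y ∈ focK lam D hD ∧ incl y = (x : Ω)⁻¹ * φ x := by
    intro P φ x hφ
    rw [hHomEq P] at hφ
    obtain ⟨y, hy, hyx⟩ := mem_focKSet_of_pull hι hcop hA lam D hD hφ x
    exact ⟨y, Subgroup.subset_closure hy, hyx⟩
  have hfocEF : EF.focalSubgroup ≤ (focK lam D hD).map incl := by
    conv_lhs => unfold focalSubgroup
    rw [Subgroup.closure_le]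
    rintro _ ⟨P, φ, x, hφ, rfl⟩
    obtain ⟨y, hy, hyx⟩ := hgenF P φ x hφ
    exact ⟨y, hy, hyx⟩
  -- the subgroup `XK`
  set focHK : Subgroup lam.ker := EH.focalSubgroup.comap incl with hfocHK
  set XK : Subgroup lam.ker := PhiK p lam ⊔ focHK with hXK
  have hfocHK_le : focHK ≤ focK lam D hD := by
    intro v hv
    have h1 : incl v ∈ EH.focalSubgroup := hv
    have h2 := hfocEF (focalSubgroup_mono EH EF hEHF h1)
    obtain ⟨y, hy, hyv⟩ := h2
    have : y = v := hincl hyv
    rwa [← this]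
  have hinv : ∀ (s : ↥S) (v : lam.ker), v ∈ XK → conjK s v ∈ XK := by
    intro s v hv
    have h1 : XK.map (conjKHom lam s) ≤ XK := by
      rw [hXK, Subgroup.map_sup]
      apply sup_le_sup
      · rw [Subgroup.map_le_iff_le_comap]
        unfold PhiK
        rw [Subgroup.closure_le]
        rintro y (⟨v, rfl⟩ | ⟨v, w, rfl⟩)
        · rw [SetLike.mem_coe, Subgroup.mem_comap, map_pow]
          exact Subgroup.subset_closure (Or.inl ⟨_, rfl⟩)
        · rw [SetLike.mem_coe, Subgroup.mem_comap, map_commutatorElement]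
          exact Subgroup.subset_closure (Or.inr ⟨_, _, rfl⟩)
      · rintro _ ⟨v, hv, rfl⟩
        show incl (conjK s v) ∈ EH.focalSubgroup
        have h2 : incl v ∈ EH.focalSubgroup := hv
        exact conj_mem_focal H EH hEHinv s.2 (mem_normalizer_map_ker lam s.2) h2
    exact h1 ⟨v, hv, rfl⟩
  have hPhi : PhiK p lam ≤ XK := le_sup_left
  have hXKle : XK ≤ PhiK p lam ⊔ focK lam D hD := sup_le_sup_left hfocHK_le _
  have hfocF : F.focalSubgroup.subgroupOf S ≤ XK.map (lam.ker).subtype ⊔ commutator ↥S := by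
    rw [hfoc, Cfsg.Agent.S5092.result p hS H hH]
    have hhypS : H.hyperfocalSubgroup p ≤ S := hyperfocalSubgroup_le H p
    have hcomS : ⁅S, S⁆ ≤ S := by
      rw [← Subgroup.map_subtype_commutator S]
      exact Subgroup.map_subtype_le _
    rw [Subgroup.subgroupOf_sup hhypS hcomS]
    apply sup_le_sup
    · intro s hs
      rw [Subgroup.mem_subgroupOf] at hs
      have h1 : (s : Ω) ∈ EH.hyperfocalSubgroup p :=
        hyperfocalSubgroup_le_of_isInvariantIn hS H EH hEHs hEHinv hEHi hs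
      have h2 : (s : Ω) ∈ EH.focalSubgroup := hyperfocalSubgroup_le_focalSubgroup EH p h1
      have h3 : (s : Ω) ∈ (lam.ker).map S.subtype := focalSubgroup_le EH h2
      obtain ⟨hsS, hs1⟩ := (mem_map_ker_iff lam _).mp h3
      refine ⟨⟨s, hs1⟩, ?_, rfl⟩
      exact le_sup_right (a := PhiK p lam) (show (⟨s, hs1⟩ : lam.ker) ∈ focHK from h2)
    · rw [← Subgroup.map_subtype_commutator S]
      have e : ((commutator ↥S).map S.subtype).subgroupOf S = commutator ↥S :=
        Subgroup.comap_map_eq_self_of_injective S.subtype_injective _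
      rw [e]
  have key := focK_le_of_subgroup hS F hXst hι hAcard lam hlams hcop D hD XK hinv hPhi hXKle hfocF
  -- back to `Ω`
  have hXKΩ : XK ≤ (PhiSub p ((lam.ker).map S.subtype) ⊔ EH.focalSubgroup).comap incl := by
    rw [hXK]
    apply sup_le
    · unfold PhiK
      rw [Subgroup.closure_le]
      rintro y (⟨v, rfl⟩ | ⟨v, w, rfl⟩)
      · rw [SetLike.mem_coe, Subgroup.mem_comap, map_pow]
        exact le_sup_left (a := PhiSub p ((lam.ker).map S.subtype))
          (Subgroup.subset_closure (Or.inl ⟨incl v, hinclT v, rfl⟩))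
      · rw [SetLike.mem_coe, Subgroup.mem_comap, map_commutatorElement]
        exact le_sup_left (a := PhiSub p ((lam.ker).map S.subtype))
          (Subgroup.subset_closure (Or.inr ⟨incl v, hinclT v, incl w, hinclT w, rfl⟩))
    · intro v hv
      exact le_sup_right (a := PhiSub p ((lam.ker).map S.subtype)) (show incl v ∈ EH.focalSubgroup from hv)
  intro y hy
  obtain ⟨v, hv, rfl⟩ := hfocEF hy
  exact hXKΩ (key hv)

end Cfsg.Agent.Helper88.ParkTate
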