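import Cfsg.Agent.Helper88.BaryPark
import Cfsg.Agent.Helper88.ParkCoh
import Cfsg.Agent.Helper88.CycleProd

set_option autoImplicit false

/-! # The twist of the product homomorphism under an automorphism of the right `S`-set

If `σ ∈ AutR S X` conjugates the left action of `u ∈ ker lam` to that of `u' ∈ ker lam`, then
`wK u' = ∏ q, (r (lam (hOf σ q))) • [h u q]` for any section `r` of `lam`; and when the augmentation is coherent with `Theta` and
`Theta σ = 1`, the quotient `wK u' / wK u` lies in the subgroup generated by the elements `s • [c] / [c]` with `c ∈ ker lam` of the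
first type.
-/

namespace Cfsg.Agent.Helper88.ParkTwist

open Cfsg Cfsg.Agent.Helper86.Park Cfsg.Agent.Helper86.PP Cfsg.Agent.Helper88.ParkSec Cfsg.Agent.Helper88.BaryPark
  Cfsg.Agent.Helper88.ParkCoh MulAction

variable {Ω : Type*} [Group Ω] {S : Subgroup Ω} {X : Type*} [MulAction (↥S × ↥S) X]
  {A : Type*} [CommGroup A] {lam : ↥S →* A} {ε : X → A} {t : RQ S X → X}

/-- Conjugation by an element of `S` on the kernel of `lam`. -/
def conjK (s : ↥S) (v : lam.ker) : lam.ker :=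
  ⟨s * v * s⁻¹, (MonoidHom.normal_ker lam).conj_mem v v.2 s⟩

theorem hK_one (hfree : RightFree S X) (hε : IsAug lam ε) (ht : IsSec t) (ht1 : ∀ q, ε (t q) = 1) (q : RQ S X) :
    hK hε ht ht1 1 q = 1 := by
  have h2 := hK_mul hfree hε ht ht1 1 1 q
  rw [mul_one] at h2
  have h3 : iotaHom S X ((1 : lam.ker) : ↥S) • q = q := by
    have : ((1 : lam.ker) : ↥S) = 1 := rfl
    rw [this, map_one, one_smul]
  rw [h3] at h2
  exact mul_eq_left.mp h2.symm

theorem piS_pow_apply (u : lam.ker) (i : ℕ) (q : RQ S X) :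
    ((piS S X (u : ↥S)) ^ i) q = iotaHom S X ((u ^ i : lam.ker) : ↥S) • q := by
  rw [← map_pow, piS_apply]
  rfl

variable [Finite X] {M : Type*} [CommGroup M] (qT : lam.ker →* M) (act : ↥S →* MulAut M)
  (hactT : ∀ (s : ↥S) (v : lam.ker), act s (qT v) = qT (conjK s v))

include hactT in
omit [Finite X] in
theorem act_ker (s : ↥S) (hs : lam s = 1) (v : lam.ker) : act s (qT v) = qT v := by
  rw [hactT]
  have e : conjK s v = (⟨s, hs⟩ : lam.ker) * v * (⟨s, hs⟩ : lam.ker)⁻¹ := Subtype.ext rfl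
  rw [e, map_mul, map_mul, map_inv, mul_comm, inv_mul_cancel_left]

/-- The product of the classes of the cocycle along a walk. -/
theorem prod_range_hK (hfree : RightFree S X) (hε : IsAug lam ε) (ht : IsSec t) (ht1 : ∀ q, ε (t q) = 1)
    (u : lam.ker) (q₀ : RQ S X) (k : ℕ) :
    ∏ i ∈ Finset.range k, qT (hK hε ht ht1 u (((piS S X (u : ↥S)) ^ i) q₀)) = qT (hK hε ht ht1 (u ^ k) q₀) := by
  induction k with
  | zero =>
    rw [Finset.prod_range_zero, pow_zero, hK_one hfree, map_one]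
  | succ k ih =>
    rw [Finset.prod_range_succ, ih, pow_succ', hK_mul hfree, map_mul, piS_pow_apply, mul_comm]

include hactT in
/-- **The twist formula.** -/
theorem wK_twist (hfree : RightFree S X) (hε : IsAug lam ε) (ht : IsSec t) (ht1 : ∀ q, ε (t q) = 1)
    (r : A → ↥S) (hr : ∀ a, lam (r a) = a) (σ : ↥(AutR S X)) (u u' : lam.ker)
    (hσ : σ * iotaHom S X (u : ↥S) = iotaHom S X (u' : ↥S) * σ) :
    wK qT hfree hε ht ht1 u' =
      ∏ q : RQ S X, act (r (lam (hOf ht σ q))) (qT (hK hε ht ht1 u q)) := by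
  classical
  have hint : ∀ q : RQ S X, hS ht (u' : ↥S) (σ • q) * hOf ht σ q =
      hOf ht σ (iotaHom S X (u : ↥S) • q) * hS ht (u : ↥S) q := fun q => hOf_intertwine hfree ht hσ q
  have hlamg : ∀ q : RQ S X, lam (hOf ht σ (iotaHom S X (u : ↥S) • q)) = lam (hOf ht σ q) := by
    intro q
    have h1 := congrArg lam (hint q)
    rw [map_mul, map_mul, lam_hS hε ht ht1, lam_hS hε ht ht1] at h1
    have hu : lam (u : ↥S) = 1 := u.2
    have hu' : lam (u' : ↥S) = 1 := u'.2
    rw [hu, hu', one_mul, mul_one] at h1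
    exact h1.symm
  -- the `ker lam`-parts of the cocycle of `σ`
  let b : RQ S X → lam.ker := fun q => ⟨(r (lam (hOf ht σ q)))⁻¹ * hOf ht σ q, by
    rw [MonoidHom.mem_ker, map_mul, map_inv, hr, inv_mul_cancel]⟩
  have hb : ∀ q, ((b q : lam.ker) : ↥S) = (r (lam (hOf ht σ q)))⁻¹ * hOf ht σ q := fun q => rfl
  have hkey : ∀ q : RQ S X, hK hε ht ht1 u' (σ • q) =
      conjK (r (lam (hOf ht σ q))) (b (iotaHom S X (u : ↥S) • q) * hK hε ht ht1 u q * (b q)⁻¹) := by
    intro q
    apply Subtype.ext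
    show hS ht (u' : ↥S) (σ • q) = r (lam (hOf ht σ q)) *
      (((b (iotaHom S X (u : ↥S) • q) : lam.ker) : ↥S) * hS ht (u : ↥S) q * ((b q : lam.ker) : ↥S)⁻¹) *
        (r (lam (hOf ht σ q)))⁻¹
    rw [hb, hb, hlamg q]
    have h1 : hS ht (u' : ↥S) (σ • q) =
        hOf ht σ (iotaHom S X (u : ↥S) • q) * hS ht (u : ↥S) q * (hOf ht σ q)⁻¹ := by
      rw [← hint q]
      group
    rw [h1]
    group
  let β : RQ S X → M := fun q => act (r (lam (hOf ht σ q))) (qT (b q))
  have hβ : ∀ q : RQ S X, qT (hK hε ht ht1 u' (σ • q)) =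
      β (piS S X (u : ↥S) q) * act (r (lam (hOf ht σ q))) (qT (hK hε ht ht1 u q)) * (β q)⁻¹ := by
    intro q
    rw [hkey q, ← hactT, map_mul, map_mul, map_inv, map_mul, map_mul, map_inv]
    show _ = act (r (lam (hOf ht σ (iotaHom S X (u : ↥S) • q)))) (qT (b (iotaHom S X (u : ↥S) • q))) * _ * _
    rw [hlamg q]
  rw [wK_apply, ← Equiv.prod_comp (MulAction.toPerm σ) (fun q => qT (hK hε ht ht1 u' q))]
  show ∏ q : RQ S X, qT (hK hε ht ht1 u' (σ • q)) = _
  rw [Finset.prod_congr rfl (fun q _ => hβ q), Finset.prod_mul_distrib, Finset.prod_mul_distrib,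
    Equiv.prod_comp (piS S X (u : ↥S)) β, Finset.prod_inv_distrib, mul_comm, ← mul_assoc, inv_mul_cancel, one_mul]

/-- The subgroup generated by the commutators of `S` with the classes of the elements of the first type. -/
def Jsub (X : Type*) [MulAction (↥S × ↥S) X] {M : Type*} [CommGroup M] (qT : lam.ker →* M) (act : ↥S →* MulAut M) :
    Subgroup M :=
  Subgroup.closure {m | ∃ (s : ↥S) (c : lam.ker), TypeI X lam (c : ↥S) ∧ m = act s (qT c) / qT c}

omit [Finite X] in
theorem conj_pow_iota (σ : ↥(AutR S X)) (u u' : ↥S)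
    (hσ : σ * iotaHom S X u = iotaHom S X u' * σ) (k : ℕ) :
    σ * iotaHom S X (u ^ k) = iotaHom S X (u' ^ k) * σ := by
  induction k with
  | zero => simp
  | succ k ih =>
    rw [pow_succ, pow_succ, map_mul, map_mul, ← mul_assoc, ih, mul_assoc, hσ, mul_assoc]

include hactT in
/-- **The twist lies in the commutator subgroup of the first type.** -/
theorem wK_twist_mem (hfree : RightFree S X) (hε : IsAug lam ε) (ht : IsSec t) (ht1 : ∀ q, ε (t q) = 1)
    (r : A → ↥S) (hr : ∀ a, lam (r a) = a) (D : X → A)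
    (hD : ∀ (a b : ↥S) (x : X), D (((a, b) : ↥S × ↥S) • x) = lam a * (lam b)⁻¹ * D x) (kk : ℕ)
    (hreal : ∀ x : X, ∃ τ : ↥(AutR S X), ∀ a b : ↥S, ((a, b) : ↥S × ↥S) • x = x →
      τ * iotaHom S X a = iotaHom S X b * τ)
    (hcoh : ∀ (x : X) (v c : ↥S), ((v, c) : ↥S × ↥S) • x = x → ¬ TypeI X lam v → ∀ τ : ↥(AutR S X),
      τ * iotaHom S X v = iotaHom S X c * τ → ε x = ((Theta lam D hD τ) ^ kk)⁻¹)
    (σ : ↥(AutR S X)) (hΘσ : Theta lam D hD σ = 1) (u u' : lam.ker)
    (hσ : σ * iotaHom S X (u : ↥S) = iotaHom S X (u' : ↥S) * σ) :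
    wK qT hfree hε ht ht1 u' / wK qT hfree hε ht ht1 u ∈ Jsub X qT act := by
  classical
  rw [wK_twist qT act hactT hfree hε ht ht1 r hr σ u u' hσ, wK_apply, ← Finset.prod_div_distrib]
  apply CycleProd.prod_mem_of_cycles (piS S X (u : ↥S))
  intro q₀ k hk hper
  -- the degree of `σ` is constant along the walk
  have hint : ∀ q : RQ S X, hS ht (u' : ↥S) (σ • q) * hOf ht σ q =
      hOf ht σ (iotaHom S X (u : ↥S) • q) * hS ht (u : ↥S) q := fun q => hOf_intertwine hfree ht hσ q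
  have hlamg : ∀ q : RQ S X, lam (hOf ht σ (piS S X (u : ↥S) q)) = lam (hOf ht σ q) := by
    intro q
    have h1 := congrArg lam (hint q)
    rw [map_mul, map_mul, lam_hS hε ht ht1, lam_hS hε ht ht1] at h1
    have hu : lam (u : ↥S) = 1 := u.2
    have hu' : lam (u' : ↥S) = 1 := u'.2
    rw [hu, hu', one_mul, mul_one] at h1
    exact h1.symm
  have hconst : ∀ i : ℕ, lam (hOf ht σ (((piS S X (u : ↥S)) ^ i) q₀)) = lam (hOf ht σ q₀) := by
    intro i
    induction i with
    | zero => simp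
    | succ i ih =>
      rw [pow_succ', Equiv.Perm.mul_apply, hlamg, ih]
  rw [Finset.prod_congr rfl (fun i _ => by rw [hconst i]), Finset.prod_div_distrib, ← map_prod,
    prod_range_hK qT hfree hε ht ht1 u q₀ k]
  set c : lam.ker := hK hε ht ht1 (u ^ k) q₀ with hc
  by_cases ha : lam (hOf ht σ q₀) = 1
  · have h1 : lam (r (lam (hOf ht σ q₀))) = 1 := by rw [hr, ha]
    rw [act_ker qT act hactT _ h1, div_self']
    exact Subgroup.one_mem _
  · -- the stabilizer of `q₀` in the cyclic group generated by `u` is of the first type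
    set v : lam.ker := u ^ k with hv
    set v' : lam.ker := u' ^ k with hv'
    have hfix : iotaHom S X (v : ↥S) • q₀ = q₀ := by
      rw [← piS_pow_apply, hper]
    set x : X := t q₀ with hx
    have hpair : ∀ a b : ↥S, ((a, b) : ↥S × ↥S) = (((1 : ↥S), b) : ↥S × ↥S) * ((a, (1 : ↥S)) : ↥S × ↥S) := by
      intro a b
      ext <;> simp
    have hvc : (((v : ↥S), (c : ↥S)) : ↥S × ↥S) • x = x := by
      have h1 := hOf_spec ht (iotaHom S X (v : ↥S)) q₀
      rw [hfix, iotaHom_apply] at h1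
      have h2 : hOf ht (iotaHom S X (v : ↥S)) q₀ = (c : ↥S) := rfl
      rw [h2] at h1
      rw [hpair, mul_smul, ← h1, smul_smul]
      have : (((1 : ↥S), (c : ↥S)) : ↥S × ↥S) * (((1 : ↥S), (c : ↥S)⁻¹) : ↥S × ↥S) = 1 := by ext <;> simp
      rw [this, one_smul]
    obtain ⟨τ, hτs⟩ := hreal x
    have hτ := hτs _ _ hvc
    have hσk : σ * iotaHom S X (v : ↥S) = iotaHom S X (v' : ↥S) * σ := conj_pow_iota σ _ _ hσ k
    have hvI : TypeI X lam (v : ↥S) := by
      by_contra hvII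
      apply ha
      have h1 := hcoh x _ _ hvc hvII τ hτ
      rw [hx, ht1 q₀] at h1
      -- the point `σ x`
      have hv'c : (((v' : ↥S), (c : ↥S)) : ↥S × ↥S) • (σ : Equiv.Perm X) x = (σ : Equiv.Perm X) x := by
        have h3 : ((v' : ↥S), (1 : ↥S)) • (σ : Equiv.Perm X) x = (σ : Equiv.Perm X) ((((v : ↥S), (1 : ↥S)) : ↥S × ↥S) • x) := by
          have h4 := congrArg (fun g : ↥(AutR S X) => (g : Equiv.Perm X) x) hσk
          exact h4.symm
        rw [hpair, mul_smul, h3, ← AutR_apply_smul, smul_smul, ← hpair, hvc]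
      have hv'II : ¬ TypeI X lam (v' : ↥S) := fun h => hvII (TypeI.of_conj σ hσk h)
      have hτ' : (τ * σ⁻¹) * iotaHom S X (v' : ↥S) = iotaHom S X (c : ↥S) * (τ * σ⁻¹) := by
        calc τ * σ⁻¹ * iotaHom S X (v' : ↥S) = τ * σ⁻¹ * (iotaHom S X (v' : ↥S) * σ) * σ⁻¹ := by group
          _ = τ * σ⁻¹ * (σ * iotaHom S X (v : ↥S)) * σ⁻¹ := by rw [hσk]
          _ = (τ * iotaHom S X (v : ↥S)) * σ⁻¹ := by group
          _ = iotaHom S X (c : ↥S) * (τ * σ⁻¹) := by rw [hτ]; group
      have h2 := hcoh _ _ _ hv'c hv'II (τ * σ⁻¹) hτ'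
      rw [map_mul, map_inv, hΘσ, inv_one, mul_one, ← h1] at h2
      rw [lam_hOf hε ht ht1]
      exact h2
    have hcI : TypeI X lam (c : ↥S) := TypeI.of_conj' τ hτ hvI
    apply Subgroup.subset_closure
    exact ⟨_, c, hcI, rfl⟩

end Cfsg.Agent.Helper88.ParkTwist
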