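import Cfsg.Agent.S5118
import Cfsg.Agent.Helper85.Realize
import Cfsg.Agent.Helper85.Factor
import Cfsg.Agent.Helper87.SylowNormal
import Cfsg.Agent.Helper87.FusionClosed
import Cfsg.Agent.Helper88.ClimbFRC
set_option autoImplicit false

/-!
A fusion system realized by `ι : S → G`: the subsystem cut out by a normal subgroup `N` of `G` is a normal subsystem.
-/

namespace Cfsg.Agent.Helper88.PN

open Cfsg Cfsg.FusionSystem Cfsg.Agent.Helper87 Cfsg.Agent.Helper85 Cfsg.Agent.Helper88.FS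

variable {Ω : Type*} [Group Ω] {S : Subgroup Ω} {G : Type*} [Group G]

open Classical in
/-- The map `ι`, extended by `1` outside `S`. -/
noncomputable def jj (ι : S →* G) (x : Ω) : G := if h : x ∈ S then ι ⟨x, h⟩ else 1

theorem jj_eq (ι : S →* G) {x : Ω} (hx : x ∈ S) : jj ι x = ι ⟨x, hx⟩ := dif_pos hx

theorem jj_mul (ι : S →* G) {x y : Ω} (hx : x ∈ S) (hy : y ∈ S) : jj ι (x * y) = jj ι x * jj ι y := by
  rw [jj_eq ι hx, jj_eq ι hy, jj_eq ι (S.mul_mem hx hy), ← map_mul]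
  rfl

theorem jj_inv (ι : S →* G) {x : Ω} (hx : x ∈ S) : jj ι x⁻¹ = (jj ι x)⁻¹ := by
  rw [jj_eq ι hx, jj_eq ι (S.inv_mem hx), ← map_inv]
  rfl

theorem jj_one (ι : S →* G) : jj ι (1 : Ω) = 1 := by
  rw [jj_eq ι S.one_mem]
  exact map_one ι

theorem jj_conj (ι : S →* G) {g x : Ω} (hg : g ∈ S) (hx : x ∈ S) : jj ι (g * x * g⁻¹) = jj ι g * jj ι x * (jj ι g)⁻¹ := by
  rw [jj_mul ι (S.mul_mem hg hx) (S.inv_mem hg), jj_mul ι hg hx, jj_inv ι hg]

theorem jj_mem_range (ι : S →* G) {x : Ω} (hx : x ∈ S) : jj ι x ∈ ι.range := by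
  rw [jj_eq ι hx]
  exact ⟨_, rfl⟩

theorem jj_injOn (ι : S →* G) (hinj : Function.Injective ι) {x y : Ω} (hx : x ∈ S) (hy : y ∈ S)
    (h : jj ι x = jj ι y) : x = y := by
  rw [jj_eq ι hx, jj_eq ι hy] at h
  exact congrArg Subtype.val (hinj h)

theorem exists_jj_eq (ι : S →* G) {y : G} (hy : y ∈ ι.range) : ∃ x ∈ S, jj ι x = y := by
  obtain ⟨s, rfl⟩ := hy
  exact ⟨s, s.2, jj_eq ι s.2⟩

theorem mem_preimageAlong_iff_jj (ι : S →* G) (N : Subgroup G) {x : Ω} (hx : x ∈ S) :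
    x ∈ preimageAlong ι N ↔ jj ι x ∈ N := by
  rw [mem_preimageAlong, jj_eq ι hx]
  exact ⟨fun ⟨_, h⟩ => h, fun h => ⟨hx, h⟩⟩

/-- Realization, in terms of `jj`. -/
theorem mem_hom_iff_jj {F : FusionSystem S} {ι : S →* G} (hι : F.IsRealizedBy ι) {P : Subgroup Ω} (hP : P ≤ S)
    (φ : P →* Ω) (hφ : ∀ x : P, φ x ∈ S) :
    φ ∈ F.Hom P ↔ ∃ g : G, ∀ x : P, jj ι (φ x) = g * jj ι x * g⁻¹ := by
  rw [hι.2 P hP φ hφ]
  constructor
  · rintro ⟨g, hg⟩
    exact ⟨g, fun x => by rw [jj_eq ι (hφ x), jj_eq ι (hP x.2)]; exact hg x⟩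
  · rintro ⟨g, hg⟩
    exact ⟨g, fun x => by rw [← jj_eq ι (hφ x), ← jj_eq ι (hP x.2)]; exact hg x⟩

/-- A conjugation in `G` between subgroups of `ι(S)`, read in `Ω`. -/
theorem exists_hom_of_conj (ι : S →* G) (hinj : Function.Injective ι) {P : Subgroup Ω} (hP : P ≤ S) (g : G)
    (hg : ∀ x : P, g * jj ι x * g⁻¹ ∈ ι.range) :
    ∃ φ : P →* Ω, (∀ x : P, φ x ∈ S) ∧ ∀ x : P, jj ι (φ x) = g * jj ι x * g⁻¹ := by
  have hg' : ∀ x : P, ((MulAut.conj g).toMonoidHom.comp (ι.comp (Subgroup.inclusion hP))) x ∈ ι.range := by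
    intro x
    have := hg x
    rw [jj_eq ι (hP x.2)] at this
    exact this
  let c : P →* ι.range :=
    ((MulAut.conj g).toMonoidHom.comp (ι.comp (Subgroup.inclusion hP))).codRestrict ι.range hg'
  refine ⟨S.subtype.comp ((invOn ι hinj rfl).comp c), fun x => (invOn ι hinj rfl (c x)).2, fun x => ?_⟩
  have h1 : jj ι ((S.subtype.comp ((invOn ι hinj rfl).comp c)) x) = ι (invOn ι hinj rfl (c x)) :=
    jj_eq ι (invOn ι hinj rfl (c x)).2
  rw [h1, map_invOn, jj_eq ι (hP x.2)]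
  rfl


theorem pullHom_injective (ι : S →* G) (hinj : Function.Injective ι) {P : Subgroup Ω} (hP : P ≤ S) {φ : P →* Ω}
    {n : G} (hn : ∀ x : P, jj ι (φ x) = n * jj ι x * n⁻¹) : Function.Injective φ := by
  intro a b hab
  have h1 : n * jj ι a * n⁻¹ = n * jj ι b * n⁻¹ := by rw [← hn a, ← hn b, hab]
  have h2 := mul_left_cancel (mul_right_cancel h1)
  exact Subtype.ext (jj_injOn ι hinj (hP a.2) (hP b.2) h2)

/-- The subsystem of the maps realized by elements of `N`, over `ι⁻¹(N)`. -/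
noncomputable def pullSystem (ι : S →* G) (hinj : Function.Injective ι) (N : Subgroup G) :
    FusionSystem (preimageAlong ι N) where
  Hom P := {φ | P ≤ preimageAlong ι N ∧ (∀ x : P, φ x ∈ preimageAlong ι N) ∧
      ∃ n ∈ N, ∀ x : P, jj ι (φ x) = n * jj ι x * n⁻¹}
  le_of_mem h := ⟨h.1, h.2.1⟩
  injective_of_mem := by
    rintro P φ ⟨hP, -, n, -, hn⟩
    exact pullHom_injective ι hinj (hP.trans (preimageAlong_le ι N)) hn
  conj_mem := by
    intro P g hP hg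
    have hTS := preimageAlong_le ι N
    have hgS := hTS hg
    refine ⟨hP, fun x => Subgroup.mul_mem _ (Subgroup.mul_mem _ hg (hP x.2)) (Subgroup.inv_mem _ hg), jj ι g,
      (mem_preimageAlong_iff_jj ι N hgS).mp hg, fun x => ?_⟩
    exact jj_conj ι hgS (hTS (hP x.2))
  comp_mem := by
    rintro P Q φ ψ ⟨hP, hφ, n, hn, hnx⟩ ⟨hQ, hψ, m, hm, hmx⟩ h
    refine ⟨hP, fun x => hψ _, m * n, N.mul_mem hm hn, fun x => ?_⟩
    show jj ι (ψ (φ.codRestrict Q h x)) = _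
    rw [hmx]
    show m * jj ι (φ x) * m⁻¹ = _
    rw [hnx, mul_inv_rev]
    group
  inv_mem := by
    rintro P φ ⟨hP, hφ, n, hn, hnx⟩
    have hinjφ : Function.Injective φ := pullHom_injective ι hinj (hP.trans (preimageAlong_le ι N)) hnx
    refine ⟨P.subtype.comp (MonoidHom.ofInjective hinjφ).symm.toMonoidHom, ⟨?_, ?_, n⁻¹, N.inv_mem hn, ?_⟩, ?_⟩
    · rintro _ ⟨x, rfl⟩
      exact hφ x
    · intro y
      exact hP ((MonoidHom.ofInjective hinjφ).symm y).2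
    · intro y
      obtain ⟨x, rfl⟩ := (MonoidHom.ofInjective hinjφ).surjective y
      show jj ι (((MonoidHom.ofInjective hinjφ).symm ((MonoidHom.ofInjective hinjφ) x) : P) : Ω) =
        n⁻¹ * jj ι (φ x) * n⁻¹⁻¹
      rw [MulEquiv.symm_apply_apply, hnx]
      group
    · intro x
      show (((MonoidHom.ofInjective hinjφ).symm ((MonoidHom.ofInjective hinjφ) x) : P) : Ω) = x
      rw [MulEquiv.symm_apply_apply]

theorem mem_pullSystem_iff (ι : S →* G) (hinj : Function.Injective ι) (N : Subgroup G) {P : Subgroup Ω}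
    (φ : P →* Ω) : φ ∈ (pullSystem ι hinj N).Hom P ↔ P ≤ preimageAlong ι N ∧ (∀ x : P, φ x ∈ preimageAlong ι N) ∧
      ∃ n ∈ N, ∀ x : P, jj ι (φ x) = n * jj ι x * n⁻¹ := Iff.rfl


section normal

variable (F : FusionSystem S) (ι : S →* G) (hι : F.IsRealizedBy ι) (N : Subgroup G)

include hι in
theorem pull_isSubsystemOf : (pullSystem ι hι.1 N).IsSubsystemOf F := by
  rintro P φ ⟨hP, hφ, n, -, hn⟩
  have hTS := preimageAlong_le ι N
  exact (mem_hom_iff_jj hι (hP.trans hTS) φ (fun x => hTS (hφ x))).mpr ⟨n, hn⟩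

include hι in
theorem pull_stronglyClosed [hN : N.Normal] : F.StronglyClosed (preimageAlong ι N) := by
  have hTS := preimageAlong_le ι N
  refine ⟨hTS, fun R hR φ hφ x => ?_⟩
  have hφS := (F.le_of_mem hφ).2
  obtain ⟨g, hg⟩ := (mem_hom_iff_jj hι (hR.trans hTS) φ hφS).mp hφ
  rw [mem_preimageAlong_iff_jj ι N (hφS x), hg]
  exact hN.conj_mem _ ((mem_preimageAlong_iff_jj ι N (hTS (hR x.2))).mp (hR x.2)) g

include hι in
theorem exists_conj_of_mem_autGroup_jj {Q : Subgroup Ω} (hQ : Q ≤ S) {α : MulAut Q} (hα : α ∈ F.autGroup Q) :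
    ∃ h : G, ∀ t : Q, jj ι ((α t : Q) : Ω) = h * jj ι t * h⁻¹ := by
  have h1 := (mem_autGroup_iff F hQ α).mp hα
  exact (mem_hom_iff_jj hι hQ _ (fun x => hQ (α x).2)).mp h1

include hι in
theorem pull_invariance [hN : N.Normal] :
    ∀ (P : Subgroup Ω) (hPT : P ≤ preimageAlong ι N) (φ : P →* Ω), φ ∈ (pullSystem ι hι.1 N).Hom P →
      ∀ α ∈ F.autGroup (preimageAlong ι N),
      ∃ χ ∈ (pullSystem ι hι.1 N).Hom ((P.subgroupOf (preimageAlong ι N)).map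
          ((preimageAlong ι N).subtype.comp α.toMonoidHom)),
        ∀ (x : P) (hφx : φ x ∈ preimageAlong ι N)
          (hαx : ((α ⟨x, hPT x.2⟩ : ↥(preimageAlong ι N)) : Ω) ∈ (P.subgroupOf (preimageAlong ι N)).map
            ((preimageAlong ι N).subtype.comp α.toMonoidHom)),
          χ ⟨(α ⟨x, hPT x.2⟩ : ↥(preimageAlong ι N)), hαx⟩ = ((α ⟨φ x, hφx⟩ : ↥(preimageAlong ι N)) : Ω) := by
  rintro P hPT φ ⟨-, hφT, n, hn, hnx⟩ α hα
  have hTS := preimageAlong_le ι N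
  obtain ⟨h, hh⟩ := exists_conj_of_mem_autGroup_jj F ι hι hTS hα
  have hP'T : (P.subgroupOf (preimageAlong ι N)).map ((preimageAlong ι N).subtype.comp α.toMonoidHom) ≤
      preimageAlong ι N := by
    rintro _ ⟨x, -, rfl⟩
    exact (α x).2
  have hrep : ∀ y : ↥((P.subgroupOf (preimageAlong ι N)).map ((preimageAlong ι N).subtype.comp α.toMonoidHom)),
      ∃ x : P, (y : Ω) = ((α ⟨x, hPT x.2⟩ : ↥(preimageAlong ι N)) : Ω) := by
    rintro ⟨_, x, hx, rfl⟩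
    exact ⟨⟨x, Subgroup.mem_subgroupOf.mp hx⟩, rfl⟩
  have key : ∀ (y : Ω) (x : P), y = ((α ⟨x, hPT x.2⟩ : ↥(preimageAlong ι N)) : Ω) →
      (h * n * h⁻¹) * jj ι y * (h * n * h⁻¹)⁻¹ = jj ι ((α ⟨φ x, hφT x⟩ : ↥(preimageAlong ι N)) : Ω) := by
    intro y x hy
    rw [hy, hh, hh]
    show _ = h * jj ι (φ x) * h⁻¹
    rw [hnx]
    group
  obtain ⟨χ, hχS, hχ⟩ := exists_hom_of_conj ι hι.1 (hP'T.trans hTS) (h * n * h⁻¹) (by
    intro y
    obtain ⟨x, hx⟩ := hrep y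
    rw [key y x hx]
    exact jj_mem_range ι (hTS (α _).2))
  have hχval : ∀ (y : ↥((P.subgroupOf (preimageAlong ι N)).map ((preimageAlong ι N).subtype.comp α.toMonoidHom)))
      (x : P), (y : Ω) = ((α ⟨x, hPT x.2⟩ : ↥(preimageAlong ι N)) : Ω) →
      χ y = ((α ⟨φ x, hφT x⟩ : ↥(preimageAlong ι N)) : Ω) := by
    intro y x hy
    apply jj_injOn ι hι.1 (hχS y) (hTS (α _).2)
    rw [hχ, key y x hy]
  refine ⟨χ, ⟨hP'T, fun y => ?_, h * n * h⁻¹, hN.conj_mem n hn h, hχ⟩, fun x hφx hαx => ?_⟩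
  · obtain ⟨x, hx⟩ := hrep y
    rw [hχval y x hx]
    exact (α _).2
  · exact hχval ⟨_, hαx⟩ x rfl


variable {p : ℕ} [Fact p.Prime] (PG : Sylow p G) (hPG : (PG : Subgroup G) = ι.range)

include hPG in
theorem jj_mem_inf {t : Ω} (ht : t ∈ preimageAlong ι N) : jj ι t ∈ (PG : Subgroup G) ⊓ N := by
  have hTS := preimageAlong_le ι N
  refine ⟨?_, (mem_preimageAlong_iff_jj ι N (hTS ht)).mp ht⟩
  rw [hPG]
  exact jj_mem_range ι (hTS ht)

include hPG in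
theorem exists_jj_eq_of_mem_inf {y : G} (hy : y ∈ (PG : Subgroup G) ⊓ N) : ∃ t ∈ preimageAlong ι N, jj ι t = y := by
  obtain ⟨hy1, hy2⟩ := hy
  rw [hPG] at hy1
  obtain ⟨t, htS, rfl⟩ := exists_jj_eq ι hy1
  exact ⟨t, (mem_preimageAlong_iff_jj ι N htS).mpr hy2, rfl⟩

theorem conj_mem_of_mem_normalizer {K : Subgroup G} {k y : G} (hk : k ∈ Subgroup.normalizer (K : Set G)) (hy : y ∈ K) :
    k * y * k⁻¹ ∈ K := (Subgroup.mem_normalizer_iff.mp hk y).mp hy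

include hι hPG in
theorem pull_frattini [Finite S] [Finite G] [hN : N.Normal] :
    ∀ (P : Subgroup Ω), P ≤ preimageAlong ι N → ∀ (φ : P →* Ω), φ ∈ F.Hom P →
      ∃ α ∈ F.autGroup (preimageAlong ι N), ∃ φ₀ ∈ (pullSystem ι hι.1 N).Hom P,
        ∀ (x : P) (hx : φ₀ x ∈ preimageAlong ι N), φ x = ((α ⟨φ₀ x, hx⟩ : ↥(preimageAlong ι N)) : Ω) := by
  intro P hPT φ hφ
  have hTS := preimageAlong_le ι N
  have hPS := hPT.trans hTS
  have hφS := (F.le_of_mem hφ).2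
  obtain ⟨g, hg⟩ := (mem_hom_iff_jj hι hPS φ hφS).mp hφ
  obtain ⟨h, hh, n, hn, rfl⟩ := exists_mul_of_normal PG N g
  have hhinv : h⁻¹ ∈ Subgroup.normalizer ((((PG : Subgroup G) ⊓ N : Subgroup G)) : Set G) := Subgroup.inv_mem _ hh
  -- the automorphism induced by `h`
  have hconjh : ∀ t : ↥(preimageAlong ι N), h * jj ι t * h⁻¹ ∈ (PG : Subgroup G) ⊓ N := fun t =>
    conj_mem_of_mem_normalizer hh (jj_mem_inf ι N PG hPG t.2)
  obtain ⟨α₀, hα₀S, hα₀⟩ := exists_hom_of_conj ι hι.1 hTS h (fun t => by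
    have := (hconjh t).1
    rw [hPG] at this
    exact this)
  have hα₀T : ∀ t : ↥(preimageAlong ι N), α₀ t ∈ preimageAlong ι N := fun t => by
    rw [mem_preimageAlong_iff_jj ι N (hα₀S t), hα₀]
    exact (hconjh t).2
  have hα₀F : α₀ ∈ F.Hom (preimageAlong ι N) := (mem_hom_iff_jj hι hTS α₀ hα₀S).mpr ⟨h, hα₀⟩
  obtain ⟨α, hα, hαx⟩ := exists_aut_of_maps_into F hα₀F hα₀T
  -- the map induced by `n`
  have hφT : ∀ x : P, φ x ∈ preimageAlong ι N := fun x => (pull_stronglyClosed F ι hι N).2 P hPT φ hφ x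
  have hnx : ∀ x : P, n * jj ι x * n⁻¹ = h⁻¹ * jj ι (φ x) * h⁻¹⁻¹ := by
    intro x
    rw [hg]
    group
  have hconjn : ∀ x : P, n * jj ι x * n⁻¹ ∈ (PG : Subgroup G) ⊓ N := fun x => by
    rw [hnx]
    exact conj_mem_of_mem_normalizer hhinv (jj_mem_inf ι N PG hPG (hφT x))
  obtain ⟨φ₀, hφ₀S, hφ₀⟩ := exists_hom_of_conj ι hι.1 hPS n (fun x => by
    have := (hconjn x).1
    rw [hPG] at this
    exact this)
  have hφ₀T : ∀ x : P, φ₀ x ∈ preimageAlong ι N := fun x => by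
    rw [mem_preimageAlong_iff_jj ι N (hφ₀S x), hφ₀]
    exact (hconjn x).2
  refine ⟨α, hα, φ₀, ⟨hPT, hφ₀T, n, hn, hφ₀⟩, fun x hx => ?_⟩
  apply jj_injOn ι hι.1 (hφS x) (hTS (α _).2)
  rw [hαx, hα₀, hg]
  show _ = h * jj ι (φ₀ x) * h⁻¹
  rw [hφ₀]
  group


include hι hPG in
theorem pull_extension [Finite S] [Finite G] [hN : N.Normal] :
    ∀ α ∈ (pullSystem ι hι.1 N).autGroup (preimageAlong ι N),
      ∃ β ∈ F.autGroup (preimageAlong ι N ⊔ centralizerIn S (preimageAlong ι N)),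
        (∀ x : ↥(preimageAlong ι N), ((β (Subgroup.inclusion le_sup_left x) :
          ↥(preimageAlong ι N ⊔ centralizerIn S (preimageAlong ι N))) : Ω) = ((α x : ↥(preimageAlong ι N)) : Ω)) ∧
        ∀ c : ↥(preimageAlong ι N ⊔ centralizerIn S (preimageAlong ι N)),
          (c : Ω) ∈ centralizerIn S (preimageAlong ι N) →
            (c : Ω)⁻¹ * ((β c : ↥(preimageAlong ι N ⊔ centralizerIn S (preimageAlong ι N))) : Ω) ∈
              preimageAlong ι N ⊓ Subgroup.centralizer ((preimageAlong ι N : Subgroup Ω) : Set Ω) := by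
  intro α hα
  have hTS := preimageAlong_le ι N
  have hsc := pull_stronglyClosed F ι hι N
  have hTn : ∀ g ∈ S, ∀ x ∈ preimageAlong ι N, g * x * g⁻¹ ∈ preimageAlong ι N :=
    fun g hg x hx => conj_mem_of_stronglyClosed F hsc hg hx
  obtain ⟨-, -, n, hn, hnx⟩ := (mem_autGroup_iff (pullSystem ι hι.1 N) le_rfl α).mp hα
  have hnx' : ∀ t : ↥(preimageAlong ι N), jj ι ((α t : ↥(preimageAlong ι N)) : Ω) = n * jj ι t * n⁻¹ := hnx
  -- `n` normalizes `ι(S) ∩ N`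
  have hnT : n ∈ Subgroup.normalizer ((((PG : Subgroup G) ⊓ N : Subgroup G)) : Set G) := by
    apply Cfsg.Agent.Helper48.mem_normalizer_of_conjSub_le
    rintro _ ⟨y, hy, rfl⟩
    obtain ⟨t, ht, rfl⟩ := exists_jj_eq_of_mem_inf ι N PG hPG hy
    show n * jj ι t * n⁻¹ ∈ _
    rw [← hnx' ⟨t, ht⟩]
    exact jj_mem_inf ι N PG hPG (α _).2
  obtain ⟨g, hgN, hgx, hgT, hgD⟩ := Cfsg.Agent.S5118.exists_good_extension PG N hn hnT
  -- elements of `C_S(T)` go to `ι(S) ∩ C(ι(S) ∩ N)`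
  have hjC : ∀ c ∈ centralizerIn S (preimageAlong ι N), jj ι c ∈ (PG : Subgroup G) ⊓
      Subgroup.centralizer ((((PG : Subgroup G) ⊓ N : Subgroup G)) : Set G) := by
    rintro c ⟨hcS, hcC⟩
    refine ⟨by rw [hPG]; exact jj_mem_range ι hcS, ?_⟩
    show jj ι c ∈ Subgroup.centralizer _
    rw [Subgroup.mem_centralizer_iff]
    intro y hy
    obtain ⟨t, ht, rfl⟩ := exists_jj_eq_of_mem_inf ι N PG hPG hy
    rw [← jj_mul ι (hTS ht) hcS, ← jj_mul ι hcS (hTS ht), (Subgroup.mem_centralizer_iff.mp hcC) t ht]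
  have hCj : ∀ y ∈ (PG : Subgroup G) ⊓ Subgroup.centralizer ((((PG : Subgroup G) ⊓ N : Subgroup G)) : Set G),
      ∃ c ∈ centralizerIn S (preimageAlong ι N), jj ι c = y := by
    rintro y ⟨hy1, hy2⟩
    rw [hPG] at hy1
    obtain ⟨c, hcS, rfl⟩ := exists_jj_eq ι hy1
    refine ⟨c, ⟨hcS, ?_⟩, rfl⟩
    show c ∈ Subgroup.centralizer _
    rw [Subgroup.mem_centralizer_iff]
    intro t ht
    apply jj_injOn ι hι.1 (S.mul_mem (hTS ht) hcS) (S.mul_mem hcS (hTS ht))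
    rw [jj_mul ι (hTS ht) hcS, jj_mul ι hcS (hTS ht)]
    exact (Subgroup.mem_centralizer_iff.mp hy2) _ (jj_mem_inf ι N PG hPG ht)
  have hUS : preimageAlong ι N ⊔ centralizerIn S (preimageAlong ι N) ≤ S := sup_le hTS inf_le_left
  -- the image of an element of `T C_S(T)` under conjugation by `g`
  have himg : ∀ u ∈ preimageAlong ι N ⊔ centralizerIn S (preimageAlong ι N),
      ∃ v ∈ preimageAlong ι N ⊔ centralizerIn S (preimageAlong ι N), jj ι v = g * jj ι u * g⁻¹ := by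
    intro u hu
    obtain ⟨t, ht, c, hc, rfl⟩ := (mem_sup_centralizerIn_iff hTS hTn u).mp hu
    obtain ⟨t', ht', hjt'⟩ := exists_jj_eq_of_mem_inf ι N PG hPG
      (conj_mem_of_mem_normalizer hgT (jj_mem_inf ι N PG hPG ht))
    obtain ⟨c', hc', hjc'⟩ := hCj _ (conj_mem_of_mem_normalizer hgD (hjC c hc))
    refine ⟨t' * c', Subgroup.mul_mem _ (Subgroup.mem_sup_left ht') (Subgroup.mem_sup_right hc'), ?_⟩
    rw [jj_mul ι (hTS ht') hc'.1, jj_mul ι (hTS ht) hc.1, hjt', hjc']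
    group
  obtain ⟨β₀, hβ₀S, hβ₀⟩ := exists_hom_of_conj ι hι.1 hUS g (fun u => by
    obtain ⟨v, hv, hjv⟩ := himg u u.2
    rw [← hjv]
    exact jj_mem_range ι (hUS hv))
  have hβ₀U : ∀ u : ↥(preimageAlong ι N ⊔ centralizerIn S (preimageAlong ι N)),
      β₀ u ∈ preimageAlong ι N ⊔ centralizerIn S (preimageAlong ι N) := by
    intro u
    obtain ⟨v, hv, hjv⟩ := himg u u.2
    have : β₀ u = v := jj_injOn ι hι.1 (hβ₀S u) (hUS hv) (by rw [hβ₀, hjv])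
    rw [this]
    exact hv
  have hβ₀F : β₀ ∈ F.Hom (preimageAlong ι N ⊔ centralizerIn S (preimageAlong ι N)) :=
    (mem_hom_iff_jj hι hUS β₀ hβ₀S).mpr ⟨g, hβ₀⟩
  obtain ⟨β, hβ, hβx⟩ := exists_aut_of_maps_into F hβ₀F hβ₀U
  refine ⟨β, hβ, fun x => ?_, fun c hc => ?_⟩
  · rw [hβx]
    apply jj_injOn ι hι.1 (hβ₀S _) (hTS (α x).2)
    rw [hβ₀, hnx' x]
    exact hgx _ (jj_mem_inf ι N PG hPG x.2)
  · rw [hβx]
    have hcS : (c : Ω) ∈ S := hc.1
    have hjβc : jj ι (β₀ c) = g * jj ι c * g⁻¹ := hβ₀ c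
    obtain ⟨c', hc', hjc'⟩ := hCj _ (conj_mem_of_mem_normalizer hgD (hjC c hc))
    have hβc : β₀ c = c' := jj_injOn ι hι.1 (hβ₀S c) hc'.1 (by rw [hjβc, hjc'])
    refine ⟨?_, ?_⟩
    · show (c : Ω)⁻¹ * β₀ c ∈ preimageAlong ι N
      rw [mem_preimageAlong_iff_jj ι N (S.mul_mem (S.inv_mem hcS) (hβ₀S c)),
        jj_mul ι (S.inv_mem hcS) (hβ₀S c), jj_inv ι hcS, hjβc]
      have e : (jj ι c)⁻¹ * (g * jj ι c * g⁻¹) = ((jj ι c)⁻¹ * g * (jj ι c)⁻¹⁻¹) * g⁻¹ := by group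
      rw [e]
      exact N.mul_mem (hN.conj_mem g hgN _) (N.inv_mem hgN)
    · show (c : Ω)⁻¹ * β₀ c ∈ Subgroup.centralizer _
      rw [hβc]
      exact Subgroup.mul_mem _ (Subgroup.inv_mem _ hc.2) hc'.2


include hι hPG in
theorem pull_isSaturated [Finite S] [Finite G] [hN : N.Normal] : (pullSystem ι hι.1 N).IsSaturated p := by
  have hTS := preimageAlong_le ι N
  let ιT : ↥(preimageAlong ι N) →* N :=
    (ι.comp (Subgroup.inclusion hTS)).codRestrict N (fun t => map_mem_of_mem_preimageAlong ι N t)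
  have hιT : ∀ t : ↥(preimageAlong ι N), ((ιT t : N) : G) = jj ι t := fun t => (jj_eq ι (hTS t.2)).symm
  have hreal : (pullSystem ι hι.1 N).IsRealizedBy ιT := by
    refine ⟨fun a b hab => ?_, fun P hP φ hφ => ?_⟩
    · apply Subtype.ext
      apply jj_injOn ι hι.1 (hTS a.2) (hTS b.2)
      rw [← hιT, ← hιT, hab]
    · constructor
      · rintro ⟨-, -, n, hn, hnx⟩
        refine ⟨⟨n, hn⟩, fun x => Subtype.ext ?_⟩
        show ((ιT ⟨φ x, hφ x⟩ : N) : G) = n * ((ιT ⟨x, hP x.2⟩ : N) : G) * n⁻¹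
        rw [hιT, hιT]
        exact hnx x
      · rintro ⟨n, hn⟩
        refine ⟨hP, hφ, n, n.2, fun x => ?_⟩
        have h1 : ((ιT ⟨φ x, hφ x⟩ : N) : G) = (n : G) * ((ιT ⟨x, hP x.2⟩ : N) : G) * (n : G)⁻¹ :=
          congrArg Subtype.val (hn x)
        rw [hιT, hιT] at h1
        exact h1
  obtain ⟨P', hP'⟩ := exists_sylow_subgroupOf_normal PG N
  refine isSaturated_of_isRealizedBy _ ιT hreal P' ?_
  rw [hP', hPG]
  ext y
  constructor
  · intro hy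
    obtain ⟨t, htS, hty⟩ := exists_jj_eq ι (Subgroup.mem_subgroupOf.mp hy)
    have htT : t ∈ preimageAlong ι N := (mem_preimageAlong_iff_jj ι N htS).mpr (hty ▸ y.2)
    exact ⟨⟨t, htT⟩, Subtype.ext ((hιT _).trans hty)⟩
  · rintro ⟨t, rfl⟩
    rw [Subgroup.mem_subgroupOf, hιT]
    exact jj_mem_range ι (hTS t.2)

include hι hPG in
/-- The subsystem cut out by a normal subgroup `N` of the realizing group is normal. -/
theorem pull_isNormalIn [Finite S] [Finite G] [hN : N.Normal] (hF : F.IsSaturated p) :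
    (pullSystem ι hι.1 N).IsNormalIn F p :=
  ⟨⟨pull_isSaturated F ι hι N PG hPG, hF, pull_isSubsystemOf F ι hι N, pull_stronglyClosed F ι hι N,
    pull_invariance F ι hι N, pull_frattini F ι hι N PG hPG⟩, pull_extension F ι hι N PG hPG⟩

end normal

end Cfsg.Agent.Helper88.PN
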