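import Mathlib
import Cfsg.Prelude.Def_RootSubgroups
import Cfsg.Agent.Helper83.RInv.Defs
import Cfsg.Agent.S0199

/-!
# S5045 piece (PG) for helper83: the isolated root involutions generate a 2-group
-/

set_option autoImplicit false
open Cfsg

namespace Cfsg.Agent.Helper88.RInv

open Cfsg.Agent.Helper83.RInv

variable {G : Type*} [Group G]

/-- the group generated by two involutions `w, v` with `(w v)^4 = 1`: every element is killed by `4` -/
theorem pow_four_eq_one_of_mem_closure_pair {w v : G} (hw : w * w = 1) (hv : v * v = 1)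
    (h4 : (w * v) ^ 4 = 1) {x : G} (hx : x ∈ Subgroup.closure ({w, v} : Set G)) : x ^ 4 = 1 := by
  have hwinv : w⁻¹ = w := inv_eq_of_mul_eq_one_left hw
  have hvinv : v⁻¹ = v := inv_eq_of_mul_eq_one_left hv
  -- `w r w = r⁻¹`
  have hconj : w * (w * v) * w = (w * v)⁻¹ := by
    rw [mul_inv_rev, hwinv, hvinv, ← mul_assoc, hw, one_mul]
  have hconjz : ∀ i : ℤ, w * (w * v) ^ i * w = (w * v) ^ (-i) := by
    intro i
    have h1 : w * (w * v) ^ i * w⁻¹ = (w * (w * v) * w⁻¹) ^ i := (conj_zpow).symm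
    rw [hwinv] at h1
    rw [h1, hconj, inv_zpow, zpow_neg]
  have hsw : ∀ j : ℤ, w * (w * v) ^ j = (w * v) ^ (-j) * w := by
    intro j
    rw [← hconjz j, mul_assoc, mul_assoc, hw, mul_one]
  -- normal form
  have key : ∃ i : ℤ, x = (w * v) ^ i ∨ x = (w * v) ^ i * w := by
    induction hx using Subgroup.closure_induction with
    | mem y hy =>
      rcases hy with rfl | hy
      · exact ⟨0, Or.inr (by simp)⟩
      · rw [Set.mem_singleton_iff] at hy
        subst hy
        refine ⟨-1, Or.inr ?_⟩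
        rw [zpow_neg, zpow_one, mul_inv_rev, hwinv, hvinv, mul_assoc, hw, mul_one]
    | one => exact ⟨0, Or.inl (by simp)⟩
    | mul y z _ _ hy hz =>
      obtain ⟨i, hi⟩ := hy
      obtain ⟨j, hj⟩ := hz
      rcases hi with rfl | rfl <;> rcases hj with rfl | rfl
      · exact ⟨i + j, Or.inl (by rw [zpow_add])⟩
      · exact ⟨i + j, Or.inr (by rw [zpow_add, mul_assoc])⟩
      · refine ⟨i + -j, Or.inr ?_⟩
        rw [zpow_add, mul_assoc, hsw j, mul_assoc]
      · refine ⟨i + -j, Or.inl ?_⟩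
        rw [zpow_add, mul_assoc, ← mul_assoc w, hsw j, mul_assoc, hw, mul_one]
    | inv y _ hy =>
      obtain ⟨i, hi⟩ := hy
      rcases hi with rfl | rfl
      · exact ⟨-i, Or.inl (by rw [zpow_neg])⟩
      · refine ⟨i, Or.inr ?_⟩
        rw [mul_inv_rev, hwinv, ← zpow_neg, hsw (-i), neg_neg]
  obtain ⟨i, hi | hi⟩ := key
  · rw [hi, ← zpow_natCast, ← zpow_mul, mul_comm, zpow_mul, zpow_natCast, h4, one_zpow]
  · have h2 : x * x = 1 := by
      rw [hi]
      calc (w * v) ^ i * w * ((w * v) ^ i * w) = (w * v) ^ i * (w * (w * v) ^ i * w) := by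
            simp only [mul_assoc]
        _ = 1 := by rw [hconjz, ← zpow_add, add_neg_cancel, zpow_zero]
    rw [show (4 : ℕ) = 2 * 2 from rfl, pow_mul, pow_two x, h2, one_pow]

/-- (PG) -/
theorem closure_Wset_isPGroup [Finite G] {D : Set G} (hD : Cfsg.IsRootInvolutionSet D) :
    IsPGroup 2 ↥(Subgroup.closure (Wset D)) := by
  classical
  have : Fact (Nat.Prime 2) := ⟨Nat.prime_two⟩
  -- every `w ∈ W` lies in a normal 2-subgroup
  have hnorm : ∀ w ∈ Wset D, ∃ N : Subgroup G, N.Normal ∧ IsPGroup 2 N ∧ w ∈ N := by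
    intro w hwW
    have hwD : w ∈ D := hwW.1
    have hw2 : w * w = 1 := sq_eq_one_of_mem hD hwD
    have hX : IsPGroup 2 ↥(Subgroup.zpowers w) := by
      rw [IsPGroup.iff_card]
      refine ⟨1, ?_⟩
      rw [Nat.card_zpowers, hD.orderOf_eq w hwD, pow_one]
    have hpair : ∀ g : G, IsPGroup 2
        ↥(Subgroup.zpowers w ⊔ (Subgroup.zpowers w).map (MulAut.conj g).toMonoidHom) := by
      intro g
      have hvD : g * w * g⁻¹ ∈ D := hD.conj_mem w hwD g
      have hv2 : (g * w * g⁻¹) * (g * w * g⁻¹) = 1 := sq_eq_one_of_mem hD hvD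
      have h4 : (w * (g * w * g⁻¹)) ^ 4 = 1 := by
        rcases hD.pair w hwD (g * w * g⁻¹) hvD with hc | hodd | ⟨h4, _⟩
        · have h2 : (w * (g * w * g⁻¹)) ^ 2 = 1 := by
            rw [pow_two]
            calc w * (g * w * g⁻¹) * (w * (g * w * g⁻¹))
                = w * ((g * w * g⁻¹) * w) * (g * w * g⁻¹) := by simp only [mul_assoc]
              _ = w * (w * (g * w * g⁻¹)) * (g * w * g⁻¹) := by rw [hc]
              _ = (w * w) * ((g * w * g⁻¹) * (g * w * g⁻¹)) := by simp only [mul_assoc]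
              _ = 1 := by rw [hw2, hv2, one_mul]
          calc (w * (g * w * g⁻¹)) ^ 4 = ((w * (g * w * g⁻¹)) ^ 2) ^ 2 := by rw [← pow_mul]
            _ = 1 := by rw [h2, one_pow]
        · by_cases hne : w = g * w * g⁻¹
          · rw [← hne, hw2, one_pow]
          · exact absurd ⟨hwD, hvD, hne, hodd⟩ (hwW.2 (g * w * g⁻¹)).1
        · rw [← h4]
          exact pow_orderOf_eq_one _
      have hle : Subgroup.zpowers w ⊔ (Subgroup.zpowers w).map (MulAut.conj g).toMonoidHom ≤
          Subgroup.closure ({w, g * w * g⁻¹} : Set G) := by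
        apply sup_le
        · rw [Subgroup.zpowers_le]
          exact Subgroup.subset_closure (by simp)
        · rw [Subgroup.map_le_iff_le_comap, Subgroup.zpowers_le, Subgroup.mem_comap]
          apply Subgroup.subset_closure
          simp [MulAut.conj_apply]
      intro x
      refine ⟨2, ?_⟩
      apply Subtype.ext
      rw [Subgroup.coe_pow, Subgroup.coe_one]
      exact pow_four_eq_one_of_mem_closure_pair hw2 hv2 h4 (hle x.2)
    obtain ⟨N, hN, hNp, hXN⟩ := Cfsg.Agent.S0199.result (Subgroup.zpowers w) hX hpair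
    exact ⟨N, hN, hNp, hXN (Subgroup.mem_zpowers w)⟩
  -- all of them lie in a fixed Sylow 2-subgroup
  obtain ⟨P⟩ : Nonempty (Sylow 2 G) := inferInstance
  have hWP : Wset D ⊆ (P : Subgroup G) := by
    intro w hw
    obtain ⟨N, hN, hNp, hwN⟩ := hnorm w hw
    obtain ⟨Q, hQ⟩ := hNp.exists_le_sylow
    obtain ⟨g, rfl⟩ := MulAction.exists_smul_eq G Q P
    rw [SetLike.mem_coe, Sylow.coe_subgroup_smul, Subgroup.mem_pointwise_smul_iff_inv_smul_mem]
    apply hQ
    rw [MulAut.smul_def, ← map_inv, MulAut.conj_apply]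
    exact hN.conj_mem w hwN g⁻¹
  have hle : Subgroup.closure (Wset D) ≤ (P : Subgroup G) := (Subgroup.closure_le _).2 hWP
  exact P.2.to_le hle

end Cfsg.Agent.Helper88.RInv
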