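import Cfsg.Agent.Helper88.PullNormal
import Cfsg.Agent.Helper86.SubgroupFusion
set_option autoImplicit false

/-!
Passing from a realization of a fusion system to a realization by a normal subgroup or by a quotient.
-/

namespace Cfsg.Agent.Helper88.PN

open Cfsg Cfsg.FusionSystem Cfsg.Agent.Helper87 Cfsg.Agent.Helper85 Cfsg.Agent.Helper86 Cfsg.Agent.Helper48
open scoped Pointwise

variable {Ω : Type*} [Group Ω] {S : Subgroup Ω} {G : Type*} [Group G]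

/-- If the subsystem cut out by the normal subgroup `N` is the whole system, then `N` realizes the system. -/
theorem exists_isRealizedBy_normal [Finite G] {p : ℕ} [Fact p.Prime] (F : FusionSystem S) (ι : S →* G)
    (hι : F.IsRealizedBy ι) (N : Subgroup G) [hN : N.Normal] (PG : Sylow p G) (hPG : (PG : Subgroup G) = ι.range)
    (hT : preimageAlong ι N = S) (hEF : ∀ P : Subgroup Ω, (pullSystem ι hι.1 N).Hom P = F.Hom P) :
    ∃ ι' : S →* N, F.IsRealizedBy ι' ∧ ∃ P' : Sylow p N, (P' : Subgroup N) = ι'.range := by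
  have hmem : ∀ s : S, ι s ∈ N := by
    intro s
    have h1 : (s : Ω) ∈ preimageAlong ι N := by rw [hT]; exact s.2
    have h2 := (mem_preimageAlong_iff_jj ι N s.2).mp h1
    rwa [jj_eq ι s.2] at h2
  refine ⟨ι.codRestrict N hmem, ⟨fun a b hab => hι.1 (congrArg Subtype.val hab), fun P hP φ hφ => ?_⟩, ?_⟩
  · constructor
    · intro h
      rw [← hEF P] at h
      obtain ⟨-, -, n, hn, hnx⟩ := h
      refine ⟨⟨n, hn⟩, fun x => Subtype.ext ?_⟩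
      show ι ⟨φ x, hφ x⟩ = n * ι ⟨x, hP x.2⟩ * n⁻¹
      rw [← jj_eq ι (hφ x), ← jj_eq ι (hP x.2)]
      exact hnx x
    · rintro ⟨g, hg⟩
      exact (hι.2 P hP φ hφ).mpr ⟨g, fun x => congrArg Subtype.val (hg x)⟩
  · obtain ⟨P', hP'⟩ := exists_sylow_subgroupOf_normal PG N
    refine ⟨P', ?_⟩
    rw [hP', hPG]
    ext y
    constructor
    · rintro ⟨s, hs⟩
      exact ⟨s, Subtype.ext hs⟩
    · rintro ⟨s, rfl⟩
      exact ⟨s, rfl⟩

/-- If the normal subgroup `N` meets `ι(S)` trivially, the quotient by `N` realizes the system. -/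
theorem isRealizedBy_quotient [Finite G] {p : ℕ} [Fact p.Prime] (F : FusionSystem S) (ι : S →* G)
    (hι : F.IsRealizedBy ι) (N : Subgroup G) [hN : N.Normal] (PG : Sylow p G) (hPG : (PG : Subgroup G) = ι.range)
    (hT : preimageAlong ι N = ⊥) :
    F.IsRealizedBy ((QuotientGroup.mk' N).comp ι) ∧
      ∃ P' : Sylow p (G ⧸ N), (P' : Subgroup (G ⧸ N)) = ((QuotientGroup.mk' N).comp ι).range := by
  -- elements of `ι(S)` congruent modulo `N` are equal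
  have hcong : ∀ a b : G, a ∈ ι.range → b ∈ ι.range → a⁻¹ * b ∈ N → a = b := by
    rintro _ _ ⟨s, rfl⟩ ⟨t, rfl⟩ h
    rw [← map_inv, ← map_mul] at h
    have h1 : ((s⁻¹ * t : S) : Ω) ∈ preimageAlong ι N := (mem_preimageAlong ι N _).mpr ⟨(s⁻¹ * t).2, h⟩
    rw [hT, Subgroup.mem_bot] at h1
    have h2 : s⁻¹ * t = 1 := Subtype.ext h1
    rw [inv_mul_eq_one] at h2
    rw [h2]
  have hinj : Function.Injective ((QuotientGroup.mk' N).comp ι) := by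
    intro a b hab
    apply hι.1
    apply hcong _ _ ⟨a, rfl⟩ ⟨b, rfl⟩
    have h1 : ((ι a : G) : G ⧸ N) = ((ι b : G) : G ⧸ N) := hab
    exact QuotientGroup.eq.mp h1
  refine ⟨⟨hinj, fun P hP φ hφ => ?_⟩, ?_⟩
  · constructor
    · intro h
      obtain ⟨g, hg⟩ := (hι.2 P hP φ hφ).mp h
      refine ⟨(g : G ⧸ N), fun x => ?_⟩
      show ((ι ⟨φ x, hφ x⟩ : G) : G ⧸ N) = (g : G ⧸ N) * ((ι ⟨x, hP x.2⟩ : G) : G ⧸ N) * (g : G ⧸ N)⁻¹
      rw [hg x]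
      rfl
    · rintro ⟨q, hq⟩
      obtain ⟨g, rfl⟩ := QuotientGroup.mk_surjective q
      -- `g ι(x) g⁻¹ ≡ ι(φ x)` modulo `N`
      have hmod : ∀ x : P, (g * ι ⟨x, hP x.2⟩ * g⁻¹)⁻¹ * ι ⟨φ x, hφ x⟩ ∈ N := by
        intro x
        have h1 : ((ι ⟨φ x, hφ x⟩ : G) : G ⧸ N) = ((g * ι ⟨x, hP x.2⟩ * g⁻¹ : G) : G ⧸ N) := hq x
        exact QuotientGroup.eq.mp h1.symm
      -- the subgroup `A = g ι(P) g⁻¹`
      have hSyl : IsSylowIn p (PG : Subgroup G) ((PG : Subgroup G) ⊔ N) := (isSylowIn_top PG).of_le le_sup_left le_top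
      have hA : conjSub g ((P.subgroupOf S).map ι) ≤ (PG : Subgroup G) ⊔ N := by
        rintro _ ⟨_, ⟨x, hx, rfl⟩, rfl⟩
        have hxP : (x : Ω) ∈ P := Subgroup.mem_subgroupOf.mp hx
        have h1 := hmod ⟨x, hxP⟩
        have e : g * ι x * g⁻¹ = ι ⟨φ ⟨x, hxP⟩, hφ _⟩ * ((g * ι x * g⁻¹)⁻¹ * ι ⟨φ ⟨x, hxP⟩, hφ _⟩)⁻¹ := by group
        show g * ι x * g⁻¹ ∈ _
        rw [e]
        exact Subgroup.mul_mem _ (Subgroup.mem_sup_left (hPG ▸ ⟨_, rfl⟩))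
          (Subgroup.mem_sup_right (N.inv_mem h1))
      have hAp : IsPGroup p (conjSub g ((P.subgroupOf S).map ι)) :=
        isPGroup_conjSub ((PG.2.to_le (by rw [hPG]; rintro _ ⟨x, -, rfl⟩; exact ⟨x, rfl⟩)))
      obtain ⟨k, hk, hkA⟩ := hSyl.exists_conj_le hA hAp
      have hk' : k ∈ ((PG : Subgroup G) : Set G) * (N : Set G) := by
        rw [← Subgroup.mul_normal]
        exact hk
      obtain ⟨s, hs, n, hn, rfl⟩ := Set.mem_mul.mp hk'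
      have hnA : ∀ x : P, n * (g * ι ⟨x, hP x.2⟩ * g⁻¹) * n⁻¹ ∈ (PG : Subgroup G) := by
        intro x
        have h1 : s * n * (g * ι ⟨x, hP x.2⟩ * g⁻¹) * (s * n)⁻¹ ∈ (PG : Subgroup G) :=
          hkA ⟨_, ⟨_, ⟨⟨x, hP x.2⟩, Subgroup.mem_subgroupOf.mpr x.2, rfl⟩, rfl⟩, rfl⟩
        have h2 := (PG : Subgroup G).mul_mem ((PG : Subgroup G).mul_mem ((PG : Subgroup G).inv_mem hs) h1) hs
        have e : s⁻¹ * (s * n * (g * ι ⟨x, hP x.2⟩ * g⁻¹) * (s * n)⁻¹) * s = n * (g * ι ⟨x, hP x.2⟩ * g⁻¹) * n⁻¹ := by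
          group
        rwa [e] at h2
      refine (hι.2 P hP φ hφ).mpr ⟨n * g, fun x => ?_⟩
      have h1 := hnA x
      rw [hPG] at h1
      have e : n * g * ι ⟨x, hP x.2⟩ * (n * g)⁻¹ = n * (g * ι ⟨x, hP x.2⟩ * g⁻¹) * n⁻¹ := by group
      rw [e]
      symm
      apply hcong _ _ h1 ⟨_, rfl⟩
      have e2 : (n * (g * ι ⟨x, hP x.2⟩ * g⁻¹) * n⁻¹)⁻¹ * ι ⟨φ x, hφ x⟩ =
          (n * (g * ι ⟨x, hP x.2⟩ * g⁻¹)⁻¹ * n⁻¹ * (g * ι ⟨x, hP x.2⟩ * g⁻¹)) *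
            ((g * ι ⟨x, hP x.2⟩ * g⁻¹)⁻¹ * ι ⟨φ x, hφ x⟩) := by group
      rw [e2]
      refine N.mul_mem ?_ (hmod x)
      have e3 : n * (g * ι ⟨x, hP x.2⟩ * g⁻¹)⁻¹ * n⁻¹ * (g * ι ⟨x, hP x.2⟩ * g⁻¹) =
          n * ((g * ι ⟨x, hP x.2⟩ * g⁻¹)⁻¹ * n⁻¹ * (g * ι ⟨x, hP x.2⟩ * g⁻¹)⁻¹⁻¹) := by group
      rw [e3]
      exact N.mul_mem hn (hN.conj_mem _ (N.inv_mem hn) _)
  · refine ⟨PG.mapSurjective (QuotientGroup.mk'_surjective N), ?_⟩
    rw [Sylow.coe_mapSurjective, hPG, MonoidHom.range_comp]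

end Cfsg.Agent.Helper88.PN
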