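import Mathlib
import Cfsg.Agent.Helper13.Sp4O.Defs

/-!
# S2281 piece (TCONJF) for helper13: conjugation formula in `Sp_4(F)`
-/

set_option autoImplicit false
set_option linter.unusedTactic false
set_option linter.unreachableTactic false
set_option linter.unnecessarySeqFocus false

namespace Cfsg.Agent.Helper88.Sp4O

open Matrix Cfsg.Agent.Helper13.Sp4O

variable {F : Type*} [Field F]

/-- (TCONJF) -/
theorem T2S_conj_MfS (a b z : F) : T2S * MfS a b z * T2S⁻¹ = MfS a (b - 2 * a) z := by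
  rw [mul_inv_eq_iff_eq_mul]
  apply Subtype.ext
  show (T2 : M4 F) * Mf a b z = Mf a (b - 2 * a) z * T2
  apply mat_ext4
  · rw [← Matrix.mulVec_mulVec, ← Matrix.mulVec_mulVec, Mf_mulVec, T2_mulVec, T2_mulVec, Mf_mulVec]
    apply vec_ext <;> simp [B_apply] <;> ring
  · rw [← Matrix.mulVec_mulVec, ← Matrix.mulVec_mulVec, Mf_mulVec, T2_mulVec, T2_mulVec, Mf_mulVec]
    apply vec_ext <;> simp [B_apply] <;> ring
  · rw [← Matrix.mulVec_mulVec, ← Matrix.mulVec_mulVec, Mf_mulVec, T2_mulVec, T2_mulVec, Mf_mulVec]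
    apply vec_ext <;> simp [B_apply] <;> ring
  · rw [← Matrix.mulVec_mulVec, ← Matrix.mulVec_mulVec, Mf_mulVec, T2_mulVec, T2_mulVec, Mf_mulVec]
    apply vec_ext <;> simp [B_apply] <;> ring

end Cfsg.Agent.Helper88.Sp4O
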