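import Mathlib
import Cfsg.Agent.Helper86.Spec4.DefsU

/-!
# S2511 piece (V3B1) for helper86: case B, multiplicities agree, `n = 2 d a`, the determinant
-/

set_option autoImplicit false
set_option linter.unusedVariables false
set_option linter.unusedSectionVars false

namespace Cfsg.Agent.Helper88.Spec4U

open Matrix Polynomial Cfsg.Agent.Helper86.Spec4

variable {F : Type*} [Field F] [Fintype F] {q n : ℕ}

/-- (V3B1) case B: multiplicities agree, `n = 2 d a`, and the determinant. -/
theorem det_caseB (bar : F →+* F) (hbar2 : ∀ x, bar (bar x) = x) (hn : 1 ≤ n)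
    (s : Matrix (Fin n) (Fin n) F) (f : F[X]) (hfm : f.Monic) (hf : Irreducible f)
    (hf0 : f.coeff 0 ≠ 0) (hcop : IsCoprime f (pstar bar f))
    (HX : ∃ a b, Associated s.charpoly (f ^ a * pstar bar f ^ b))
    (HS : Associated (pstar bar s.charpoly) s.charpoly)
    (HP1 : ∀ g h : F[X], pstar bar (g * h) = pstar bar g * pstar bar h)
    (HP2 : pstar bar (pstar bar f) = f)
    (HP3 : (pstar bar f).natDegree = f.natDegree ∧ (pstar bar f).coeff 0 = bar f.leadingCoeff ∧
      (pstar bar f).leadingCoeff = bar (f.coeff 0))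
    (HP4 : Irreducible (pstar bar f)) :
    ∃ a, 1 ≤ a ∧ n = 2 * f.natDegree * a ∧ s.det = (f.coeff 0 / bar (f.coeff 0)) ^ a := by
  obtain ⟨a, b, hab⟩ := HX
  obtain ⟨hdegg, hg0, hglc⟩ := HP3
  have hbarinj : Function.Injective bar := bar.injective
  have hbf0 : bar (f.coeff 0) ≠ 0 := by
    intro h
    apply hf0
    apply hbarinj
    rw [h, map_zero]
  -- `pstar` of powers
  have hpow : ∀ (h : F[X]) (m : ℕ), pstar bar (h ^ m) = pstar bar h ^ m := by
    intro h m
    induction m with
    | zero =>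
      unfold pstar
      rw [pow_zero, pow_zero, Polynomial.map_one, ← Polynomial.C_1, Polynomial.reverse_C]
    | succ m ih => rw [pow_succ, HP1, ih, pow_succ]
  -- `pstar` of a unit is a unit
  have hunit : ∀ u : F[X], IsUnit u → IsUnit (pstar bar u) := by
    intro u hu
    obtain ⟨c, hc, rfl⟩ := Polynomial.isUnit_iff.1 hu
    unfold pstar
    rw [Polynomial.map_C, Polynomial.reverse_C]
    exact Polynomial.isUnit_C.2 (hc.map bar)
  obtain ⟨u, hu⟩ := hab
  have h1 : pstar bar s.charpoly * pstar bar (u : F[X]) = pstar bar f ^ a * f ^ b := by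
    rw [← HP1, hu, HP1, hpow, hpow, HP2]
  have h2 : Associated (pstar bar s.charpoly) (pstar bar f ^ a * f ^ b) := by
    obtain ⟨v, hv⟩ := hunit _ u.isUnit
    exact ⟨v, by rw [hv]; exact h1⟩
  have h3 : Associated (f ^ a * pstar bar f ^ b) (pstar bar f ^ a * f ^ b) :=
    (Associated.symm ⟨u, hu⟩).trans (HS.symm.trans h2)
  -- `a = b`
  have hfnu : ¬ IsUnit f := hf.not_isUnit
  have hf_ne : f ≠ 0 := hf.ne_zero
  have hab' : a = b := by
    apply le_antisymm
    · have hd : f ^ a ∣ pstar bar f ^ a * f ^ b :=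
        (Dvd.intro _ rfl : f ^ a ∣ f ^ a * pstar bar f ^ b).trans h3.dvd
      have hc : IsCoprime (f ^ a) (pstar bar f ^ a) := hcop.pow
      have hd' : f ^ a ∣ f ^ b := hc.dvd_of_dvd_mul_left hd
      exact (pow_dvd_pow_iff hf_ne hfnu).1 hd'
    · have hd : f ^ b ∣ f ^ a * pstar bar f ^ b :=
        (Dvd.intro_left _ rfl : f ^ b ∣ pstar bar f ^ a * f ^ b).trans h3.symm.dvd
      have hc : IsCoprime (f ^ b) (pstar bar f ^ b) := hcop.pow
      have hd' : f ^ b ∣ f ^ a := hc.dvd_of_dvd_mul_right hd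
      exact (pow_dvd_pow_iff hf_ne hfnu).1 hd'
  subst hab'
  -- the unit is a constant
  obtain ⟨c, hc, hcu⟩ := Polynomial.isUnit_iff.1 u.isUnit
  rw [← hcu] at hu
  have hc0 : c ≠ 0 := hc.ne_zero
  have hchi : s.charpoly.Monic := Matrix.charpoly_monic s
  have hg_ne : pstar bar f ≠ 0 := HP4.ne_zero
  -- degrees
  have hdeg : n = 2 * f.natDegree * a := by
    have h4 : (s.charpoly * C c).natDegree = n := by
      rw [Polynomial.natDegree_mul_C hc0, Matrix.charpoly_natDegree_eq_dim]
      simp
    rw [hu, Polynomial.natDegree_mul (pow_ne_zero _ hf_ne) (pow_ne_zero _ hg_ne),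
      Polynomial.natDegree_pow, Polynomial.natDegree_pow, hdegg] at h4
    rw [← h4]
    ring
  have ha1 : 1 ≤ a := by
    rcases Nat.eq_zero_or_pos a with rfl | h
    · rw [mul_zero] at hdeg
      omega
    · exact h
  refine ⟨a, ha1, hdeg, ?_⟩
  -- leading coefficients
  have hlc : c = bar (f.coeff 0) ^ a := by
    have h5 := congrArg Polynomial.leadingCoeff hu
    rw [Polynomial.leadingCoeff_mul, Polynomial.leadingCoeff_C, hchi.leadingCoeff, one_mul,
      Polynomial.leadingCoeff_mul, Polynomial.leadingCoeff_pow, Polynomial.leadingCoeff_pow,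
      hfm.leadingCoeff, one_pow, one_mul, hglc] at h5
    exact h5
  -- constant coefficients
  have hcc : s.charpoly.coeff 0 * c = f.coeff 0 ^ a := by
    have h6 := congrArg (Polynomial.eval 0) hu
    rw [Polynomial.eval_mul, Polynomial.eval_C, Polynomial.eval_mul, Polynomial.eval_pow,
      Polynomial.eval_pow, ← Polynomial.coeff_zero_eq_eval_zero,
      ← Polynomial.coeff_zero_eq_eval_zero, ← Polynomial.coeff_zero_eq_eval_zero, hg0,
      hfm.leadingCoeff, map_one, one_pow, mul_one] at h6
    exact h6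
  have hdet := Matrix.det_eq_sign_charpoly_coeff s
  rw [Fintype.card_fin] at hdet
  have heven : ((-1 : F)) ^ n = 1 := by
    rw [hdeg, mul_assoc, pow_mul]
    simp
  rw [hdet, heven, one_mul, div_pow, eq_div_iff (pow_ne_zero _ hbf0), ← hlc]
  exact hcc

end Cfsg.Agent.Helper88.Spec4U
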