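import Cfsg.Agent.Helper88.FTransfer2
set_option autoImplicit false
set_option linter.style.haveILetI false

/-! # Class-level fixed point counts, towards the Thompson transfer lemma for fusion systems -/

namespace Cfsg.Agent.Helper88.Biset

open Cfsg Cfsg.FusionSystem Cfsg.Agent.Helper87 Cfsg.Agent.Helper88.Marks Cfsg.Agent.Helper88.TransferCount

variable {Ω : Type*} [Group Ω] {S : Subgroup Ω}

open Classical in
/-- The number of elements conjugating `w` to `v`. -/
theorem card_conj_eq {Γ : Type*} [Group Γ] [Finite Γ] (w v : Γ) :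
    Nat.card {s : Γ // s⁻¹ * w * s = v} =
      if ConjClasses.mk v = ConjClasses.mk w then Nat.card (Subgroup.centralizer ({w} : Set Γ)) else 0 := by
  by_cases h : ConjClasses.mk v = ConjClasses.mk w
  · rw [if_pos h]
    obtain ⟨c, hc⟩ := _root_.isConj_iff.mp (ConjClasses.mk_eq_mk_iff_isConj.mp h)
    -- `c * v * c⁻¹ = w`
    have hv : c⁻¹ * w * c = v := by rw [← hc]; group
    symm
    refine Nat.card_congr
      { toFun := fun z => ⟨z.1 * c, ?_⟩
        invFun := fun s => ⟨s.1 * c⁻¹, ?_⟩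
        left_inv := ?_
        right_inv := ?_ }
    · obtain ⟨z, hz'⟩ := z
      have hz := Subgroup.mem_centralizer_iff.mp hz' w (Set.mem_singleton w)
      -- `w * z = z * w`
      show (z * c)⁻¹ * w * (z * c) = v
      calc (z * c)⁻¹ * w * (z * c) = c⁻¹ * (z⁻¹ * (w * z)) * c := by group
        _ = c⁻¹ * (z⁻¹ * (z * w)) * c := by rw [hz]
        _ = c⁻¹ * w * c := by group
        _ = v := hv
    · obtain ⟨s, hs⟩ := s
      show s * c⁻¹ ∈ Subgroup.centralizer ({w} : Set Γ)
      rw [Subgroup.mem_centralizer_iff]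
      intro y hy
      rw [Set.mem_singleton_iff] at hy
      rw [hy]
      -- `s⁻¹ * w * s = v`, `c * v * c⁻¹ = w`
      have e1 : w * s = s * v := by
        calc w * s = s * (s⁻¹ * w * s) := by group
          _ = s * v := by rw [hs]
      calc w * (s * c⁻¹) = (w * s) * c⁻¹ := by group
        _ = s * v * c⁻¹ := by rw [e1]
        _ = s * c⁻¹ * (c * v * c⁻¹) := by group
        _ = s * c⁻¹ * w := by rw [hc]
    · intro z
      apply Subtype.ext
      show z.1 * c * c⁻¹ = z.1
      group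
    · intro s
      apply Subtype.ext
      show s.1 * c⁻¹ * c = s.1
      group
  · rw [if_neg h, Nat.card_eq_zero]
    left
    constructor
    rintro ⟨s, hs⟩
    apply h
    rw [ConjClasses.mk_eq_mk_iff_isConj, _root_.isConj_iff]
    refine ⟨s, ?_⟩
    rw [← hs]
    group

/-- The conjugate `u` lies in `H` and its image has a given conjugacy class. -/
def QU (H : Subgroup ↥S) (ψ : H →* ↥S) (J : ConjClasses ↥S) (u : ↥S) : Prop :=
  ∃ h : u ∈ H, ConjClasses.mk (ψ ⟨u, h⟩) = J

theorem mk_conj_eq {Γ : Type*} [Group Γ] (a b : Γ) : ConjClasses.mk (a⁻¹ * b * a) = ConjClasses.mk b := by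
  rw [ConjClasses.mk_eq_mk_iff_isConj, _root_.isConj_iff]
  exact ⟨a, by group⟩

theorem QU_conj (H : Subgroup ↥S) (ψ : H →* ↥S) (J : ConjClasses ↥S) (u h : ↥S) (hh : h ∈ H) :
    QU H ψ J (h⁻¹ * u * h) ↔ QU H ψ J u := by
  constructor
  · rintro ⟨h1, h2⟩
    have hu : u ∈ H := by
      have := H.mul_mem (H.mul_mem hh h1) (H.inv_mem hh)
      convert this using 1; group
    refine ⟨hu, ?_⟩
    rw [← h2]
    have e : (⟨h⁻¹ * u * h, h1⟩ : H) = (⟨h, hh⟩ : H)⁻¹ * ⟨u, hu⟩ * ⟨h, hh⟩ := Subtype.ext rfl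
    rw [e, map_mul, map_mul, map_inv, mk_conj_eq]
  · rintro ⟨hu, h2⟩
    refine ⟨H.mul_mem (H.mul_mem (H.inv_mem hh) hu) hh, ?_⟩
    rw [← h2]
    have e : (⟨h⁻¹ * u * h, H.mul_mem (H.mul_mem (H.inv_mem hh) hu) hh⟩ : H) =
        (⟨h, hh⟩ : H)⁻¹ * ⟨u, hu⟩ * ⟨h, hh⟩ := Subtype.ext rfl
    rw [e, map_mul, map_mul, map_inv, mk_conj_eq]

open Classical in
/-- Fixed points of `⟨(u, w)⟩` on `(S × S) ⧸ D`: the centralizer of `w` times the number of cosets of the first projection
fixed by `u` whose label is conjugate to `w`. -/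
theorem fixCard_eq_card_centralizer_mul [Finite S] [Fintype ↥S] {D : Subgroup (↥S × ↥S)} (hD : IsFunctional D)
    (u w : ↥S) :
    fixCard ((↥S × ↥S) ⧸ D) (Subgroup.zpowers ((u, w) : ↥S × ↥S)) =
      Nat.card (Subgroup.centralizer ({w} : Set ↥S)) *
        Nat.card {t : ↥S ⧸ fstG D // QU (fstG D) (sndHom D hD) (ConjClasses.mk w) (t.out⁻¹ * u * t.out)} := by
  have hpos : 0 < Nat.card D := Nat.card_pos
  apply Nat.eq_of_mul_eq_mul_left hpos
  have h1 : Nat.card D * fixCard ((↥S × ↥S) ⧸ D) (Subgroup.zpowers ((u, w) : ↥S × ↥S)) =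
      ∑ x : ↥S, ∑ s : ↥S, if ((x⁻¹ * u * x, s⁻¹ * w * s) : ↥S × ↥S) ∈ D then 1 else 0 := by
    rw [card_mul_fixCard_zpowers, Nat.card_eq_fintype_card, Fintype.card_subtype, Finset.card_filter,
      Fintype.sum_prod_type]
    rfl
  have h2 : ∀ x : ↥S, (∑ s : ↥S, if ((x⁻¹ * u * x, s⁻¹ * w * s) : ↥S × ↥S) ∈ D then 1 else 0) =
      if QU (fstG D) (sndHom D hD) (ConjClasses.mk w) (x⁻¹ * u * x) then
        Nat.card (Subgroup.centralizer ({w} : Set ↥S)) else 0 := by
    intro x
    by_cases hx : x⁻¹ * u * x ∈ fstG D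
    · have hiff : ∀ s : ↥S, ((x⁻¹ * u * x, s⁻¹ * w * s) : ↥S × ↥S) ∈ D ↔
          s⁻¹ * w * s = sndHom D hD ⟨x⁻¹ * u * x, hx⟩ := by
        intro s
        rw [mem_iff_sndHom hD]
        constructor
        · rintro ⟨_, h'⟩; exact h'.symm
        · intro h'; exact ⟨hx, h'.symm⟩
      have h3 : (∑ s : ↥S, if ((x⁻¹ * u * x, s⁻¹ * w * s) : ↥S × ↥S) ∈ D then 1 else 0) =
          Nat.card {s : ↥S // s⁻¹ * w * s = sndHom D hD ⟨x⁻¹ * u * x, hx⟩} := by
        rw [Nat.card_eq_fintype_card, Fintype.card_subtype, Finset.card_filter]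
        apply Finset.sum_congr rfl
        intro s _
        by_cases hs : s⁻¹ * w * s = sndHom D hD ⟨x⁻¹ * u * x, hx⟩
        · rw [if_pos ((hiff s).mpr hs), if_pos hs]
        · rw [if_neg (fun h => hs ((hiff s).mp h)), if_neg hs]
      rw [h3, card_conj_eq]
      by_cases hc : ConjClasses.mk (sndHom D hD ⟨x⁻¹ * u * x, hx⟩) = ConjClasses.mk w
      · rw [if_pos hc, if_pos ⟨hx, hc⟩]
      · rw [if_neg hc, if_neg]
        rintro ⟨_, h'⟩
        exact hc h'
    · rw [if_neg (fun h : QU (fstG D) (sndHom D hD) (ConjClasses.mk w) (x⁻¹ * u * x) => hx h.1)]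
      apply Finset.sum_eq_zero
      intro s _
      rw [if_neg]
      intro hmem
      exact hx ((mem_iff_sndHom hD _ _).mp hmem).1
  have h4 : Nat.card {x : ↥S // QU (fstG D) (sndHom D hD) (ConjClasses.mk w) (x⁻¹ * u * x)} =
      Nat.card (fstG D) *
        Nat.card {t : ↥S ⧸ fstG D // QU (fstG D) (sndHom D hD) (ConjClasses.mk w) (t.out⁻¹ * u * t.out)} := by
    apply card_subtype_eq_card_mul_card_quotient (fstG D)
      (fun x => QU (fstG D) (sndHom D hD) (ConjClasses.mk w) (x⁻¹ * u * x))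
    intro x h hh
    have e : (x * h)⁻¹ * u * (x * h) = h⁻¹ * (x⁻¹ * u * x) * h := by group
    rw [e]
    exact QU_conj (fstG D) (sndHom D hD) _ _ h hh
  rw [h1, Finset.sum_congr rfl (fun x _ => h2 x)]
  rw [← Finset.sum_filter, Finset.sum_const, smul_eq_mul, ← Fintype.card_subtype, ← Nat.card_eq_fintype_card, h4,
    card_fstG hD]
  ring

open Classical in
/-- The second coordinate as a function of the first (trivial if the subgroup is not functional). -/
noncomputable def sndOf (D : Subgroup (↥S × ↥S)) : ↥(fstG D) →* ↥S :=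
  if h : IsFunctional D then sndHom D h else 1

theorem sndOf_eq {D : Subgroup (↥S × ↥S)} (hD : IsFunctional D) : sndOf D = sndHom D hD := by
  unfold sndOf
  rw [dif_pos hD]

theorem homOf_eq_comp_sndOf {A : Type*} [CommGroup A] (lam : ↥S →* A) (D : Subgroup (↥S × ↥S)) :
    homOf lam D = lam.comp (sndOf D) := by
  classical
  unfold homOf sndOf
  by_cases h : IsFunctional D
  · rw [dif_pos h, dif_pos h]
  · rw [dif_neg h, dif_neg h]
    ext x
    simp

/-- The number of cosets (over all orbit types, with multiplicity) fixed by `u` with label in the class `J`. -/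
noncomputable def cCount [Finite S] (m : Subgroup (↥S × ↥S) →₀ ℕ) (u : ↥S) (J : ConjClasses ↥S) : ℕ :=
  ∑ D ∈ m.support, m D * Nat.card {t : ↥S ⧸ fstG D // QU (fstG D) (sndOf D) J (t.out⁻¹ * u * t.out)}

/-- The mark at `⟨(u, w)⟩` is the order of the centralizer of `w` times the number of cosets fixed by `u` with label
conjugate to `w`. -/
theorem mark_eq_card_centralizer_mul [Finite S] (F : FusionSystem S) (m : Subgroup (↥S × ↥S) →₀ ℕ)
    (hsupp : ∀ D ∈ m.support, TD F D) (u w : ↥S) :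
    mark m (Subgroup.zpowers ((u, w) : ↥S × ↥S)) =
      Nat.card (Subgroup.centralizer ({w} : Set ↥S)) * cCount m u (ConjClasses.mk w) := by
  haveI : Fintype ↥S := Fintype.ofFinite _
  unfold cCount
  rw [Finset.mul_sum]
  show ∑ D ∈ m.support, m D * fixCard ((↥S × ↥S) ⧸ D) _ = _
  apply Finset.sum_congr rfl
  intro D hD
  have hfun := (hsupp D hD).isFunctional
  rw [fixCard_eq_card_centralizer_mul hfun u w, sndOf_eq hfun]
  ring

section Involution

variable {Γ : Type*} [Group Γ] [Finite Γ] (H : Subgroup Γ) {A : Type*} [CommGroup A] [Fintype A] (ϕ : H →* A)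
  (ι : Γ)

open MulAction Subgroup in
theorem per_dvd_two (hι : ι ^ 2 = 1) (q : orbitRel.Quotient (zpowers ι) (Γ ⧸ H)) : per H ι q ∣ 2 := by
  apply (out_conj_pow_mem_iff H ι q.out 2).mp
  rw [hι, mul_one, inv_mul_cancel]
  exact H.one_mem

open MulAction Subgroup in
theorem lab_eq_one_of_per_eq_two (hι : ι ^ 2 = 1) (q : orbitRel.Quotient (zpowers ι) (Γ ⧸ H))
    (hq : per H ι q = 2) : lab H ϕ ι q = 1 := by
  unfold lab
  rw [← map_one ϕ]
  congr 1
  apply Subtype.ext
  show q.out.out⁻¹ * ι ^ per H ι q * q.out.out = 1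
  rw [hq, hι, mul_one, inv_mul_cancel]

open MulAction Subgroup Classical in
/-- The number of cosets fixed by `ι` with value `ε` is the number of orbits of period one with label `ε`. -/
theorem card_PrU_one_eq_orbCount (ε : A) :
    Nat.card {t : Γ ⧸ H // PrU H ϕ ε (t.out⁻¹ * ι * t.out)} = orbCount H ϕ ι 1 ε := by
  haveI : Fintype (orbitRel.Quotient (zpowers ι) (Γ ⧸ H)) := Fintype.ofFinite _
  have h1 := card_quotient_PrU H ϕ ι ε 1 Nat.one_pos
  rw [sum_orbits_eq_sum_divisors H ϕ ι ε 1 Nat.one_pos] at h1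
  simp only [pow_one] at h1
  rw [h1]
  simp

open MulAction Subgroup Classical in
/-- The transfer at an involution, into a group with two elements. -/
theorem transfer_involution (hι : ι ^ 2 = 1) (ε : A) (hA : ∀ a : A, a = 1 ∨ a = ε) (hε : ε ≠ 1) :
    MonoidHom.transfer ϕ ι = ε ^ Nat.card {t : Γ ⧸ H // PrU H ϕ ε (t.out⁻¹ * ι * t.out)} := by
  haveI : Fintype (orbitRel.Quotient (zpowers ι) (Γ ⧸ H)) := Fintype.ofFinite _
  rw [card_PrU_one_eq_orbCount, orbCount_eq_card_filter, MonoidHom.transfer_eq_prod_quotient_orbitRel_zpowers_quot]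
  have h0 : ∀ q : orbitRel.Quotient (zpowers ι) (Γ ⧸ H),
      ϕ ⟨q.out.out⁻¹ * ι ^ Function.minimalPeriod (ι • ·) q.out * q.out.out,
        QuotientGroup.out_conj_pow_minimalPeriod_mem H ι q.out⟩ =
      if per H ι q = 1 ∧ lab H ϕ ι q = ε then ε else 1 := by
    intro q
    show lab H ϕ ι q = _
    by_cases hq : per H ι q = 1 ∧ lab H ϕ ι q = ε
    · rw [if_pos hq, hq.2]
    · rw [if_neg hq]
      rcases hA (lab H ϕ ι q) with h1 | h1
      · exact h1
      · exfalso
        have hper : per H ι q = 1 ∨ per H ι q = 2 := (Nat.dvd_prime Nat.prime_two).mp (per_dvd_two H ι hι q)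
        rcases hper with h2 | h2
        · exact hq ⟨h2, h1⟩
        · rw [lab_eq_one_of_per_eq_two H ϕ ι hι q h2] at h1
          exact hε h1.symm
  rw [Finset.prod_congr rfl (fun q _ => h0 q), Finset.prod_ite, Finset.prod_const_one, mul_one, Finset.prod_const]

open MulAction Subgroup Classical in
/-- The cosets fixed by an involution, counted by value, against the index modulo two. -/
theorem card_PrU_add_modEq (hι : ι ^ 2 = 1) (ε : A) (hA : ∀ a : A, a = 1 ∨ a = ε) (hε : ε ≠ 1) :
    Nat.card {t : Γ ⧸ H // PrU H ϕ 1 (t.out⁻¹ * ι * t.out)} +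
      Nat.card {t : Γ ⧸ H // PrU H ϕ ε (t.out⁻¹ * ι * t.out)} ≡ Nat.card (Γ ⧸ H) [MOD 2] := by
  haveI : Fintype (Γ ⧸ H) := Fintype.ofFinite _
  haveI : Fact (Nat.Prime 2) := ⟨Nat.prime_two⟩
  have hP : IsPGroup 2 (zpowers ι) := by
    intro z
    refine ⟨1, ?_⟩
    obtain ⟨z, hz⟩ := z
    obtain ⟨n, rfl⟩ := mem_zpowers_iff.mp hz
    apply Subtype.ext
    show (ι ^ n) ^ 2 ^ 1 = 1
    rw [pow_one, ← zpow_natCast, ← zpow_mul, mul_comm, zpow_mul, zpow_natCast, hι, one_zpow]
  have h1 := hP.card_modEq_card_fixedPoints (Γ ⧸ H)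
  have h2 : Nat.card (fixedPoints (zpowers ι) (Γ ⧸ H)) =
      Nat.card {t : Γ ⧸ H // PrU H ϕ 1 (t.out⁻¹ * ι * t.out)} +
        Nat.card {t : Γ ⧸ H // PrU H ϕ ε (t.out⁻¹ * ι * t.out)} := by
    have e1 : Nat.card (fixedPoints (zpowers ι) (Γ ⧸ H)) = Nat.card {t : Γ ⧸ H // t.out⁻¹ * ι * t.out ∈ H} := by
      apply Nat.card_congr
      apply Equiv.subtypeEquivRight
      intro t
      have h3 := out_conj_pow_mem_iff H ι t 1
      rw [pow_one] at h3
      rw [h3, ← pow_smul_eq_iff_minimalPeriod_dvd, pow_one]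
      constructor
      · intro h; exact h ⟨ι, mem_zpowers ι⟩
      · intro h z
        obtain ⟨z, hz⟩ := z
        obtain ⟨n, rfl⟩ := mem_zpowers_iff.mp hz
        show ι ^ n • t = t
        exact zpow_smul_eq_iff_minimalPeriod_dvd.mpr (by
          have : Function.minimalPeriod (ι • ·) t ∣ 1 := pow_smul_eq_iff_minimalPeriod_dvd.mp (by rw [pow_one]; exact h)
          exact Dvd.dvd.mul_right (Int.natCast_dvd_natCast.mpr this) n |>.trans (by simp))
    rw [e1, Nat.card_eq_fintype_card, Nat.card_eq_fintype_card, Nat.card_eq_fintype_card,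
      Fintype.card_subtype, Fintype.card_subtype, Fintype.card_subtype, Finset.card_filter, Finset.card_filter,
      Finset.card_filter, ← Finset.sum_add_distrib]
    apply Finset.sum_congr rfl
    intro t _
    by_cases hmem : t.out⁻¹ * ι * t.out ∈ H
    · rw [if_pos hmem]
      rcases hA (ϕ ⟨_, hmem⟩) with h3 | h3
      · rw [if_pos ⟨hmem, h3⟩, if_neg]
        rintro ⟨_, h4⟩
        rw [h3] at h4
        exact hε h4.symm
      · rw [if_neg, if_pos ⟨hmem, h3⟩]
        rintro ⟨_, h4⟩
        rw [h3] at h4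
        exact hε h4
    · rw [if_neg hmem, if_neg (fun h : PrU H ϕ 1 _ => hmem h.1), if_neg (fun h : PrU H ϕ ε _ => hmem h.1)]
  rw [← h2]
  exact h1.symm

end Involution

theorem map_eq_of_mk_eq {A : Type*} [CommGroup A] (lam : ↥S →* A) {v w : ↥S}
    (h : ConjClasses.mk v = ConjClasses.mk w) : lam v = lam w := by
  obtain ⟨c, hc⟩ := _root_.isConj_iff.mp (ConjClasses.mk_eq_mk_iff_isConj.mp h)
  rw [← hc, map_conj_eq]

open Classical in
/-- **Thompson transfer, abstract form.** For a multiset of twisted diagonals of odd index, a homomorphism `lam` onto a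
group with two elements and an involution `ι` such that the number of cosets fixed by `ι` with label in any class inside the
kernel of `lam` is even, the transfer of `lam` does not vanish at `ι`. -/
theorem bisetTransfer_involution [Finite S] (F : FusionSystem S) (m : Subgroup (↥S × ↥S) →₀ ℕ)
    (hsupp : ∀ D ∈ m.support, TD F D) (hidx : ¬ 2 ∣ idx m)
    {A : Type*} [CommGroup A] [Fintype A] (lam : ↥S →* A) (ε : A) (hA : ∀ a : A, a = 1 ∨ a = ε) (hε : ε ≠ 1)
    (ι : ↥S) (hι : ι ^ 2 = 1)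
    (heven : ∀ w : ↥S, lam w = 1 → Even (cCount m ι (ConjClasses.mk w))) :
    bisetTransfer m lam ι = ε := by
  haveI : Fintype ↥S := Fintype.ofFinite _
  haveI : Fintype (ConjClasses ↥S) := Fintype.ofFinite _
  have hε2 : ε ^ 2 = 1 := by
    rcases hA (ε ^ 2) with h | h
    · exact h
    · exfalso
      apply hε
      have : ε * ε = ε * 1 := by rw [← pow_two, h, mul_one]
      exact mul_left_cancel this
  -- the transfer as a power of `ε`
  have h1 : bisetTransfer m lam ι = ε ^ (∑ D ∈ m.support, m D *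
      Nat.card {t : ↥S ⧸ fstG D // PrU (fstG D) (homOf lam D) ε (t.out⁻¹ * ι * t.out)}) := by
    rw [bisetTransfer_apply, ← Finset.prod_pow_eq_pow_sum]
    apply Finset.prod_congr rfl
    intro D _
    rw [transfer_involution (fstG D) (homOf lam D) ι hι ε hA hε, ← pow_mul, mul_comm]
  -- parity of the total number of fixed cosets
  have h2 : (∑ D ∈ m.support, m D *
        Nat.card {t : ↥S ⧸ fstG D // PrU (fstG D) (homOf lam D) 1 (t.out⁻¹ * ι * t.out)}) +
      (∑ D ∈ m.support, m D *
        Nat.card {t : ↥S ⧸ fstG D // PrU (fstG D) (homOf lam D) ε (t.out⁻¹ * ι * t.out)}) ≡ idx m [MOD 2] := by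
    rw [← Finset.sum_add_distrib]
    unfold idx Finsupp.sum
    have hcong : ∀ D ∈ m.support, m D *
        Nat.card {t : ↥S ⧸ fstG D // PrU (fstG D) (homOf lam D) 1 (t.out⁻¹ * ι * t.out)} + m D *
        Nat.card {t : ↥S ⧸ fstG D // PrU (fstG D) (homOf lam D) ε (t.out⁻¹ * ι * t.out)} ≡
        m D * (Nat.card S / Nat.card D) [MOD 2] := by
      intro D hD
      have hfun := (hsupp D hD).isFunctional
      have hidx' : Nat.card (↥S ⧸ fstG D) = Nat.card S / Nat.card D := by
        rw [← Subgroup.index_eq_card]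
        have h1 := Subgroup.card_mul_index (fstG D)
        rw [card_fstG hfun] at h1
        rw [← h1, Nat.mul_div_cancel_left _ Nat.card_pos]
      rw [← mul_add, ← hidx']
      exact Nat.ModEq.mul_left _ (card_PrU_add_modEq (fstG D) (homOf lam D) ι hι ε hA hε)
    exact Nat.ModEq.sum hcong
  -- the cosets with label in the kernel
  have h3 : Even (∑ D ∈ m.support, m D *
      Nat.card {t : ↥S ⧸ fstG D // PrU (fstG D) (homOf lam D) 1 (t.out⁻¹ * ι * t.out)}) := by
    have hD : ∀ D ∈ m.support,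
        Nat.card {t : ↥S ⧸ fstG D // PrU (fstG D) (homOf lam D) 1 (t.out⁻¹ * ι * t.out)} =
        ∑ J : ConjClasses ↥S, if (∃ w : ↥S, ConjClasses.mk w = J ∧ lam w = 1) then
          Nat.card {t : ↥S ⧸ fstG D // QU (fstG D) (sndOf D) J (t.out⁻¹ * ι * t.out)} else 0 := by
      intro D _
      haveI : Fintype (↥S ⧸ fstG D) := Fintype.ofFinite _
      have hterm : ∀ J : ConjClasses ↥S, (if (∃ w : ↥S, ConjClasses.mk w = J ∧ lam w = 1) then
          Nat.card {t : ↥S ⧸ fstG D // QU (fstG D) (sndOf D) J (t.out⁻¹ * ι * t.out)} else 0) =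
          ∑ t : ↥S ⧸ fstG D, if (∃ w : ↥S, ConjClasses.mk w = J ∧ lam w = 1) ∧
            QU (fstG D) (sndOf D) J (t.out⁻¹ * ι * t.out) then 1 else 0 := by
        intro J
        by_cases hJ : ∃ w : ↥S, ConjClasses.mk w = J ∧ lam w = 1
        · rw [if_pos hJ, Nat.card_eq_fintype_card, Fintype.card_subtype, Finset.card_filter]
          apply Finset.sum_congr rfl
          intro t _
          simp [hJ]
        · rw [if_neg hJ]
          symm
          apply Finset.sum_eq_zero
          intro t _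
          rw [if_neg (fun h => hJ h.1)]
      rw [Finset.sum_congr rfl (fun J _ => hterm J), Finset.sum_comm, Nat.card_eq_fintype_card, Fintype.card_subtype,
        Finset.card_filter]
      apply Finset.sum_congr rfl
      intro t _
      rw [homOf_eq_comp_sndOf]
      by_cases hmem : t.out⁻¹ * ι * t.out ∈ fstG D
      · rw [Finset.sum_eq_single (ConjClasses.mk (sndOf D ⟨_, hmem⟩))]
        · by_cases hl : lam (sndOf D ⟨_, hmem⟩) = 1
          · rw [if_pos ⟨hmem, hl⟩, if_pos ⟨⟨_, rfl, hl⟩, hmem, rfl⟩]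
          · rw [if_neg, if_neg]
            · rintro ⟨⟨w, hw1, hw2⟩, _⟩
              apply hl
              rw [← hw2]
              exact (map_eq_of_mk_eq lam hw1).symm
            · rintro ⟨_, h'⟩
              exact hl h'
        · intro J _ hJ
          rw [if_neg]
          rintro ⟨_, _, h'⟩
          exact hJ h'.symm
        · intro h; exact absurd (Finset.mem_univ _) h
      · rw [if_neg (fun h : PrU (fstG D) (lam.comp (sndOf D)) 1 _ => hmem h.1)]
        symm
        apply Finset.sum_eq_zero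
        intro J _
        rw [if_neg]
        rintro ⟨_, h', _⟩
        exact hmem h'
    rw [Finset.sum_congr rfl (fun D hD' => by rw [hD D hD'])]
    simp_rw [Finset.mul_sum]
    rw [Finset.sum_comm]
    apply Finset.even_sum
    intro J _
    by_cases hJ : ∃ w : ↥S, ConjClasses.mk w = J ∧ lam w = 1
    · simp only [if_pos hJ]
      obtain ⟨w, rfl, hw⟩ := hJ
      exact heven w hw
    · simp only [if_neg hJ, mul_zero, Finset.sum_const_zero]
      exact Even.zero
  -- conclusion
  have h4 : ¬ Even (∑ D ∈ m.support, m D *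
      Nat.card {t : ↥S ⧸ fstG D // PrU (fstG D) (homOf lam D) ε (t.out⁻¹ * ι * t.out)}) := by
    intro h5
    apply hidx
    have h6 := (h3.add h5)
    rw [Nat.even_iff] at h6
    have h7 : idx m % 2 = 0 := by rw [← h2]; exact h6
    exact Nat.dvd_of_mod_eq_zero h7
  rw [h1]
  obtain ⟨k, hk⟩ := Nat.not_even_iff_odd.mp h4
  rw [hk, pow_add, pow_mul, hε2, one_pow, one_mul, pow_one]

end Cfsg.Agent.Helper88.Biset
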