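import Mathlib.GroupTheory.PGroup
import Mathlib.GroupTheory.Index
import Mathlib.GroupTheory.Coset.Basic
import Mathlib.GroupTheory.GroupAction.Quotient
import Mathlib.Algebra.Group.End
set_option autoImplicit false

/-!
Relative trace on an abelian group with an action: the fixed points of the whole group are a direct factor of the fixed
points of a subgroup of index prime to the order of the module.
-/

namespace Cfsg.Agent.Helper88

variable {V : Type*} [CommGroup V] {G : Type*} [Group G]

/-- Fixed points of the subgroup `H` of `G` acting on `V` through `f`. -/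
def fixedSub (f : G →* MulAut V) (H : Subgroup G) : Subgroup V where
  carrier := {v | ∀ h ∈ H, f h v = v}
  one_mem' := fun h _ => map_one _
  mul_mem' := by
    intro a b ha hb h hh
    rw [map_mul, ha h hh, hb h hh]
  inv_mem' := by
    intro a ha h hh
    rw [map_inv, ha h hh]

theorem mem_fixedSub (f : G →* MulAut V) (H : Subgroup G) (v : V) : v ∈ fixedSub f H ↔ ∀ h ∈ H, f h v = v := Iff.rfl

theorem fixedSub_anti (f : G →* MulAut V) {H K : Subgroup G} (h : H ≤ K) : fixedSub f K ≤ fixedSub f H :=
  fun _ hv g hg => hv g (h hg)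

/-- The relative trace (norm) map of `V` with respect to coset representatives of `R` in `G`. -/
noncomputable def traceHom (f : G →* MulAut V) (R : Subgroup G) [Fintype (G ⧸ R)] : V →* V :=
  ∏ q : G ⧸ R, ((f q.out : MulAut V) : V ≃* V).toMonoidHom

theorem traceHom_apply (f : G →* MulAut V) (R : Subgroup G) [Fintype (G ⧸ R)] (v : V) :
    traceHom f R v = ∏ q : G ⧸ R, f q.out v := by
  unfold traceHom
  rw [MonoidHom.finsetProd_apply]
  rfl

theorem traceHom_mem_fixedSub (f : G →* MulAut V) (R : Subgroup G) [Fintype (G ⧸ R)] {v : V}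
    (hv : v ∈ fixedSub f R) : traceHom f R v ∈ fixedSub f ⊤ := by
  intro b _
  rw [traceHom_apply, map_prod]
  have key : ∀ q : G ⧸ R, f b (f q.out v) = f ((b • q).out) v := by
    intro q
    have hmem : ((b • q).out)⁻¹ * (b * q.out) ∈ R := by
      rw [← QuotientGroup.eq]
      rw [QuotientGroup.out_eq']
      conv_lhs => rw [← QuotientGroup.out_eq' q]
      rfl
    have h1 := hv _ hmem
    rw [map_mul, map_mul, MulAut.mul_apply, MulAut.mul_apply] at h1
    have h2 := congrArg (f ((b • q).out)) h1
    rw [map_inv, MulAut.apply_inv_self] at h2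
    exact h2
  simp_rw [key]
  exact Fintype.prod_equiv (MulAction.toPerm b) _ _ (fun q => rfl)

theorem traceHom_of_mem_fixedSub_top (f : G →* MulAut V) (R : Subgroup G) [Fintype (G ⧸ R)] {v : V}
    (hv : v ∈ fixedSub f ⊤) : traceHom f R v = v ^ R.index := by
  rw [traceHom_apply]
  have : ∀ q : G ⧸ R, f q.out v = v := fun q => hv _ (Subgroup.mem_top _)
  simp_rw [this]
  rw [Finset.prod_const, Finset.card_univ, Subgroup.index_eq_card, Nat.card_eq_fintype_card]

/-- The fixed points of `G` are a direct factor of the fixed points of a subgroup `R` of index prime to `p`, on a finite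
abelian `p`-group. -/
theorem exists_complement_fixedSub [Finite V] {p : ℕ} [Fact p.Prime] (hV : IsPGroup p V) (f : G →* MulAut V)
    (R : Subgroup G) [R.FiniteIndex] (hR : R.index.Coprime p) :
    ∃ K : Subgroup V, K ≤ fixedSub f R ∧ fixedSub f ⊤ ⊓ K = ⊥ ∧ fixedSub f ⊤ ⊔ K = fixedSub f R := by
  classical
  have : Finite (G ⧸ R) := Subgroup.finite_quotient_of_finiteIndex
  have : Fintype (G ⧸ R) := Fintype.ofFinite _
  set C := fixedSub f ⊤ with hC
  have hCR : C ≤ fixedSub f R := fixedSub_anti f le_top
  -- `n`-th power is a bijection of `C`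
  have hcop : (Nat.card C).Coprime R.index := by
    obtain ⟨k, hk⟩ := IsPGroup.iff_card.mp (hV.to_subgroup C)
    rw [hk]
    exact Nat.Coprime.pow_left k hR.symm
  refine ⟨(traceHom f R).ker ⊓ fixedSub f R, inf_le_right, ?_, ?_⟩
  · rw [eq_bot_iff]
    rintro v ⟨hvC, hvK, -⟩
    rw [Subgroup.mem_bot]
    have h1 : traceHom f R v = 1 := hvK
    rw [traceHom_of_mem_fixedSub_top f R hvC] at h1
    have h2 : (powCoprime hcop) ⟨v, hvC⟩ = (powCoprime hcop) 1 := by
      apply Subtype.ext
      simp [powCoprime, h1]
    have h3 := (powCoprime hcop).injective h2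
    exact congrArg Subtype.val h3
  · apply le_antisymm
    · exact sup_le hCR inf_le_right
    · intro v hv
      have hτ : traceHom f R v ∈ C := traceHom_mem_fixedSub f R hv
      obtain ⟨w, hw⟩ := (powCoprime hcop).surjective ⟨traceHom f R v, hτ⟩
      have hw' : (w : V) ^ R.index = traceHom f R v := by
        have := congrArg Subtype.val hw
        simpa [powCoprime] using this
      have hτw : traceHom f R (w : V) = traceHom f R v := by
        rw [traceHom_of_mem_fixedSub_top f R w.2, hw']
      have hmem : v * (w : V)⁻¹ ∈ (traceHom f R).ker ⊓ fixedSub f R := by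
        refine ⟨?_, (fixedSub f R).mul_mem hv ((fixedSub f R).inv_mem (hCR w.2))⟩
        show v * (w : V)⁻¹ ∈ (traceHom f R).ker
        rw [MonoidHom.mem_ker, map_mul, map_inv, hτw, mul_inv_cancel]
      have : v = (w : V) * (v * (w : V)⁻¹) := by
        rw [mul_comm v, mul_inv_cancel_left]
      rw [this]
      exact Subgroup.mul_mem_sup w.2 hmem

end Cfsg.Agent.Helper88
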