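import Cfsg.Agent.Helper88.MarksStep
import Cfsg.Agent.Helper87.FusionRS
set_option autoImplicit false
set_option linter.style.haveILetI false

/-! # Twisted diagonal subgroups of `S × S` attached to the isomorphisms of a fusion system -/

namespace Cfsg.Agent.Helper88.Biset

open Cfsg Cfsg.FusionSystem Cfsg.Agent.Helper87 Cfsg.Agent.Helper88.Marks

variable {Ω : Type*} [Group Ω] {S : Subgroup Ω}

/-- The graph of an isomorphism between two subgroups of `Ω`, cut down to `S × S`. -/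
def graph {P Q : Subgroup Ω} (e : P ≃* Q) : Subgroup (↥S × ↥S) where
  carrier := {z | ∃ a : P, ((z.1 : ↥S) : Ω) = a ∧ ((z.2 : ↥S) : Ω) = e a}
  one_mem' := ⟨1, by simp, by simp⟩
  mul_mem' := by
    rintro z w ⟨a, ha1, ha2⟩ ⟨b, hb1, hb2⟩
    refine ⟨a * b, ?_, ?_⟩
    · show ((z.1 * w.1 : ↥S) : Ω) = ((a * b : P) : Ω)
      rw [Subgroup.coe_mul, Subgroup.coe_mul, ha1, hb1]
    · show ((z.2 * w.2 : ↥S) : Ω) = ((e (a * b) : Q) : Ω)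
      rw [map_mul, Subgroup.coe_mul, Subgroup.coe_mul, ha2, hb2]
  inv_mem' := by
    rintro z ⟨a, ha1, ha2⟩
    refine ⟨a⁻¹, ?_, ?_⟩
    · show ((z.1⁻¹ : ↥S) : Ω) = ((a⁻¹ : P) : Ω)
      rw [Subgroup.coe_inv, Subgroup.coe_inv, ha1]
    · show ((z.2⁻¹ : ↥S) : Ω) = ((e a⁻¹ : Q) : Ω)
      rw [map_inv, Subgroup.coe_inv, Subgroup.coe_inv, ha2]

theorem mem_graph {P Q : Subgroup Ω} (e : P ≃* Q) (z : ↥S × ↥S) :
    z ∈ (graph e : Subgroup (↥S × ↥S)) ↔ ∃ a : P, ((z.1 : ↥S) : Ω) = a ∧ ((z.2 : ↥S) : Ω) = e a := Iff.rfl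

/-- The source (first projection) of a subgroup of `S × S`, as a subgroup of `Ω`. -/
def src (D : Subgroup (↥S × ↥S)) : Subgroup Ω := (D.map (MonoidHom.fst ↥S ↥S)).map S.subtype

theorem mem_src (D : Subgroup (↥S × ↥S)) (x : Ω) : x ∈ src D ↔ ∃ z ∈ D, ((z.1 : ↥S) : Ω) = x := by
  unfold src
  constructor
  · rintro ⟨s, ⟨z, hz, rfl⟩, rfl⟩
    exact ⟨z, hz, rfl⟩
  · rintro ⟨z, hz, rfl⟩
    exact ⟨z.1, ⟨z, hz, rfl⟩, rfl⟩

theorem src_le (D : Subgroup (↥S × ↥S)) : src D ≤ S := by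
  intro x hx
  obtain ⟨z, -, rfl⟩ := (mem_src D x).mp hx
  exact z.1.2

theorem src_graph {P Q : Subgroup Ω} (e : P ≃* Q) (hP : P ≤ S) (hQ : Q ≤ S) :
    src (graph e : Subgroup (↥S × ↥S)) = P := by
  ext x
  rw [mem_src]
  constructor
  · rintro ⟨z, ⟨a, ha1, -⟩, rfl⟩
    rw [ha1]; exact a.2
  · intro hx
    refine ⟨(⟨x, hP hx⟩, ⟨e ⟨x, hx⟩, hQ (e ⟨x, hx⟩).2⟩), ⟨⟨x, hx⟩, rfl, rfl⟩, rfl⟩

/-- `D` is a twisted diagonal of the fusion system: the graph of an isomorphism of the system. -/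
def TD (F : FusionSystem S) (D : Subgroup (↥S × ↥S)) : Prop :=
  ∃ (P Q : Subgroup Ω) (e : P ≃* Q), IsIso F e ∧ D = graph e

theorem card_graph [Finite S] {P Q : Subgroup Ω} (e : P ≃* Q) (hP : P ≤ S) (hQ : Q ≤ S) :
    Nat.card (graph e : Subgroup (↥S × ↥S)) = Nat.card P := by
  symm
  refine Nat.card_congr (Equiv.ofBijective
    (fun a : P => (⟨(⟨a, hP a.2⟩, ⟨e a, hQ (e a).2⟩), ⟨a, rfl, rfl⟩⟩ : (graph e : Subgroup (↥S × ↥S)))) ⟨?_, ?_⟩)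
  · intro a b hab
    have := congrArg (fun z : (graph e : Subgroup (↥S × ↥S)) => ((z.1.1 : ↥S) : Ω)) hab
    exact Subtype.ext this
  · rintro ⟨z, a, ha1, ha2⟩
    refine ⟨a, ?_⟩
    apply Subtype.ext
    apply Prod.ext
    · exact Subtype.ext ha1.symm
    · exact Subtype.ext ha2.symm

/-- Restriction of an isomorphism of the system to a subgroup of its source. -/
theorem exists_restrict_iso (F : FusionSystem S) {P Q : Subgroup Ω} {e : P ≃* Q} (he : IsIso F e)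
    {P₀ : Subgroup Ω} (h₀ : P₀ ≤ P) :
    ∃ (Q₀ : Subgroup Ω) (e₀ : P₀ ≃* Q₀), IsIso F e₀ ∧ Q₀ ≤ Q ∧
      ∀ (x : P₀), ((e₀ x : Q₀) : Ω) = e ⟨x, h₀ x.2⟩ := by
  have h1 := restrict_mem F he h₀
  refine ⟨_, isoOfRange F h1 rfl, isIso_isoOfRange F h1 rfl, ?_, fun x => rfl⟩
  rintro _ ⟨x, rfl⟩
  exact (e _).2

/-- A subgroup of a twisted diagonal is a twisted diagonal. -/
theorem TD.of_le {F : FusionSystem S} {D K : Subgroup (↥S × ↥S)} (hD : TD F D) (hK : K ≤ D) : TD F K := by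
  obtain ⟨P, Q, e, he, rfl⟩ := hD
  have hP : P ≤ S := he.le_left
  have hQ : Q ≤ S := he.le_right
  have h₀ : src K ≤ P := by
    intro x hx
    obtain ⟨z, hz, rfl⟩ := (mem_src K x).mp hx
    obtain ⟨a, ha1, -⟩ := hK hz
    rw [ha1]; exact a.2
  obtain ⟨Q₀, e₀, he₀, -, hx₀⟩ := exists_restrict_iso F he h₀
  refine ⟨src K, Q₀, e₀, he₀, ?_⟩
  ext z
  rw [mem_graph]
  constructor
  · intro hz
    have hz1 : ((z.1 : ↥S) : Ω) ∈ src K := (mem_src K _).mpr ⟨z, hz, rfl⟩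
    refine ⟨⟨_, hz1⟩, rfl, ?_⟩
    obtain ⟨a, ha1, ha2⟩ := hK hz
    rw [hx₀, ha2]
    congr 2
    exact Subtype.ext ha1.symm
  · rintro ⟨a, ha1, ha2⟩
    obtain ⟨w, hw, hwa⟩ := (mem_src K _).mp a.2
    obtain ⟨b, hb1, hb2⟩ := hK hw
    have hzw : z = w := by
      apply Prod.ext
      · apply Subtype.ext; rw [ha1, hwa]
      · apply Subtype.ext
        rw [ha2, hx₀, hb2]
        congr 2
        apply Subtype.ext
        show (a : Ω) = b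
        rw [← hb1, hwa]
    rw [hzw]; exact hw

/-- **Transport.** The image of a twisted diagonal under a pair of maps of the system is a twisted diagonal, with conjugate
source. -/
theorem TD.transport {F : FusionSystem S} {A B : Subgroup Ω} {f₁ : A →* Ω} {f₂ : B →* Ω}
    (h₁ : f₁ ∈ F.Hom A) (h₂ : f₂ ∈ F.Hom B) {K K' : Subgroup (↥S × ↥S)}
    (hKA : ∀ z ∈ K, ((z.1 : ↥S) : Ω) ∈ A) (hKB : ∀ z ∈ K, ((z.2 : ↥S) : Ω) ∈ B)
    (hK' : ∀ z' : ↥S × ↥S, z' ∈ K' ↔ ∃ z, ∃ hz : z ∈ K,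
        ((z'.1 : ↥S) : Ω) = f₁ ⟨z.1, hKA z hz⟩ ∧ ((z'.2 : ↥S) : Ω) = f₂ ⟨z.2, hKB z hz⟩)
    (hK : TD F K) : TD F K' ∧ F.IsConj (src K) (src K') := by
  obtain ⟨P, Q, e, he, rfl⟩ := hK
  have hP : P ≤ S := he.le_left
  have hQ : Q ≤ S := he.le_right
  have hmemK : ∀ a : P, ((⟨a, hP a.2⟩, ⟨e a, hQ (e a).2⟩) : ↥S × ↥S) ∈ (graph e : Subgroup (↥S × ↥S)) :=
    fun a => ⟨a, rfl, rfl⟩
  have hPA : P ≤ A := fun a ha => hKA _ (hmemK ⟨a, ha⟩)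
  have hQB : Q ≤ B := by
    intro b hb
    have := hKB _ (hmemK (e.symm ⟨b, hb⟩))
    simpa using this
  have g₁ := restrict_mem F h₁ hPA
  have g₂ := restrict_mem F h₂ hQB
  set e₁ := isoOfRange F g₁ rfl with he₁
  set e₂ := isoOfRange F g₂ rfl with he₂
  have hi₁ : IsIso F e₁ := isIso_isoOfRange F g₁ rfl
  have hi₂ : IsIso F e₂ := isIso_isoOfRange F g₂ rfl
  have hi' : IsIso F (e₁.symm.trans (e.trans e₂)) := hi₁.symm.trans (he.trans hi₂)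
  have hK'eq : K' = graph (e₁.symm.trans (e.trans e₂)) := by
    ext z'
    rw [hK', mem_graph]
    constructor
    · rintro ⟨z, hz, hz1, hz2⟩
      obtain ⟨a, ha1, ha2⟩ := hz
      refine ⟨e₁ a, ?_, ?_⟩
      · rw [hz1]
        show f₁ _ = f₁ (Subgroup.inclusion hPA a)
        congr 1
        exact Subtype.ext ha1
      · rw [hz2]
        show f₂ _ = ((e₂ (e (e₁.symm (e₁ a))) : _) : Ω)
        rw [MulEquiv.symm_apply_apply]
        show f₂ _ = f₂ (Subgroup.inclusion hQB (e a))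
        congr 1
        exact Subtype.ext ha2
    · rintro ⟨b, hb1, hb2⟩
      refine ⟨(⟨e₁.symm b, hP (e₁.symm b).2⟩, ⟨e (e₁.symm b), hQ (e (e₁.symm b)).2⟩), hmemK _, ?_, ?_⟩
      · rw [hb1]
        have : ((e₁ (e₁.symm b) : _) : Ω) = f₁ (Subgroup.inclusion hPA (e₁.symm b)) := rfl
        rw [MulEquiv.apply_symm_apply] at this
        rw [this]
        rfl
      · rw [hb2]
        rfl
  refine ⟨⟨_, _, _, hi', hK'eq⟩, ?_⟩
  rw [hK'eq, src_graph e hP hQ, src_graph _ hi'.le_left hi'.le_right]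
  exact (isConj_iff F _ _).mpr ⟨e₁, hi₁⟩

/-- Transport in the other direction: a subgroup whose image under a pair of maps of the system is a twisted diagonal is
itself a twisted diagonal. -/
theorem TD.transport_symm {F : FusionSystem S} {A B : Subgroup Ω} {f₁ : A →* Ω} {f₂ : B →* Ω}
    (h₁ : f₁ ∈ F.Hom A) (h₂ : f₂ ∈ F.Hom B) {K K' : Subgroup (↥S × ↥S)}
    (hKA : ∀ z ∈ K, ((z.1 : ↥S) : Ω) ∈ A) (hKB : ∀ z ∈ K, ((z.2 : ↥S) : Ω) ∈ B)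
    (hK' : ∀ z' : ↥S × ↥S, z' ∈ K' ↔ ∃ z, ∃ hz : z ∈ K,
        ((z'.1 : ↥S) : Ω) = f₁ ⟨z.1, hKA z hz⟩ ∧ ((z'.2 : ↥S) : Ω) = f₂ ⟨z.2, hKB z hz⟩)
    (hK : TD F K') : TD F K := by
  obtain ⟨ψ₁, hψ₁, hψ₁x⟩ := F.inv_mem h₁
  obtain ⟨ψ₂, hψ₂, hψ₂x⟩ := F.inv_mem h₂
  have hA' : ∀ z' ∈ K', ((z'.1 : ↥S) : Ω) ∈ f₁.range := by
    intro z' hz'
    obtain ⟨z, hz, hz1, -⟩ := (hK' z').mp hz'
    exact ⟨_, hz1.symm⟩
  have hB' : ∀ z' ∈ K', ((z'.2 : ↥S) : Ω) ∈ f₂.range := by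
    intro z' hz'
    obtain ⟨z, hz, -, hz2⟩ := (hK' z').mp hz'
    exact ⟨_, hz2.symm⟩
  refine (TD.transport hψ₁ hψ₂ hA' hB' (K' := K) ?_ hK).1
  intro z
  constructor
  · intro hz
    refine ⟨(⟨f₁ ⟨z.1, hKA z hz⟩, (F.le_of_mem h₁).2 _⟩, ⟨f₂ ⟨z.2, hKB z hz⟩, (F.le_of_mem h₂).2 _⟩),
      (hK' _).mpr ⟨z, hz, rfl, rfl⟩, ?_, ?_⟩
    · exact (hψ₁x ⟨z.1, hKA z hz⟩).symm
    · exact (hψ₂x ⟨z.2, hKB z hz⟩).symm
  · rintro ⟨z', hz', hz1, hz2⟩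
    obtain ⟨z₀, hz₀, hz₀1, hz₀2⟩ := (hK' z').mp hz'
    have e1 : ((z.1 : ↥S) : Ω) = z₀.1 := by
      rw [hz1]
      have := hψ₁x ⟨z₀.1, hKA z₀ hz₀⟩
      rw [← this]
      congr 1
      exact Subtype.ext hz₀1
    have e2 : ((z.2 : ↥S) : Ω) = z₀.2 := by
      rw [hz2]
      have := hψ₂x ⟨z₀.2, hKB z₀ hz₀⟩
      rw [← this]
      congr 1
      exact Subtype.ext hz₀2
    have : z = z₀ := Prod.ext (Subtype.ext e1) (Subtype.ext e2)
    rw [this]; exact hz₀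

/-- Conjugates of twisted diagonals are twisted diagonals, with conjugate source. -/
theorem TD.cj {F : FusionSystem S} {D : Subgroup (↥S × ↥S)} (hD : TD F D) (g : ↥S × ↥S) :
    TD F (cj g D) ∧ F.IsConj (src D) (src (cj g D)) := by
  refine TD.transport (A := S) (B := S) (F.conj_mem le_rfl g.1.2) (F.conj_mem le_rfl g.2.2)
    (fun z _ => z.1.2) (fun z _ => z.2.2) ?_ hD
  intro z'
  rw [mem_cj]
  constructor
  · intro hz'
    refine ⟨_, hz', ?_, ?_⟩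
    · show ((z'.1 : ↥S) : Ω) = (g.1 : Ω) * ((g⁻¹ * z' * g).1 : ↥S) * (g.1 : Ω)⁻¹
      simp [mul_assoc]
    · show ((z'.2 : ↥S) : Ω) = (g.2 : Ω) * ((g⁻¹ * z' * g).2 : ↥S) * (g.2 : Ω)⁻¹
      simp [mul_assoc]
  · rintro ⟨z, hz, hz1, hz2⟩
    have : g⁻¹ * z' * g = z := by
      apply Prod.ext
      · apply Subtype.ext
        show ((g.1 : ↥S) : Ω)⁻¹ * ((z'.1 : ↥S) : Ω) * (g.1 : Ω) = z.1
        rw [hz1]
        show (g.1 : Ω)⁻¹ * ((g.1 : Ω) * (z.1 : Ω) * (g.1 : Ω)⁻¹) * (g.1 : Ω) = z.1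
        group
      · apply Subtype.ext
        show ((g.2 : ↥S) : Ω)⁻¹ * ((z'.2 : ↥S) : Ω) * (g.2 : Ω) = z.2
        rw [hz2]
        show (g.2 : Ω)⁻¹ * ((g.2 : Ω) * (z.2 : Ω) * (g.2 : Ω)⁻¹) * (g.2 : Ω) = z.2
        group
    rw [this]; exact hz

/-- A nonzero mark forces a twisted diagonal, when all orbit types are twisted diagonals. -/
theorem TD.of_mark_ne_zero {F : FusionSystem S} (m : Subgroup (↥S × ↥S) →₀ ℕ) (hm : ∀ D ∈ m.support, TD F D)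
    (K : Subgroup (↥S × ↥S)) (h : mark m K ≠ 0) : TD F K := by
  obtain ⟨D, hD, g, hle⟩ := exists_le_cj_of_mark_ne_zero m K h
  exact ((hm D hD).cj g).1.of_le hle

end Cfsg.Agent.Helper88.Biset
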